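import Cfsg.Agent.Lib.Dih8.G.TIIC0
import Cfsg.Agent.Lib.Dih8.Rules

/-! Generated certificates (plans/DIH8.md). -/

set_option autoImplicit false
set_option maxRecDepth 100000
set_option Elab.async false
set_option maxHeartbeats 0
set_option linter.all false

namespace CfsgLib.Dih8.TII

noncomputable section

universe u

theorem tw17 : Tow.{u} l17 t17 := tow_of tc17_0 (Rng.zero.step tc17_1) (Rng.zero.step tc17_2)
theorem tw18 : Tow.{u} l18 t18 := tow_of tc18_0 (Rng.zero.step tc18_1) (Rng.zero.step tc18_2)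
theorem tw19 : Tow.{u} l19 t19 := tow_of tc19_0 (Rng.zero.step tc19_1) (Rng.zero.step tc19_2)
theorem tw20 : Tow.{u} l20 t20 := tow_of tc20_0 (Rng.zero.step tc20_1) (Rng.zero.step tc20_2)
theorem tw21 : Tow.{u} l21 t21 := tow_of tc21_0 (Rng.zero.step tc21_1) (Rng.zero.step tc21_2)
theorem tw22 : Tow.{u} l22 t22 := tow_of tc22_0 (Rng.zero.step tc22_1) (Rng.zero.step tc22_2)
theorem tw23 : Tow.{u} l23 t23 := tow_of tc23_0 (Rng.zero.step tc23_1) (Rng.zero.step tc23_2)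
theorem tw24 : Tow.{u} l24 t24 := tow_of tc24_0 (Rng.zero.step tc24_1) (Rng.zero.step tc24_2)
theorem tw25 : Tow.{u} l25 t25 := tow_of tc25_0 (Rng.zero.step tc25_1) (Rng.zero.step tc25_2)
theorem tw26 : Tow.{u} l26 t26 := tow_of tc26_0 (Rng.zero.step tc26_1) (Rng.zero.step tc26_2)
theorem tw27 : Tow.{u} l27 t27 := tow_of tc27_0 (Rng.zero.step tc27_1) (Rng.zero.step tc27_2)
theorem tw28 : Tow.{u} l28 t28 := tow_of tc28_0 (Rng.zero.step tc28_1) (Rng.zero.step tc28_2)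
theorem tw29 : Tow.{u} l29 t29 := tow_of tc29_0 (Rng.zero.step tc29_1) (Rng.zero.step tc29_2)
theorem tw30 : Tow.{u} l30 t30 := tow_of tc30_0 (Rng.zero.step tc30_1) (Rng.zero.step tc30_2)
theorem tw31 : Tow.{u} l31 t31 := tow_of tc31_0 (Rng.zero.step tc31_1) (Rng.zero.step tc31_2)
theorem tw32 : Tow.{u} l32 t32 := tow_of tc32_0 (Rng.zero.step tc32_1) (Rng.zero.step tc32_2)
theorem tw33 : Tow.{u} l33 t33 := tow_of tc33_0 (Rng.zero.step tc33_1) (Rng.zero.step tc33_2)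
theorem tw34 : Tow.{u} l34 t34 := tow_of tc34_0 (Rng.zero.step tc34_1) (Rng.zero.step tc34_2)
theorem tw61 : Tow.{u} l61 t61 := tow_of tc61_0 (Rng.zero.step tc61_1) (Rng.zero.step tc61_2)
theorem tw45 : Tow.{u} l45 t45 := tow_of tc45_0 (Rng.zero.step tc45_1) (Rng.zero.step tc45_2)
theorem tw46 : Tow.{u} l46 t46 := tow_of tc46_0 (Rng.zero.step tc46_1) (Rng.zero.step tc46_2)
theorem tw47 : Tow.{u} l47 t47 := tow_of tc47_0 (Rng.zero.step tc47_1) (Rng.zero.step tc47_2)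
theorem tw48 : Tow.{u} l48 t48 := tow_of tc48_0 (Rng.zero.step tc48_1) (Rng.zero.step tc48_2)
theorem tw49 : Tow.{u} l49 t49 := tow_of tc49_0 (Rng.zero.step tc49_1) (Rng.zero.step tc49_2)
theorem tw62 : Tow.{u} l62 t62 := tow_of tc62_0 (Rng.zero.step tc62_1) (Rng.zero.step tc62_2)
theorem tw50 : Tow.{u} l50 t50 := tow_of tc50_0 (Rng.zero.step tc50_1) (Rng.zero.step tc50_2)
theorem tw51 : Tow.{u} l51 t51 := tow_of tc51_0 (Rng.zero.step tc51_1) (Rng.zero.step tc51_2)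
theorem tw52 : Tow.{u} l52 t52 := tow_of tc52_0 (Rng.zero.step tc52_1) (Rng.zero.step tc52_2)
theorem tw53 : Tow.{u} l53 t53 := tow_of tc53_0 (Rng.zero.step tc53_1) (Rng.zero.step tc53_2)
theorem tw54 : Tow.{u} l54 t54 := tow_of tc54_0 (Rng.zero.step tc54_1) (Rng.zero.step tc54_2)
theorem tw55 : Tow.{u} l55 t55 := tow_of tc55_0 (Rng.zero.step tc55_1) (Rng.zero.step tc55_2)
theorem tw56 : Tow.{u} l56 t56 := tow_of tc56_0 (Rng.zero.step tc56_1) (Rng.zero.step tc56_2)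
theorem tw57 : Tow.{u} l57 t57 := tow_of tc57_0 (Rng.zero.step tc57_1) (Rng.zero.step tc57_2)
theorem tw58 : Tow.{u} l58 t58 := tow_of tc58_0 (Rng.zero.step tc58_1) (Rng.zero.step tc58_2)
theorem tw59 : Tow.{u} l59 t59 := tow_of tc59_0 (Rng.zero.step tc59_1) (Rng.zero.step tc59_2)
theorem tw60 : Tow.{u} l60 t60 := tow_of tc60_0 (Rng.zero.step tc60_1) (Rng.zero.step tc60_2)
theorem tw37 : Tow.{u} l37 t37 := tow_of tc37_0 (Rng.zero.step tc37_1) (Rng.zero.step tc37_2)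
theorem tw38 : Tow.{u} l38 t38 := tow_of tc38_0 (Rng.zero.step tc38_1) (Rng.zero.step tc38_2)
theorem tw39 : Tow.{u} l39 t39 := tow_of tc39_0 (Rng.zero.step tc39_1) (Rng.zero.step tc39_2)
theorem tw40 : Tow.{u} l40 t40 := tow_of tc40_0 (Rng.zero.step tc40_1) (Rng.zero.step tc40_2)
theorem tw41 : Tow.{u} l41 t41 := tow_of tc41_0 (Rng.zero.step tc41_1) (Rng.zero.step tc41_2)
theorem tw42 : Tow.{u} l42 t42 := tow_of tc42_0 (Rng.zero.step tc42_1) (Rng.zero.step tc42_2)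
theorem tw43 : Tow.{u} l43 t43 := tow_of tc43_0 (Rng.zero.step tc43_1) (Rng.zero.step tc43_2)
theorem tw44 : Tow.{u} l44 t44 := tow_of tc44_0 (Rng.zero.step tc44_1) (Rng.zero.step tc44_2)
theorem tw1 : Tow.{u} l1 t1 := tow_of tc1_0 (Rng.zero.step tc1_1) (Rng.zero.step tc1_2)
theorem tw35 : Tow.{u} l35 t35 := tow_of tc35_0 (Rng.zero.step tc35_1) (Rng.zero.step tc35_2)
theorem tw63 : Tow.{u} l63 t63 := tow_of tc63_0 (Rng.zero.step tc63_1) (Rng.zero.step tc63_2)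
theorem tw64 : Tow.{u} l64 t64 := tow_of tc64_0 (Rng.zero.step tc64_1) (Rng.zero.step tc64_2)
theorem tw65 : Tow.{u} l65 t65 := tow_of tc65_0 (Rng.zero.step tc65_1) (Rng.zero.step tc65_2)
theorem tw66 : Tow.{u} l66 t66 := tow_of tc66_0 (Rng.zero.step tc66_1) (Rng.zero.step tc66_2)
theorem tw67 : Tow.{u} l67 t67 := tow_of tc67_0 (Rng.zero.step tc67_1) (Rng.zero.step tc67_2)
theorem tw68 : Tow.{u} l68 t68 := tow_of tc68_0 (Rng.zero.step tc68_1) (Rng.zero.step tc68_2)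
theorem tw69 : Tow.{u} l69 t69 := tow_of tc69_0 (Rng.zero.step tc69_1) (Rng.zero.step tc69_2)
theorem tw70 : Tow.{u} l70 t70 := tow_of tc70_0 (Rng.zero.step tc70_1) (Rng.zero.step tc70_2)
theorem tw36 : Tow.{u} l36 t36 := tow_of tc36_0 (Rng.zero.step tc36_1) (Rng.zero.step tc36_2)
theorem tw2 : Tow.{u} l2 t2 := tow_of tc2_0 (Rng.zero.step tc2_1) (Rng.zero.step tc2_2)
theorem tw3 : Tow.{u} l3 t3 := tow_of tc3_0 (Rng.zero.step tc3_1) (Rng.zero.step tc3_2)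
theorem tw4 : Tow.{u} l4 t4 := tow_of tc4_0 (Rng.zero.step tc4_1) (Rng.zero.step tc4_2)
theorem tw5 : Tow.{u} l5 t5 := tow_of tc5_0 (Rng.zero.step tc5_1) (Rng.zero.step tc5_2)
theorem tw6 : Tow.{u} l6 t6 := tow_of tc6_0 (Rng.zero.step tc6_1) (Rng.zero.step tc6_2)
theorem tw7 : Tow.{u} l7 t7 := tow_of tc7_0 (Rng.zero.step tc7_1) (Rng.zero.step tc7_2)
theorem tw8 : Tow.{u} l8 t8 := tow_of tc8_0 (Rng.zero.step tc8_1) (Rng.zero.step tc8_2)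
theorem tw9 : Tow.{u} l9 t9 := tow_of tc9_0 (Rng.zero.step tc9_1) (Rng.zero.step tc9_2)
theorem tw10 : Tow.{u} l10 t10 := tow_of tc10_0 (Rng.zero.step tc10_1) (Rng.zero.step tc10_2)
theorem tw11 : Tow.{u} l11 t11 := tow_of tc11_0 (Rng.zero.step tc11_1) (Rng.zero.step tc11_2)
theorem tw12 : Tow.{u} l12 t12 := tow_of tc12_0 (Rng.zero.step tc12_1) (Rng.zero.step tc12_2)
theorem tw13 : Tow.{u} l13 t13 := tow_of tc13_0 (Rng.zero.step tc13_1) (Rng.zero.step tc13_2)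
theorem tw14 : Tow.{u} l14 t14 := tow_of tc14_0 (Rng.zero.step tc14_1) (Rng.zero.step tc14_2)
theorem tw15 : Tow.{u} l15 t15 := tow_of tc15_0 (Rng.zero.step tc15_1) (Rng.zero.step tc15_2)
theorem tw16 : Tow.{u} l16 t16 := tow_of tc16_0 (Rng.zero.step tc16_1) (Rng.zero.step tc16_2)
theorem tw0 : Tow.{u} [] t0 := tow_of tc0_0 (Rng.zero.step tc0_1) (Rng.zero.step tc0_2)
theorem x17 : AuxS.{u} (cII) s17 0 a17 := aux_base3 tw17 rfl b17
theorem n17 : Sound.{u} (cII) s17 0 :=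
  (x17.k6 c17_0 :)
theorem x18 : AuxS.{u} (cII) s18 0 a18 := aux_base3 tw18 rfl b18
theorem n18 : Sound.{u} (cII) s18 0 :=
  (x18.k6 c18_0 :)
theorem x19 : AuxS.{u} (cII) s19 0 a19 := aux_base3 tw19 rfl b19
theorem n19 : Sound.{u} (cII) s19 0 :=
  (x19.k6 c19_0 :)
theorem x20 : AuxS.{u} (cII) s20 0 a20 := aux_base3 tw20 rfl b20
theorem n20 : Sound.{u} (cII) s20 0 :=
  (x20.k6 c20_0 :)
theorem x21 : AuxS.{u} (cII) s21 0 a21 := aux_base3 tw21 rfl b21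
theorem n21 : Sound.{u} (cII) s21 0 :=
  (x21.k6 c21_0 :)
theorem x22 : AuxS.{u} (cII) s22 0 a22 := aux_base3 tw22 rfl b22
theorem n22 : Sound.{u} (cII) s22 0 :=
  (x22.k6 c22_0 :)
theorem x23 : AuxS.{u} (cII) s23 0 a23 := aux_base3 tw23 rfl b23
theorem n23 : Sound.{u} (cII) s23 0 :=
  (x23.k6 c23_0 :)
theorem x24 : AuxS.{u} (cII) s24 0 a24 := aux_base3 tw24 rfl b24
theorem n24 : Sound.{u} (cII) s24 0 :=
  (x24.k6 c24_0 :)
theorem x25 : AuxS.{u} (cII) s25 0 a25 := aux_base3 tw25 rfl b25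
theorem n25 : Sound.{u} (cII) s25 0 :=
  (x25.k2 c25_0 :)
theorem x26 : AuxS.{u} (cII) s26 0 a26 := aux_base3 tw26 rfl b26
theorem n26 : Sound.{u} (cII) s26 0 :=
  (x26.k2 c26_0 :)
theorem x27 : AuxS.{u} (cII) s27 0 a27 := aux_base3 tw27 rfl b27
theorem n27 : Sound.{u} (cII) s27 0 :=
  (x27.k2 c27_0 :)
theorem x28 : AuxS.{u} (cII) s28 0 a28 := aux_base3 tw28 rfl b28
theorem n28 : Sound.{u} (cII) s28 0 :=
  (x28.k2 c28_0 :)
theorem x29 : AuxS.{u} (cII) s29 0 a29 := aux_base3 tw29 rfl b29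
theorem n29 : Sound.{u} (cII) s29 0 :=
  (x29.k2 c29_0 :)
theorem x30 : AuxS.{u} (cII) s30 0 a30 := aux_base3 tw30 rfl b30
theorem n30 : Sound.{u} (cII) s30 0 :=
  (x30.k2 c30_0 :)
theorem x31 : AuxS.{u} (cII) s31 0 a31 := aux_base3 tw31 rfl b31
theorem n31 : Sound.{u} (cII) s31 0 :=
  (x31.k2 c31_0 :)
theorem x32 : AuxS.{u} (cII) s32 0 a32 := aux_base3 tw32 rfl b32
theorem n32 : Sound.{u} (cII) s32 0 :=
  (x32.k2 c32_0 :)
theorem x33 : AuxS.{u} (cII) s33 0 a33 := aux_base3 tw33 rfl b33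
theorem n33 : Sound.{u} (cII) s33 0 :=
  (x33.k6 c33_0 :)
theorem x34 : AuxS.{u} (cII) s34 0 a34 := aux_base3 tw34 rfl b34
theorem n34 : Sound.{u} (cII) s34 0 :=
  (x34.k6 c34_0 :)
theorem x71 : AuxS.{u} (cII) s71 0 a71 := aux_base3 tw61 rfl b71
theorem x71_1 : AuxS.{u} (cII) s71 0 a71_1 := (AuxS.up x71 c71_18 :)
theorem x71_L1_1 : AuxS.{u} (cII) s71 (1 + 2) a71_L1_1 := (AuxS.hp (x71_1.lam 1) c71_2 :)
theorem x71_L1_2 : AuxS.{u} (cII) s71 (1 + 2) a71_L1_2 := (AuxS.ne x71_L1_1 c71_3 :)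
theorem x71_L1_3 : AuxS.{u} (cII) s71 (1 + 2) a71_L1_3 := (AuxS.nf x71_L1_2 c71_4 :)
theorem x71_L1_4 : AuxS.{u} (cII) s71 (1 + 2) a71_L1_4 := (AuxS.hp x71_L1_3 c71_5 :)
theorem x71_L1_5 : AuxS.{u} (cII) s71 (1 + 2) a71_L1_5 := (AuxS.nf x71_L1_4 c71_6 :)
theorem x71_L1_6 : AuxS.{u} (cII) s71 (1 + 2) a71_L1_6 := (AuxS.hp x71_L1_5 c71_7 :)
theorem x71_L1_7 : AuxS.{u} (cII) s71 (1 + 2) a71_L1_7 := (AuxS.nf x71_L1_6 c71_8 :)
theorem x71_L257_1 : AuxS.{u} (cII) s71 (257 + 2) a71_L257_1 := (AuxS.hp (x71_1.lam 257) c71_10 :)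
theorem x71_L257_2 : AuxS.{u} (cII) s71 (257 + 2) a71_L257_2 := (AuxS.ne x71_L257_1 c71_11 :)
theorem x71_L257_3 : AuxS.{u} (cII) s71 (257 + 2) a71_L257_3 := (AuxS.nf x71_L257_2 c71_12 :)
theorem x71_L257_4 : AuxS.{u} (cII) s71 (257 + 2) a71_L257_4 := (AuxS.hp x71_L257_3 c71_13 :)
theorem x71_L257_5 : AuxS.{u} (cII) s71 (257 + 2) a71_L257_5 := (AuxS.nf x71_L257_4 c71_14 :)
theorem x71_L257_6 : AuxS.{u} (cII) s71 (257 + 2) a71_L257_6 := (AuxS.hp x71_L257_5 c71_15 :)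
theorem n71 : Sound.{u} (cII) s71 0 :=
  (x71_1.spl c71_0 (AllM.cons ((x71_1.lam 0).tp c71_1 :) (AllM.cons (x71_L1_7.ktp c71_9 :) (AllM.cons (x71_L257_6.tp c71_16 :) AllM.nil))) ((x71_1.weaken 1).ext2 (fun _ => rfl) GamS.nil AllS.nil c71_17 (Phs.fin (ct := ct71_17) rfl) (Phs.fin (ct := ct71_17) rfl)) :)
theorem x72 : AuxS.{u} (cII) s72 0 a72 := aux_base3 tw61 rfl b72
theorem n72 : Sound.{u} (cII) s72 0 :=
  (x72.k4 c72_0 :)
theorem x73 : AuxS.{u} (cII) s73 0 a73 := aux_base3 tw61 rfl b73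
theorem n73 : Sound.{u} (cII) s73 0 :=
  (x73.k4 c73_0 :)
theorem x74 : AuxS.{u} (cII) s74 0 a74 := aux_base3 tw61 rfl b74
theorem n74 : Sound.{u} (cII) s74 0 :=
  (x74.k4 c74_0 :)
theorem x75 : AuxS.{u} (cII) s75 0 a75 := aux_base3 tw61 rfl b75
theorem n75 : Sound.{u} (cII) s75 0 :=
  (x75.k4 c75_0 :)
theorem x76 : AuxS.{u} (cII) s76 0 a76 := aux_base3 tw61 rfl b76
theorem n76 : Sound.{u} (cII) s76 0 :=
  (x76.k4 c76_0 :)
theorem x77 : AuxS.{u} (cII) s77 0 a77 := aux_base3 tw61 rfl b77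
theorem n77 : Sound.{u} (cII) s77 0 :=
  (x77.k4 c77_0 :)
theorem x78 : AuxS.{u} (cII) s78 0 a78 := aux_base3 tw61 rfl b78
theorem n78 : Sound.{u} (cII) s78 0 :=
  (x78.k4 c78_0 :)
theorem x79 : AuxS.{u} (cII) s79 0 a79 := aux_base3 tw61 rfl b79
theorem n79 : Sound.{u} (cII) s79 0 :=
  (x79.k4 c79_0 :)
theorem x80 : AuxS.{u} (cII) s80 0 a80 := aux_base3 tw61 rfl b80
theorem n80 : Sound.{u} (cII) s80 0 :=
  (x80.k4 c80_0 :)
theorem x81 : AuxS.{u} (cII) s81 0 a81 := aux_base3 tw61 rfl b81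
theorem n81 : Sound.{u} (cII) s81 0 :=
  (x81.k4 c81_0 :)
theorem x82 : AuxS.{u} (cII) s82 0 a82 := aux_base3 tw61 rfl b82
theorem n82 : Sound.{u} (cII) s82 0 :=
  (x82.k4 c82_0 :)
theorem x83 : AuxS.{u} (cII) s83 0 a83 := aux_base3 tw61 rfl b83
theorem n83 : Sound.{u} (cII) s83 0 :=
  (x83.k4 c83_0 :)
theorem x84 : AuxS.{u} (cII) s84 0 a84 := aux_base3 tw61 rfl b84
theorem x84_1 : AuxS.{u} (cII) s84 0 a84_1 := x84
theorem n84 : Sound.{u} (cII) s84 0 :=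
  (x84_1.jump c84_0 c84_1 n71 :)
theorem x85 : AuxS.{u} (cII) s85 0 a85 := aux_base3 tw61 rfl b85
theorem n85 : Sound.{u} (cII) s85 0 :=
  (x85.k4 c85_0 :)
theorem x86 : AuxS.{u} (cII) s86 0 a86 := aux_base3 tw61 rfl b86
theorem n86 : Sound.{u} (cII) s86 0 :=
  (x86.k4 c86_0 :)
theorem x87 : AuxS.{u} (cII) s87 0 a87 := aux_base3 tw61 rfl b87
theorem x87_1 : AuxS.{u} (cII) s87 0 a87_1 := x87
theorem n87 : Sound.{u} (cII) s87 0 :=
  (x87_1.jump c87_0 c87_1 n71 :)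
theorem x88 : AuxS.{u} (cII) s88 0 a88 := aux_base3 tw61 rfl b88
theorem n88 : Sound.{u} (cII) s88 0 :=
  (x88.k4 c88_0 :)
theorem x89 : AuxS.{u} (cII) s89 0 a89 := aux_base3 tw61 rfl b89
theorem n89 : Sound.{u} (cII) s89 0 :=
  (x89.k4 c89_0 :)
theorem x90 : AuxS.{u} (cII) s90 0 a90 := aux_base3 tw61 rfl b90
theorem n90 : Sound.{u} (cII) s90 0 :=
  (x90.k4 c90_0 :)
theorem x91 : AuxS.{u} (cII) s91 0 a91 := aux_base3 tw61 rfl b91
theorem n91 : Sound.{u} (cII) s91 0 :=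
  (x91.k4 c91_0 :)
theorem x92 : AuxS.{u} (cII) s92 0 a92 := aux_base3 tw61 rfl b92
theorem n92 : Sound.{u} (cII) s92 0 :=
  (x92.k4 c92_0 :)
theorem x93 : AuxS.{u} (cII) s93 0 a93 := aux_base3 tw61 rfl b93
theorem n93 : Sound.{u} (cII) s93 0 :=
  (x93.k4 c93_0 :)
theorem x94 : AuxS.{u} (cII) s94 0 a94 := aux_base3 tw61 rfl b94
theorem n94 : Sound.{u} (cII) s94 0 :=
  (x94.k4 c94_0 :)
theorem x95 : AuxS.{u} (cII) s95 0 a95 := aux_base3 tw61 rfl b95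
theorem n95 : Sound.{u} (cII) s95 0 :=
  (x95.k4 c95_0 :)
theorem x96 : AuxS.{u} (cII) s96 0 a96 := aux_base3 tw61 rfl b96
theorem n96 : Sound.{u} (cII) s96 0 :=
  (x96.k4 c96_0 :)
theorem x97 : AuxS.{u} (cII) s97 0 a97 := aux_base3 tw61 rfl b97
theorem n97 : Sound.{u} (cII) s97 0 :=
  (x97.k4 c97_0 :)
theorem x98 : AuxS.{u} (cII) s98 0 a98 := aux_base3 tw61 rfl b98
theorem n98 : Sound.{u} (cII) s98 0 :=
  (x98.k4 c98_0 :)
theorem x99 : AuxS.{u} (cII) s99 0 a99 := aux_base3 tw61 rfl b99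
theorem n99 : Sound.{u} (cII) s99 0 :=
  (x99.k4 c99_0 :)
theorem x100 : AuxS.{u} (cII) s100 0 a100 := aux_base3 tw61 rfl b100
theorem x100_1 : AuxS.{u} (cII) s100 0 a100_1 := x100
theorem n100 : Sound.{u} (cII) s100 0 :=
  (x100_1.jump c100_0 c100_1 n71 :)
theorem x101 : AuxS.{u} (cII) s101 0 a101 := aux_base3 tw61 rfl b101
theorem n101 : Sound.{u} (cII) s101 0 :=
  (x101.k4 c101_0 :)
theorem x102 : AuxS.{u} (cII) s102 0 a102 := aux_base3 tw61 rfl b102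
theorem n102 : Sound.{u} (cII) s102 0 :=
  (x102.k4 c102_0 :)
theorem x70 : AuxS.{u} (cII) s70 0 a70 := aux_base3 tw61 rfl b70
theorem x70_1 : AuxS.{u} (cII) s70 0 a70_1 := x70
theorem n70 : Sound.{u} (cII) s70 0 :=
  (x70_1.fr GamS.nil (AllS.cons n71 (AllS.cons n72 (AllS.cons n73 (AllS.cons n74 (AllS.cons n75 (AllS.cons n76 (AllS.cons n77 (AllS.cons n78 (AllS.cons n79 (AllS.cons n80 (AllS.cons n81 (AllS.cons n82 (AllS.cons n83 (AllS.cons n84 (AllS.cons n85 (AllS.cons n86 (AllS.cons n87 (AllS.cons n88 (AllS.cons n89 (AllS.cons n90 (AllS.cons n91 (AllS.cons n92 (AllS.cons n93 (AllS.cons n94 (AllS.cons n95 (AllS.cons n96 (AllS.cons n97 (AllS.cons n98 (AllS.cons n99 (AllS.cons n100 (AllS.cons n101 (AllS.cons n102 AllS.nil)))))))))))))))))))))))))))))))) c70_0 :)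
theorem x54 : AuxS.{u} (cII) s54 0 a54 := aux_base3 tw45 rfl b54
theorem x54_1 : AuxS.{u} (cII) s54 0 a54_1 := x54
theorem x54_2 : AuxS.{u} (cII) s54 0 a54_2 := x54_1
theorem n54 : Sound.{u} (cII) s54 0 :=
  (x54_2.fr2 (AuxS.gam x54_2 c54_0) (AllS.cons n70 AllS.nil) c54_1 :)
theorem x55 : AuxS.{u} (cII) s55 0 a55 := aux_base3 tw46 rfl b55
theorem x55_1 : AuxS.{u} (cII) s55 0 a55_1 := x55
theorem n55 : Sound.{u} (cII) s55 0 :=
  (x55_1.fr2 GamS.nil AllS.nil c55_0 :)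
theorem x56 : AuxS.{u} (cII) s56 0 a56 := aux_base3 tw47 rfl b56
theorem x56_1 : AuxS.{u} (cII) s56 0 a56_1 := x56
theorem n56 : Sound.{u} (cII) s56 0 :=
  (x56_1.fr2 GamS.nil AllS.nil c56_0 :)
theorem x57 : AuxS.{u} (cII) s57 0 a57 := aux_base3 tw48 rfl b57
theorem x57_1 : AuxS.{u} (cII) s57 0 a57_1 := x57
theorem n57 : Sound.{u} (cII) s57 0 :=
  (x57_1.fr2 GamS.nil AllS.nil c57_0 :)
theorem x58 : AuxS.{u} (cII) s58 0 a58 := aux_base3 tw49 rfl b58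
theorem x58_1 : AuxS.{u} (cII) s58 0 a58_1 := x58
theorem x58_2 : AuxS.{u} (cII) s58 0 a58_2 := x58_1
theorem x58_3 : AuxS.{u} (cII) s58 0 a58_3 := x58_2
theorem n58 : Sound.{u} (cII) s58 0 :=
  (x58_3.fr2 GamS.nil AllS.nil c58_0 :)
theorem x104 : AuxS.{u} (cII) s104 0 a104 := aux_base3 tw62 rfl b104
theorem x104_1 : AuxS.{u} (cII) s104 0 a104_1 := (AuxS.up x104 c104_10 :)
theorem x104_2 : AuxS.{u} (cII) s104 0 a104_2 := (AuxS.up x104_1 c104_11 :)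
theorem x104_L1_1 : AuxS.{u} (cII) s104 (1 + 2) a104_L1_1 := (AuxS.hp (x104_2.lam 1) c104_2 :)
theorem x104_L1_2 : AuxS.{u} (cII) s104 (1 + 2) a104_L1_2 := (AuxS.ne x104_L1_1 c104_3 :)
theorem x104_L1_3 : AuxS.{u} (cII) s104 (1 + 2) a104_L1_3 := (AuxS.nf x104_L1_2 c104_4 :)
theorem x104_L257_1 : AuxS.{u} (cII) s104 (257 + 2) a104_L257_1 := (AuxS.hp (x104_2.lam 257) c104_6 :)
theorem x104_L257_2 : AuxS.{u} (cII) s104 (257 + 2) a104_L257_2 := (AuxS.ne x104_L257_1 c104_7 :)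
theorem n104 : Sound.{u} (cII) s104 0 :=
  (x104_2.spl c104_0 (AllM.cons ((x104_2.lam 0).tp c104_1 :) (AllM.cons (x104_L1_3.k5 c104_5 :) (AllM.cons (x104_L257_2.tp c104_8 :) AllM.nil))) ((x104_2.weaken 1).ext2 (fun _ => rfl) GamS.nil AllS.nil c104_9 (Phs.fin (ct := ct104_9) rfl) (Phs.fin (ct := ct104_9) rfl)) :)
theorem x105 : AuxS.{u} (cII) s105 0 a105 := aux_base3 tw62 rfl b105
theorem n105 : Sound.{u} (cII) s105 0 :=
  (x105.k4 c105_0 :)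
theorem x106 : AuxS.{u} (cII) s106 0 a106 := aux_base3 tw62 rfl b106
theorem n106 : Sound.{u} (cII) s106 0 :=
  (x106.k4 c106_0 :)
theorem x107 : AuxS.{u} (cII) s107 0 a107 := aux_base3 tw62 rfl b107
theorem n107 : Sound.{u} (cII) s107 0 :=
  (x107.k4 c107_0 :)
theorem x108 : AuxS.{u} (cII) s108 0 a108 := aux_base3 tw62 rfl b108
theorem n108 : Sound.{u} (cII) s108 0 :=
  (x108.k4 c108_0 :)
theorem x109 : AuxS.{u} (cII) s109 0 a109 := aux_base3 tw62 rfl b109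
theorem n109 : Sound.{u} (cII) s109 0 :=
  (x109.k4 c109_0 :)
theorem x110 : AuxS.{u} (cII) s110 0 a110 := aux_base3 tw62 rfl b110
theorem n110 : Sound.{u} (cII) s110 0 :=
  (x110.k4 c110_0 :)
theorem x111 : AuxS.{u} (cII) s111 0 a111 := aux_base3 tw62 rfl b111
theorem n111 : Sound.{u} (cII) s111 0 :=
  (x111.k4 c111_0 :)
theorem x112 : AuxS.{u} (cII) s112 0 a112 := aux_base3 tw62 rfl b112
theorem n112 : Sound.{u} (cII) s112 0 :=
  (x112.k4 c112_0 :)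
theorem x113 : AuxS.{u} (cII) s113 0 a113 := aux_base3 tw62 rfl b113
theorem n113 : Sound.{u} (cII) s113 0 :=
  (x113.k4 c113_0 :)
theorem x114 : AuxS.{u} (cII) s114 0 a114 := aux_base3 tw62 rfl b114
theorem n114 : Sound.{u} (cII) s114 0 :=
  (x114.k4 c114_0 :)
theorem x115 : AuxS.{u} (cII) s115 0 a115 := aux_base3 tw62 rfl b115
theorem n115 : Sound.{u} (cII) s115 0 :=
  (x115.k4 c115_0 :)
theorem x116 : AuxS.{u} (cII) s116 0 a116 := aux_base3 tw62 rfl b116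
theorem n116 : Sound.{u} (cII) s116 0 :=
  (x116.k4 c116_0 :)
theorem x117 : AuxS.{u} (cII) s117 0 a117 := aux_base3 tw62 rfl b117
theorem x117_1 : AuxS.{u} (cII) s117 0 a117_1 := x117
theorem x117_2 : AuxS.{u} (cII) s117 0 a117_2 := x117_1
theorem n117 : Sound.{u} (cII) s117 0 :=
  (x117_2.jump c117_0 c117_1 n104 :)
theorem x118 : AuxS.{u} (cII) s118 0 a118 := aux_base3 tw62 rfl b118
theorem n118 : Sound.{u} (cII) s118 0 :=
  (x118.k4 c118_0 :)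
theorem x119 : AuxS.{u} (cII) s119 0 a119 := aux_base3 tw62 rfl b119
theorem n119 : Sound.{u} (cII) s119 0 :=
  (x119.k4 c119_0 :)
theorem x120 : AuxS.{u} (cII) s120 0 a120 := aux_base3 tw62 rfl b120
theorem x120_1 : AuxS.{u} (cII) s120 0 a120_1 := x120
theorem x120_2 : AuxS.{u} (cII) s120 0 a120_2 := x120_1
theorem n120 : Sound.{u} (cII) s120 0 :=
  (x120_2.jump c120_0 c120_1 n104 :)
theorem x121 : AuxS.{u} (cII) s121 0 a121 := aux_base3 tw62 rfl b121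
theorem n121 : Sound.{u} (cII) s121 0 :=
  (x121.k4 c121_0 :)
theorem x122 : AuxS.{u} (cII) s122 0 a122 := aux_base3 tw62 rfl b122
theorem n122 : Sound.{u} (cII) s122 0 :=
  (x122.k4 c122_0 :)
theorem x123 : AuxS.{u} (cII) s123 0 a123 := aux_base3 tw62 rfl b123
theorem n123 : Sound.{u} (cII) s123 0 :=
  (x123.k4 c123_0 :)
theorem x124 : AuxS.{u} (cII) s124 0 a124 := aux_base3 tw62 rfl b124
theorem n124 : Sound.{u} (cII) s124 0 :=
  (x124.k4 c124_0 :)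
theorem x125 : AuxS.{u} (cII) s125 0 a125 := aux_base3 tw62 rfl b125
theorem n125 : Sound.{u} (cII) s125 0 :=
  (x125.k4 c125_0 :)
theorem x126 : AuxS.{u} (cII) s126 0 a126 := aux_base3 tw62 rfl b126
theorem n126 : Sound.{u} (cII) s126 0 :=
  (x126.k4 c126_0 :)
theorem x127 : AuxS.{u} (cII) s127 0 a127 := aux_base3 tw62 rfl b127
theorem n127 : Sound.{u} (cII) s127 0 :=
  (x127.k4 c127_0 :)
theorem x128 : AuxS.{u} (cII) s128 0 a128 := aux_base3 tw62 rfl b128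
theorem n128 : Sound.{u} (cII) s128 0 :=
  (x128.k4 c128_0 :)
theorem x129 : AuxS.{u} (cII) s129 0 a129 := aux_base3 tw62 rfl b129
theorem n129 : Sound.{u} (cII) s129 0 :=
  (x129.k4 c129_0 :)
theorem x130 : AuxS.{u} (cII) s130 0 a130 := aux_base3 tw62 rfl b130
theorem n130 : Sound.{u} (cII) s130 0 :=
  (x130.k4 c130_0 :)
theorem x131 : AuxS.{u} (cII) s131 0 a131 := aux_base3 tw62 rfl b131
theorem n131 : Sound.{u} (cII) s131 0 :=
  (x131.k4 c131_0 :)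
theorem x132 : AuxS.{u} (cII) s132 0 a132 := aux_base3 tw62 rfl b132
theorem n132 : Sound.{u} (cII) s132 0 :=
  (x132.k4 c132_0 :)
theorem x133 : AuxS.{u} (cII) s133 0 a133 := aux_base3 tw62 rfl b133
theorem x133_1 : AuxS.{u} (cII) s133 0 a133_1 := x133
theorem x133_2 : AuxS.{u} (cII) s133 0 a133_2 := x133_1
theorem n133 : Sound.{u} (cII) s133 0 :=
  (x133_2.jump c133_0 c133_1 n104 :)
theorem x134 : AuxS.{u} (cII) s134 0 a134 := aux_base3 tw62 rfl b134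
theorem n134 : Sound.{u} (cII) s134 0 :=
  (x134.k4 c134_0 :)
theorem x135 : AuxS.{u} (cII) s135 0 a135 := aux_base3 tw62 rfl b135
theorem n135 : Sound.{u} (cII) s135 0 :=
  (x135.k4 c135_0 :)
theorem x103 : AuxS.{u} (cII) s103 0 a103 := aux_base3 tw62 rfl b103
theorem x103_1 : AuxS.{u} (cII) s103 0 a103_1 := x103
theorem x103_2 : AuxS.{u} (cII) s103 0 a103_2 := x103_1
theorem n103 : Sound.{u} (cII) s103 0 :=
  (x103_2.fr GamS.nil (AllS.cons n104 (AllS.cons n105 (AllS.cons n106 (AllS.cons n107 (AllS.cons n108 (AllS.cons n109 (AllS.cons n110 (AllS.cons n111 (AllS.cons n112 (AllS.cons n113 (AllS.cons n114 (AllS.cons n115 (AllS.cons n116 (AllS.cons n117 (AllS.cons n118 (AllS.cons n119 (AllS.cons n120 (AllS.cons n121 (AllS.cons n122 (AllS.cons n123 (AllS.cons n124 (AllS.cons n125 (AllS.cons n126 (AllS.cons n127 (AllS.cons n128 (AllS.cons n129 (AllS.cons n130 (AllS.cons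 n131 (AllS.cons n132 (AllS.cons n133 (AllS.cons n134 (AllS.cons n135 AllS.nil)))))))))))))))))))))))))))))))) c103_0 :)
theorem x59 : AuxS.{u} (cII) s59 0 a59 := aux_base3 tw50 rfl b59
theorem x59_1 : AuxS.{u} (cII) s59 0 a59_1 := x59
theorem x59_2 : AuxS.{u} (cII) s59 0 a59_2 := x59_1
theorem x59_3 : AuxS.{u} (cII) s59 0 a59_3 := x59_2
theorem n59 : Sound.{u} (cII) s59 0 :=
  (x59_3.fr2 (AuxS.gam x59_3 c59_0) (AllS.cons n103 AllS.nil) c59_1 :)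
theorem x60 : AuxS.{u} (cII) s60 0 a60 := aux_base3 tw51 rfl b60
theorem x60_1 : AuxS.{u} (cII) s60 0 a60_1 := x60
theorem x60_2 : AuxS.{u} (cII) s60 0 a60_2 := x60_1
theorem n60 : Sound.{u} (cII) s60 0 :=
  (x60_2.fr2 GamS.nil AllS.nil c60_0 :)
theorem x61 : AuxS.{u} (cII) s61 0 a61 := aux_base3 tw52 rfl b61
theorem x61_1 : AuxS.{u} (cII) s61 0 a61_1 := x61
theorem x61_2 : AuxS.{u} (cII) s61 0 a61_2 := x61_1
theorem n61 : Sound.{u} (cII) s61 0 :=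
  (x61_2.fr2 GamS.nil AllS.nil c61_0 :)
theorem x62 : AuxS.{u} (cII) s62 0 a62 := aux_base3 tw53 rfl b62
theorem x62_1 : AuxS.{u} (cII) s62 0 a62_1 := x62
theorem x62_2 : AuxS.{u} (cII) s62 0 a62_2 := x62_1
theorem n62 : Sound.{u} (cII) s62 0 :=
  (x62_2.fr2 GamS.nil AllS.nil c62_0 :)
theorem x63 : AuxS.{u} (cII) s63 0 a63 := aux_base3 tw54 rfl b63
theorem x63_1 : AuxS.{u} (cII) s63 0 a63_1 := x63
theorem x63_2 : AuxS.{u} (cII) s63 0 a63_2 := x63_1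
theorem n63 : Sound.{u} (cII) s63 0 :=
  (x63_2.fr2 GamS.nil AllS.nil c63_0 :)
theorem x64 : AuxS.{u} (cII) s64 0 a64 := aux_base3 tw55 rfl b64
theorem x64_1 : AuxS.{u} (cII) s64 0 a64_1 := x64
theorem x64_2 : AuxS.{u} (cII) s64 0 a64_2 := x64_1
theorem x64_3 : AuxS.{u} (cII) s64 0 a64_3 := x64_2
theorem n64 : Sound.{u} (cII) s64 0 :=
  (x64_3.fr2 GamS.nil AllS.nil c64_0 :)
theorem x65 : AuxS.{u} (cII) s65 0 a65 := aux_base3 tw56 rfl b65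
theorem x65_1 : AuxS.{u} (cII) s65 0 a65_1 := x65
theorem x65_2 : AuxS.{u} (cII) s65 0 a65_2 := x65_1
theorem n65 : Sound.{u} (cII) s65 0 :=
  (x65_2.fr2 GamS.nil AllS.nil c65_0 :)
theorem x66 : AuxS.{u} (cII) s66 0 a66 := aux_base3 tw57 rfl b66
theorem x66_1 : AuxS.{u} (cII) s66 0 a66_1 := x66
theorem x66_2 : AuxS.{u} (cII) s66 0 a66_2 := x66_1
theorem n66 : Sound.{u} (cII) s66 0 :=
  (x66_2.fr2 GamS.nil AllS.nil c66_0 :)
theorem x67 : AuxS.{u} (cII) s67 0 a67 := aux_base3 tw58 rfl b67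
theorem x67_1 : AuxS.{u} (cII) s67 0 a67_1 := x67
theorem x67_2 : AuxS.{u} (cII) s67 0 a67_2 := x67_1
theorem n67 : Sound.{u} (cII) s67 0 :=
  (x67_2.fr2 GamS.nil AllS.nil c67_0 :)
theorem x68 : AuxS.{u} (cII) s68 0 a68 := aux_base3 tw59 rfl b68
theorem x68_1 : AuxS.{u} (cII) s68 0 a68_1 := x68
theorem x68_2 : AuxS.{u} (cII) s68 0 a68_2 := x68_1
theorem n68 : Sound.{u} (cII) s68 0 :=
  (x68_2.fr2 GamS.nil AllS.nil c68_0 :)
theorem x69 : AuxS.{u} (cII) s69 0 a69 := aux_base3 tw60 rfl b69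
theorem x69_1 : AuxS.{u} (cII) s69 0 a69_1 := x69
theorem x69_2 : AuxS.{u} (cII) s69 0 a69_2 := x69_1
theorem x69_3 : AuxS.{u} (cII) s69 0 a69_3 := x69_2
theorem n69 : Sound.{u} (cII) s69 0 :=
  (x69_3.fr2 GamS.nil AllS.nil c69_0 :)
theorem x46 : AuxS.{u} (cII) s46 0 a46 := aux_base3 tw37 rfl b46
theorem x46_1 : AuxS.{u} (cII) s46 0 a46_1 := x46
theorem x46_2 : AuxS.{u} (cII) s46 0 a46_2 := x46_1
theorem n46 : Sound.{u} (cII) s46 0 :=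
  (x46_2.fr2 GamS.nil (AllS.cons n54 (AllS.cons n55 (AllS.cons n56 (AllS.cons n57 (AllS.cons n58 (AllS.cons n59 (AllS.cons n60 (AllS.cons n61 (AllS.cons n62 (AllS.cons n63 (AllS.cons n64 (AllS.cons n65 (AllS.cons n66 (AllS.cons n67 (AllS.cons n68 (AllS.cons n69 AllS.nil)))))))))))))))) c46_0 :)
theorem x47 : AuxS.{u} (cII) s47 0 a47 := aux_base3 tw37 rfl b47
theorem n47 : Sound.{u} (cII) s47 0 :=
  (x47.k4 c47_0 :)
theorem x48 : AuxS.{u} (cII) s48 0 a48 := aux_base3 tw37 rfl b48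
theorem n48 : Sound.{u} (cII) s48 0 :=
  (x48.k4 c48_0 :)
theorem x49 : AuxS.{u} (cII) s49 0 a49 := aux_base3 tw37 rfl b49
theorem n49 : Sound.{u} (cII) s49 0 :=
  (x49.k4 c49_0 :)
theorem x50 : AuxS.{u} (cII) s50 0 a50 := aux_base3 tw37 rfl b50
theorem n50 : Sound.{u} (cII) s50 0 :=
  (x50.k4 c50_0 :)
theorem x51 : AuxS.{u} (cII) s51 0 a51 := aux_base3 tw37 rfl b51
theorem n51 : Sound.{u} (cII) s51 0 :=
  (x51.k4 c51_0 :)
theorem x52 : AuxS.{u} (cII) s52 0 a52 := aux_base3 tw37 rfl b52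
theorem n52 : Sound.{u} (cII) s52 0 :=
  (x52.k4 c52_0 :)
theorem x53 : AuxS.{u} (cII) s53 0 a53 := aux_base3 tw37 rfl b53
theorem n53 : Sound.{u} (cII) s53 0 :=
  (x53.k4 c53_0 :)
theorem x38 : AuxS.{u} (cII) s38 0 a38 := aux_base3 tw37 rfl b38
theorem x38_1 : AuxS.{u} (cII) s38 0 a38_1 := x38
theorem x38_2 : AuxS.{u} (cII) s38 0 a38_2 := x38_1
theorem n38 : Sound.{u} (cII) s38 0 :=
  (x38_2.fr (AuxS.gam x38_2 c38_0) (AllS.cons n46 (AllS.cons n47 (AllS.cons n48 (AllS.cons n49 (AllS.cons n50 (AllS.cons n51 (AllS.cons n52 (AllS.cons n53 AllS.nil)))))))) c38_1 :)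
theorem x39 : AuxS.{u} (cII) s39 0 a39 := aux_base3 tw38 rfl b39
theorem x39_1 : AuxS.{u} (cII) s39 0 a39_1 := x39
theorem n39 : Sound.{u} (cII) s39 0 :=
  (x39_1.fr GamS.nil AllS.nil c39_0 :)
theorem x40 : AuxS.{u} (cII) s40 0 a40 := aux_base3 tw39 rfl b40
theorem x40_1 : AuxS.{u} (cII) s40 0 a40_1 := x40
theorem n40 : Sound.{u} (cII) s40 0 :=
  (x40_1.fr GamS.nil AllS.nil c40_0 :)
theorem x41 : AuxS.{u} (cII) s41 0 a41 := aux_base3 tw40 rfl b41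
theorem x41_1 : AuxS.{u} (cII) s41 0 a41_1 := x41
theorem n41 : Sound.{u} (cII) s41 0 :=
  (x41_1.fr GamS.nil AllS.nil c41_0 :)
theorem x42 : AuxS.{u} (cII) s42 0 a42 := aux_base3 tw41 rfl b42
theorem n42 : Sound.{u} (cII) s42 0 :=
  (x42.k6 c42_0 :)
theorem x43 : AuxS.{u} (cII) s43 0 a43 := aux_base3 tw42 rfl b43
theorem n43 : Sound.{u} (cII) s43 0 :=
  (x43.k6 c43_0 :)
theorem x44 : AuxS.{u} (cII) s44 0 a44 := aux_base3 tw43 rfl b44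
theorem n44 : Sound.{u} (cII) s44 0 :=
  (x44.k6 c44_0 :)
theorem x45 : AuxS.{u} (cII) s45 0 a45 := aux_base3 tw44 rfl b45
theorem n45 : Sound.{u} (cII) s45 0 :=
  (x45.k6 c45_0 :)
theorem x37 : AuxS.{u} (cII) s37 0 a37 := aux_base3 tw1 rfl b37
theorem x37_1 : AuxS.{u} (cII) s37 0 a37_1 := (AuxS.up x37 c37_5 :)
theorem p37_0_1 : Phs s37 a37_1 (List.map Prod.fst g37_0) [s38, s39, s40, s41, s42, s43, s44, s45] ct37_0 v37_0 4 w37_0_1 := (Phs.fin c37_1)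
theorem p37_0_3 : Phs s37 a37_1 (List.map Prod.fst g37_0) [s38, s39, s40, s41, s42, s43, s44, s45] ct37_0 v37_0 1 w37_0_3 := (Phs.stp c37_2 p37_0_1)
theorem n37 : Sound.{u} (cII) s37 0 :=
  (x37_1.ext2 (fun h => absurd h (by decide)) (AuxS.gam x37_1 c37_0) (AllS.cons n38 (AllS.cons n39 (AllS.cons n40 (AllS.cons n41 (AllS.cons n42 (AllS.cons n43 (AllS.cons n44 (AllS.cons n45 AllS.nil)))))))) c37_4 (Phs.stp c37_3 p37_0_3) (Phs.fin (ct := ct37_0) rfl) :)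
theorem x35 : AuxS.{u} (cII) s35 0 a35 := aux_base3 tw35 rfl b35
theorem x35_1 : AuxS.{u} (cII) s35 0 a35_1 := x35
theorem x35_2 : AuxS.{u} (cII) s35 0 a35_2 := x35_1
theorem n35 : Sound.{u} (cII) s35 0 :=
  (x35_2.jump c35_0 c35_1 n37 :)
theorem x137 : AuxS.{u} (cII) s137 0 a137 := aux_base3 tw63 rfl b137
theorem n137 : Sound.{u} (cII) s137 0 :=
  (x137.k6 c137_0 :)
theorem x138 : AuxS.{u} (cII) s138 0 a138 := aux_base3 tw64 rfl b138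
theorem n138 : Sound.{u} (cII) s138 0 :=
  (x138.k6 c138_0 :)
theorem x139 : AuxS.{u} (cII) s139 0 a139 := aux_base3 tw65 rfl b139
theorem n139 : Sound.{u} (cII) s139 0 :=
  (x139.k6 c139_0 :)
theorem x140 : AuxS.{u} (cII) s140 0 a140 := aux_base3 tw66 rfl b140
theorem n140 : Sound.{u} (cII) s140 0 :=
  (x140.k6 c140_0 :)
theorem x145 : AuxS.{u} (cII) s145 0 a145 := aux_base3 tw67 rfl b145
theorem n145 : Sound.{u} (cII) s145 0 :=
  (x145.k4 c145_0 :)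
theorem x146 : AuxS.{u} (cII) s146 0 a146 := aux_base3 tw67 rfl b146
theorem x146_1 : AuxS.{u} (cII) s146 0 a146_1 := x146
theorem n146 : Sound.{u} (cII) s146 0 :=
  (x146_1.fr2 GamS.nil AllS.nil c146_0 :)
theorem x147 : AuxS.{u} (cII) s147 0 a147 := aux_base3 tw67 rfl b147
theorem n147 : Sound.{u} (cII) s147 0 :=
  (x147.k4 c147_0 :)
theorem x148 : AuxS.{u} (cII) s148 0 a148 := aux_base3 tw67 rfl b148
theorem n148 : Sound.{u} (cII) s148 0 :=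
  (x148.k4 c148_0 :)
theorem x149 : AuxS.{u} (cII) s149 0 a149 := aux_base3 tw67 rfl b149
theorem n149 : Sound.{u} (cII) s149 0 :=
  (x149.k4 c149_0 :)
theorem x150 : AuxS.{u} (cII) s150 0 a150 := aux_base3 tw67 rfl b150
theorem n150 : Sound.{u} (cII) s150 0 :=
  (x150.k4 c150_0 :)
theorem x151 : AuxS.{u} (cII) s151 0 a151 := aux_base3 tw67 rfl b151
theorem n151 : Sound.{u} (cII) s151 0 :=
  (x151.k4 c151_0 :)
theorem x152 : AuxS.{u} (cII) s152 0 a152 := aux_base3 tw67 rfl b152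
theorem n152 : Sound.{u} (cII) s152 0 :=
  (x152.k4 c152_0 :)
theorem x141 : AuxS.{u} (cII) s141 0 a141 := aux_base3 tw67 rfl b141
theorem x141_1 : AuxS.{u} (cII) s141 0 a141_1 := x141
theorem n141 : Sound.{u} (cII) s141 0 :=
  (x141_1.fr (AuxS.gam x141_1 c141_0) (AllS.cons n145 (AllS.cons n146 (AllS.cons n147 (AllS.cons n148 (AllS.cons n149 (AllS.cons n150 (AllS.cons n151 (AllS.cons n152 AllS.nil)))))))) c141_1 :)
theorem x142 : AuxS.{u} (cII) s142 0 a142 := aux_base3 tw68 rfl b142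
theorem x142_1 : AuxS.{u} (cII) s142 0 a142_1 := x142
theorem n142 : Sound.{u} (cII) s142 0 :=
  (x142_1.fr GamS.nil AllS.nil c142_0 :)
theorem x143 : AuxS.{u} (cII) s143 0 a143 := aux_base3 tw69 rfl b143
theorem x143_1 : AuxS.{u} (cII) s143 0 a143_1 := x143
theorem n143 : Sound.{u} (cII) s143 0 :=
  (x143_1.fr GamS.nil AllS.nil c143_0 :)
theorem x144 : AuxS.{u} (cII) s144 0 a144 := aux_base3 tw70 rfl b144
theorem x144_1 : AuxS.{u} (cII) s144 0 a144_1 := x144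
theorem n144 : Sound.{u} (cII) s144 0 :=
  (x144_1.fr GamS.nil AllS.nil c144_0 :)
theorem x136 : AuxS.{u} (cII) s136 0 a136 := aux_base3 tw1 rfl b136
theorem x136_1 : AuxS.{u} (cII) s136 0 a136_1 := (AuxS.up x136 c136_5 :)
theorem p136_0_1 : Phs s136 a136_1 (List.map Prod.fst g136_0) [s137, s138, s139, s140, s141, s142, s143, s144] ct136_0 v136_0 4 w136_0_1 := (Phs.fin c136_1)
theorem p136_0_3 : Phs s136 a136_1 (List.map Prod.fst g136_0) [s137, s138, s139, s140, s141, s142, s143, s144] ct136_0 v136_0 1 w136_0_3 := (Phs.stp c136_2 p136_0_1)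
theorem n136 : Sound.{u} (cII) s136 0 :=
  (x136_1.ext2 (fun h => absurd h (by decide)) (AuxS.gam x136_1 c136_0) (AllS.cons n137 (AllS.cons n138 (AllS.cons n139 (AllS.cons n140 (AllS.cons n141 (AllS.cons n142 (AllS.cons n143 (AllS.cons n144 AllS.nil)))))))) c136_4 (Phs.stp c136_3 p136_0_3) (Phs.fin (ct := ct136_0) rfl) :)
theorem x36 : AuxS.{u} (cII) s36 0 a36 := aux_base3 tw36 rfl b36
theorem x36_1 : AuxS.{u} (cII) s36 0 a36_1 := x36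
theorem n36 : Sound.{u} (cII) s36 0 :=
  (x36_1.jump c36_0 c36_1 n136 :)
theorem x1 : AuxS.{u} (cII) s1 0 a1 := aux_base3 tw1 rfl b1
theorem x1_1 : AuxS.{u} (cII) s1 0 a1_1 := (AuxS.up x1 c1_4 :)
theorem p1_0_1 : Phs s1 a1_1 [] [s17, s18, s19, s20, s21, s22, s23, s24, s25, s26, s27, s28, s29, s30, s31, s32, s33, s34, s35, s36] ct1_0 v1_0 4 w1_0_1 := (Phs.fin c1_0)
theorem p1_0_3 : Phs s1 a1_1 [] [s17, s18, s19, s20, s21, s22, s23, s24, s25, s26, s27, s28, s29, s30, s31, s32, s33, s34, s35, s36] ct1_0 v1_0 1 w1_0_3 := (Phs.stp c1_1 p1_0_1)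
theorem n1 : Sound.{u} (cII) s1 0 :=
  (x1_1.ext2 (fun h => absurd h (by decide)) GamS.nil (AllS.cons n17 (AllS.cons n18 (AllS.cons n19 (AllS.cons n20 (AllS.cons n21 (AllS.cons n22 (AllS.cons n23 (AllS.cons n24 (AllS.cons n25 (AllS.cons n26 (AllS.cons n27 (AllS.cons n28 (AllS.cons n29 (AllS.cons n30 (AllS.cons n31 (AllS.cons n32 (AllS.cons n33 (AllS.cons n34 (AllS.cons n35 (AllS.cons n36 AllS.nil)))))))))))))))))))) c1_3 (Phs.stp c1_2 p1_0_3) (Phs.fin (ct := ct1_0) rfl) :)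
theorem x2 : AuxS.{u} (cII) s2 0 a2 := aux_base3 tw2 rfl b2
theorem x2_1 : AuxS.{u} (cII) s2 0 a2_1 := (AuxS.up x2 c2_1 :)
theorem n2 : Sound.{u} (cII) s2 0 :=
  (x2_1.k7 c2_0 :)
theorem x3 : AuxS.{u} (cII) s3 0 a3 := aux_base3 tw3 rfl b3
theorem n3 : Sound.{u} (cII) s3 0 :=
  (x3.k6 c3_0 :)
theorem x4 : AuxS.{u} (cII) s4 0 a4 := aux_base3 tw4 rfl b4
theorem n4 : Sound.{u} (cII) s4 0 :=
  (x4.k6 c4_0 :)
theorem x5 : AuxS.{u} (cII) s5 0 a5 := aux_base3 tw5 rfl b5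
theorem n5 : Sound.{u} (cII) s5 0 :=
  (x5.k6 c5_0 :)
theorem x6 : AuxS.{u} (cII) s6 0 a6 := aux_base3 tw6 rfl b6
theorem n6 : Sound.{u} (cII) s6 0 :=
  (x6.k6 c6_0 :)
theorem x7 : AuxS.{u} (cII) s7 0 a7 := aux_base3 tw7 rfl b7
theorem n7 : Sound.{u} (cII) s7 0 :=
  (x7.k6 c7_0 :)
theorem x8 : AuxS.{u} (cII) s8 0 a8 := aux_base3 tw8 rfl b8
theorem n8 : Sound.{u} (cII) s8 0 :=
  (x8.k6 c8_0 :)
theorem x9 : AuxS.{u} (cII) s9 0 a9 := aux_base3 tw9 rfl b9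
theorem x9_1 : AuxS.{u} (cII) s9 0 a9_1 := (AuxS.up x9 c9_1 :)
theorem n9 : Sound.{u} (cII) s9 0 :=
  (x9_1.k1 c9_0 :)
theorem x10 : AuxS.{u} (cII) s10 0 a10 := aux_base3 tw10 rfl b10
theorem x10_1 : AuxS.{u} (cII) s10 0 a10_1 := (AuxS.up x10 c10_1 :)
theorem n10 : Sound.{u} (cII) s10 0 :=
  (x10_1.k1 c10_0 :)
theorem x11 : AuxS.{u} (cII) s11 0 a11 := aux_base3 tw11 rfl b11
theorem n11 : Sound.{u} (cII) s11 0 :=
  (x11.k6 c11_0 :)
theorem x12 : AuxS.{u} (cII) s12 0 a12 := aux_base3 tw12 rfl b12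
theorem n12 : Sound.{u} (cII) s12 0 :=
  (x12.k6 c12_0 :)
theorem x13 : AuxS.{u} (cII) s13 0 a13 := aux_base3 tw13 rfl b13
theorem n13 : Sound.{u} (cII) s13 0 :=
  (x13.k6 c13_0 :)
theorem x14 : AuxS.{u} (cII) s14 0 a14 := aux_base3 tw14 rfl b14
theorem n14 : Sound.{u} (cII) s14 0 :=
  (x14.k6 c14_0 :)
theorem x15 : AuxS.{u} (cII) s15 0 a15 := aux_base3 tw15 rfl b15
theorem n15 : Sound.{u} (cII) s15 0 :=
  (x15.k6 c15_0 :)
theorem x16 : AuxS.{u} (cII) s16 0 a16 := aux_base3 tw16 rfl b16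
theorem n16 : Sound.{u} (cII) s16 0 :=
  (x16.k6 c16_0 :)
theorem x0 : AuxS.{u} (cII) s0 0 a0 := aux_base3 tw0 rfl b0
theorem x0_1 : AuxS.{u} (cII) s0 0 a0_1 := (AuxS.up x0 c0_3 :)
theorem p0_0_1 : Phs s0 a0_1 [] [s1, s2, s3, s4, s5, s6, s7, s8, s9, s10, s11, s12, s13, s14, s15, s16] ct0_0 v0_0 2 w0_0_1 := (Phs.fin c0_0)
theorem n0 : Sound.{u} (cII) s0 0 :=
  (x0_1.ext2 (fun h => absurd h (by decide)) GamS.nil (AllS.cons n1 (AllS.cons n2 (AllS.cons n3 (AllS.cons n4 (AllS.cons n5 (AllS.cons n6 (AllS.cons n7 (AllS.cons n8 (AllS.cons n9 (AllS.cons n10 (AllS.cons n11 (AllS.cons n12 (AllS.cons n13 (AllS.cons n14 (AllS.cons n15 (AllS.cons n16 AllS.nil)))))))))))))))) c0_2 (Phs.stp c0_1 p0_0_1) (Phs.fin (ct := ct0_0) rfl) :)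

theorem main : Sound.{u} (cII) (root 0) 0 := n0

end

end CfsgLib.Dih8.TII
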