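import Cfsg.Agent.Lib.Dih8.G.TM12C0
import Cfsg.Agent.Lib.Dih8.G.TM12C1
import Cfsg.Agent.Lib.Dih8.G.TM12C2
import Cfsg.Agent.Lib.Dih8.G.TM12C3
import Cfsg.Agent.Lib.Dih8.G.TM12C4
import Cfsg.Agent.Lib.Dih8.G.TM12C5
import Cfsg.Agent.Lib.Dih8.G.TM12C6
import Cfsg.Agent.Lib.Dih8.G.TM12C7
import Cfsg.Agent.Lib.Dih8.Rules

/-! Generated certificates (plans/DIH8.md). -/

set_option autoImplicit false
set_option maxRecDepth 100000
set_option Elab.async false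
set_option maxHeartbeats 0
set_option linter.all false

namespace CfsgLib.Dih8.TM12

noncomputable section

universe u

theorem tw34 : Tow.{u} l34 t34 := tow_of tc34_0 (Rng.zero.step tc34_1) (Rng.zero.step tc34_2)
theorem tw35 : Tow.{u} l35 t35 := tow_of tc35_0 (Rng.zero.step tc35_1) (Rng.zero.step tc35_2)
theorem tw36 : Tow.{u} l36 t36 := tow_of tc36_0 (Rng.zero.step tc36_1) (Rng.zero.step tc36_2)
theorem tw37 : Tow.{u} l37 t37 := tow_of tc37_0 (Rng.zero.step tc37_1) (Rng.zero.step tc37_2)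
theorem tw38 : Tow.{u} l38 t38 := tow_of tc38_0 (Rng.zero.step tc38_1) (Rng.zero.step tc38_2)
theorem tw39 : Tow.{u} l39 t39 := tow_of tc39_0 (Rng.zero.step tc39_1) (Rng.zero.step tc39_2)
theorem tw40 : Tow.{u} l40 t40 := tow_of tc40_0 (Rng.zero.step tc40_1) (Rng.zero.step tc40_2)
theorem tw41 : Tow.{u} l41 t41 := tow_of tc41_0 (Rng.zero.step tc41_1) (Rng.zero.step tc41_2)
theorem tw33 : Tow.{u} l33 t33 := tow_of tc33_0 (Rng.zero.step tc33_1) (Rng.zero.step tc33_2)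
theorem tw42 : Tow.{u} l42 t42 := tow_of tc42_0 (Rng.zero.step tc42_1) (Rng.zero.step tc42_2)
theorem tw43 : Tow.{u} l43 t43 := tow_of tc43_0 (Rng.zero.step tc43_1) (Rng.zero.step tc43_2)
theorem tw44 : Tow.{u} l44 t44 := tow_of tc44_0 (Rng.zero.step tc44_1) (Rng.zero.step tc44_2)
theorem tw45 : Tow.{u} l45 t45 := tow_of tc45_0 (Rng.zero.step tc45_1) (Rng.zero.step tc45_2)
theorem tw46 : Tow.{u} l46 t46 := tow_of tc46_0 (Rng.zero.step tc46_1) (Rng.zero.step tc46_2)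
theorem tw47 : Tow.{u} l47 t47 := tow_of tc47_0 (Rng.zero.step tc47_1) (Rng.zero.step tc47_2)
theorem tw48 : Tow.{u} l48 t48 := tow_of tc48_0 (Rng.zero.step tc48_1) (Rng.zero.step tc48_2)
theorem tw49 : Tow.{u} l49 t49 := tow_of tc49_0 (Rng.zero.step tc49_1) (Rng.zero.step tc49_2)
theorem tw17 : Tow.{u} l17 t17 := tow_of tc17_0 (Rng.zero.step tc17_1) (Rng.zero.step tc17_2)
theorem tw18 : Tow.{u} l18 t18 := tow_of tc18_0 (Rng.zero.step tc18_1) (Rng.zero.step tc18_2)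
theorem tw19 : Tow.{u} l19 t19 := tow_of tc19_0 (Rng.zero.step tc19_1) (Rng.zero.step tc19_2)
theorem tw20 : Tow.{u} l20 t20 := tow_of tc20_0 (Rng.zero.step tc20_1) (Rng.zero.step tc20_2)
theorem tw21 : Tow.{u} l21 t21 := tow_of tc21_0 (Rng.zero.step tc21_1) (Rng.zero.step tc21_2)
theorem tw50 : Tow.{u} l50 t50 := tow_of tc50_0 (Rng.zero.step tc50_1) (Rng.zero.step tc50_2)
theorem tw22 : Tow.{u} l22 t22 := tow_of tc22_0 (Rng.zero.step tc22_1) (Rng.zero.step tc22_2)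
theorem tw23 : Tow.{u} l23 t23 := tow_of tc23_0 (Rng.zero.step tc23_1) (Rng.zero.step tc23_2)
theorem tw24 : Tow.{u} l24 t24 := tow_of tc24_0 (Rng.zero.step tc24_1) (Rng.zero.step tc24_2)
theorem tw25 : Tow.{u} l25 t25 := tow_of tc25_0 (Rng.zero.step tc25_1) (Rng.zero.step tc25_2)
theorem tw26 : Tow.{u} l26 t26 := tow_of tc26_0 (Rng.zero.step tc26_1) (Rng.zero.step tc26_2)
theorem tw27 : Tow.{u} l27 t27 := tow_of tc27_0 (Rng.zero.step tc27_1) (Rng.zero.step tc27_2)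
theorem tw28 : Tow.{u} l28 t28 := tow_of tc28_0 (Rng.zero.step tc28_1) (Rng.zero.step tc28_2)
theorem tw29 : Tow.{u} l29 t29 := tow_of tc29_0 (Rng.zero.step tc29_1) (Rng.zero.step tc29_2)
theorem tw30 : Tow.{u} l30 t30 := tow_of tc30_0 (Rng.zero.step tc30_1) (Rng.zero.step tc30_2)
theorem tw31 : Tow.{u} l31 t31 := tow_of tc31_0 (Rng.zero.step tc31_1) (Rng.zero.step tc31_2)
theorem tw32 : Tow.{u} l32 t32 := tow_of tc32_0 (Rng.zero.step tc32_1) (Rng.zero.step tc32_2)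
theorem tw7 : Tow.{u} l7 t7 := tow_of tc7_0 (Rng.zero.step tc7_1) (Rng.zero.step tc7_2)
theorem tw8 : Tow.{u} l8 t8 := tow_of tc8_0 (Rng.zero.step tc8_1) (Rng.zero.step tc8_2)
theorem tw9 : Tow.{u} l9 t9 := tow_of tc9_0 (Rng.zero.step tc9_1) (Rng.zero.step tc9_2)
theorem tw10 : Tow.{u} l10 t10 := tow_of tc10_0 (Rng.zero.step tc10_1) (Rng.zero.step tc10_2)
theorem tw11 : Tow.{u} l11 t11 := tow_of tc11_0 (Rng.zero.step tc11_1) (Rng.zero.step tc11_2)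
theorem tw53 : Tow.{u} l53 t53 := tow_of tc53_0 (Rng.zero.step tc53_1) (Rng.zero.step tc53_2)
theorem tw54 : Tow.{u} l54 t54 := tow_of tc54_0 (Rng.zero.step tc54_1) (Rng.zero.step tc54_2)
theorem tw55 : Tow.{u} l55 t55 := tow_of tc55_0 (Rng.zero.step tc55_1) (Rng.zero.step tc55_2)
theorem tw56 : Tow.{u} l56 t56 := tow_of tc56_0 (Rng.zero.step tc56_1) (Rng.zero.step tc56_2)
theorem tw57 : Tow.{u} l57 t57 := tow_of tc57_0 (Rng.zero.step tc57_1) (Rng.zero.step tc57_2)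
theorem tw58 : Tow.{u} l58 t58 := tow_of tc58_0 (Rng.zero.step tc58_1) (Rng.zero.step tc58_2)
theorem tw59 : Tow.{u} l59 t59 := tow_of tc59_0 (Rng.zero.step tc59_1) (Rng.zero.step tc59_2)
theorem tw60 : Tow.{u} l60 t60 := tow_of tc60_0 (Rng.zero.step tc60_1) (Rng.zero.step tc60_2)
theorem tw61 : Tow.{u} l61 t61 := tow_of tc61_0 (Rng.zero.step tc61_1) (Rng.zero.step tc61_2)
theorem tw62 : Tow.{u} l62 t62 := tow_of tc62_0 (Rng.zero.step tc62_1) (Rng.zero.step tc62_2)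
theorem tw63 : Tow.{u} l63 t63 := tow_of tc63_0 (Rng.zero.step tc63_1) (Rng.zero.step tc63_2)
theorem tw64 : Tow.{u} l64 t64 := tow_of tc64_0 (Rng.zero.step tc64_1) (Rng.zero.step tc64_2)
theorem tw65 : Tow.{u} l65 t65 := tow_of tc65_0 (Rng.zero.step tc65_1) (Rng.zero.step tc65_2)
theorem tw66 : Tow.{u} l66 t66 := tow_of tc66_0 (Rng.zero.step tc66_1) (Rng.zero.step tc66_2)
theorem tw67 : Tow.{u} l67 t67 := tow_of tc67_0 (Rng.zero.step tc67_1) (Rng.zero.step tc67_2)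
theorem tw68 : Tow.{u} l68 t68 := tow_of tc68_0 (Rng.zero.step tc68_1) (Rng.zero.step tc68_2)
theorem tw69 : Tow.{u} l69 t69 := tow_of tc69_0 (Rng.zero.step tc69_1) (Rng.zero.step tc69_2)
theorem tw70 : Tow.{u} l70 t70 := tow_of tc70_0 (Rng.zero.step tc70_1) (Rng.zero.step tc70_2)
theorem tw71 : Tow.{u} l71 t71 := tow_of tc71_0 (Rng.zero.step tc71_1) (Rng.zero.step tc71_2)
theorem tw72 : Tow.{u} l72 t72 := tow_of tc72_0 (Rng.zero.step tc72_1) (Rng.zero.step tc72_2)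
theorem tw51 : Tow.{u} l51 t51 := tow_of tc51_0 (Rng.zero.step tc51_1) (Rng.zero.step tc51_2)
theorem tw73 : Tow.{u} l73 t73 := tow_of tc73_0 (Rng.zero.step tc73_1) (Rng.zero.step tc73_2)
theorem tw74 : Tow.{u} l74 t74 := tow_of tc74_0 (Rng.zero.step tc74_1) (Rng.zero.step tc74_2)
theorem tw75 : Tow.{u} l75 t75 := tow_of tc75_0 (Rng.zero.step tc75_1) (Rng.zero.step tc75_2)
theorem tw76 : Tow.{u} l76 t76 := tow_of tc76_0 (Rng.zero.step tc76_1) (Rng.zero.step tc76_2)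
theorem tw77 : Tow.{u} l77 t77 := tow_of tc77_0 (Rng.zero.step tc77_1) (Rng.zero.step tc77_2)
theorem tw78 : Tow.{u} l78 t78 := tow_of tc78_0 (Rng.zero.step tc78_1) (Rng.zero.step tc78_2)
theorem tw79 : Tow.{u} l79 t79 := tow_of tc79_0 (Rng.zero.step tc79_1) (Rng.zero.step tc79_2)
theorem tw80 : Tow.{u} l80 t80 := tow_of tc80_0 (Rng.zero.step tc80_1) (Rng.zero.step tc80_2)
theorem tw81 : Tow.{u} l81 t81 := tow_of tc81_0 (Rng.zero.step tc81_1) (Rng.zero.step tc81_2)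
theorem tw82 : Tow.{u} l82 t82 := tow_of tc82_0 (Rng.zero.step tc82_1) (Rng.zero.step tc82_2)
theorem tw83 : Tow.{u} l83 t83 := tow_of tc83_0 (Rng.zero.step tc83_1) (Rng.zero.step tc83_2)
theorem tw84 : Tow.{u} l84 t84 := tow_of tc84_0 (Rng.zero.step tc84_1) (Rng.zero.step tc84_2)
theorem tw52 : Tow.{u} l52 t52 := tow_of tc52_0 (Rng.zero.step tc52_1) (Rng.zero.step tc52_2)
theorem tw12 : Tow.{u} l12 t12 := tow_of tc12_0 (Rng.zero.step tc12_1) (Rng.zero.step tc12_2)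
theorem tw13 : Tow.{u} l13 t13 := tow_of tc13_0 (Rng.zero.step tc13_1) (Rng.zero.step tc13_2)
theorem tw14 : Tow.{u} l14 t14 := tow_of tc14_0 (Rng.zero.step tc14_1) (Rng.zero.step tc14_2)
theorem tw15 : Tow.{u} l15 t15 := tow_of tc15_0 (Rng.zero.step tc15_1) (Rng.zero.step tc15_2)
theorem tw16 : Tow.{u} l16 t16 := tow_of tc16_0 (Rng.zero.step tc16_1) (Rng.zero.step tc16_2)
theorem tw1 : Tow.{u} l1 t1 := tow_of tc1_0 (Rng.zero.step tc1_1) (Rng.zero.step tc1_2)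
theorem tw5 : Tow.{u} l5 t5 := tow_of tc5_0 (Rng.zero.step tc5_1) (Rng.zero.step tc5_2)
theorem tw6 : Tow.{u} l6 t6 := tow_of tc6_0 (Rng.zero.step tc6_1) (Rng.zero.step tc6_2)
theorem tw2 : Tow.{u} l2 t2 := tow_of tc2_0 (Rng.zero.step tc2_1) (Rng.zero.step tc2_2)
theorem tw114 : Tow.{u} l114 t114 := tow_of tc114_0 (Rng.zero.step tc114_1) (Rng.zero.step tc114_2)
theorem tw115 : Tow.{u} l115 t115 := tow_of tc115_0 (Rng.zero.step tc115_1) (Rng.zero.step tc115_2)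
theorem tw116 : Tow.{u} l116 t116 := tow_of tc116_0 (Rng.zero.step tc116_1) (Rng.zero.step tc116_2)
theorem tw117 : Tow.{u} l117 t117 := tow_of tc117_0 (Rng.zero.step tc117_1) (Rng.zero.step tc117_2)
theorem tw118 : Tow.{u} l118 t118 := tow_of tc118_0 (Rng.zero.step tc118_1) (Rng.zero.step tc118_2)
theorem tw119 : Tow.{u} l119 t119 := tow_of tc119_0 (Rng.zero.step tc119_1) (Rng.zero.step tc119_2)
theorem tw120 : Tow.{u} l120 t120 := tow_of tc120_0 (Rng.zero.step tc120_1) (Rng.zero.step tc120_2)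
theorem tw121 : Tow.{u} l121 t121 := tow_of tc121_0 (Rng.zero.step tc121_1) (Rng.zero.step tc121_2)
theorem tw113 : Tow.{u} l113 t113 := tow_of tc113_0 (Rng.zero.step tc113_1) (Rng.zero.step tc113_2)
theorem tw122 : Tow.{u} l122 t122 := tow_of tc122_0 (Rng.zero.step tc122_1) (Rng.zero.step tc122_2)
theorem tw123 : Tow.{u} l123 t123 := tow_of tc123_0 (Rng.zero.step tc123_1) (Rng.zero.step tc123_2)
theorem tw124 : Tow.{u} l124 t124 := tow_of tc124_0 (Rng.zero.step tc124_1) (Rng.zero.step tc124_2)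
theorem tw125 : Tow.{u} l125 t125 := tow_of tc125_0 (Rng.zero.step tc125_1) (Rng.zero.step tc125_2)
theorem tw126 : Tow.{u} l126 t126 := tow_of tc126_0 (Rng.zero.step tc126_1) (Rng.zero.step tc126_2)
theorem tw127 : Tow.{u} l127 t127 := tow_of tc127_0 (Rng.zero.step tc127_1) (Rng.zero.step tc127_2)
theorem tw128 : Tow.{u} l128 t128 := tow_of tc128_0 (Rng.zero.step tc128_1) (Rng.zero.step tc128_2)
theorem tw129 : Tow.{u} l129 t129 := tow_of tc129_0 (Rng.zero.step tc129_1) (Rng.zero.step tc129_2)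
theorem tw97 : Tow.{u} l97 t97 := tow_of tc97_0 (Rng.zero.step tc97_1) (Rng.zero.step tc97_2)
theorem tw98 : Tow.{u} l98 t98 := tow_of tc98_0 (Rng.zero.step tc98_1) (Rng.zero.step tc98_2)
theorem tw99 : Tow.{u} l99 t99 := tow_of tc99_0 (Rng.zero.step tc99_1) (Rng.zero.step tc99_2)
theorem tw100 : Tow.{u} l100 t100 := tow_of tc100_0 (Rng.zero.step tc100_1) (Rng.zero.step tc100_2)
theorem tw101 : Tow.{u} l101 t101 := tow_of tc101_0 (Rng.zero.step tc101_1) (Rng.zero.step tc101_2)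
theorem tw130 : Tow.{u} l130 t130 := tow_of tc130_0 (Rng.zero.step tc130_1) (Rng.zero.step tc130_2)
theorem tw102 : Tow.{u} l102 t102 := tow_of tc102_0 (Rng.zero.step tc102_1) (Rng.zero.step tc102_2)
theorem tw103 : Tow.{u} l103 t103 := tow_of tc103_0 (Rng.zero.step tc103_1) (Rng.zero.step tc103_2)
theorem tw104 : Tow.{u} l104 t104 := tow_of tc104_0 (Rng.zero.step tc104_1) (Rng.zero.step tc104_2)
theorem tw105 : Tow.{u} l105 t105 := tow_of tc105_0 (Rng.zero.step tc105_1) (Rng.zero.step tc105_2)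
theorem tw106 : Tow.{u} l106 t106 := tow_of tc106_0 (Rng.zero.step tc106_1) (Rng.zero.step tc106_2)
theorem tw107 : Tow.{u} l107 t107 := tow_of tc107_0 (Rng.zero.step tc107_1) (Rng.zero.step tc107_2)
theorem tw108 : Tow.{u} l108 t108 := tow_of tc108_0 (Rng.zero.step tc108_1) (Rng.zero.step tc108_2)
theorem tw109 : Tow.{u} l109 t109 := tow_of tc109_0 (Rng.zero.step tc109_1) (Rng.zero.step tc109_2)
theorem tw110 : Tow.{u} l110 t110 := tow_of tc110_0 (Rng.zero.step tc110_1) (Rng.zero.step tc110_2)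
theorem tw111 : Tow.{u} l111 t111 := tow_of tc111_0 (Rng.zero.step tc111_1) (Rng.zero.step tc111_2)
theorem tw112 : Tow.{u} l112 t112 := tow_of tc112_0 (Rng.zero.step tc112_1) (Rng.zero.step tc112_2)
theorem tw87 : Tow.{u} l87 t87 := tow_of tc87_0 (Rng.zero.step tc87_1) (Rng.zero.step tc87_2)
theorem tw88 : Tow.{u} l88 t88 := tow_of tc88_0 (Rng.zero.step tc88_1) (Rng.zero.step tc88_2)
theorem tw89 : Tow.{u} l89 t89 := tow_of tc89_0 (Rng.zero.step tc89_1) (Rng.zero.step tc89_2)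
theorem tw90 : Tow.{u} l90 t90 := tow_of tc90_0 (Rng.zero.step tc90_1) (Rng.zero.step tc90_2)
theorem tw91 : Tow.{u} l91 t91 := tow_of tc91_0 (Rng.zero.step tc91_1) (Rng.zero.step tc91_2)
theorem tw133 : Tow.{u} l133 t133 := tow_of tc133_0 (Rng.zero.step tc133_1) (Rng.zero.step tc133_2)
theorem tw134 : Tow.{u} l134 t134 := tow_of tc134_0 (Rng.zero.step tc134_1) (Rng.zero.step tc134_2)
theorem tw135 : Tow.{u} l135 t135 := tow_of tc135_0 (Rng.zero.step tc135_1) (Rng.zero.step tc135_2)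
theorem tw136 : Tow.{u} l136 t136 := tow_of tc136_0 (Rng.zero.step tc136_1) (Rng.zero.step tc136_2)
theorem tw137 : Tow.{u} l137 t137 := tow_of tc137_0 (Rng.zero.step tc137_1) (Rng.zero.step tc137_2)
theorem tw138 : Tow.{u} l138 t138 := tow_of tc138_0 (Rng.zero.step tc138_1) (Rng.zero.step tc138_2)
theorem tw139 : Tow.{u} l139 t139 := tow_of tc139_0 (Rng.zero.step tc139_1) (Rng.zero.step tc139_2)
theorem tw140 : Tow.{u} l140 t140 := tow_of tc140_0 (Rng.zero.step tc140_1) (Rng.zero.step tc140_2)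
theorem tw141 : Tow.{u} l141 t141 := tow_of tc141_0 (Rng.zero.step tc141_1) (Rng.zero.step tc141_2)
theorem tw142 : Tow.{u} l142 t142 := tow_of tc142_0 (Rng.zero.step tc142_1) (Rng.zero.step tc142_2)
theorem tw143 : Tow.{u} l143 t143 := tow_of tc143_0 (Rng.zero.step tc143_1) (Rng.zero.step tc143_2)
theorem tw144 : Tow.{u} l144 t144 := tow_of tc144_0 (Rng.zero.step tc144_1) (Rng.zero.step tc144_2)
theorem tw145 : Tow.{u} l145 t145 := tow_of tc145_0 (Rng.zero.step tc145_1) (Rng.zero.step tc145_2)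
theorem tw146 : Tow.{u} l146 t146 := tow_of tc146_0 (Rng.zero.step tc146_1) (Rng.zero.step tc146_2)
theorem tw147 : Tow.{u} l147 t147 := tow_of tc147_0 (Rng.zero.step tc147_1) (Rng.zero.step tc147_2)
theorem tw148 : Tow.{u} l148 t148 := tow_of tc148_0 (Rng.zero.step tc148_1) (Rng.zero.step tc148_2)
theorem tw149 : Tow.{u} l149 t149 := tow_of tc149_0 (Rng.zero.step tc149_1) (Rng.zero.step tc149_2)
theorem tw150 : Tow.{u} l150 t150 := tow_of tc150_0 (Rng.zero.step tc150_1) (Rng.zero.step tc150_2)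
theorem tw151 : Tow.{u} l151 t151 := tow_of tc151_0 (Rng.zero.step tc151_1) (Rng.zero.step tc151_2)
theorem tw152 : Tow.{u} l152 t152 := tow_of tc152_0 (Rng.zero.step tc152_1) (Rng.zero.step tc152_2)
theorem tw131 : Tow.{u} l131 t131 := tow_of tc131_0 (Rng.zero.step tc131_1) (Rng.zero.step tc131_2)
theorem tw153 : Tow.{u} l153 t153 := tow_of tc153_0 (Rng.zero.step tc153_1) (Rng.zero.step tc153_2)
theorem tw154 : Tow.{u} l154 t154 := tow_of tc154_0 (Rng.zero.step tc154_1) (Rng.zero.step tc154_2)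
theorem tw155 : Tow.{u} l155 t155 := tow_of tc155_0 (Rng.zero.step tc155_1) (Rng.zero.step tc155_2)
theorem tw156 : Tow.{u} l156 t156 := tow_of tc156_0 (Rng.zero.step tc156_1) (Rng.zero.step tc156_2)
theorem tw157 : Tow.{u} l157 t157 := tow_of tc157_0 (Rng.zero.step tc157_1) (Rng.zero.step tc157_2)
theorem tw158 : Tow.{u} l158 t158 := tow_of tc158_0 (Rng.zero.step tc158_1) (Rng.zero.step tc158_2)
theorem tw159 : Tow.{u} l159 t159 := tow_of tc159_0 (Rng.zero.step tc159_1) (Rng.zero.step tc159_2)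
theorem tw160 : Tow.{u} l160 t160 := tow_of tc160_0 (Rng.zero.step tc160_1) (Rng.zero.step tc160_2)
theorem tw161 : Tow.{u} l161 t161 := tow_of tc161_0 (Rng.zero.step tc161_1) (Rng.zero.step tc161_2)
theorem tw162 : Tow.{u} l162 t162 := tow_of tc162_0 (Rng.zero.step tc162_1) (Rng.zero.step tc162_2)
theorem tw163 : Tow.{u} l163 t163 := tow_of tc163_0 (Rng.zero.step tc163_1) (Rng.zero.step tc163_2)
theorem tw164 : Tow.{u} l164 t164 := tow_of tc164_0 (Rng.zero.step tc164_1) (Rng.zero.step tc164_2)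
theorem tw132 : Tow.{u} l132 t132 := tow_of tc132_0 (Rng.zero.step tc132_1) (Rng.zero.step tc132_2)
theorem tw92 : Tow.{u} l92 t92 := tow_of tc92_0 (Rng.zero.step tc92_1) (Rng.zero.step tc92_2)
theorem tw93 : Tow.{u} l93 t93 := tow_of tc93_0 (Rng.zero.step tc93_1) (Rng.zero.step tc93_2)
theorem tw94 : Tow.{u} l94 t94 := tow_of tc94_0 (Rng.zero.step tc94_1) (Rng.zero.step tc94_2)
theorem tw95 : Tow.{u} l95 t95 := tow_of tc95_0 (Rng.zero.step tc95_1) (Rng.zero.step tc95_2)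
theorem tw96 : Tow.{u} l96 t96 := tow_of tc96_0 (Rng.zero.step tc96_1) (Rng.zero.step tc96_2)
theorem tw3 : Tow.{u} l3 t3 := tow_of tc3_0 (Rng.zero.step tc3_1) (Rng.zero.step tc3_2)
theorem tw85 : Tow.{u} l85 t85 := tow_of tc85_0 (Rng.zero.step tc85_1) (Rng.zero.step tc85_2)
theorem tw86 : Tow.{u} l86 t86 := tow_of tc86_0 (Rng.zero.step tc86_1) (Rng.zero.step tc86_2)
theorem tw4 : Tow.{u} l4 t4 := tow_of tc4_0 (Rng.zero.step tc4_1) (Rng.zero.step tc4_2)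
theorem tw0 : Tow.{u} [] t0 := tow_of tc0_0 (Rng.zero.step tc0_1) (Rng.zero.step tc0_2)
theorem x79 : AuxS.{u} (cM2r 1 2) s79 0 a79 := aux_base3 tw34 rfl b79
theorem x79_1 : AuxS.{u} (cM2r 1 2) s79 0 a79_1 := (AuxS.up x79 c79_9 :)
theorem x79_2 : AuxS.{u} (cM2r 1 2) s79 0 a79_2 := (AuxS.up x79_1 c79_10 :)
theorem x79_3 : AuxS.{u} (cM2r 1 2) s79 0 a79_3 := (AuxS.up x79_2 c79_11 :)
theorem x79_L1_1 : AuxS.{u} (cM2r 1 2) s79 (1 + 2) a79_L1_1 := (AuxS.hp (x79_3.lam 1) c79_2 :)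
theorem x79_L513_1 : AuxS.{u} (cM2r 1 2) s79 (513 + 2) a79_L513_1 := (AuxS.hp (x79_3.lam 513) c79_5 :)
theorem n79 : Sound.{u} (cM2r 1 2) s79 0 :=
  (x79_3.spl c79_0 (AllM.cons ((x79_3.lam 0).tp c79_1 :) (AllM.cons (x79_L1_1.tp c79_3 :) (AllM.cons ((x79_3.lam 5).e8 c79_4 :) (AllM.cons (x79_L513_1.tp c79_6 :) (AllM.cons ((x79_3.lam 517).e8 c79_7 :) AllM.nil))))) ((x79_3.weaken 1).ext2 (fun _ => rfl) GamS.nil AllS.nil c79_8 (Phs.fin (ct := ct79_8) rfl) (Phs.fin (ct := ct79_8) rfl)) :)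
theorem x80 : AuxS.{u} (cM2r 1 2) s80 0 a80 := aux_base3 tw35 rfl b80
theorem x80_1 : AuxS.{u} (cM2r 1 2) s80 0 a80_1 := (AuxS.up x80 c80_9 :)
theorem x80_2 : AuxS.{u} (cM2r 1 2) s80 0 a80_2 := (AuxS.up x80_1 c80_10 :)
theorem x80_3 : AuxS.{u} (cM2r 1 2) s80 0 a80_3 := (AuxS.up2 x80_2 c80_11 :)
theorem x80_L1_1 : AuxS.{u} (cM2r 1 2) s80 (1 + 2) a80_L1_1 := (AuxS.hp (x80_3.lam 1) c80_2 :)
theorem x80_L513_1 : AuxS.{u} (cM2r 1 2) s80 (513 + 2) a80_L513_1 := (AuxS.hp (x80_3.lam 513) c80_5 :)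
theorem n80 : Sound.{u} (cM2r 1 2) s80 0 :=
  (x80_3.spl c80_0 (AllM.cons ((x80_3.lam 0).tp c80_1 :) (AllM.cons (x80_L1_1.tp c80_3 :) (AllM.cons ((x80_3.lam 5).e8 c80_4 :) (AllM.cons (x80_L513_1.tp c80_6 :) (AllM.cons ((x80_3.lam 517).e8 c80_7 :) AllM.nil))))) ((x80_3.weaken 1).ext2 (fun _ => rfl) GamS.nil AllS.nil c80_8 (Phs.fin (ct := ct80_8) rfl) (Phs.fin (ct := ct80_8) rfl)) :)
theorem x81 : AuxS.{u} (cM2r 1 2) s81 0 a81 := aux_base3 tw36 rfl b81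
theorem x81_1 : AuxS.{u} (cM2r 1 2) s81 0 a81_1 := (AuxS.up x81 c81_9 :)
theorem x81_2 : AuxS.{u} (cM2r 1 2) s81 0 a81_2 := (AuxS.up x81_1 c81_10 :)
theorem x81_3 : AuxS.{u} (cM2r 1 2) s81 0 a81_3 := (AuxS.up2 x81_2 c81_11 :)
theorem x81_L1_1 : AuxS.{u} (cM2r 1 2) s81 (1 + 2) a81_L1_1 := (AuxS.hp (x81_3.lam 1) c81_2 :)
theorem x81_L513_1 : AuxS.{u} (cM2r 1 2) s81 (513 + 2) a81_L513_1 := (AuxS.hp (x81_3.lam 513) c81_5 :)
theorem n81 : Sound.{u} (cM2r 1 2) s81 0 :=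
  (x81_3.spl c81_0 (AllM.cons ((x81_3.lam 0).tp c81_1 :) (AllM.cons (x81_L1_1.tp c81_3 :) (AllM.cons ((x81_3.lam 5).e8 c81_4 :) (AllM.cons (x81_L513_1.tp c81_6 :) (AllM.cons ((x81_3.lam 517).e8 c81_7 :) AllM.nil))))) ((x81_3.weaken 1).ext2 (fun _ => rfl) GamS.nil AllS.nil c81_8 (Phs.fin (ct := ct81_8) rfl) (Phs.fin (ct := ct81_8) rfl)) :)
theorem x82 : AuxS.{u} (cM2r 1 2) s82 0 a82 := aux_base3 tw37 rfl b82
theorem x82_1 : AuxS.{u} (cM2r 1 2) s82 0 a82_1 := (AuxS.up x82 c82_9 :)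
theorem x82_2 : AuxS.{u} (cM2r 1 2) s82 0 a82_2 := (AuxS.up x82_1 c82_10 :)
theorem x82_3 : AuxS.{u} (cM2r 1 2) s82 0 a82_3 := (AuxS.up x82_2 c82_11 :)
theorem x82_L1_1 : AuxS.{u} (cM2r 1 2) s82 (1 + 2) a82_L1_1 := (AuxS.hp (x82_3.lam 1) c82_2 :)
theorem x82_L513_1 : AuxS.{u} (cM2r 1 2) s82 (513 + 2) a82_L513_1 := (AuxS.hp (x82_3.lam 513) c82_5 :)
theorem n82 : Sound.{u} (cM2r 1 2) s82 0 :=
  (x82_3.spl c82_0 (AllM.cons ((x82_3.lam 0).tp c82_1 :) (AllM.cons (x82_L1_1.tp c82_3 :) (AllM.cons ((x82_3.lam 5).e8 c82_4 :) (AllM.cons (x82_L513_1.tp c82_6 :) (AllM.cons ((x82_3.lam 517).e8 c82_7 :) AllM.nil))))) ((x82_3.weaken 1).ext2 (fun _ => rfl) GamS.nil AllS.nil c82_8 (Phs.fin (ct := ct82_8) rfl) (Phs.fin (ct := ct82_8) rfl)) :)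
theorem x83 : AuxS.{u} (cM2r 1 2) s83 0 a83 := aux_base3 tw38 rfl b83
theorem x83_1 : AuxS.{u} (cM2r 1 2) s83 0 a83_1 := (AuxS.up x83 c83_9 :)
theorem x83_2 : AuxS.{u} (cM2r 1 2) s83 0 a83_2 := (AuxS.up2 x83_1 c83_10 :)
theorem x83_3 : AuxS.{u} (cM2r 1 2) s83 0 a83_3 := (AuxS.up2 x83_2 c83_11 :)
theorem x83_L1_1 : AuxS.{u} (cM2r 1 2) s83 (1 + 2) a83_L1_1 := (AuxS.hp (x83_3.lam 1) c83_2 :)
theorem x83_L513_1 : AuxS.{u} (cM2r 1 2) s83 (513 + 2) a83_L513_1 := (AuxS.hp (x83_3.lam 513) c83_5 :)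
theorem n83 : Sound.{u} (cM2r 1 2) s83 0 :=
  (x83_3.spl c83_0 (AllM.cons ((x83_3.lam 0).tp c83_1 :) (AllM.cons (x83_L1_1.tp c83_3 :) (AllM.cons ((x83_3.lam 5).e8 c83_4 :) (AllM.cons (x83_L513_1.tp c83_6 :) (AllM.cons ((x83_3.lam 517).e8 c83_7 :) AllM.nil))))) ((x83_3.weaken 1).ext2 (fun _ => rfl) GamS.nil AllS.nil c83_8 (Phs.fin (ct := ct83_8) rfl) (Phs.fin (ct := ct83_8) rfl)) :)
theorem x84 : AuxS.{u} (cM2r 1 2) s84 0 a84 := aux_base3 tw39 rfl b84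
theorem x84_1 : AuxS.{u} (cM2r 1 2) s84 0 a84_1 := (AuxS.up x84 c84_9 :)
theorem x84_L1_1 : AuxS.{u} (cM2r 1 2) s84 (1 + 2) a84_L1_1 := (AuxS.hp (x84_1.lam 1) c84_2 :)
theorem x84_L513_1 : AuxS.{u} (cM2r 1 2) s84 (513 + 2) a84_L513_1 := (AuxS.hp (x84_1.lam 513) c84_5 :)
theorem n84 : Sound.{u} (cM2r 1 2) s84 0 :=
  (x84_1.spl c84_0 (AllM.cons ((x84_1.lam 0).tp c84_1 :) (AllM.cons (x84_L1_1.tp c84_3 :) (AllM.cons ((x84_1.lam 5).e8 c84_4 :) (AllM.cons (x84_L513_1.tp c84_6 :) (AllM.cons ((x84_1.lam 517).e8 c84_7 :) AllM.nil))))) ((x84_1.weaken 1).ext2 (fun _ => rfl) GamS.nil AllS.nil c84_8 (Phs.fin (ct := ct84_8) rfl) (Phs.fin (ct := ct84_8) rfl)) :)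
theorem x85 : AuxS.{u} (cM2r 1 2) s85 0 a85 := aux_base3 tw40 rfl b85
theorem x85_1 : AuxS.{u} (cM2r 1 2) s85 0 a85_1 := (AuxS.up x85 c85_9 :)
theorem x85_2 : AuxS.{u} (cM2r 1 2) s85 0 a85_2 := (AuxS.up x85_1 c85_10 :)
theorem x85_3 : AuxS.{u} (cM2r 1 2) s85 0 a85_3 := (AuxS.up2 x85_2 c85_11 :)
theorem x85_L1_1 : AuxS.{u} (cM2r 1 2) s85 (1 + 2) a85_L1_1 := (AuxS.hp (x85_3.lam 1) c85_2 :)
theorem x85_L513_1 : AuxS.{u} (cM2r 1 2) s85 (513 + 2) a85_L513_1 := (AuxS.hp (x85_3.lam 513) c85_5 :)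
theorem n85 : Sound.{u} (cM2r 1 2) s85 0 :=
  (x85_3.spl c85_0 (AllM.cons ((x85_3.lam 0).tp c85_1 :) (AllM.cons (x85_L1_1.tp c85_3 :) (AllM.cons ((x85_3.lam 5).e8 c85_4 :) (AllM.cons (x85_L513_1.tp c85_6 :) (AllM.cons ((x85_3.lam 517).e8 c85_7 :) AllM.nil))))) ((x85_3.weaken 1).ext2 (fun _ => rfl) GamS.nil AllS.nil c85_8 (Phs.fin (ct := ct85_8) rfl) (Phs.fin (ct := ct85_8) rfl)) :)
theorem x86 : AuxS.{u} (cM2r 1 2) s86 0 a86 := aux_base3 tw41 rfl b86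
theorem x86_1 : AuxS.{u} (cM2r 1 2) s86 0 a86_1 := (AuxS.up x86 c86_9 :)
theorem x86_2 : AuxS.{u} (cM2r 1 2) s86 0 a86_2 := (AuxS.up x86_1 c86_10 :)
theorem x86_3 : AuxS.{u} (cM2r 1 2) s86 0 a86_3 := (AuxS.up2 x86_2 c86_11 :)
theorem x86_L1_1 : AuxS.{u} (cM2r 1 2) s86 (1 + 2) a86_L1_1 := (AuxS.hp (x86_3.lam 1) c86_2 :)
theorem x86_L513_1 : AuxS.{u} (cM2r 1 2) s86 (513 + 2) a86_L513_1 := (AuxS.hp (x86_3.lam 513) c86_5 :)
theorem n86 : Sound.{u} (cM2r 1 2) s86 0 :=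
  (x86_3.spl c86_0 (AllM.cons ((x86_3.lam 0).tp c86_1 :) (AllM.cons (x86_L1_1.tp c86_3 :) (AllM.cons ((x86_3.lam 5).e8 c86_4 :) (AllM.cons (x86_L513_1.tp c86_6 :) (AllM.cons ((x86_3.lam 517).e8 c86_7 :) AllM.nil))))) ((x86_3.weaken 1).ext2 (fun _ => rfl) GamS.nil AllS.nil c86_8 (Phs.fin (ct := ct86_8) rfl) (Phs.fin (ct := ct86_8) rfl)) :)
theorem x47 : AuxS.{u} (cM2r 1 2) s47 0 a47 := aux_base3 tw33 rfl b47
theorem x47_1 : AuxS.{u} (cM2r 1 2) s47 0 a47_1 := (AuxS.up x47 c47_7 :)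
theorem x47_2 : AuxS.{u} (cM2r 1 2) s47 0 a47_2 := (AuxS.up x47_1 c47_8 :)
theorem x47_3p : AuxS.{u} (cM2r 1 2) s47 0 a47_3p := (AuxS.up x47_2 c47_9 :)
theorem x47_3 : AuxS.{u} (cM2r 1 2) s47 0 a47_3 := (AuxS.up2 x47_3p c47_10 :)
theorem p47_1_1 : Phs s47 a47_3 [] [s79, s80, s81, s82, s83, s84, s85, s86] ct47_1 v47_1 5 w47_1_1 := (Phs.fin c47_1)
theorem p47_1_3 : Phs s47 a47_3 [] [s79, s80, s81, s82, s83, s84, s85, s86] ct47_1 v47_1 4 w47_1_3 := (Phs.stp c47_2 p47_1_1)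
theorem p47_1_5 : Phs s47 a47_3 [] [s79, s80, s81, s82, s83, s84, s85, s86] ct47_1 v47_1 2 w47_1_5 := (Phs.stp c47_3 p47_1_3)
theorem p47_1_7 : Phs s47 a47_3 [] [s79, s80, s81, s82, s83, s84, s85, s86] ct47_1 v47_1 1 w47_1_7 := (Phs.stp c47_4 p47_1_5)
theorem n47 : Sound.{u} (cM2r 1 2) s47 0 :=
  (x47_3.par c47_0 ((x47_3.weaken 1).ext2 (fun _ => rfl) GamS.nil (AllS.cons n79 (AllS.cons n80 (AllS.cons n81 (AllS.cons n82 (AllS.cons n83 (AllS.cons n84 (AllS.cons n85 (AllS.cons n86 AllS.nil)))))))) c47_6 (Phs.stp c47_5 p47_1_7) (Phs.fin (ct := ct47_1) rfl)) :)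
theorem x48 : AuxS.{u} (cM2r 1 2) s48 0 a48 := aux_base3 tw33 rfl b48
theorem n48 : Sound.{u} (cM2r 1 2) s48 0 :=
  (x48.k4 c48_0 :)
theorem x49 : AuxS.{u} (cM2r 1 2) s49 0 a49 := aux_base3 tw33 rfl b49
theorem n49 : Sound.{u} (cM2r 1 2) s49 0 :=
  (x49.k4 c49_0 :)
theorem x50 : AuxS.{u} (cM2r 1 2) s50 0 a50 := aux_base3 tw33 rfl b50
theorem n50 : Sound.{u} (cM2r 1 2) s50 0 :=
  (x50.k4 c50_0 :)
theorem x51 : AuxS.{u} (cM2r 1 2) s51 0 a51 := aux_base3 tw33 rfl b51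
theorem n51 : Sound.{u} (cM2r 1 2) s51 0 :=
  (x51.k4 c51_0 :)
theorem x52 : AuxS.{u} (cM2r 1 2) s52 0 a52 := aux_base3 tw33 rfl b52
theorem n52 : Sound.{u} (cM2r 1 2) s52 0 :=
  (x52.k4 c52_0 :)
theorem x53 : AuxS.{u} (cM2r 1 2) s53 0 a53 := aux_base3 tw33 rfl b53
theorem n53 : Sound.{u} (cM2r 1 2) s53 0 :=
  (x53.k4 c53_0 :)
theorem x54 : AuxS.{u} (cM2r 1 2) s54 0 a54 := aux_base3 tw33 rfl b54
theorem n54 : Sound.{u} (cM2r 1 2) s54 0 :=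
  (x54.k4 c54_0 :)
theorem x55 : AuxS.{u} (cM2r 1 2) s55 0 a55 := aux_base3 tw33 rfl b55
theorem n55 : Sound.{u} (cM2r 1 2) s55 0 :=
  (x55.k4 c55_0 :)
theorem x56 : AuxS.{u} (cM2r 1 2) s56 0 a56 := aux_base3 tw33 rfl b56
theorem n56 : Sound.{u} (cM2r 1 2) s56 0 :=
  (x56.k4 c56_0 :)
theorem x57 : AuxS.{u} (cM2r 1 2) s57 0 a57 := aux_base3 tw33 rfl b57
theorem n57 : Sound.{u} (cM2r 1 2) s57 0 :=
  (x57.k4 c57_0 :)
theorem x58 : AuxS.{u} (cM2r 1 2) s58 0 a58 := aux_base3 tw33 rfl b58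
theorem n58 : Sound.{u} (cM2r 1 2) s58 0 :=
  (x58.k4 c58_0 :)
theorem x59 : AuxS.{u} (cM2r 1 2) s59 0 a59 := aux_base3 tw33 rfl b59
theorem n59 : Sound.{u} (cM2r 1 2) s59 0 :=
  (x59.k4 c59_0 :)
theorem x60 : AuxS.{u} (cM2r 1 2) s60 0 a60 := aux_base3 tw33 rfl b60
theorem x60_1 : AuxS.{u} (cM2r 1 2) s60 0 a60_1 := x60
theorem x60_2 : AuxS.{u} (cM2r 1 2) s60 0 a60_2 := x60_1
theorem x60_3 : AuxS.{u} (cM2r 1 2) s60 0 a60_3 := x60_2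
theorem n60 : Sound.{u} (cM2r 1 2) s60 0 :=
  (x60_3.jump c60_0 c60_1 n47 :)
theorem x61 : AuxS.{u} (cM2r 1 2) s61 0 a61 := aux_base3 tw33 rfl b61
theorem n61 : Sound.{u} (cM2r 1 2) s61 0 :=
  (x61.k4 c61_0 :)
theorem x62 : AuxS.{u} (cM2r 1 2) s62 0 a62 := aux_base3 tw33 rfl b62
theorem n62 : Sound.{u} (cM2r 1 2) s62 0 :=
  (x62.k4 c62_0 :)
theorem x63 : AuxS.{u} (cM2r 1 2) s63 0 a63 := aux_base3 tw33 rfl b63
theorem x63_1 : AuxS.{u} (cM2r 1 2) s63 0 a63_1 := x63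
theorem x63_2 : AuxS.{u} (cM2r 1 2) s63 0 a63_2 := x63_1
theorem x63_3 : AuxS.{u} (cM2r 1 2) s63 0 a63_3 := x63_2
theorem n63 : Sound.{u} (cM2r 1 2) s63 0 :=
  (x63_3.jump c63_0 c63_1 n47 :)
theorem x64 : AuxS.{u} (cM2r 1 2) s64 0 a64 := aux_base3 tw33 rfl b64
theorem n64 : Sound.{u} (cM2r 1 2) s64 0 :=
  (x64.k4 c64_0 :)
theorem x65 : AuxS.{u} (cM2r 1 2) s65 0 a65 := aux_base3 tw33 rfl b65
theorem n65 : Sound.{u} (cM2r 1 2) s65 0 :=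
  (x65.k4 c65_0 :)
theorem x66 : AuxS.{u} (cM2r 1 2) s66 0 a66 := aux_base3 tw33 rfl b66
theorem n66 : Sound.{u} (cM2r 1 2) s66 0 :=
  (x66.k4 c66_0 :)
theorem x67 : AuxS.{u} (cM2r 1 2) s67 0 a67 := aux_base3 tw33 rfl b67
theorem n67 : Sound.{u} (cM2r 1 2) s67 0 :=
  (x67.k4 c67_0 :)
theorem x68 : AuxS.{u} (cM2r 1 2) s68 0 a68 := aux_base3 tw33 rfl b68
theorem n68 : Sound.{u} (cM2r 1 2) s68 0 :=
  (x68.k4 c68_0 :)
theorem x69 : AuxS.{u} (cM2r 1 2) s69 0 a69 := aux_base3 tw33 rfl b69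
theorem n69 : Sound.{u} (cM2r 1 2) s69 0 :=
  (x69.k4 c69_0 :)
theorem x70 : AuxS.{u} (cM2r 1 2) s70 0 a70 := aux_base3 tw33 rfl b70
theorem n70 : Sound.{u} (cM2r 1 2) s70 0 :=
  (x70.k4 c70_0 :)
theorem x71 : AuxS.{u} (cM2r 1 2) s71 0 a71 := aux_base3 tw33 rfl b71
theorem n71 : Sound.{u} (cM2r 1 2) s71 0 :=
  (x71.k4 c71_0 :)
theorem x72 : AuxS.{u} (cM2r 1 2) s72 0 a72 := aux_base3 tw33 rfl b72
theorem n72 : Sound.{u} (cM2r 1 2) s72 0 :=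
  (x72.k4 c72_0 :)
theorem x73 : AuxS.{u} (cM2r 1 2) s73 0 a73 := aux_base3 tw33 rfl b73
theorem n73 : Sound.{u} (cM2r 1 2) s73 0 :=
  (x73.k4 c73_0 :)
theorem x74 : AuxS.{u} (cM2r 1 2) s74 0 a74 := aux_base3 tw33 rfl b74
theorem n74 : Sound.{u} (cM2r 1 2) s74 0 :=
  (x74.k4 c74_0 :)
theorem x75 : AuxS.{u} (cM2r 1 2) s75 0 a75 := aux_base3 tw33 rfl b75
theorem n75 : Sound.{u} (cM2r 1 2) s75 0 :=
  (x75.k4 c75_0 :)
theorem x76 : AuxS.{u} (cM2r 1 2) s76 0 a76 := aux_base3 tw33 rfl b76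
theorem x76_1 : AuxS.{u} (cM2r 1 2) s76 0 a76_1 := x76
theorem x76_2 : AuxS.{u} (cM2r 1 2) s76 0 a76_2 := x76_1
theorem x76_3 : AuxS.{u} (cM2r 1 2) s76 0 a76_3 := x76_2
theorem n76 : Sound.{u} (cM2r 1 2) s76 0 :=
  (x76_3.jump c76_0 c76_1 n47 :)
theorem x77 : AuxS.{u} (cM2r 1 2) s77 0 a77 := aux_base3 tw33 rfl b77
theorem n77 : Sound.{u} (cM2r 1 2) s77 0 :=
  (x77.k4 c77_0 :)
theorem x78 : AuxS.{u} (cM2r 1 2) s78 0 a78 := aux_base3 tw33 rfl b78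
theorem n78 : Sound.{u} (cM2r 1 2) s78 0 :=
  (x78.k4 c78_0 :)
theorem x43 : AuxS.{u} (cM2r 1 2) s43 0 a43 := aux_base3 tw33 rfl b43
theorem x43_1 : AuxS.{u} (cM2r 1 2) s43 0 a43_1 := x43
theorem x43_2 : AuxS.{u} (cM2r 1 2) s43 0 a43_2 := x43_1
theorem x43_3 : AuxS.{u} (cM2r 1 2) s43 0 a43_3 := x43_2
theorem n43 : Sound.{u} (cM2r 1 2) s43 0 :=
  (x43_3.fr GamS.nil (AllS.cons n47 (AllS.cons n48 (AllS.cons n49 (AllS.cons n50 (AllS.cons n51 (AllS.cons n52 (AllS.cons n53 (AllS.cons n54 (AllS.cons n55 (AllS.cons n56 (AllS.cons n57 (AllS.cons n58 (AllS.cons n59 (AllS.cons n60 (AllS.cons n61 (AllS.cons n62 (AllS.cons n63 (AllS.cons n64 (AllS.cons n65 (AllS.cons n66 (AllS.cons n67 (AllS.cons n68 (AllS.cons n69 (AllS.cons n70 (AllS.cons n71 (AllS.cons n72 (AllS.cons n73 (AllS.cons n74 (AllS.cons n75 (AllS.cons n76 (AllS.cons n77 (AllS.cons n78 AllS.nil))))))))))))))))))))))))))))))))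 c43_0 :)
theorem x119 : AuxS.{u} (cM2r 1 2) s119 0 a119 := aux_base3 tw42 rfl b119
theorem x119_1 : AuxS.{u} (cM2r 1 2) s119 0 a119_1 := (AuxS.up x119 c119_1 :)
theorem x119_2 : AuxS.{u} (cM2r 1 2) s119 0 a119_2 := x119_1
theorem n119 : Sound.{u} (cM2r 1 2) s119 0 :=
  (x119_2.k7 c119_0 :)
theorem x120 : AuxS.{u} (cM2r 1 2) s120 0 a120 := aux_base3 tw43 rfl b120
theorem x120_1 : AuxS.{u} (cM2r 1 2) s120 0 a120_1 := (AuxS.up x120 c120_1 :)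
theorem x120_2 : AuxS.{u} (cM2r 1 2) s120 0 a120_2 := x120_1
theorem n120 : Sound.{u} (cM2r 1 2) s120 0 :=
  (x120_2.k7 c120_0 :)
theorem x121 : AuxS.{u} (cM2r 1 2) s121 0 a121 := aux_base3 tw44 rfl b121
theorem x121_1 : AuxS.{u} (cM2r 1 2) s121 0 a121_1 := (AuxS.up x121 c121_1 :)
theorem x121_2 : AuxS.{u} (cM2r 1 2) s121 0 a121_2 := x121_1
theorem n121 : Sound.{u} (cM2r 1 2) s121 0 :=
  (x121_2.k7 c121_0 :)
theorem x122 : AuxS.{u} (cM2r 1 2) s122 0 a122 := aux_base3 tw45 rfl b122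
theorem x122_1 : AuxS.{u} (cM2r 1 2) s122 0 a122_1 := (AuxS.up x122 c122_1 :)
theorem x122_2 : AuxS.{u} (cM2r 1 2) s122 0 a122_2 := x122_1
theorem n122 : Sound.{u} (cM2r 1 2) s122 0 :=
  (x122_2.k7 c122_0 :)
theorem x123 : AuxS.{u} (cM2r 1 2) s123 0 a123 := aux_base3 tw46 rfl b123
theorem x123_1 : AuxS.{u} (cM2r 1 2) s123 0 a123_1 := (AuxS.up x123 c123_1 :)
theorem n123 : Sound.{u} (cM2r 1 2) s123 0 :=
  (x123_1.k1 c123_0 :)
theorem x124 : AuxS.{u} (cM2r 1 2) s124 0 a124 := aux_base3 tw47 rfl b124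
theorem x124_1 : AuxS.{u} (cM2r 1 2) s124 0 a124_1 := (AuxS.up x124 c124_1 :)
theorem n124 : Sound.{u} (cM2r 1 2) s124 0 :=
  (x124_1.k7 c124_0 :)
theorem x125 : AuxS.{u} (cM2r 1 2) s125 0 a125 := aux_base3 tw48 rfl b125
theorem x125_1 : AuxS.{u} (cM2r 1 2) s125 0 a125_1 := (AuxS.up x125 c125_1 :)
theorem x125_2 : AuxS.{u} (cM2r 1 2) s125 0 a125_2 := x125_1
theorem n125 : Sound.{u} (cM2r 1 2) s125 0 :=
  (x125_2.k1 c125_0 :)
theorem x126 : AuxS.{u} (cM2r 1 2) s126 0 a126 := aux_base3 tw49 rfl b126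
theorem x126_1 : AuxS.{u} (cM2r 1 2) s126 0 a126_1 := (AuxS.up x126 c126_1 :)
theorem x126_2 : AuxS.{u} (cM2r 1 2) s126 0 a126_2 := x126_1
theorem n126 : Sound.{u} (cM2r 1 2) s126 0 :=
  (x126_2.k7 c126_0 :)
theorem x87 : AuxS.{u} (cM2r 1 2) s87 0 a87 := aux_base3 tw33 rfl b87
theorem x87_1 : AuxS.{u} (cM2r 1 2) s87 0 a87_1 := (AuxS.up x87 c87_13 :)
theorem x87_2 : AuxS.{u} (cM2r 1 2) s87 0 a87_2 := (AuxS.up x87_1 c87_14 :)
theorem x87_3 : AuxS.{u} (cM2r 1 2) s87 0 a87_3 := (AuxS.up2 x87_2 c87_15 :)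
theorem x87_L257_1 : AuxS.{u} (cM2r 1 2) s87 (257 + 2) a87_L257_1 := (AuxS.hp (x87_3.lam 257) c87_4 :)
theorem p87_7_1 : Phs s87 a87_3 [] [s119, s120, s121, s122, s123, s124, s125, s126] ct87_7 v87_7 5 w87_7_1 := (Phs.fin c87_7)
theorem p87_7_3 : Phs s87 a87_3 [] [s119, s120, s121, s122, s123, s124, s125, s126] ct87_7 v87_7 4 w87_7_3 := (Phs.stp c87_8 p87_7_1)
theorem p87_7_5 : Phs s87 a87_3 [] [s119, s120, s121, s122, s123, s124, s125, s126] ct87_7 v87_7 2 w87_7_5 := (Phs.stp c87_9 p87_7_3)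
theorem p87_7_7 : Phs s87 a87_3 [] [s119, s120, s121, s122, s123, s124, s125, s126] ct87_7 v87_7 1 w87_7_7 := (Phs.stp c87_10 p87_7_5)
theorem n87 : Sound.{u} (cM2r 1 2) s87 0 :=
  (x87_3.spl c87_0 (AllM.cons ((x87_3.lam 0).tp c87_1 :) (AllM.cons ((x87_3.lam 1).tp c87_2 :) (AllM.cons ((x87_3.lam 5).e8 c87_3 :) (AllM.cons (x87_L257_1.tp c87_5 :) (AllM.cons ((x87_3.lam 261).e8 c87_6 :) AllM.nil))))) ((x87_3.weaken 1).ext2 (fun _ => rfl) GamS.nil (AllS.cons n119 (AllS.cons n120 (AllS.cons n121 (AllS.cons n122 (AllS.cons n123 (AllS.cons n124 (AllS.cons n125 (AllS.cons n126 AllS.nil)))))))) c87_12 (Phs.stp c87_11 p87_7_7) (Phs.fin (ct := ct87_7) rfl)) :)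
theorem x88 : AuxS.{u} (cM2r 1 2) s88 0 a88 := aux_base3 tw33 rfl b88
theorem n88 : Sound.{u} (cM2r 1 2) s88 0 :=
  (x88.k4 c88_0 :)
theorem x89 : AuxS.{u} (cM2r 1 2) s89 0 a89 := aux_base3 tw33 rfl b89
theorem n89 : Sound.{u} (cM2r 1 2) s89 0 :=
  (x89.k4 c89_0 :)
theorem x90 : AuxS.{u} (cM2r 1 2) s90 0 a90 := aux_base3 tw33 rfl b90
theorem n90 : Sound.{u} (cM2r 1 2) s90 0 :=
  (x90.k4 c90_0 :)
theorem x91 : AuxS.{u} (cM2r 1 2) s91 0 a91 := aux_base3 tw33 rfl b91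
theorem n91 : Sound.{u} (cM2r 1 2) s91 0 :=
  (x91.k4 c91_0 :)
theorem x92 : AuxS.{u} (cM2r 1 2) s92 0 a92 := aux_base3 tw33 rfl b92
theorem n92 : Sound.{u} (cM2r 1 2) s92 0 :=
  (x92.k4 c92_0 :)
theorem x93 : AuxS.{u} (cM2r 1 2) s93 0 a93 := aux_base3 tw33 rfl b93
theorem n93 : Sound.{u} (cM2r 1 2) s93 0 :=
  (x93.k4 c93_0 :)
theorem x94 : AuxS.{u} (cM2r 1 2) s94 0 a94 := aux_base3 tw33 rfl b94
theorem n94 : Sound.{u} (cM2r 1 2) s94 0 :=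
  (x94.k4 c94_0 :)
theorem x95 : AuxS.{u} (cM2r 1 2) s95 0 a95 := aux_base3 tw33 rfl b95
theorem n95 : Sound.{u} (cM2r 1 2) s95 0 :=
  (x95.k4 c95_0 :)
theorem x96 : AuxS.{u} (cM2r 1 2) s96 0 a96 := aux_base3 tw33 rfl b96
theorem n96 : Sound.{u} (cM2r 1 2) s96 0 :=
  (x96.k4 c96_0 :)
theorem x97 : AuxS.{u} (cM2r 1 2) s97 0 a97 := aux_base3 tw33 rfl b97
theorem n97 : Sound.{u} (cM2r 1 2) s97 0 :=
  (x97.k4 c97_0 :)
theorem x98 : AuxS.{u} (cM2r 1 2) s98 0 a98 := aux_base3 tw33 rfl b98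
theorem n98 : Sound.{u} (cM2r 1 2) s98 0 :=
  (x98.k4 c98_0 :)
theorem x99 : AuxS.{u} (cM2r 1 2) s99 0 a99 := aux_base3 tw33 rfl b99
theorem n99 : Sound.{u} (cM2r 1 2) s99 0 :=
  (x99.k4 c99_0 :)
theorem x100 : AuxS.{u} (cM2r 1 2) s100 0 a100 := aux_base3 tw33 rfl b100
theorem x100_1 : AuxS.{u} (cM2r 1 2) s100 0 a100_1 := x100
theorem x100_2 : AuxS.{u} (cM2r 1 2) s100 0 a100_2 := x100_1
theorem x100_3 : AuxS.{u} (cM2r 1 2) s100 0 a100_3 := x100_2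
theorem n100 : Sound.{u} (cM2r 1 2) s100 0 :=
  (x100_3.jump c100_0 c100_1 n87 :)
theorem x101 : AuxS.{u} (cM2r 1 2) s101 0 a101 := aux_base3 tw33 rfl b101
theorem n101 : Sound.{u} (cM2r 1 2) s101 0 :=
  (x101.k4 c101_0 :)
theorem x102 : AuxS.{u} (cM2r 1 2) s102 0 a102 := aux_base3 tw33 rfl b102
theorem n102 : Sound.{u} (cM2r 1 2) s102 0 :=
  (x102.k4 c102_0 :)
theorem x103 : AuxS.{u} (cM2r 1 2) s103 0 a103 := aux_base3 tw33 rfl b103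
theorem x103_1 : AuxS.{u} (cM2r 1 2) s103 0 a103_1 := x103
theorem x103_2 : AuxS.{u} (cM2r 1 2) s103 0 a103_2 := x103_1
theorem x103_3 : AuxS.{u} (cM2r 1 2) s103 0 a103_3 := x103_2
theorem n103 : Sound.{u} (cM2r 1 2) s103 0 :=
  (x103_3.jump c103_0 c103_1 n87 :)
theorem x104 : AuxS.{u} (cM2r 1 2) s104 0 a104 := aux_base3 tw33 rfl b104
theorem n104 : Sound.{u} (cM2r 1 2) s104 0 :=
  (x104.k4 c104_0 :)
theorem x105 : AuxS.{u} (cM2r 1 2) s105 0 a105 := aux_base3 tw33 rfl b105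
theorem n105 : Sound.{u} (cM2r 1 2) s105 0 :=
  (x105.k4 c105_0 :)
theorem x106 : AuxS.{u} (cM2r 1 2) s106 0 a106 := aux_base3 tw33 rfl b106
theorem n106 : Sound.{u} (cM2r 1 2) s106 0 :=
  (x106.k4 c106_0 :)
theorem x107 : AuxS.{u} (cM2r 1 2) s107 0 a107 := aux_base3 tw33 rfl b107
theorem n107 : Sound.{u} (cM2r 1 2) s107 0 :=
  (x107.k4 c107_0 :)
theorem x108 : AuxS.{u} (cM2r 1 2) s108 0 a108 := aux_base3 tw33 rfl b108
theorem n108 : Sound.{u} (cM2r 1 2) s108 0 :=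
  (x108.k4 c108_0 :)
theorem x109 : AuxS.{u} (cM2r 1 2) s109 0 a109 := aux_base3 tw33 rfl b109
theorem n109 : Sound.{u} (cM2r 1 2) s109 0 :=
  (x109.k4 c109_0 :)
theorem x110 : AuxS.{u} (cM2r 1 2) s110 0 a110 := aux_base3 tw33 rfl b110
theorem n110 : Sound.{u} (cM2r 1 2) s110 0 :=
  (x110.k4 c110_0 :)
theorem x111 : AuxS.{u} (cM2r 1 2) s111 0 a111 := aux_base3 tw33 rfl b111
theorem n111 : Sound.{u} (cM2r 1 2) s111 0 :=
  (x111.k4 c111_0 :)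
theorem x112 : AuxS.{u} (cM2r 1 2) s112 0 a112 := aux_base3 tw33 rfl b112
theorem n112 : Sound.{u} (cM2r 1 2) s112 0 :=
  (x112.k4 c112_0 :)
theorem x113 : AuxS.{u} (cM2r 1 2) s113 0 a113 := aux_base3 tw33 rfl b113
theorem n113 : Sound.{u} (cM2r 1 2) s113 0 :=
  (x113.k4 c113_0 :)
theorem x114 : AuxS.{u} (cM2r 1 2) s114 0 a114 := aux_base3 tw33 rfl b114
theorem n114 : Sound.{u} (cM2r 1 2) s114 0 :=
  (x114.k4 c114_0 :)
theorem x115 : AuxS.{u} (cM2r 1 2) s115 0 a115 := aux_base3 tw33 rfl b115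
theorem n115 : Sound.{u} (cM2r 1 2) s115 0 :=
  (x115.k4 c115_0 :)
theorem x116 : AuxS.{u} (cM2r 1 2) s116 0 a116 := aux_base3 tw33 rfl b116
theorem x116_1 : AuxS.{u} (cM2r 1 2) s116 0 a116_1 := x116
theorem x116_2 : AuxS.{u} (cM2r 1 2) s116 0 a116_2 := x116_1
theorem x116_3 : AuxS.{u} (cM2r 1 2) s116 0 a116_3 := x116_2
theorem n116 : Sound.{u} (cM2r 1 2) s116 0 :=
  (x116_3.jump c116_0 c116_1 n87 :)
theorem x117 : AuxS.{u} (cM2r 1 2) s117 0 a117 := aux_base3 tw33 rfl b117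
theorem n117 : Sound.{u} (cM2r 1 2) s117 0 :=
  (x117.k4 c117_0 :)
theorem x118 : AuxS.{u} (cM2r 1 2) s118 0 a118 := aux_base3 tw33 rfl b118
theorem n118 : Sound.{u} (cM2r 1 2) s118 0 :=
  (x118.k4 c118_0 :)
theorem x44 : AuxS.{u} (cM2r 1 2) s44 0 a44 := aux_base3 tw33 rfl b44
theorem x44_1 : AuxS.{u} (cM2r 1 2) s44 0 a44_1 := x44
theorem x44_2 : AuxS.{u} (cM2r 1 2) s44 0 a44_2 := x44_1
theorem x44_3 : AuxS.{u} (cM2r 1 2) s44 0 a44_3 := x44_2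
theorem n44 : Sound.{u} (cM2r 1 2) s44 0 :=
  (x44_3.fr GamS.nil (AllS.cons n87 (AllS.cons n88 (AllS.cons n89 (AllS.cons n90 (AllS.cons n91 (AllS.cons n92 (AllS.cons n93 (AllS.cons n94 (AllS.cons n95 (AllS.cons n96 (AllS.cons n97 (AllS.cons n98 (AllS.cons n99 (AllS.cons n100 (AllS.cons n101 (AllS.cons n102 (AllS.cons n103 (AllS.cons n104 (AllS.cons n105 (AllS.cons n106 (AllS.cons n107 (AllS.cons n108 (AllS.cons n109 (AllS.cons n110 (AllS.cons n111 (AllS.cons n112 (AllS.cons n113 (AllS.cons n114 (AllS.cons n115 (AllS.cons n116 (AllS.cons n117 (AllS.cons n118 AllS.nil)))))))))))))))))))))))))))))))) c44_0 :)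
theorem x45 : AuxS.{u} (cM2r 1 2) s45 0 a45 := aux_base3 tw33 rfl b45
theorem x45_1 : AuxS.{u} (cM2r 1 2) s45 0 a45_1 := x45
theorem x45_2 : AuxS.{u} (cM2r 1 2) s45 0 a45_2 := x45_1
theorem x45_3 : AuxS.{u} (cM2r 1 2) s45 0 a45_3 := x45_2
theorem n45 : Sound.{u} (cM2r 1 2) s45 0 :=
  (x45_3.jump c45_0 c45_1 n43 :)
theorem x46 : AuxS.{u} (cM2r 1 2) s46 0 a46 := aux_base3 tw33 rfl b46
theorem x46_1 : AuxS.{u} (cM2r 1 2) s46 0 a46_1 := x46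
theorem x46_2 : AuxS.{u} (cM2r 1 2) s46 0 a46_2 := x46_1
theorem x46_3 : AuxS.{u} (cM2r 1 2) s46 0 a46_3 := x46_2
theorem n46 : Sound.{u} (cM2r 1 2) s46 0 :=
  (x46_3.jump c46_0 c46_1 n44 :)
theorem x42 : AuxS.{u} (cM2r 1 2) s42 0 a42 := aux_base3 tw33 rfl b42
theorem x42_1 : AuxS.{u} (cM2r 1 2) s42 0 a42_1 := x42
theorem x42_2 : AuxS.{u} (cM2r 1 2) s42 0 a42_2 := x42_1
theorem x42_3 : AuxS.{u} (cM2r 1 2) s42 0 a42_3 := x42_2
theorem n42 : Sound.{u} (cM2r 1 2) s42 0 :=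
  (x42_3.rho (AllS.cons n43 (AllS.cons n44 (AllS.cons n45 (AllS.cons n46 AllS.nil)))) c42_0 :)
theorem x26 : AuxS.{u} (cM2r 1 2) s26 0 a26 := aux_base3 tw17 rfl b26
theorem x26_1 : AuxS.{u} (cM2r 1 2) s26 0 a26_1 := x26
theorem x26_2 : AuxS.{u} (cM2r 1 2) s26 0 a26_2 := x26_1
theorem x26_3 : AuxS.{u} (cM2r 1 2) s26 0 a26_3 := x26_2
theorem n26 : Sound.{u} (cM2r 1 2) s26 0 :=
  (x26_3.fr2 (AuxS.gam x26_3 c26_0) (AllS.cons n42 AllS.nil) c26_1 :)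
theorem x27 : AuxS.{u} (cM2r 1 2) s27 0 a27 := aux_base3 tw18 rfl b27
theorem x27_1 : AuxS.{u} (cM2r 1 2) s27 0 a27_1 := x27
theorem x27_2 : AuxS.{u} (cM2r 1 2) s27 0 a27_2 := x27_1
theorem n27 : Sound.{u} (cM2r 1 2) s27 0 :=
  (x27_2.fr2 GamS.nil AllS.nil c27_0 :)
theorem x28 : AuxS.{u} (cM2r 1 2) s28 0 a28 := aux_base3 tw19 rfl b28
theorem x28_1 : AuxS.{u} (cM2r 1 2) s28 0 a28_1 := x28
theorem x28_2 : AuxS.{u} (cM2r 1 2) s28 0 a28_2 := x28_1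
theorem n28 : Sound.{u} (cM2r 1 2) s28 0 :=
  (x28_2.fr2 GamS.nil AllS.nil c28_0 :)
theorem x29 : AuxS.{u} (cM2r 1 2) s29 0 a29 := aux_base3 tw20 rfl b29
theorem x29_1 : AuxS.{u} (cM2r 1 2) s29 0 a29_1 := x29
theorem x29_2 : AuxS.{u} (cM2r 1 2) s29 0 a29_2 := x29_1
theorem n29 : Sound.{u} (cM2r 1 2) s29 0 :=
  (x29_2.fr2 GamS.nil AllS.nil c29_0 :)
theorem x30 : AuxS.{u} (cM2r 1 2) s30 0 a30 := aux_base3 tw21 rfl b30
theorem x30_1 : AuxS.{u} (cM2r 1 2) s30 0 a30_1 := x30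
theorem x30_2 : AuxS.{u} (cM2r 1 2) s30 0 a30_2 := x30_1
theorem x30_3 : AuxS.{u} (cM2r 1 2) s30 0 a30_3 := x30_2
theorem n30 : Sound.{u} (cM2r 1 2) s30 0 :=
  (x30_3.fr2 GamS.nil AllS.nil c30_0 :)
theorem x128 : AuxS.{u} (cM2r 1 2) s128 0 a128 := aux_base3 tw50 rfl b128
theorem x128_1 : AuxS.{u} (cM2r 1 2) s128 0 a128_1 := (AuxS.up x128 c128_1 :)
theorem x128_2 : AuxS.{u} (cM2r 1 2) s128 0 a128_2 := x128_1
theorem n128 : Sound.{u} (cM2r 1 2) s128 0 :=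
  (x128_2.k7 c128_0 :)
theorem x132 : AuxS.{u} (cM2r 1 2) s132 0 a132 := aux_base3 tw50 rfl b132
theorem x132_1 : AuxS.{u} (cM2r 1 2) s132 0 a132_1 := (AuxS.up x132 c132_8 :)
theorem x132_2 : AuxS.{u} (cM2r 1 2) s132 0 a132_2 := (AuxS.up x132_1 c132_9 :)
theorem x132_3 : AuxS.{u} (cM2r 1 2) s132 0 a132_3 := (AuxS.up2 x132_2 c132_10 :)
theorem x132_L257_1 : AuxS.{u} (cM2r 1 2) s132 (257 + 2) a132_L257_1 := (AuxS.hp (x132_3.lam 257) c132_4 :)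
theorem n132 : Sound.{u} (cM2r 1 2) s132 0 :=
  (x132_3.spl c132_0 (AllM.cons ((x132_3.lam 0).tp c132_1 :) (AllM.cons ((x132_3.lam 1).tp c132_2 :) (AllM.cons ((x132_3.lam 5).e8 c132_3 :) (AllM.cons (x132_L257_1.tp c132_5 :) (AllM.cons ((x132_3.lam 261).e8 c132_6 :) AllM.nil))))) ((x132_3.weaken 1).ext2 (fun _ => rfl) GamS.nil AllS.nil c132_7 (Phs.fin (ct := ct132_7) rfl) (Phs.fin (ct := ct132_7) rfl)) :)
theorem x133 : AuxS.{u} (cM2r 1 2) s133 0 a133 := aux_base3 tw50 rfl b133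
theorem n133 : Sound.{u} (cM2r 1 2) s133 0 :=
  (x133.k4 c133_0 :)
theorem x134 : AuxS.{u} (cM2r 1 2) s134 0 a134 := aux_base3 tw50 rfl b134
theorem n134 : Sound.{u} (cM2r 1 2) s134 0 :=
  (x134.k4 c134_0 :)
theorem x135 : AuxS.{u} (cM2r 1 2) s135 0 a135 := aux_base3 tw50 rfl b135
theorem n135 : Sound.{u} (cM2r 1 2) s135 0 :=
  (x135.k4 c135_0 :)
theorem x136 : AuxS.{u} (cM2r 1 2) s136 0 a136 := aux_base3 tw50 rfl b136
theorem n136 : Sound.{u} (cM2r 1 2) s136 0 :=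
  (x136.k4 c136_0 :)
theorem x137 : AuxS.{u} (cM2r 1 2) s137 0 a137 := aux_base3 tw50 rfl b137
theorem n137 : Sound.{u} (cM2r 1 2) s137 0 :=
  (x137.k4 c137_0 :)
theorem x138 : AuxS.{u} (cM2r 1 2) s138 0 a138 := aux_base3 tw50 rfl b138
theorem n138 : Sound.{u} (cM2r 1 2) s138 0 :=
  (x138.k4 c138_0 :)
theorem x139 : AuxS.{u} (cM2r 1 2) s139 0 a139 := aux_base3 tw50 rfl b139
theorem n139 : Sound.{u} (cM2r 1 2) s139 0 :=
  (x139.k4 c139_0 :)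
theorem x140 : AuxS.{u} (cM2r 1 2) s140 0 a140 := aux_base3 tw50 rfl b140
theorem n140 : Sound.{u} (cM2r 1 2) s140 0 :=
  (x140.k4 c140_0 :)
theorem x141 : AuxS.{u} (cM2r 1 2) s141 0 a141 := aux_base3 tw50 rfl b141
theorem n141 : Sound.{u} (cM2r 1 2) s141 0 :=
  (x141.k4 c141_0 :)
theorem x142 : AuxS.{u} (cM2r 1 2) s142 0 a142 := aux_base3 tw50 rfl b142
theorem n142 : Sound.{u} (cM2r 1 2) s142 0 :=
  (x142.k4 c142_0 :)
theorem x143 : AuxS.{u} (cM2r 1 2) s143 0 a143 := aux_base3 tw50 rfl b143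
theorem n143 : Sound.{u} (cM2r 1 2) s143 0 :=
  (x143.k4 c143_0 :)
theorem x144 : AuxS.{u} (cM2r 1 2) s144 0 a144 := aux_base3 tw50 rfl b144
theorem n144 : Sound.{u} (cM2r 1 2) s144 0 :=
  (x144.k4 c144_0 :)
theorem x145 : AuxS.{u} (cM2r 1 2) s145 0 a145 := aux_base3 tw50 rfl b145
theorem x145_1 : AuxS.{u} (cM2r 1 2) s145 0 a145_1 := x145
theorem x145_2 : AuxS.{u} (cM2r 1 2) s145 0 a145_2 := x145_1
theorem x145_3 : AuxS.{u} (cM2r 1 2) s145 0 a145_3 := x145_2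
theorem n145 : Sound.{u} (cM2r 1 2) s145 0 :=
  (x145_3.jump c145_0 c145_1 n132 :)
theorem x146 : AuxS.{u} (cM2r 1 2) s146 0 a146 := aux_base3 tw50 rfl b146
theorem n146 : Sound.{u} (cM2r 1 2) s146 0 :=
  (x146.k4 c146_0 :)
theorem x147 : AuxS.{u} (cM2r 1 2) s147 0 a147 := aux_base3 tw50 rfl b147
theorem n147 : Sound.{u} (cM2r 1 2) s147 0 :=
  (x147.k4 c147_0 :)
theorem x148 : AuxS.{u} (cM2r 1 2) s148 0 a148 := aux_base3 tw50 rfl b148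
theorem x148_1 : AuxS.{u} (cM2r 1 2) s148 0 a148_1 := x148
theorem x148_2 : AuxS.{u} (cM2r 1 2) s148 0 a148_2 := x148_1
theorem x148_3 : AuxS.{u} (cM2r 1 2) s148 0 a148_3 := x148_2
theorem n148 : Sound.{u} (cM2r 1 2) s148 0 :=
  (x148_3.jump c148_0 c148_1 n132 :)
theorem x149 : AuxS.{u} (cM2r 1 2) s149 0 a149 := aux_base3 tw50 rfl b149
theorem n149 : Sound.{u} (cM2r 1 2) s149 0 :=
  (x149.k4 c149_0 :)
theorem x150 : AuxS.{u} (cM2r 1 2) s150 0 a150 := aux_base3 tw50 rfl b150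
theorem n150 : Sound.{u} (cM2r 1 2) s150 0 :=
  (x150.k4 c150_0 :)
theorem x151 : AuxS.{u} (cM2r 1 2) s151 0 a151 := aux_base3 tw50 rfl b151
theorem n151 : Sound.{u} (cM2r 1 2) s151 0 :=
  (x151.k4 c151_0 :)
theorem x152 : AuxS.{u} (cM2r 1 2) s152 0 a152 := aux_base3 tw50 rfl b152
theorem n152 : Sound.{u} (cM2r 1 2) s152 0 :=
  (x152.k4 c152_0 :)
theorem x153 : AuxS.{u} (cM2r 1 2) s153 0 a153 := aux_base3 tw50 rfl b153
theorem n153 : Sound.{u} (cM2r 1 2) s153 0 :=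
  (x153.k4 c153_0 :)
theorem x154 : AuxS.{u} (cM2r 1 2) s154 0 a154 := aux_base3 tw50 rfl b154
theorem n154 : Sound.{u} (cM2r 1 2) s154 0 :=
  (x154.k4 c154_0 :)
theorem x155 : AuxS.{u} (cM2r 1 2) s155 0 a155 := aux_base3 tw50 rfl b155
theorem n155 : Sound.{u} (cM2r 1 2) s155 0 :=
  (x155.k4 c155_0 :)
theorem x156 : AuxS.{u} (cM2r 1 2) s156 0 a156 := aux_base3 tw50 rfl b156
theorem n156 : Sound.{u} (cM2r 1 2) s156 0 :=
  (x156.k4 c156_0 :)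
theorem x157 : AuxS.{u} (cM2r 1 2) s157 0 a157 := aux_base3 tw50 rfl b157
theorem n157 : Sound.{u} (cM2r 1 2) s157 0 :=
  (x157.k4 c157_0 :)
theorem x158 : AuxS.{u} (cM2r 1 2) s158 0 a158 := aux_base3 tw50 rfl b158
theorem n158 : Sound.{u} (cM2r 1 2) s158 0 :=
  (x158.k4 c158_0 :)
theorem x159 : AuxS.{u} (cM2r 1 2) s159 0 a159 := aux_base3 tw50 rfl b159
theorem n159 : Sound.{u} (cM2r 1 2) s159 0 :=
  (x159.k4 c159_0 :)
theorem x160 : AuxS.{u} (cM2r 1 2) s160 0 a160 := aux_base3 tw50 rfl b160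
theorem n160 : Sound.{u} (cM2r 1 2) s160 0 :=
  (x160.k4 c160_0 :)
theorem x161 : AuxS.{u} (cM2r 1 2) s161 0 a161 := aux_base3 tw50 rfl b161
theorem x161_1 : AuxS.{u} (cM2r 1 2) s161 0 a161_1 := x161
theorem x161_2 : AuxS.{u} (cM2r 1 2) s161 0 a161_2 := x161_1
theorem x161_3 : AuxS.{u} (cM2r 1 2) s161 0 a161_3 := x161_2
theorem n161 : Sound.{u} (cM2r 1 2) s161 0 :=
  (x161_3.jump c161_0 c161_1 n132 :)
theorem x162 : AuxS.{u} (cM2r 1 2) s162 0 a162 := aux_base3 tw50 rfl b162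
theorem n162 : Sound.{u} (cM2r 1 2) s162 0 :=
  (x162.k4 c162_0 :)
theorem x163 : AuxS.{u} (cM2r 1 2) s163 0 a163 := aux_base3 tw50 rfl b163
theorem n163 : Sound.{u} (cM2r 1 2) s163 0 :=
  (x163.k4 c163_0 :)
theorem x129 : AuxS.{u} (cM2r 1 2) s129 0 a129 := aux_base3 tw50 rfl b129
theorem x129_1 : AuxS.{u} (cM2r 1 2) s129 0 a129_1 := x129
theorem x129_2 : AuxS.{u} (cM2r 1 2) s129 0 a129_2 := x129_1
theorem x129_3 : AuxS.{u} (cM2r 1 2) s129 0 a129_3 := x129_2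
theorem n129 : Sound.{u} (cM2r 1 2) s129 0 :=
  (x129_3.fr GamS.nil (AllS.cons n132 (AllS.cons n133 (AllS.cons n134 (AllS.cons n135 (AllS.cons n136 (AllS.cons n137 (AllS.cons n138 (AllS.cons n139 (AllS.cons n140 (AllS.cons n141 (AllS.cons n142 (AllS.cons n143 (AllS.cons n144 (AllS.cons n145 (AllS.cons n146 (AllS.cons n147 (AllS.cons n148 (AllS.cons n149 (AllS.cons n150 (AllS.cons n151 (AllS.cons n152 (AllS.cons n153 (AllS.cons n154 (AllS.cons n155 (AllS.cons n156 (AllS.cons n157 (AllS.cons n158 (AllS.cons n159 (AllS.cons n160 (AllS.cons n161 (AllS.cons n162 (AllS.cons n163 AllS.nil)))))))))))))))))))))))))))))))) c129_0 :)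
theorem x130 : AuxS.{u} (cM2r 1 2) s130 0 a130 := aux_base3 tw50 rfl b130
theorem x130_1 : AuxS.{u} (cM2r 1 2) s130 0 a130_1 := (AuxS.up x130 c130_1 :)
theorem x130_2 : AuxS.{u} (cM2r 1 2) s130 0 a130_2 := x130_1
theorem n130 : Sound.{u} (cM2r 1 2) s130 0 :=
  (x130_2.k7 c130_0 :)
theorem x131 : AuxS.{u} (cM2r 1 2) s131 0 a131 := aux_base3 tw50 rfl b131
theorem x131_1 : AuxS.{u} (cM2r 1 2) s131 0 a131_1 := x131
theorem x131_2 : AuxS.{u} (cM2r 1 2) s131 0 a131_2 := x131_1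
theorem x131_3 : AuxS.{u} (cM2r 1 2) s131 0 a131_3 := x131_2
theorem n131 : Sound.{u} (cM2r 1 2) s131 0 :=
  (x131_3.jump c131_0 c131_1 n129 :)
theorem x127 : AuxS.{u} (cM2r 1 2) s127 0 a127 := aux_base3 tw50 rfl b127
theorem x127_1 : AuxS.{u} (cM2r 1 2) s127 0 a127_1 := x127
theorem x127_2 : AuxS.{u} (cM2r 1 2) s127 0 a127_2 := x127_1
theorem x127_3 : AuxS.{u} (cM2r 1 2) s127 0 a127_3 := x127_2
theorem n127 : Sound.{u} (cM2r 1 2) s127 0 :=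
  (x127_3.rho (AllS.cons n128 (AllS.cons n129 (AllS.cons n130 (AllS.cons n131 AllS.nil)))) c127_0 :)
theorem x31 : AuxS.{u} (cM2r 1 2) s31 0 a31 := aux_base3 tw22 rfl b31
theorem x31_1 : AuxS.{u} (cM2r 1 2) s31 0 a31_1 := x31
theorem x31_2 : AuxS.{u} (cM2r 1 2) s31 0 a31_2 := x31_1
theorem x31_3 : AuxS.{u} (cM2r 1 2) s31 0 a31_3 := x31_2
theorem n31 : Sound.{u} (cM2r 1 2) s31 0 :=
  (x31_3.fr2 (AuxS.gam x31_3 c31_0) (AllS.cons n127 AllS.nil) c31_1 :)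
theorem x32 : AuxS.{u} (cM2r 1 2) s32 0 a32 := aux_base3 tw23 rfl b32
theorem x32_1 : AuxS.{u} (cM2r 1 2) s32 0 a32_1 := x32
theorem x32_2 : AuxS.{u} (cM2r 1 2) s32 0 a32_2 := x32_1
theorem n32 : Sound.{u} (cM2r 1 2) s32 0 :=
  (x32_2.fr2 GamS.nil AllS.nil c32_0 :)
theorem x33 : AuxS.{u} (cM2r 1 2) s33 0 a33 := aux_base3 tw24 rfl b33
theorem x33_1 : AuxS.{u} (cM2r 1 2) s33 0 a33_1 := x33
theorem x33_2 : AuxS.{u} (cM2r 1 2) s33 0 a33_2 := x33_1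
theorem n33 : Sound.{u} (cM2r 1 2) s33 0 :=
  (x33_2.fr2 GamS.nil AllS.nil c33_0 :)
theorem x34 : AuxS.{u} (cM2r 1 2) s34 0 a34 := aux_base3 tw25 rfl b34
theorem x34_1 : AuxS.{u} (cM2r 1 2) s34 0 a34_1 := x34
theorem x34_2 : AuxS.{u} (cM2r 1 2) s34 0 a34_2 := x34_1
theorem n34 : Sound.{u} (cM2r 1 2) s34 0 :=
  (x34_2.fr2 GamS.nil AllS.nil c34_0 :)
theorem x35 : AuxS.{u} (cM2r 1 2) s35 0 a35 := aux_base3 tw26 rfl b35
theorem x35_1 : AuxS.{u} (cM2r 1 2) s35 0 a35_1 := x35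
theorem x35_2 : AuxS.{u} (cM2r 1 2) s35 0 a35_2 := x35_1
theorem n35 : Sound.{u} (cM2r 1 2) s35 0 :=
  (x35_2.fr2 GamS.nil AllS.nil c35_0 :)
theorem x36 : AuxS.{u} (cM2r 1 2) s36 0 a36 := aux_base3 tw27 rfl b36
theorem x36_1 : AuxS.{u} (cM2r 1 2) s36 0 a36_1 := x36
theorem x36_2 : AuxS.{u} (cM2r 1 2) s36 0 a36_2 := x36_1
theorem x36_3 : AuxS.{u} (cM2r 1 2) s36 0 a36_3 := x36_2
theorem n36 : Sound.{u} (cM2r 1 2) s36 0 :=
  (x36_3.fr2 GamS.nil AllS.nil c36_0 :)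
theorem x37 : AuxS.{u} (cM2r 1 2) s37 0 a37 := aux_base3 tw28 rfl b37
theorem x37_1 : AuxS.{u} (cM2r 1 2) s37 0 a37_1 := x37
theorem x37_2 : AuxS.{u} (cM2r 1 2) s37 0 a37_2 := x37_1
theorem n37 : Sound.{u} (cM2r 1 2) s37 0 :=
  (x37_2.fr2 GamS.nil AllS.nil c37_0 :)
theorem x38 : AuxS.{u} (cM2r 1 2) s38 0 a38 := aux_base3 tw29 rfl b38
theorem x38_1 : AuxS.{u} (cM2r 1 2) s38 0 a38_1 := x38
theorem x38_2 : AuxS.{u} (cM2r 1 2) s38 0 a38_2 := x38_1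
theorem n38 : Sound.{u} (cM2r 1 2) s38 0 :=
  (x38_2.fr2 GamS.nil AllS.nil c38_0 :)
theorem x39 : AuxS.{u} (cM2r 1 2) s39 0 a39 := aux_base3 tw30 rfl b39
theorem x39_1 : AuxS.{u} (cM2r 1 2) s39 0 a39_1 := x39
theorem x39_2 : AuxS.{u} (cM2r 1 2) s39 0 a39_2 := x39_1
theorem n39 : Sound.{u} (cM2r 1 2) s39 0 :=
  (x39_2.fr2 GamS.nil AllS.nil c39_0 :)
theorem x40 : AuxS.{u} (cM2r 1 2) s40 0 a40 := aux_base3 tw31 rfl b40
theorem x40_1 : AuxS.{u} (cM2r 1 2) s40 0 a40_1 := x40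
theorem x40_2 : AuxS.{u} (cM2r 1 2) s40 0 a40_2 := x40_1
theorem n40 : Sound.{u} (cM2r 1 2) s40 0 :=
  (x40_2.fr2 GamS.nil AllS.nil c40_0 :)
theorem x41 : AuxS.{u} (cM2r 1 2) s41 0 a41 := aux_base3 tw32 rfl b41
theorem x41_1 : AuxS.{u} (cM2r 1 2) s41 0 a41_1 := x41
theorem x41_2 : AuxS.{u} (cM2r 1 2) s41 0 a41_2 := x41_1
theorem x41_3 : AuxS.{u} (cM2r 1 2) s41 0 a41_3 := x41_2
theorem n41 : Sound.{u} (cM2r 1 2) s41 0 :=
  (x41_3.fr2 GamS.nil AllS.nil c41_0 :)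
theorem x18 : AuxS.{u} (cM2r 1 2) s18 0 a18 := aux_base3 tw7 rfl b18
theorem x18_1 : AuxS.{u} (cM2r 1 2) s18 0 a18_1 := x18
theorem x18_2 : AuxS.{u} (cM2r 1 2) s18 0 a18_2 := x18_1
theorem x18_3 : AuxS.{u} (cM2r 1 2) s18 0 a18_3 := x18_2
theorem x18_4 : AuxS.{u} (cM2r 1 2) s18 0 a18_4 := x18_3
theorem n18 : Sound.{u} (cM2r 1 2) s18 0 :=
  (x18_4.fr2 GamS.nil (AllS.cons n26 (AllS.cons n27 (AllS.cons n28 (AllS.cons n29 (AllS.cons n30 (AllS.cons n31 (AllS.cons n32 (AllS.cons n33 (AllS.cons n34 (AllS.cons n35 (AllS.cons n36 (AllS.cons n37 (AllS.cons n38 (AllS.cons n39 (AllS.cons n40 (AllS.cons n41 AllS.nil)))))))))))))))) c18_0 :)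
theorem x19 : AuxS.{u} (cM2r 1 2) s19 0 a19 := aux_base3 tw7 rfl b19
theorem n19 : Sound.{u} (cM2r 1 2) s19 0 :=
  (x19.k4 c19_0 :)
theorem x20 : AuxS.{u} (cM2r 1 2) s20 0 a20 := aux_base3 tw7 rfl b20
theorem n20 : Sound.{u} (cM2r 1 2) s20 0 :=
  (x20.k4 c20_0 :)
theorem x21 : AuxS.{u} (cM2r 1 2) s21 0 a21 := aux_base3 tw7 rfl b21
theorem n21 : Sound.{u} (cM2r 1 2) s21 0 :=
  (x21.k4 c21_0 :)
theorem x22 : AuxS.{u} (cM2r 1 2) s22 0 a22 := aux_base3 tw7 rfl b22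
theorem n22 : Sound.{u} (cM2r 1 2) s22 0 :=
  (x22.k4 c22_0 :)
theorem x23 : AuxS.{u} (cM2r 1 2) s23 0 a23 := aux_base3 tw7 rfl b23
theorem n23 : Sound.{u} (cM2r 1 2) s23 0 :=
  (x23.k4 c23_0 :)
theorem x24 : AuxS.{u} (cM2r 1 2) s24 0 a24 := aux_base3 tw7 rfl b24
theorem n24 : Sound.{u} (cM2r 1 2) s24 0 :=
  (x24.k4 c24_0 :)
theorem x25 : AuxS.{u} (cM2r 1 2) s25 0 a25 := aux_base3 tw7 rfl b25
theorem n25 : Sound.{u} (cM2r 1 2) s25 0 :=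
  (x25.k4 c25_0 :)
theorem x8 : AuxS.{u} (cM2r 1 2) s8 0 a8 := aux_base3 tw7 rfl b8
theorem x8_1 : AuxS.{u} (cM2r 1 2) s8 0 a8_1 := x8
theorem x8_2 : AuxS.{u} (cM2r 1 2) s8 0 a8_2 := x8_1
theorem n8 : Sound.{u} (cM2r 1 2) s8 0 :=
  (x8_2.fr (AuxS.gam x8_2 c8_0) (AllS.cons n18 (AllS.cons n19 (AllS.cons n20 (AllS.cons n21 (AllS.cons n22 (AllS.cons n23 (AllS.cons n24 (AllS.cons n25 AllS.nil)))))))) c8_1 :)
theorem x9 : AuxS.{u} (cM2r 1 2) s9 0 a9 := aux_base3 tw8 rfl b9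
theorem x9_1 : AuxS.{u} (cM2r 1 2) s9 0 a9_1 := x9
theorem x9_2 : AuxS.{u} (cM2r 1 2) s9 0 a9_2 := x9_1
theorem n9 : Sound.{u} (cM2r 1 2) s9 0 :=
  (x9_2.fr GamS.nil AllS.nil c9_0 :)
theorem x10 : AuxS.{u} (cM2r 1 2) s10 0 a10 := aux_base3 tw9 rfl b10
theorem x10_1 : AuxS.{u} (cM2r 1 2) s10 0 a10_1 := x10
theorem x10_2 : AuxS.{u} (cM2r 1 2) s10 0 a10_2 := x10_1
theorem n10 : Sound.{u} (cM2r 1 2) s10 0 :=
  (x10_2.fr GamS.nil AllS.nil c10_0 :)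
theorem x11 : AuxS.{u} (cM2r 1 2) s11 0 a11 := aux_base3 tw10 rfl b11
theorem x11_1 : AuxS.{u} (cM2r 1 2) s11 0 a11_1 := x11
theorem x11_2 : AuxS.{u} (cM2r 1 2) s11 0 a11_2 := x11_1
theorem n11 : Sound.{u} (cM2r 1 2) s11 0 :=
  (x11_2.fr GamS.nil AllS.nil c11_0 :)
theorem x164 : AuxS.{u} (cM2r 1 2) s164 0 a164 := aux_base3 tw11 rfl b164
theorem n164 : Sound.{u} (cM2r 1 2) s164 0 :=
  (x164.k4 c164_0 :)
theorem x174 : AuxS.{u} (cM2r 1 2) s174 0 a174 := aux_base3 tw53 rfl b174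
theorem n174 : Sound.{u} (cM2r 1 2) s174 0 :=
  (x174.k4 c174_0 :)
theorem x175 : AuxS.{u} (cM2r 1 2) s175 0 a175 := aux_base3 tw54 rfl b175
theorem n175 : Sound.{u} (cM2r 1 2) s175 0 :=
  (x175.k4 c175_0 :)
theorem x176 : AuxS.{u} (cM2r 1 2) s176 0 a176 := aux_base3 tw55 rfl b176
theorem n176 : Sound.{u} (cM2r 1 2) s176 0 :=
  (x176.k4 c176_0 :)
theorem x177 : AuxS.{u} (cM2r 1 2) s177 0 a177 := aux_base3 tw56 rfl b177
theorem n177 : Sound.{u} (cM2r 1 2) s177 0 :=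
  (x177.k4 c177_0 :)
theorem x178 : AuxS.{u} (cM2r 1 2) s178 0 a178 := aux_base3 tw57 rfl b178
theorem n178 : Sound.{u} (cM2r 1 2) s178 0 :=
  (x178.k4 c178_0 :)
theorem x179 : AuxS.{u} (cM2r 1 2) s179 0 a179 := aux_base3 tw58 rfl b179
theorem n179 : Sound.{u} (cM2r 1 2) s179 0 :=
  (x179.k4 c179_0 :)
theorem x180 : AuxS.{u} (cM2r 1 2) s180 0 a180 := aux_base3 tw59 rfl b180
theorem n180 : Sound.{u} (cM2r 1 2) s180 0 :=
  (x180.k4 c180_0 :)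
theorem x181 : AuxS.{u} (cM2r 1 2) s181 0 a181 := aux_base3 tw60 rfl b181
theorem n181 : Sound.{u} (cM2r 1 2) s181 0 :=
  (x181.k4 c181_0 :)
theorem x194 : AuxS.{u} (cM2r 1 2) s194 0 a194 := aux_base3 tw61 rfl b194
theorem n194 : Sound.{u} (cM2r 1 2) s194 0 :=
  (x194.k4 c194_0 :)
theorem x195 : AuxS.{u} (cM2r 1 2) s195 0 a195 := aux_base3 tw61 rfl b195
theorem n195 : Sound.{u} (cM2r 1 2) s195 0 :=
  (x195.k4 c195_0 :)
theorem x196 : AuxS.{u} (cM2r 1 2) s196 0 a196 := aux_base3 tw61 rfl b196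
theorem n196 : Sound.{u} (cM2r 1 2) s196 0 :=
  (x196.k4 c196_0 :)
theorem x197 : AuxS.{u} (cM2r 1 2) s197 0 a197 := aux_base3 tw61 rfl b197
theorem x197_1 : AuxS.{u} (cM2r 1 2) s197 0 a197_1 := (AuxS.up x197 c197_15 :)
theorem x197_L0_1 : AuxS.{u} (cM2r 1 2) s197 (0 + 2) a197_L0_1 := (AuxS.hp (x197_1.lam 0) c197_1 :)
theorem x197_L161_1 : AuxS.{u} (cM2r 1 2) s197 (161 + 2) a197_L161_1 := (AuxS.hp (x197_1.lam 161) c197_4 :)
theorem x197_L161_2 : AuxS.{u} (cM2r 1 2) s197 (161 + 2) a197_L161_2 := (AuxS.ne x197_L161_1 c197_5 :)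
theorem p197_7_1 : Phs s197 a197_1 [] [] ct197_7 v197_7 5 w197_7_1 := (Phs.fin c197_7)
theorem p197_7_3 : Phs s197 a197_1 [] [] ct197_7 v197_7 4 w197_7_3 := (Phs.stp c197_8 p197_7_1)
theorem p197_7_5 : Phs s197 a197_1 [] [] ct197_7 v197_7 2 w197_7_5 := (Phs.stp c197_9 p197_7_3)
theorem p197_7_7 : Phs s197 a197_1 [] [] ct197_7 v197_7 1 w197_7_7 := (Phs.stp c197_10 p197_7_5)
theorem p197_7_10 : Phs s197 a197_1 [] [] ct197_7 v197_7 5 w197_7_10 := (Phs.fin c197_12)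
theorem n197 : Sound.{u} (cM2r 1 2) s197 0 :=
  (x197_1.spl c197_0 (AllM.cons (x197_L0_1.tp c197_2 :) (AllM.cons ((x197_1.lam 37).e8 c197_3 :) (AllM.cons (x197_L161_2.tp c197_6 :) AllM.nil))) ((x197_1.weaken 1).ext2 (fun _ => rfl) GamS.nil AllS.nil c197_14 (Phs.stp c197_11 p197_7_7) (Phs.stp c197_13 p197_7_10)) :)
theorem x182 : AuxS.{u} (cM2r 1 2) s182 0 a182 := aux_base3 tw61 rfl b182
theorem x182_1 : AuxS.{u} (cM2r 1 2) s182 0 a182_1 := x182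
theorem n182 : Sound.{u} (cM2r 1 2) s182 0 :=
  (x182_1.fr (AuxS.gam x182_1 c182_0) (AllS.cons n194 (AllS.cons n195 (AllS.cons n196 (AllS.cons n197 AllS.nil)))) c182_1 :)
theorem x183 : AuxS.{u} (cM2r 1 2) s183 0 a183 := aux_base3 tw62 rfl b183
theorem x183_1 : AuxS.{u} (cM2r 1 2) s183 0 a183_1 := x183
theorem n183 : Sound.{u} (cM2r 1 2) s183 0 :=
  (x183_1.fr GamS.nil AllS.nil c183_0 :)
theorem x198 : AuxS.{u} (cM2r 1 2) s198 0 a198 := aux_base3 tw63 rfl b198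
theorem n198 : Sound.{u} (cM2r 1 2) s198 0 :=
  (x198.k4 c198_0 :)
theorem x199 : AuxS.{u} (cM2r 1 2) s199 0 a199 := aux_base3 tw63 rfl b199
theorem n199 : Sound.{u} (cM2r 1 2) s199 0 :=
  (x199.k4 c199_0 :)
theorem x200 : AuxS.{u} (cM2r 1 2) s200 0 a200 := aux_base3 tw63 rfl b200
theorem x200_1 : AuxS.{u} (cM2r 1 2) s200 0 a200_1 := (AuxS.up x200 c200_14 :)
theorem x200_L161_1 : AuxS.{u} (cM2r 1 2) s200 (161 + 2) a200_L161_1 := (AuxS.hp (x200_1.lam 161) c200_2 :)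
theorem x200_L161_2 : AuxS.{u} (cM2r 1 2) s200 (161 + 2) a200_L161_2 := (AuxS.ne x200_L161_1 c200_3 :)
theorem p200_6_1 : Phs s200 a200_1 [] [] ct200_6 v200_6 5 w200_6_1 := (Phs.fin c200_6)
theorem p200_6_3 : Phs s200 a200_1 [] [] ct200_6 v200_6 4 w200_6_3 := (Phs.stp c200_7 p200_6_1)
theorem p200_6_5 : Phs s200 a200_1 [] [] ct200_6 v200_6 2 w200_6_5 := (Phs.stp c200_8 p200_6_3)
theorem p200_6_7 : Phs s200 a200_1 [] [] ct200_6 v200_6 1 w200_6_7 := (Phs.stp c200_9 p200_6_5)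
theorem p200_6_10 : Phs s200 a200_1 [] [] ct200_6 v200_6 5 w200_6_10 := (Phs.fin c200_11)
theorem n200 : Sound.{u} (cM2r 1 2) s200 0 :=
  (x200_1.spl c200_0 (AllM.cons ((x200_1.lam 0).tp c200_1 :) (AllM.cons (x200_L161_2.tp c200_4 :) (AllM.cons ((x200_1.lam 165).e8 c200_5 :) AllM.nil))) ((x200_1.weaken 1).ext2 (fun _ => rfl) GamS.nil AllS.nil c200_13 (Phs.stp c200_10 p200_6_7) (Phs.stp c200_12 p200_6_10)) :)
theorem x201 : AuxS.{u} (cM2r 1 2) s201 0 a201 := aux_base3 tw63 rfl b201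
theorem n201 : Sound.{u} (cM2r 1 2) s201 0 :=
  (x201.k4 c201_0 :)
theorem x184 : AuxS.{u} (cM2r 1 2) s184 0 a184 := aux_base3 tw63 rfl b184
theorem x184_1 : AuxS.{u} (cM2r 1 2) s184 0 a184_1 := x184
theorem n184 : Sound.{u} (cM2r 1 2) s184 0 :=
  (x184_1.fr (AuxS.gam x184_1 c184_0) (AllS.cons n198 (AllS.cons n199 (AllS.cons n200 (AllS.cons n201 AllS.nil)))) c184_1 :)
theorem x185 : AuxS.{u} (cM2r 1 2) s185 0 a185 := aux_base3 tw64 rfl b185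
theorem x185_1 : AuxS.{u} (cM2r 1 2) s185 0 a185_1 := x185
theorem n185 : Sound.{u} (cM2r 1 2) s185 0 :=
  (x185_1.fr GamS.nil AllS.nil c185_0 :)
theorem x186 : AuxS.{u} (cM2r 1 2) s186 0 a186 := aux_base3 tw65 rfl b186
theorem n186 : Sound.{u} (cM2r 1 2) s186 0 :=
  (x186.k3 c186_0 :)
theorem x187 : AuxS.{u} (cM2r 1 2) s187 0 a187 := aux_base3 tw66 rfl b187
theorem n187 : Sound.{u} (cM2r 1 2) s187 0 :=
  (x187.k3 c187_0 :)
theorem x188 : AuxS.{u} (cM2r 1 2) s188 0 a188 := aux_base3 tw67 rfl b188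
theorem n188 : Sound.{u} (cM2r 1 2) s188 0 :=
  (x188.k3 c188_0 :)
theorem x189 : AuxS.{u} (cM2r 1 2) s189 0 a189 := aux_base3 tw68 rfl b189
theorem n189 : Sound.{u} (cM2r 1 2) s189 0 :=
  (x189.k3 c189_0 :)
theorem x190 : AuxS.{u} (cM2r 1 2) s190 0 a190 := aux_base3 tw69 rfl b190
theorem n190 : Sound.{u} (cM2r 1 2) s190 0 :=
  (x190.k3 c190_0 :)
theorem x191 : AuxS.{u} (cM2r 1 2) s191 0 a191 := aux_base3 tw70 rfl b191
theorem n191 : Sound.{u} (cM2r 1 2) s191 0 :=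
  (x191.k3 c191_0 :)
theorem x192 : AuxS.{u} (cM2r 1 2) s192 0 a192 := aux_base3 tw71 rfl b192
theorem n192 : Sound.{u} (cM2r 1 2) s192 0 :=
  (x192.k3 c192_0 :)
theorem x193 : AuxS.{u} (cM2r 1 2) s193 0 a193 := aux_base3 tw72 rfl b193
theorem n193 : Sound.{u} (cM2r 1 2) s193 0 :=
  (x193.k3 c193_0 :)
theorem x172 : AuxS.{u} (cM2r 1 2) s172 0 a172 := aux_base3 tw51 rfl b172
theorem x172_1 : AuxS.{u} (cM2r 1 2) s172 0 a172_1 := (AuxS.up x172 c172_19 :)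
theorem x172_L33_1 : AuxS.{u} (cM2r 1 2) s172 (33 + 2) a172_L33_1 := (AuxS.hp (x172_1.lam 33) c172_2 :)
theorem x172_L33_2 : AuxS.{u} (cM2r 1 2) s172 (33 + 2) a172_L33_2 := (AuxS.ne x172_L33_1 c172_3 :)
theorem x172_L161_1 : AuxS.{u} (cM2r 1 2) s172 (161 + 2) a172_L161_1 := (AuxS.hp (x172_1.lam 161) c172_6 :)
theorem p172_9_1 : Phs s172 a172_1 [] [s174, s175, s176, s177, s178, s179, s180, s181, s182, s183, s184, s185, s186, s187, s188, s189, s190, s191, s192, s193] ct172_9 v172_9 5 w172_9_1 := (Phs.fin c172_9)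
theorem p172_9_3 : Phs s172 a172_1 [] [s174, s175, s176, s177, s178, s179, s180, s181, s182, s183, s184, s185, s186, s187, s188, s189, s190, s191, s192, s193] ct172_9 v172_9 4 w172_9_3 := (Phs.stp c172_10 p172_9_1)
theorem p172_9_7 : Phs s172 a172_1 [] [s174, s175, s176, s177, s178, s179, s180, s181, s182, s183, s184, s185, s186, s187, s188, s189, s190, s191, s192, s193] ct172_9 v172_9 2 w172_9_7 := (Phs.app (Phs.app (Phs.stp c172_11 p172_9_3) (Phs.stp c172_12 p172_9_3)) (Phs.stp c172_13 p172_9_3))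
theorem p172_9_9 : Phs s172 a172_1 [] [s174, s175, s176, s177, s178, s179, s180, s181, s182, s183, s184, s185, s186, s187, s188, s189, s190, s191, s192, s193] ct172_9 v172_9 1 w172_9_9 := (Phs.stp c172_14 p172_9_7)
theorem p172_9_12 : Phs s172 a172_1 [] [s174, s175, s176, s177, s178, s179, s180, s181, s182, s183, s184, s185, s186, s187, s188, s189, s190, s191, s192, s193] ct172_9 v172_9 5 w172_9_12 := (Phs.fin c172_16)
theorem n172 : Sound.{u} (cM2r 1 2) s172 0 :=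
  (x172_1.spl c172_0 (AllM.cons ((x172_1.lam 0).tp c172_1 :) (AllM.cons (x172_L33_2.tp c172_4 :) (AllM.cons ((x172_1.lam 37).e8 c172_5 :) (AllM.cons (x172_L161_1.tp c172_7 :) (AllM.cons ((x172_1.lam 165).e8 c172_8 :) AllM.nil))))) ((x172_1.weaken 1).ext2 (fun _ => rfl) GamS.nil (AllS.cons n174 (AllS.cons n175 (AllS.cons n176 (AllS.cons n177 (AllS.cons n178 (AllS.cons n179 (AllS.cons n180 (AllS.cons n181 (AllS.cons n182 (AllS.cons n183 (AllS.cons n184 (AllS.cons n185 (AllS.cons n186 (AllS.cons n187 (AllS.cons n188 (AllS.cons n189 (AllS.cons n190 (AllS.cons n191 (AllS.cons n192 (AllS.cons n193 AllS.nil)))))))))))))))))))) c172_18 (Phs.stp c172_15 p172_9_9) (Phs.stp c172_17 p172_9_12)) :)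
theorem x214 : AuxS.{u} (cM2r 1 2) s214 0 a214 := aux_base3 tw73 rfl b214
theorem n214 : Sound.{u} (cM2r 1 2) s214 0 :=
  (x214.k4 c214_0 :)
theorem x215 : AuxS.{u} (cM2r 1 2) s215 0 a215 := aux_base3 tw73 rfl b215
theorem x215_1 : AuxS.{u} (cM2r 1 2) s215 0 a215_1 := (AuxS.up x215 c215_19 :)
theorem x215_2 : AuxS.{u} (cM2r 1 2) s215 0 a215_2 := (AuxS.up x215_1 c215_20 :)
theorem x215_L289_1 : AuxS.{u} (cM2r 1 2) s215 (289 + 2) a215_L289_1 := (AuxS.hp (x215_2.lam 289) c215_3 :)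
theorem p215_5_1 : Phs s215 a215_2 [] [] ct215_5 v215_5 5 w215_5_1 := (Phs.fin c215_5)
theorem p215_5_3 : Phs s215 a215_2 [] [] ct215_5 v215_5 4 w215_5_3 := (Phs.stp c215_6 p215_5_1)
theorem p215_5_8 : Phs s215 a215_2 [] [] ct215_5 v215_5 3 w215_5_8 := (Phs.app (Phs.app (Phs.app (Phs.stp c215_7 p215_5_3) (Phs.stp c215_8 p215_5_3)) (Phs.stp c215_9 p215_5_3)) (Phs.stp c215_10 p215_5_3))
theorem p215_5_13 : Phs s215 a215_2 [] [] ct215_5 v215_5 1 w215_5_13 := (Phs.app (Phs.app (Phs.app (Phs.stp c215_11 p215_5_8) (Phs.stp c215_12 p215_5_8)) (Phs.stp c215_13 p215_5_8)) (Phs.stp c215_14 p215_5_8))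
theorem p215_5_16 : Phs s215 a215_2 [] [] ct215_5 v215_5 5 w215_5_16 := (Phs.fin c215_16)
theorem n215 : Sound.{u} (cM2r 1 2) s215 0 :=
  (x215_2.spl c215_0 (AllM.cons ((x215_2.lam 0).tp c215_1 :) (AllM.cons ((x215_2.lam 37).e8 c215_2 :) (AllM.cons (x215_L289_1.tp c215_4 :) AllM.nil))) ((x215_2.weaken 1).ext2 (fun _ => rfl) GamS.nil AllS.nil c215_18 (Phs.stp c215_15 p215_5_13) (Phs.stp c215_17 p215_5_16)) :)
theorem x216 : AuxS.{u} (cM2r 1 2) s216 0 a216 := aux_base3 tw73 rfl b216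
theorem n216 : Sound.{u} (cM2r 1 2) s216 0 :=
  (x216.k4 c216_0 :)
theorem x217 : AuxS.{u} (cM2r 1 2) s217 0 a217 := aux_base3 tw73 rfl b217
theorem n217 : Sound.{u} (cM2r 1 2) s217 0 :=
  (x217.k4 c217_0 :)
theorem x202 : AuxS.{u} (cM2r 1 2) s202 0 a202 := aux_base3 tw73 rfl b202
theorem x202_1 : AuxS.{u} (cM2r 1 2) s202 0 a202_1 := x202
theorem n202 : Sound.{u} (cM2r 1 2) s202 0 :=
  (x202_1.fr (AuxS.gam x202_1 c202_0) (AllS.cons n214 (AllS.cons n215 (AllS.cons n216 (AllS.cons n217 AllS.nil)))) c202_1 :)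
theorem x203 : AuxS.{u} (cM2r 1 2) s203 0 a203 := aux_base3 tw74 rfl b203
theorem x203_1 : AuxS.{u} (cM2r 1 2) s203 0 a203_1 := (AuxS.up x203 c203_1 :)
theorem x203_2 : AuxS.{u} (cM2r 1 2) s203 0 a203_2 := (AuxS.up2 x203_1 c203_2 :)
theorem n203 : Sound.{u} (cM2r 1 2) s203 0 :=
  (x203_2.k7 c203_0 :)
theorem x218 : AuxS.{u} (cM2r 1 2) s218 0 a218 := aux_base3 tw75 rfl b218
theorem x218_1 : AuxS.{u} (cM2r 1 2) s218 0 a218_1 := (AuxS.up x218 c218_13 :)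
theorem x218_2 : AuxS.{u} (cM2r 1 2) s218 0 a218_2 := (AuxS.up x218_1 c218_14 :)
theorem x218_3 : AuxS.{u} (cM2r 1 2) s218 0 a218_3 := (AuxS.up x218_2 c218_15 :)
theorem x218_4 : AuxS.{u} (cM2r 1 2) s218 0 a218_4 := (AuxS.up x218_3 c218_16 :)
theorem x218_L289_1 : AuxS.{u} (cM2r 1 2) s218 (289 + 2) a218_L289_1 := (AuxS.hp (x218_4.lam 289) c218_3 :)
theorem p218_5_1 : Phs s218 a218_4 [] [] ct218_5 v218_5 5 w218_5_1 := (Phs.fin c218_5)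
theorem p218_5_3 : Phs s218 a218_4 [] [] ct218_5 v218_5 4 w218_5_3 := (Phs.stp c218_6 p218_5_1)
theorem p218_5_5 : Phs s218 a218_4 [] [] ct218_5 v218_5 2 w218_5_5 := (Phs.stp c218_7 p218_5_3)
theorem p218_5_7 : Phs s218 a218_4 [] [] ct218_5 v218_5 1 w218_5_7 := (Phs.stp c218_8 p218_5_5)
theorem p218_5_10 : Phs s218 a218_4 [] [] ct218_5 v218_5 5 w218_5_10 := (Phs.fin c218_10)
theorem n218 : Sound.{u} (cM2r 1 2) s218 0 :=
  (x218_4.spl c218_0 (AllM.cons ((x218_4.lam 0).tp c218_1 :) (AllM.cons ((x218_4.lam 165).e8 c218_2 :) (AllM.cons (x218_L289_1.tp c218_4 :) AllM.nil))) ((x218_4.weaken 1).ext2 (fun _ => rfl) GamS.nil AllS.nil c218_12 (Phs.stp c218_9 p218_5_7) (Phs.stp c218_11 p218_5_10)) :)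
theorem x219 : AuxS.{u} (cM2r 1 2) s219 0 a219 := aux_base3 tw75 rfl b219
theorem n219 : Sound.{u} (cM2r 1 2) s219 0 :=
  (x219.k4 c219_0 :)
theorem x220 : AuxS.{u} (cM2r 1 2) s220 0 a220 := aux_base3 tw75 rfl b220
theorem n220 : Sound.{u} (cM2r 1 2) s220 0 :=
  (x220.k4 c220_0 :)
theorem x221 : AuxS.{u} (cM2r 1 2) s221 0 a221 := aux_base3 tw75 rfl b221
theorem n221 : Sound.{u} (cM2r 1 2) s221 0 :=
  (x221.k4 c221_0 :)
theorem x204 : AuxS.{u} (cM2r 1 2) s204 0 a204 := aux_base3 tw75 rfl b204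
theorem x204_1 : AuxS.{u} (cM2r 1 2) s204 0 a204_1 := x204
theorem x204_2 : AuxS.{u} (cM2r 1 2) s204 0 a204_2 := x204_1
theorem n204 : Sound.{u} (cM2r 1 2) s204 0 :=
  (x204_2.fr (AuxS.gam x204_2 c204_0) (AllS.cons n218 (AllS.cons n219 (AllS.cons n220 (AllS.cons n221 AllS.nil)))) c204_1 :)
theorem x205 : AuxS.{u} (cM2r 1 2) s205 0 a205 := aux_base3 tw76 rfl b205
theorem x205_1 : AuxS.{u} (cM2r 1 2) s205 0 a205_1 := x205
theorem x205_2 : AuxS.{u} (cM2r 1 2) s205 0 a205_2 := x205_1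
theorem n205 : Sound.{u} (cM2r 1 2) s205 0 :=
  (x205_2.fr GamS.nil AllS.nil c205_0 :)
theorem x206 : AuxS.{u} (cM2r 1 2) s206 0 a206 := aux_base3 tw77 rfl b206
theorem n206 : Sound.{u} (cM2r 1 2) s206 0 :=
  (x206.k3 c206_0 :)
theorem x207 : AuxS.{u} (cM2r 1 2) s207 0 a207 := aux_base3 tw78 rfl b207
theorem n207 : Sound.{u} (cM2r 1 2) s207 0 :=
  (x207.k3 c207_0 :)
theorem x208 : AuxS.{u} (cM2r 1 2) s208 0 a208 := aux_base3 tw79 rfl b208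
theorem n208 : Sound.{u} (cM2r 1 2) s208 0 :=
  (x208.k3 c208_0 :)
theorem x209 : AuxS.{u} (cM2r 1 2) s209 0 a209 := aux_base3 tw80 rfl b209
theorem n209 : Sound.{u} (cM2r 1 2) s209 0 :=
  (x209.k3 c209_0 :)
theorem x210 : AuxS.{u} (cM2r 1 2) s210 0 a210 := aux_base3 tw81 rfl b210
theorem n210 : Sound.{u} (cM2r 1 2) s210 0 :=
  (x210.k3 c210_0 :)
theorem x211 : AuxS.{u} (cM2r 1 2) s211 0 a211 := aux_base3 tw82 rfl b211
theorem n211 : Sound.{u} (cM2r 1 2) s211 0 :=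
  (x211.k3 c211_0 :)
theorem x212 : AuxS.{u} (cM2r 1 2) s212 0 a212 := aux_base3 tw83 rfl b212
theorem n212 : Sound.{u} (cM2r 1 2) s212 0 :=
  (x212.k3 c212_0 :)
theorem x213 : AuxS.{u} (cM2r 1 2) s213 0 a213 := aux_base3 tw84 rfl b213
theorem n213 : Sound.{u} (cM2r 1 2) s213 0 :=
  (x213.k3 c213_0 :)
theorem x173 : AuxS.{u} (cM2r 1 2) s173 0 a173 := aux_base3 tw52 rfl b173
theorem x173_1 : AuxS.{u} (cM2r 1 2) s173 0 a173_1 := (AuxS.up x173 c173_19 :)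
theorem x173_L33_1 : AuxS.{u} (cM2r 1 2) s173 (33 + 2) a173_L33_1 := (AuxS.hp (x173_1.lam 33) c173_2 :)
theorem x173_L33_2 : AuxS.{u} (cM2r 1 2) s173 (33 + 2) a173_L33_2 := (AuxS.ne x173_L33_1 c173_3 :)
theorem x173_L161_1 : AuxS.{u} (cM2r 1 2) s173 (161 + 2) a173_L161_1 := (AuxS.hp (x173_1.lam 161) c173_6 :)
theorem p173_9_1 : Phs s173 a173_1 [] [s202, s203, s204, s205, s206, s207, s208, s209, s210, s211, s212, s213] ct173_9 v173_9 5 w173_9_1 := (Phs.fin c173_9)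
theorem p173_9_3 : Phs s173 a173_1 [] [s202, s203, s204, s205, s206, s207, s208, s209, s210, s211, s212, s213] ct173_9 v173_9 4 w173_9_3 := (Phs.stp c173_10 p173_9_1)
theorem p173_9_7 : Phs s173 a173_1 [] [s202, s203, s204, s205, s206, s207, s208, s209, s210, s211, s212, s213] ct173_9 v173_9 2 w173_9_7 := (Phs.app (Phs.app (Phs.stp c173_11 p173_9_3) (Phs.stp c173_12 p173_9_3)) (Phs.stp c173_13 p173_9_3))
theorem p173_9_9 : Phs s173 a173_1 [] [s202, s203, s204, s205, s206, s207, s208, s209, s210, s211, s212, s213] ct173_9 v173_9 1 w173_9_9 := (Phs.stp c173_14 p173_9_7)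
theorem p173_9_12 : Phs s173 a173_1 [] [s202, s203, s204, s205, s206, s207, s208, s209, s210, s211, s212, s213] ct173_9 v173_9 5 w173_9_12 := (Phs.fin c173_16)
theorem n173 : Sound.{u} (cM2r 1 2) s173 0 :=
  (x173_1.spl c173_0 (AllM.cons ((x173_1.lam 0).tp c173_1 :) (AllM.cons (x173_L33_2.tp c173_4 :) (AllM.cons ((x173_1.lam 37).e8 c173_5 :) (AllM.cons (x173_L161_1.tp c173_7 :) (AllM.cons ((x173_1.lam 165).e8 c173_8 :) AllM.nil))))) ((x173_1.weaken 1).ext2 (fun _ => rfl) GamS.nil (AllS.cons n202 (AllS.cons n203 (AllS.cons n204 (AllS.cons n205 (AllS.cons n206 (AllS.cons n207 (AllS.cons n208 (AllS.cons n209 (AllS.cons n210 (AllS.cons n211 (AllS.cons n212 (AllS.cons n213 AllS.nil)))))))))))) c173_18 (Phs.stp c173_15 p173_9_9) (Phs.stp c173_17 p173_9_12)) :)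
theorem x165 : AuxS.{u} (cM2r 1 2) s165 0 a165 := aux_base3 tw11 rfl b165
theorem x165_1 : AuxS.{u} (cM2r 1 2) s165 0 a165_1 := (AuxS.up x165 c165_1 :)
theorem n165 : Sound.{u} (cM2r 1 2) s165 0 :=
  (x165_1.fr2 GamS.nil (AllS.cons n172 (AllS.cons n173 AllS.nil)) c165_0 :)
theorem x166 : AuxS.{u} (cM2r 1 2) s166 0 a166 := aux_base3 tw11 rfl b166
theorem n166 : Sound.{u} (cM2r 1 2) s166 0 :=
  (x166.k4 c166_0 :)
theorem x167 : AuxS.{u} (cM2r 1 2) s167 0 a167 := aux_base3 tw11 rfl b167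
theorem n167 : Sound.{u} (cM2r 1 2) s167 0 :=
  (x167.k4 c167_0 :)
theorem x168 : AuxS.{u} (cM2r 1 2) s168 0 a168 := aux_base3 tw11 rfl b168
theorem n168 : Sound.{u} (cM2r 1 2) s168 0 :=
  (x168.k4 c168_0 :)
theorem x169 : AuxS.{u} (cM2r 1 2) s169 0 a169 := aux_base3 tw11 rfl b169
theorem n169 : Sound.{u} (cM2r 1 2) s169 0 :=
  (x169.k4 c169_0 :)
theorem x170 : AuxS.{u} (cM2r 1 2) s170 0 a170 := aux_base3 tw11 rfl b170
theorem n170 : Sound.{u} (cM2r 1 2) s170 0 :=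
  (x170.k4 c170_0 :)
theorem x171 : AuxS.{u} (cM2r 1 2) s171 0 a171 := aux_base3 tw11 rfl b171
theorem n171 : Sound.{u} (cM2r 1 2) s171 0 :=
  (x171.k4 c171_0 :)
theorem x12 : AuxS.{u} (cM2r 1 2) s12 0 a12 := aux_base3 tw11 rfl b12
theorem x12_1 : AuxS.{u} (cM2r 1 2) s12 0 a12_1 := x12
theorem n12 : Sound.{u} (cM2r 1 2) s12 0 :=
  (x12_1.fr (AuxS.gam x12_1 c12_0) (AllS.cons n164 (AllS.cons n165 (AllS.cons n166 (AllS.cons n167 (AllS.cons n168 (AllS.cons n169 (AllS.cons n170 (AllS.cons n171 AllS.nil)))))))) c12_1 :)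
theorem x13 : AuxS.{u} (cM2r 1 2) s13 0 a13 := aux_base3 tw12 rfl b13
theorem x13_1 : AuxS.{u} (cM2r 1 2) s13 0 a13_1 := x13
theorem n13 : Sound.{u} (cM2r 1 2) s13 0 :=
  (x13_1.fr GamS.nil AllS.nil c13_0 :)
theorem x14 : AuxS.{u} (cM2r 1 2) s14 0 a14 := aux_base3 tw13 rfl b14
theorem x14_1 : AuxS.{u} (cM2r 1 2) s14 0 a14_1 := x14
theorem n14 : Sound.{u} (cM2r 1 2) s14 0 :=
  (x14_1.fr GamS.nil AllS.nil c14_0 :)
theorem x15 : AuxS.{u} (cM2r 1 2) s15 0 a15 := aux_base3 tw14 rfl b15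
theorem x15_1 : AuxS.{u} (cM2r 1 2) s15 0 a15_1 := x15
theorem n15 : Sound.{u} (cM2r 1 2) s15 0 :=
  (x15_1.fr GamS.nil AllS.nil c15_0 :)
theorem x16 : AuxS.{u} (cM2r 1 2) s16 0 a16 := aux_base3 tw15 rfl b16
theorem n16 : Sound.{u} (cM2r 1 2) s16 0 :=
  (x16.k3 c16_0 :)
theorem x17 : AuxS.{u} (cM2r 1 2) s17 0 a17 := aux_base3 tw16 rfl b17
theorem n17 : Sound.{u} (cM2r 1 2) s17 0 :=
  (x17.k3 c17_0 :)
theorem x7 : AuxS.{u} (cM2r 1 2) s7 0 a7 := aux_base3 tw1 rfl b7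
theorem x7_1 : AuxS.{u} (cM2r 1 2) s7 0 a7_1 := (AuxS.up x7 c7_5 :)
theorem p7_0_1 : Phs s7 a7_1 (List.map Prod.fst g7_0) [s8, s9, s10, s11, s12, s13, s14, s15, s16, s17] ct7_0 v7_0 4 w7_0_1 := (Phs.fin c7_1)
theorem p7_0_3 : Phs s7 a7_1 (List.map Prod.fst g7_0) [s8, s9, s10, s11, s12, s13, s14, s15, s16, s17] ct7_0 v7_0 1 w7_0_3 := (Phs.stp c7_2 p7_0_1)
theorem n7 : Sound.{u} (cM2r 1 2) s7 0 :=
  (x7_1.ext2 (fun h => absurd h (by decide)) (AuxS.gam x7_1 c7_0) (AllS.cons n8 (AllS.cons n9 (AllS.cons n10 (AllS.cons n11 (AllS.cons n12 (AllS.cons n13 (AllS.cons n14 (AllS.cons n15 (AllS.cons n16 (AllS.cons n17 AllS.nil)))))))))) c7_4 (Phs.stp c7_3 p7_0_3) (Phs.fin (ct := ct7_0) rfl) :)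
theorem x5 : AuxS.{u} (cM2r 1 2) s5 0 a5 := aux_base3 tw5 rfl b5
theorem x5_1 : AuxS.{u} (cM2r 1 2) s5 0 a5_1 := x5
theorem n5 : Sound.{u} (cM2r 1 2) s5 0 :=
  (x5_1.jump c5_0 c5_1 n7 :)
theorem x6 : AuxS.{u} (cM2r 1 2) s6 0 a6 := aux_base3 tw6 rfl b6
theorem x6_1 : AuxS.{u} (cM2r 1 2) s6 0 a6_1 := (AuxS.up x6 c6_1 :)
theorem n6 : Sound.{u} (cM2r 1 2) s6 0 :=
  (x6_1.k1 c6_0 :)
theorem x1 : AuxS.{u} (cM2r 1 2) s1 0 a1 := aux_base3 tw1 rfl b1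
theorem x1_1 : AuxS.{u} (cM2r 1 2) s1 0 a1_1 := x1
theorem n1 : Sound.{u} (cM2r 1 2) s1 0 :=
  (x1_1.ext2 (fun h => absurd h (by decide)) GamS.nil (AllS.cons n5 (AllS.cons n6 AllS.nil)) c1_1 (Phs.fin (ct := ct1_0) rfl) (Phs.fin c1_0) :)
theorem x2 : AuxS.{u} (cM2r 1 2) s2 0 a2 := aux_base3 tw2 rfl b2
theorem x2_1 : AuxS.{u} (cM2r 1 2) s2 0 a2_1 := (AuxS.up x2 c2_1 :)
theorem n2 : Sound.{u} (cM2r 1 2) s2 0 :=
  (x2_1.k1 c2_0 :)
theorem x296 : AuxS.{u} (cM2r 1 2) s296 0 a296 := aux_base3 tw114 rfl b296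
theorem x296_1 : AuxS.{u} (cM2r 1 2) s296 0 a296_1 := (AuxS.up x296 c296_9 :)
theorem x296_2 : AuxS.{u} (cM2r 1 2) s296 0 a296_2 := (AuxS.up2 x296_1 c296_10 :)
theorem x296_3 : AuxS.{u} (cM2r 1 2) s296 0 a296_3 := (AuxS.up2 x296_2 c296_11 :)
theorem x296_L5_1 : AuxS.{u} (cM2r 1 2) s296 (5 + 2) a296_L5_1 := (AuxS.hp (x296_3.lam 5) c296_3 :)
theorem x296_L517_1 : AuxS.{u} (cM2r 1 2) s296 (517 + 2) a296_L517_1 := (AuxS.hp (x296_3.lam 517) c296_6 :)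
theorem n296 : Sound.{u} (cM2r 1 2) s296 0 :=
  (x296_3.spl c296_0 (AllM.cons ((x296_3.lam 0).tp c296_1 :) (AllM.cons ((x296_3.lam 1).e8 c296_2 :) (AllM.cons (x296_L5_1.tp c296_4 :) (AllM.cons ((x296_3.lam 513).e8 c296_5 :) (AllM.cons (x296_L517_1.tp c296_7 :) AllM.nil))))) ((x296_3.weaken 1).ext2 (fun _ => rfl) GamS.nil AllS.nil c296_8 (Phs.fin (ct := ct296_8) rfl) (Phs.fin (ct := ct296_8) rfl)) :)
theorem x297 : AuxS.{u} (cM2r 1 2) s297 0 a297 := aux_base3 tw115 rfl b297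
theorem x297_1 : AuxS.{u} (cM2r 1 2) s297 0 a297_1 := (AuxS.up x297 c297_9 :)
theorem x297_L5_1 : AuxS.{u} (cM2r 1 2) s297 (5 + 2) a297_L5_1 := (AuxS.hp (x297_1.lam 5) c297_3 :)
theorem x297_L517_1 : AuxS.{u} (cM2r 1 2) s297 (517 + 2) a297_L517_1 := (AuxS.hp (x297_1.lam 517) c297_6 :)
theorem n297 : Sound.{u} (cM2r 1 2) s297 0 :=
  (x297_1.spl c297_0 (AllM.cons ((x297_1.lam 0).tp c297_1 :) (AllM.cons ((x297_1.lam 1).e8 c297_2 :) (AllM.cons (x297_L5_1.tp c297_4 :) (AllM.cons ((x297_1.lam 513).e8 c297_5 :) (AllM.cons (x297_L517_1.tp c297_7 :) AllM.nil))))) ((x297_1.weaken 1).ext2 (fun _ => rfl) GamS.nil AllS.nil c297_8 (Phs.fin (ct := ct297_8) rfl) (Phs.fin (ct := ct297_8) rfl)) :)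
theorem x298 : AuxS.{u} (cM2r 1 2) s298 0 a298 := aux_base3 tw116 rfl b298
theorem x298_1 : AuxS.{u} (cM2r 1 2) s298 0 a298_1 := (AuxS.up x298 c298_9 :)
theorem x298_2 : AuxS.{u} (cM2r 1 2) s298 0 a298_2 := (AuxS.up x298_1 c298_10 :)
theorem x298_3 : AuxS.{u} (cM2r 1 2) s298 0 a298_3 := (AuxS.up2 x298_2 c298_11 :)
theorem x298_L5_1 : AuxS.{u} (cM2r 1 2) s298 (5 + 2) a298_L5_1 := (AuxS.hp (x298_3.lam 5) c298_3 :)
theorem x298_L517_1 : AuxS.{u} (cM2r 1 2) s298 (517 + 2) a298_L517_1 := (AuxS.hp (x298_3.lam 517) c298_6 :)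
theorem n298 : Sound.{u} (cM2r 1 2) s298 0 :=
  (x298_3.spl c298_0 (AllM.cons ((x298_3.lam 0).tp c298_1 :) (AllM.cons ((x298_3.lam 1).e8 c298_2 :) (AllM.cons (x298_L5_1.tp c298_4 :) (AllM.cons ((x298_3.lam 513).e8 c298_5 :) (AllM.cons (x298_L517_1.tp c298_7 :) AllM.nil))))) ((x298_3.weaken 1).ext2 (fun _ => rfl) GamS.nil AllS.nil c298_8 (Phs.fin (ct := ct298_8) rfl) (Phs.fin (ct := ct298_8) rfl)) :)
theorem x299 : AuxS.{u} (cM2r 1 2) s299 0 a299 := aux_base3 tw117 rfl b299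
theorem x299_1 : AuxS.{u} (cM2r 1 2) s299 0 a299_1 := (AuxS.up x299 c299_9 :)
theorem x299_2 : AuxS.{u} (cM2r 1 2) s299 0 a299_2 := (AuxS.up x299_1 c299_10 :)
theorem x299_3 : AuxS.{u} (cM2r 1 2) s299 0 a299_3 := (AuxS.up2 x299_2 c299_11 :)
theorem x299_L5_1 : AuxS.{u} (cM2r 1 2) s299 (5 + 2) a299_L5_1 := (AuxS.hp (x299_3.lam 5) c299_3 :)
theorem x299_L517_1 : AuxS.{u} (cM2r 1 2) s299 (517 + 2) a299_L517_1 := (AuxS.hp (x299_3.lam 517) c299_6 :)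
theorem n299 : Sound.{u} (cM2r 1 2) s299 0 :=
  (x299_3.spl c299_0 (AllM.cons ((x299_3.lam 0).tp c299_1 :) (AllM.cons ((x299_3.lam 1).e8 c299_2 :) (AllM.cons (x299_L5_1.tp c299_4 :) (AllM.cons ((x299_3.lam 513).e8 c299_5 :) (AllM.cons (x299_L517_1.tp c299_7 :) AllM.nil))))) ((x299_3.weaken 1).ext2 (fun _ => rfl) GamS.nil AllS.nil c299_8 (Phs.fin (ct := ct299_8) rfl) (Phs.fin (ct := ct299_8) rfl)) :)
theorem x300 : AuxS.{u} (cM2r 1 2) s300 0 a300 := aux_base3 tw118 rfl b300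
theorem x300_1 : AuxS.{u} (cM2r 1 2) s300 0 a300_1 := (AuxS.up x300 c300_9 :)
theorem x300_2 : AuxS.{u} (cM2r 1 2) s300 0 a300_2 := (AuxS.up x300_1 c300_10 :)
theorem x300_3 : AuxS.{u} (cM2r 1 2) s300 0 a300_3 := (AuxS.up x300_2 c300_11 :)
theorem x300_L5_1 : AuxS.{u} (cM2r 1 2) s300 (5 + 2) a300_L5_1 := (AuxS.hp (x300_3.lam 5) c300_3 :)
theorem x300_L517_1 : AuxS.{u} (cM2r 1 2) s300 (517 + 2) a300_L517_1 := (AuxS.hp (x300_3.lam 517) c300_6 :)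
theorem n300 : Sound.{u} (cM2r 1 2) s300 0 :=
  (x300_3.spl c300_0 (AllM.cons ((x300_3.lam 0).tp c300_1 :) (AllM.cons ((x300_3.lam 1).e8 c300_2 :) (AllM.cons (x300_L5_1.tp c300_4 :) (AllM.cons ((x300_3.lam 513).e8 c300_5 :) (AllM.cons (x300_L517_1.tp c300_7 :) AllM.nil))))) ((x300_3.weaken 1).ext2 (fun _ => rfl) GamS.nil AllS.nil c300_8 (Phs.fin (ct := ct300_8) rfl) (Phs.fin (ct := ct300_8) rfl)) :)
theorem x301 : AuxS.{u} (cM2r 1 2) s301 0 a301 := aux_base3 tw119 rfl b301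
theorem x301_1 : AuxS.{u} (cM2r 1 2) s301 0 a301_1 := (AuxS.up x301 c301_9 :)
theorem x301_2 : AuxS.{u} (cM2r 1 2) s301 0 a301_2 := (AuxS.up x301_1 c301_10 :)
theorem x301_3 : AuxS.{u} (cM2r 1 2) s301 0 a301_3 := (AuxS.up2 x301_2 c301_11 :)
theorem x301_L5_1 : AuxS.{u} (cM2r 1 2) s301 (5 + 2) a301_L5_1 := (AuxS.hp (x301_3.lam 5) c301_3 :)
theorem x301_L517_1 : AuxS.{u} (cM2r 1 2) s301 (517 + 2) a301_L517_1 := (AuxS.hp (x301_3.lam 517) c301_6 :)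
theorem n301 : Sound.{u} (cM2r 1 2) s301 0 :=
  (x301_3.spl c301_0 (AllM.cons ((x301_3.lam 0).tp c301_1 :) (AllM.cons ((x301_3.lam 1).e8 c301_2 :) (AllM.cons (x301_L5_1.tp c301_4 :) (AllM.cons ((x301_3.lam 513).e8 c301_5 :) (AllM.cons (x301_L517_1.tp c301_7 :) AllM.nil))))) ((x301_3.weaken 1).ext2 (fun _ => rfl) GamS.nil AllS.nil c301_8 (Phs.fin (ct := ct301_8) rfl) (Phs.fin (ct := ct301_8) rfl)) :)
theorem x302 : AuxS.{u} (cM2r 1 2) s302 0 a302 := aux_base3 tw120 rfl b302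
theorem x302_1 : AuxS.{u} (cM2r 1 2) s302 0 a302_1 := (AuxS.up x302 c302_9 :)
theorem x302_2 : AuxS.{u} (cM2r 1 2) s302 0 a302_2 := (AuxS.up x302_1 c302_10 :)
theorem x302_3 : AuxS.{u} (cM2r 1 2) s302 0 a302_3 := (AuxS.up2 x302_2 c302_11 :)
theorem x302_L5_1 : AuxS.{u} (cM2r 1 2) s302 (5 + 2) a302_L5_1 := (AuxS.hp (x302_3.lam 5) c302_3 :)
theorem x302_L517_1 : AuxS.{u} (cM2r 1 2) s302 (517 + 2) a302_L517_1 := (AuxS.hp (x302_3.lam 517) c302_6 :)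
theorem n302 : Sound.{u} (cM2r 1 2) s302 0 :=
  (x302_3.spl c302_0 (AllM.cons ((x302_3.lam 0).tp c302_1 :) (AllM.cons ((x302_3.lam 1).e8 c302_2 :) (AllM.cons (x302_L5_1.tp c302_4 :) (AllM.cons ((x302_3.lam 513).e8 c302_5 :) (AllM.cons (x302_L517_1.tp c302_7 :) AllM.nil))))) ((x302_3.weaken 1).ext2 (fun _ => rfl) GamS.nil AllS.nil c302_8 (Phs.fin (ct := ct302_8) rfl) (Phs.fin (ct := ct302_8) rfl)) :)
theorem x303 : AuxS.{u} (cM2r 1 2) s303 0 a303 := aux_base3 tw121 rfl b303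
theorem x303_1 : AuxS.{u} (cM2r 1 2) s303 0 a303_1 := (AuxS.up x303 c303_9 :)
theorem x303_2 : AuxS.{u} (cM2r 1 2) s303 0 a303_2 := (AuxS.up x303_1 c303_10 :)
theorem x303_3 : AuxS.{u} (cM2r 1 2) s303 0 a303_3 := (AuxS.up x303_2 c303_11 :)
theorem x303_L5_1 : AuxS.{u} (cM2r 1 2) s303 (5 + 2) a303_L5_1 := (AuxS.hp (x303_3.lam 5) c303_3 :)
theorem x303_L517_1 : AuxS.{u} (cM2r 1 2) s303 (517 + 2) a303_L517_1 := (AuxS.hp (x303_3.lam 517) c303_6 :)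
theorem n303 : Sound.{u} (cM2r 1 2) s303 0 :=
  (x303_3.spl c303_0 (AllM.cons ((x303_3.lam 0).tp c303_1 :) (AllM.cons ((x303_3.lam 1).e8 c303_2 :) (AllM.cons (x303_L5_1.tp c303_4 :) (AllM.cons ((x303_3.lam 513).e8 c303_5 :) (AllM.cons (x303_L517_1.tp c303_7 :) AllM.nil))))) ((x303_3.weaken 1).ext2 (fun _ => rfl) GamS.nil AllS.nil c303_8 (Phs.fin (ct := ct303_8) rfl) (Phs.fin (ct := ct303_8) rfl)) :)
theorem x264 : AuxS.{u} (cM2r 1 2) s264 0 a264 := aux_base3 tw113 rfl b264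
theorem x264_1 : AuxS.{u} (cM2r 1 2) s264 0 a264_1 := (AuxS.up x264 c264_7 :)
theorem x264_2 : AuxS.{u} (cM2r 1 2) s264 0 a264_2 := (AuxS.up x264_1 c264_8 :)
theorem x264_3p : AuxS.{u} (cM2r 1 2) s264 0 a264_3p := (AuxS.up x264_2 c264_9 :)
theorem x264_3 : AuxS.{u} (cM2r 1 2) s264 0 a264_3 := (AuxS.up2 x264_3p c264_10 :)
theorem p264_1_1 : Phs s264 a264_3 [] [s296, s297, s298, s299, s300, s301, s302, s303] ct264_1 v264_1 5 w264_1_1 := (Phs.fin c264_1)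
theorem p264_1_3 : Phs s264 a264_3 [] [s296, s297, s298, s299, s300, s301, s302, s303] ct264_1 v264_1 4 w264_1_3 := (Phs.stp c264_2 p264_1_1)
theorem p264_1_5 : Phs s264 a264_3 [] [s296, s297, s298, s299, s300, s301, s302, s303] ct264_1 v264_1 2 w264_1_5 := (Phs.stp c264_3 p264_1_3)
theorem p264_1_7 : Phs s264 a264_3 [] [s296, s297, s298, s299, s300, s301, s302, s303] ct264_1 v264_1 1 w264_1_7 := (Phs.stp c264_4 p264_1_5)
theorem n264 : Sound.{u} (cM2r 1 2) s264 0 :=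
  (x264_3.par c264_0 ((x264_3.weaken 1).ext2 (fun _ => rfl) GamS.nil (AllS.cons n296 (AllS.cons n297 (AllS.cons n298 (AllS.cons n299 (AllS.cons n300 (AllS.cons n301 (AllS.cons n302 (AllS.cons n303 AllS.nil)))))))) c264_6 (Phs.stp c264_5 p264_1_7) (Phs.fin (ct := ct264_1) rfl)) :)
theorem x265 : AuxS.{u} (cM2r 1 2) s265 0 a265 := aux_base3 tw113 rfl b265
theorem n265 : Sound.{u} (cM2r 1 2) s265 0 :=
  (x265.k4 c265_0 :)
theorem x266 : AuxS.{u} (cM2r 1 2) s266 0 a266 := aux_base3 tw113 rfl b266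
theorem n266 : Sound.{u} (cM2r 1 2) s266 0 :=
  (x266.k4 c266_0 :)
theorem x267 : AuxS.{u} (cM2r 1 2) s267 0 a267 := aux_base3 tw113 rfl b267
theorem n267 : Sound.{u} (cM2r 1 2) s267 0 :=
  (x267.k4 c267_0 :)
theorem x268 : AuxS.{u} (cM2r 1 2) s268 0 a268 := aux_base3 tw113 rfl b268
theorem n268 : Sound.{u} (cM2r 1 2) s268 0 :=
  (x268.k4 c268_0 :)
theorem x269 : AuxS.{u} (cM2r 1 2) s269 0 a269 := aux_base3 tw113 rfl b269
theorem n269 : Sound.{u} (cM2r 1 2) s269 0 :=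
  (x269.k4 c269_0 :)
theorem x270 : AuxS.{u} (cM2r 1 2) s270 0 a270 := aux_base3 tw113 rfl b270
theorem n270 : Sound.{u} (cM2r 1 2) s270 0 :=
  (x270.k4 c270_0 :)
theorem x271 : AuxS.{u} (cM2r 1 2) s271 0 a271 := aux_base3 tw113 rfl b271
theorem n271 : Sound.{u} (cM2r 1 2) s271 0 :=
  (x271.k4 c271_0 :)
theorem x272 : AuxS.{u} (cM2r 1 2) s272 0 a272 := aux_base3 tw113 rfl b272
theorem n272 : Sound.{u} (cM2r 1 2) s272 0 :=
  (x272.k4 c272_0 :)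
theorem x273 : AuxS.{u} (cM2r 1 2) s273 0 a273 := aux_base3 tw113 rfl b273
theorem n273 : Sound.{u} (cM2r 1 2) s273 0 :=
  (x273.k4 c273_0 :)
theorem x274 : AuxS.{u} (cM2r 1 2) s274 0 a274 := aux_base3 tw113 rfl b274
theorem n274 : Sound.{u} (cM2r 1 2) s274 0 :=
  (x274.k4 c274_0 :)
theorem x275 : AuxS.{u} (cM2r 1 2) s275 0 a275 := aux_base3 tw113 rfl b275
theorem n275 : Sound.{u} (cM2r 1 2) s275 0 :=
  (x275.k4 c275_0 :)
theorem x276 : AuxS.{u} (cM2r 1 2) s276 0 a276 := aux_base3 tw113 rfl b276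
theorem n276 : Sound.{u} (cM2r 1 2) s276 0 :=
  (x276.k4 c276_0 :)
theorem x277 : AuxS.{u} (cM2r 1 2) s277 0 a277 := aux_base3 tw113 rfl b277
theorem x277_1 : AuxS.{u} (cM2r 1 2) s277 0 a277_1 := x277
theorem x277_2 : AuxS.{u} (cM2r 1 2) s277 0 a277_2 := x277_1
theorem x277_3 : AuxS.{u} (cM2r 1 2) s277 0 a277_3 := x277_2
theorem n277 : Sound.{u} (cM2r 1 2) s277 0 :=
  (x277_3.jump c277_0 c277_1 n264 :)
theorem x278 : AuxS.{u} (cM2r 1 2) s278 0 a278 := aux_base3 tw113 rfl b278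
theorem n278 : Sound.{u} (cM2r 1 2) s278 0 :=
  (x278.k4 c278_0 :)
theorem x279 : AuxS.{u} (cM2r 1 2) s279 0 a279 := aux_base3 tw113 rfl b279
theorem n279 : Sound.{u} (cM2r 1 2) s279 0 :=
  (x279.k4 c279_0 :)
theorem x280 : AuxS.{u} (cM2r 1 2) s280 0 a280 := aux_base3 tw113 rfl b280
theorem x280_1 : AuxS.{u} (cM2r 1 2) s280 0 a280_1 := x280
theorem x280_2 : AuxS.{u} (cM2r 1 2) s280 0 a280_2 := x280_1
theorem x280_3 : AuxS.{u} (cM2r 1 2) s280 0 a280_3 := x280_2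
theorem n280 : Sound.{u} (cM2r 1 2) s280 0 :=
  (x280_3.jump c280_0 c280_1 n264 :)
theorem x281 : AuxS.{u} (cM2r 1 2) s281 0 a281 := aux_base3 tw113 rfl b281
theorem n281 : Sound.{u} (cM2r 1 2) s281 0 :=
  (x281.k4 c281_0 :)
theorem x282 : AuxS.{u} (cM2r 1 2) s282 0 a282 := aux_base3 tw113 rfl b282
theorem n282 : Sound.{u} (cM2r 1 2) s282 0 :=
  (x282.k4 c282_0 :)
theorem x283 : AuxS.{u} (cM2r 1 2) s283 0 a283 := aux_base3 tw113 rfl b283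
theorem n283 : Sound.{u} (cM2r 1 2) s283 0 :=
  (x283.k4 c283_0 :)
theorem x284 : AuxS.{u} (cM2r 1 2) s284 0 a284 := aux_base3 tw113 rfl b284
theorem n284 : Sound.{u} (cM2r 1 2) s284 0 :=
  (x284.k4 c284_0 :)
theorem x285 : AuxS.{u} (cM2r 1 2) s285 0 a285 := aux_base3 tw113 rfl b285
theorem n285 : Sound.{u} (cM2r 1 2) s285 0 :=
  (x285.k4 c285_0 :)
theorem x286 : AuxS.{u} (cM2r 1 2) s286 0 a286 := aux_base3 tw113 rfl b286
theorem n286 : Sound.{u} (cM2r 1 2) s286 0 :=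
  (x286.k4 c286_0 :)
theorem x287 : AuxS.{u} (cM2r 1 2) s287 0 a287 := aux_base3 tw113 rfl b287
theorem n287 : Sound.{u} (cM2r 1 2) s287 0 :=
  (x287.k4 c287_0 :)
theorem x288 : AuxS.{u} (cM2r 1 2) s288 0 a288 := aux_base3 tw113 rfl b288
theorem n288 : Sound.{u} (cM2r 1 2) s288 0 :=
  (x288.k4 c288_0 :)
theorem x289 : AuxS.{u} (cM2r 1 2) s289 0 a289 := aux_base3 tw113 rfl b289
theorem n289 : Sound.{u} (cM2r 1 2) s289 0 :=
  (x289.k4 c289_0 :)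
theorem x290 : AuxS.{u} (cM2r 1 2) s290 0 a290 := aux_base3 tw113 rfl b290
theorem n290 : Sound.{u} (cM2r 1 2) s290 0 :=
  (x290.k4 c290_0 :)
theorem x291 : AuxS.{u} (cM2r 1 2) s291 0 a291 := aux_base3 tw113 rfl b291
theorem n291 : Sound.{u} (cM2r 1 2) s291 0 :=
  (x291.k4 c291_0 :)
theorem x292 : AuxS.{u} (cM2r 1 2) s292 0 a292 := aux_base3 tw113 rfl b292
theorem n292 : Sound.{u} (cM2r 1 2) s292 0 :=
  (x292.k4 c292_0 :)
theorem x293 : AuxS.{u} (cM2r 1 2) s293 0 a293 := aux_base3 tw113 rfl b293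
theorem x293_1 : AuxS.{u} (cM2r 1 2) s293 0 a293_1 := x293
theorem x293_2 : AuxS.{u} (cM2r 1 2) s293 0 a293_2 := x293_1
theorem x293_3 : AuxS.{u} (cM2r 1 2) s293 0 a293_3 := x293_2
theorem n293 : Sound.{u} (cM2r 1 2) s293 0 :=
  (x293_3.jump c293_0 c293_1 n264 :)
theorem x294 : AuxS.{u} (cM2r 1 2) s294 0 a294 := aux_base3 tw113 rfl b294
theorem n294 : Sound.{u} (cM2r 1 2) s294 0 :=
  (x294.k4 c294_0 :)
theorem x295 : AuxS.{u} (cM2r 1 2) s295 0 a295 := aux_base3 tw113 rfl b295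
theorem n295 : Sound.{u} (cM2r 1 2) s295 0 :=
  (x295.k4 c295_0 :)
theorem x260 : AuxS.{u} (cM2r 1 2) s260 0 a260 := aux_base3 tw113 rfl b260
theorem x260_1 : AuxS.{u} (cM2r 1 2) s260 0 a260_1 := x260
theorem x260_2 : AuxS.{u} (cM2r 1 2) s260 0 a260_2 := x260_1
theorem x260_3 : AuxS.{u} (cM2r 1 2) s260 0 a260_3 := x260_2
theorem n260 : Sound.{u} (cM2r 1 2) s260 0 :=
  (x260_3.fr GamS.nil (AllS.cons n264 (AllS.cons n265 (AllS.cons n266 (AllS.cons n267 (AllS.cons n268 (AllS.cons n269 (AllS.cons n270 (AllS.cons n271 (AllS.cons n272 (AllS.cons n273 (AllS.cons n274 (AllS.cons n275 (AllS.cons n276 (AllS.cons n277 (AllS.cons n278 (AllS.cons n279 (AllS.cons n280 (AllS.cons n281 (AllS.cons n282 (AllS.cons n283 (AllS.cons n284 (AllS.cons n285 (AllS.cons n286 (AllS.cons n287 (AllS.cons n288 (AllS.cons n289 (AllS.cons n290 (AllS.cons n291 (AllS.cons n292 (AllS.cons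 n293 (AllS.cons n294 (AllS.cons n295 AllS.nil)))))))))))))))))))))))))))))))) c260_0 :)
theorem x336 : AuxS.{u} (cM2r 1 2) s336 0 a336 := aux_base3 tw122 rfl b336
theorem x336_1 : AuxS.{u} (cM2r 1 2) s336 0 a336_1 := (AuxS.up x336 c336_1 :)
theorem n336 : Sound.{u} (cM2r 1 2) s336 0 :=
  (x336_1.k1 c336_0 :)
theorem x337 : AuxS.{u} (cM2r 1 2) s337 0 a337 := aux_base3 tw123 rfl b337
theorem x337_1 : AuxS.{u} (cM2r 1 2) s337 0 a337_1 := (AuxS.up x337 c337_1 :)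
theorem n337 : Sound.{u} (cM2r 1 2) s337 0 :=
  (x337_1.k7 c337_0 :)
theorem x338 : AuxS.{u} (cM2r 1 2) s338 0 a338 := aux_base3 tw124 rfl b338
theorem x338_1 : AuxS.{u} (cM2r 1 2) s338 0 a338_1 := (AuxS.up x338 c338_1 :)
theorem x338_2 : AuxS.{u} (cM2r 1 2) s338 0 a338_2 := x338_1
theorem n338 : Sound.{u} (cM2r 1 2) s338 0 :=
  (x338_2.k1 c338_0 :)
theorem x339 : AuxS.{u} (cM2r 1 2) s339 0 a339 := aux_base3 tw125 rfl b339
theorem x339_1 : AuxS.{u} (cM2r 1 2) s339 0 a339_1 := (AuxS.up x339 c339_1 :)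
theorem x339_2 : AuxS.{u} (cM2r 1 2) s339 0 a339_2 := x339_1
theorem n339 : Sound.{u} (cM2r 1 2) s339 0 :=
  (x339_2.k7 c339_0 :)
theorem x340 : AuxS.{u} (cM2r 1 2) s340 0 a340 := aux_base3 tw126 rfl b340
theorem x340_1 : AuxS.{u} (cM2r 1 2) s340 0 a340_1 := (AuxS.up x340 c340_1 :)
theorem x340_2 : AuxS.{u} (cM2r 1 2) s340 0 a340_2 := x340_1
theorem n340 : Sound.{u} (cM2r 1 2) s340 0 :=
  (x340_2.k7 c340_0 :)
theorem x341 : AuxS.{u} (cM2r 1 2) s341 0 a341 := aux_base3 tw127 rfl b341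
theorem x341_1 : AuxS.{u} (cM2r 1 2) s341 0 a341_1 := (AuxS.up x341 c341_1 :)
theorem x341_2 : AuxS.{u} (cM2r 1 2) s341 0 a341_2 := x341_1
theorem n341 : Sound.{u} (cM2r 1 2) s341 0 :=
  (x341_2.k7 c341_0 :)
theorem x342 : AuxS.{u} (cM2r 1 2) s342 0 a342 := aux_base3 tw128 rfl b342
theorem x342_1 : AuxS.{u} (cM2r 1 2) s342 0 a342_1 := (AuxS.up x342 c342_1 :)
theorem x342_2 : AuxS.{u} (cM2r 1 2) s342 0 a342_2 := x342_1
theorem n342 : Sound.{u} (cM2r 1 2) s342 0 :=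
  (x342_2.k7 c342_0 :)
theorem x343 : AuxS.{u} (cM2r 1 2) s343 0 a343 := aux_base3 tw129 rfl b343
theorem x343_1 : AuxS.{u} (cM2r 1 2) s343 0 a343_1 := (AuxS.up x343 c343_1 :)
theorem x343_2 : AuxS.{u} (cM2r 1 2) s343 0 a343_2 := x343_1
theorem n343 : Sound.{u} (cM2r 1 2) s343 0 :=
  (x343_2.k7 c343_0 :)
theorem x304 : AuxS.{u} (cM2r 1 2) s304 0 a304 := aux_base3 tw113 rfl b304
theorem x304_1 : AuxS.{u} (cM2r 1 2) s304 0 a304_1 := (AuxS.up x304 c304_13 :)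
theorem x304_2 : AuxS.{u} (cM2r 1 2) s304 0 a304_2 := (AuxS.up x304_1 c304_14 :)
theorem x304_3 : AuxS.{u} (cM2r 1 2) s304 0 a304_3 := (AuxS.up2 x304_2 c304_15 :)
theorem x304_L261_1 : AuxS.{u} (cM2r 1 2) s304 (261 + 2) a304_L261_1 := (AuxS.hp (x304_3.lam 261) c304_5 :)
theorem p304_7_1 : Phs s304 a304_3 [] [s336, s337, s338, s339, s340, s341, s342, s343] ct304_7 v304_7 5 w304_7_1 := (Phs.fin c304_7)
theorem p304_7_3 : Phs s304 a304_3 [] [s336, s337, s338, s339, s340, s341, s342, s343] ct304_7 v304_7 4 w304_7_3 := (Phs.stp c304_8 p304_7_1)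
theorem p304_7_5 : Phs s304 a304_3 [] [s336, s337, s338, s339, s340, s341, s342, s343] ct304_7 v304_7 2 w304_7_5 := (Phs.stp c304_9 p304_7_3)
theorem p304_7_7 : Phs s304 a304_3 [] [s336, s337, s338, s339, s340, s341, s342, s343] ct304_7 v304_7 1 w304_7_7 := (Phs.stp c304_10 p304_7_5)
theorem n304 : Sound.{u} (cM2r 1 2) s304 0 :=
  (x304_3.spl c304_0 (AllM.cons ((x304_3.lam 0).tp c304_1 :) (AllM.cons ((x304_3.lam 1).e8 c304_2 :) (AllM.cons ((x304_3.lam 5).tp c304_3 :) (AllM.cons ((x304_3.lam 257).e8 c304_4 :) (AllM.cons (x304_L261_1.tp c304_6 :) AllM.nil))))) ((x304_3.weaken 1).ext2 (fun _ => rfl) GamS.nil (AllS.cons n336 (AllS.cons n337 (AllS.cons n338 (AllS.cons n339 (AllS.cons n340 (AllS.cons n341 (AllS.cons n342 (AllS.cons n343 AllS.nil)))))))) c304_12 (Phs.stp c304_11 p304_7_7) (Phs.fin (ct := ct304_7) rfl)) :)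
theorem x305 : AuxS.{u} (cM2r 1 2) s305 0 a305 := aux_base3 tw113 rfl b305
theorem n305 : Sound.{u} (cM2r 1 2) s305 0 :=
  (x305.k4 c305_0 :)
theorem x306 : AuxS.{u} (cM2r 1 2) s306 0 a306 := aux_base3 tw113 rfl b306
theorem n306 : Sound.{u} (cM2r 1 2) s306 0 :=
  (x306.k4 c306_0 :)
theorem x307 : AuxS.{u} (cM2r 1 2) s307 0 a307 := aux_base3 tw113 rfl b307
theorem n307 : Sound.{u} (cM2r 1 2) s307 0 :=
  (x307.k4 c307_0 :)
theorem x308 : AuxS.{u} (cM2r 1 2) s308 0 a308 := aux_base3 tw113 rfl b308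
theorem n308 : Sound.{u} (cM2r 1 2) s308 0 :=
  (x308.k4 c308_0 :)
theorem x309 : AuxS.{u} (cM2r 1 2) s309 0 a309 := aux_base3 tw113 rfl b309
theorem n309 : Sound.{u} (cM2r 1 2) s309 0 :=
  (x309.k4 c309_0 :)
theorem x310 : AuxS.{u} (cM2r 1 2) s310 0 a310 := aux_base3 tw113 rfl b310
theorem n310 : Sound.{u} (cM2r 1 2) s310 0 :=
  (x310.k4 c310_0 :)
theorem x311 : AuxS.{u} (cM2r 1 2) s311 0 a311 := aux_base3 tw113 rfl b311
theorem n311 : Sound.{u} (cM2r 1 2) s311 0 :=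
  (x311.k4 c311_0 :)
theorem x312 : AuxS.{u} (cM2r 1 2) s312 0 a312 := aux_base3 tw113 rfl b312
theorem n312 : Sound.{u} (cM2r 1 2) s312 0 :=
  (x312.k4 c312_0 :)
theorem x313 : AuxS.{u} (cM2r 1 2) s313 0 a313 := aux_base3 tw113 rfl b313
theorem n313 : Sound.{u} (cM2r 1 2) s313 0 :=
  (x313.k4 c313_0 :)
theorem x314 : AuxS.{u} (cM2r 1 2) s314 0 a314 := aux_base3 tw113 rfl b314
theorem n314 : Sound.{u} (cM2r 1 2) s314 0 :=
  (x314.k4 c314_0 :)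
theorem x315 : AuxS.{u} (cM2r 1 2) s315 0 a315 := aux_base3 tw113 rfl b315
theorem n315 : Sound.{u} (cM2r 1 2) s315 0 :=
  (x315.k4 c315_0 :)
theorem x316 : AuxS.{u} (cM2r 1 2) s316 0 a316 := aux_base3 tw113 rfl b316
theorem n316 : Sound.{u} (cM2r 1 2) s316 0 :=
  (x316.k4 c316_0 :)
theorem x317 : AuxS.{u} (cM2r 1 2) s317 0 a317 := aux_base3 tw113 rfl b317
theorem x317_1 : AuxS.{u} (cM2r 1 2) s317 0 a317_1 := x317
theorem x317_2 : AuxS.{u} (cM2r 1 2) s317 0 a317_2 := x317_1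
theorem x317_3 : AuxS.{u} (cM2r 1 2) s317 0 a317_3 := x317_2
theorem n317 : Sound.{u} (cM2r 1 2) s317 0 :=
  (x317_3.jump c317_0 c317_1 n304 :)
theorem x318 : AuxS.{u} (cM2r 1 2) s318 0 a318 := aux_base3 tw113 rfl b318
theorem n318 : Sound.{u} (cM2r 1 2) s318 0 :=
  (x318.k4 c318_0 :)
theorem x319 : AuxS.{u} (cM2r 1 2) s319 0 a319 := aux_base3 tw113 rfl b319
theorem n319 : Sound.{u} (cM2r 1 2) s319 0 :=
  (x319.k4 c319_0 :)
theorem x320 : AuxS.{u} (cM2r 1 2) s320 0 a320 := aux_base3 tw113 rfl b320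
theorem x320_1 : AuxS.{u} (cM2r 1 2) s320 0 a320_1 := x320
theorem x320_2 : AuxS.{u} (cM2r 1 2) s320 0 a320_2 := x320_1
theorem x320_3 : AuxS.{u} (cM2r 1 2) s320 0 a320_3 := x320_2
theorem n320 : Sound.{u} (cM2r 1 2) s320 0 :=
  (x320_3.jump c320_0 c320_1 n304 :)
theorem x321 : AuxS.{u} (cM2r 1 2) s321 0 a321 := aux_base3 tw113 rfl b321
theorem n321 : Sound.{u} (cM2r 1 2) s321 0 :=
  (x321.k4 c321_0 :)
theorem x322 : AuxS.{u} (cM2r 1 2) s322 0 a322 := aux_base3 tw113 rfl b322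
theorem n322 : Sound.{u} (cM2r 1 2) s322 0 :=
  (x322.k4 c322_0 :)
theorem x323 : AuxS.{u} (cM2r 1 2) s323 0 a323 := aux_base3 tw113 rfl b323
theorem n323 : Sound.{u} (cM2r 1 2) s323 0 :=
  (x323.k4 c323_0 :)
theorem x324 : AuxS.{u} (cM2r 1 2) s324 0 a324 := aux_base3 tw113 rfl b324
theorem n324 : Sound.{u} (cM2r 1 2) s324 0 :=
  (x324.k4 c324_0 :)
theorem x325 : AuxS.{u} (cM2r 1 2) s325 0 a325 := aux_base3 tw113 rfl b325
theorem n325 : Sound.{u} (cM2r 1 2) s325 0 :=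
  (x325.k4 c325_0 :)
theorem x326 : AuxS.{u} (cM2r 1 2) s326 0 a326 := aux_base3 tw113 rfl b326
theorem n326 : Sound.{u} (cM2r 1 2) s326 0 :=
  (x326.k4 c326_0 :)
theorem x327 : AuxS.{u} (cM2r 1 2) s327 0 a327 := aux_base3 tw113 rfl b327
theorem n327 : Sound.{u} (cM2r 1 2) s327 0 :=
  (x327.k4 c327_0 :)
theorem x328 : AuxS.{u} (cM2r 1 2) s328 0 a328 := aux_base3 tw113 rfl b328
theorem n328 : Sound.{u} (cM2r 1 2) s328 0 :=
  (x328.k4 c328_0 :)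
theorem x329 : AuxS.{u} (cM2r 1 2) s329 0 a329 := aux_base3 tw113 rfl b329
theorem n329 : Sound.{u} (cM2r 1 2) s329 0 :=
  (x329.k4 c329_0 :)
theorem x330 : AuxS.{u} (cM2r 1 2) s330 0 a330 := aux_base3 tw113 rfl b330
theorem n330 : Sound.{u} (cM2r 1 2) s330 0 :=
  (x330.k4 c330_0 :)
theorem x331 : AuxS.{u} (cM2r 1 2) s331 0 a331 := aux_base3 tw113 rfl b331
theorem n331 : Sound.{u} (cM2r 1 2) s331 0 :=
  (x331.k4 c331_0 :)
theorem x332 : AuxS.{u} (cM2r 1 2) s332 0 a332 := aux_base3 tw113 rfl b332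
theorem n332 : Sound.{u} (cM2r 1 2) s332 0 :=
  (x332.k4 c332_0 :)
theorem x333 : AuxS.{u} (cM2r 1 2) s333 0 a333 := aux_base3 tw113 rfl b333
theorem x333_1 : AuxS.{u} (cM2r 1 2) s333 0 a333_1 := x333
theorem x333_2 : AuxS.{u} (cM2r 1 2) s333 0 a333_2 := x333_1
theorem x333_3 : AuxS.{u} (cM2r 1 2) s333 0 a333_3 := x333_2
theorem n333 : Sound.{u} (cM2r 1 2) s333 0 :=
  (x333_3.jump c333_0 c333_1 n304 :)
theorem x334 : AuxS.{u} (cM2r 1 2) s334 0 a334 := aux_base3 tw113 rfl b334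
theorem n334 : Sound.{u} (cM2r 1 2) s334 0 :=
  (x334.k4 c334_0 :)
theorem x335 : AuxS.{u} (cM2r 1 2) s335 0 a335 := aux_base3 tw113 rfl b335
theorem n335 : Sound.{u} (cM2r 1 2) s335 0 :=
  (x335.k4 c335_0 :)
theorem x261 : AuxS.{u} (cM2r 1 2) s261 0 a261 := aux_base3 tw113 rfl b261
theorem x261_1 : AuxS.{u} (cM2r 1 2) s261 0 a261_1 := x261
theorem x261_2 : AuxS.{u} (cM2r 1 2) s261 0 a261_2 := x261_1
theorem x261_3 : AuxS.{u} (cM2r 1 2) s261 0 a261_3 := x261_2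
theorem n261 : Sound.{u} (cM2r 1 2) s261 0 :=
  (x261_3.fr GamS.nil (AllS.cons n304 (AllS.cons n305 (AllS.cons n306 (AllS.cons n307 (AllS.cons n308 (AllS.cons n309 (AllS.cons n310 (AllS.cons n311 (AllS.cons n312 (AllS.cons n313 (AllS.cons n314 (AllS.cons n315 (AllS.cons n316 (AllS.cons n317 (AllS.cons n318 (AllS.cons n319 (AllS.cons n320 (AllS.cons n321 (AllS.cons n322 (AllS.cons n323 (AllS.cons n324 (AllS.cons n325 (AllS.cons n326 (AllS.cons n327 (AllS.cons n328 (AllS.cons n329 (AllS.cons n330 (AllS.cons n331 (AllS.cons n332 (AllS.cons n333 (AllS.cons n334 (AllS.cons n335 AllS.nil)))))))))))))))))))))))))))))))) c261_0 :)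
theorem x262 : AuxS.{u} (cM2r 1 2) s262 0 a262 := aux_base3 tw113 rfl b262
theorem x262_1 : AuxS.{u} (cM2r 1 2) s262 0 a262_1 := x262
theorem x262_2 : AuxS.{u} (cM2r 1 2) s262 0 a262_2 := x262_1
theorem x262_3 : AuxS.{u} (cM2r 1 2) s262 0 a262_3 := x262_2
theorem n262 : Sound.{u} (cM2r 1 2) s262 0 :=
  (x262_3.jump c262_0 c262_1 n260 :)
theorem x263 : AuxS.{u} (cM2r 1 2) s263 0 a263 := aux_base3 tw113 rfl b263
theorem x263_1 : AuxS.{u} (cM2r 1 2) s263 0 a263_1 := x263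
theorem x263_2 : AuxS.{u} (cM2r 1 2) s263 0 a263_2 := x263_1
theorem x263_3 : AuxS.{u} (cM2r 1 2) s263 0 a263_3 := x263_2
theorem n263 : Sound.{u} (cM2r 1 2) s263 0 :=
  (x263_3.jump c263_0 c263_1 n261 :)
theorem x259 : AuxS.{u} (cM2r 1 2) s259 0 a259 := aux_base3 tw113 rfl b259
theorem x259_1 : AuxS.{u} (cM2r 1 2) s259 0 a259_1 := x259
theorem x259_2 : AuxS.{u} (cM2r 1 2) s259 0 a259_2 := x259_1
theorem x259_3 : AuxS.{u} (cM2r 1 2) s259 0 a259_3 := x259_2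
theorem n259 : Sound.{u} (cM2r 1 2) s259 0 :=
  (x259_3.rho (AllS.cons n260 (AllS.cons n261 (AllS.cons n262 (AllS.cons n263 AllS.nil)))) c259_0 :)
theorem x243 : AuxS.{u} (cM2r 1 2) s243 0 a243 := aux_base3 tw97 rfl b243
theorem x243_1 : AuxS.{u} (cM2r 1 2) s243 0 a243_1 := x243
theorem x243_2 : AuxS.{u} (cM2r 1 2) s243 0 a243_2 := x243_1
theorem x243_3 : AuxS.{u} (cM2r 1 2) s243 0 a243_3 := x243_2
theorem n243 : Sound.{u} (cM2r 1 2) s243 0 :=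
  (x243_3.fr2 (AuxS.gam x243_3 c243_0) (AllS.cons n259 AllS.nil) c243_1 :)
theorem x244 : AuxS.{u} (cM2r 1 2) s244 0 a244 := aux_base3 tw98 rfl b244
theorem x244_1 : AuxS.{u} (cM2r 1 2) s244 0 a244_1 := x244
theorem x244_2 : AuxS.{u} (cM2r 1 2) s244 0 a244_2 := x244_1
theorem n244 : Sound.{u} (cM2r 1 2) s244 0 :=
  (x244_2.fr2 GamS.nil AllS.nil c244_0 :)
theorem x245 : AuxS.{u} (cM2r 1 2) s245 0 a245 := aux_base3 tw99 rfl b245
theorem x245_1 : AuxS.{u} (cM2r 1 2) s245 0 a245_1 := x245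
theorem x245_2 : AuxS.{u} (cM2r 1 2) s245 0 a245_2 := x245_1
theorem n245 : Sound.{u} (cM2r 1 2) s245 0 :=
  (x245_2.fr2 GamS.nil AllS.nil c245_0 :)
theorem x246 : AuxS.{u} (cM2r 1 2) s246 0 a246 := aux_base3 tw100 rfl b246
theorem x246_1 : AuxS.{u} (cM2r 1 2) s246 0 a246_1 := x246
theorem x246_2 : AuxS.{u} (cM2r 1 2) s246 0 a246_2 := x246_1
theorem n246 : Sound.{u} (cM2r 1 2) s246 0 :=
  (x246_2.fr2 GamS.nil AllS.nil c246_0 :)
theorem x247 : AuxS.{u} (cM2r 1 2) s247 0 a247 := aux_base3 tw101 rfl b247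
theorem x247_1 : AuxS.{u} (cM2r 1 2) s247 0 a247_1 := x247
theorem x247_2 : AuxS.{u} (cM2r 1 2) s247 0 a247_2 := x247_1
theorem x247_3 : AuxS.{u} (cM2r 1 2) s247 0 a247_3 := x247_2
theorem n247 : Sound.{u} (cM2r 1 2) s247 0 :=
  (x247_3.fr2 GamS.nil AllS.nil c247_0 :)
theorem x345 : AuxS.{u} (cM2r 1 2) s345 0 a345 := aux_base3 tw130 rfl b345
theorem x345_1 : AuxS.{u} (cM2r 1 2) s345 0 a345_1 := (AuxS.up x345 c345_1 :)
theorem x345_2 : AuxS.{u} (cM2r 1 2) s345 0 a345_2 := x345_1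
theorem n345 : Sound.{u} (cM2r 1 2) s345 0 :=
  (x345_2.k7 c345_0 :)
theorem x349 : AuxS.{u} (cM2r 1 2) s349 0 a349 := aux_base3 tw130 rfl b349
theorem x349_1 : AuxS.{u} (cM2r 1 2) s349 0 a349_1 := (AuxS.up x349 c349_8 :)
theorem x349_2 : AuxS.{u} (cM2r 1 2) s349 0 a349_2 := (AuxS.up x349_1 c349_9 :)
theorem x349_3 : AuxS.{u} (cM2r 1 2) s349 0 a349_3 := (AuxS.up2 x349_2 c349_10 :)
theorem x349_L261_1 : AuxS.{u} (cM2r 1 2) s349 (261 + 2) a349_L261_1 := (AuxS.hp (x349_3.lam 261) c349_5 :)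
theorem n349 : Sound.{u} (cM2r 1 2) s349 0 :=
  (x349_3.spl c349_0 (AllM.cons ((x349_3.lam 0).tp c349_1 :) (AllM.cons ((x349_3.lam 1).e8 c349_2 :) (AllM.cons ((x349_3.lam 5).tp c349_3 :) (AllM.cons ((x349_3.lam 257).e8 c349_4 :) (AllM.cons (x349_L261_1.tp c349_6 :) AllM.nil))))) ((x349_3.weaken 1).ext2 (fun _ => rfl) GamS.nil AllS.nil c349_7 (Phs.fin (ct := ct349_7) rfl) (Phs.fin (ct := ct349_7) rfl)) :)
theorem x350 : AuxS.{u} (cM2r 1 2) s350 0 a350 := aux_base3 tw130 rfl b350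
theorem n350 : Sound.{u} (cM2r 1 2) s350 0 :=
  (x350.k4 c350_0 :)
theorem x351 : AuxS.{u} (cM2r 1 2) s351 0 a351 := aux_base3 tw130 rfl b351
theorem n351 : Sound.{u} (cM2r 1 2) s351 0 :=
  (x351.k4 c351_0 :)
theorem x352 : AuxS.{u} (cM2r 1 2) s352 0 a352 := aux_base3 tw130 rfl b352
theorem n352 : Sound.{u} (cM2r 1 2) s352 0 :=
  (x352.k4 c352_0 :)
theorem x353 : AuxS.{u} (cM2r 1 2) s353 0 a353 := aux_base3 tw130 rfl b353
theorem n353 : Sound.{u} (cM2r 1 2) s353 0 :=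
  (x353.k4 c353_0 :)
theorem x354 : AuxS.{u} (cM2r 1 2) s354 0 a354 := aux_base3 tw130 rfl b354
theorem n354 : Sound.{u} (cM2r 1 2) s354 0 :=
  (x354.k4 c354_0 :)
theorem x355 : AuxS.{u} (cM2r 1 2) s355 0 a355 := aux_base3 tw130 rfl b355
theorem n355 : Sound.{u} (cM2r 1 2) s355 0 :=
  (x355.k4 c355_0 :)
theorem x356 : AuxS.{u} (cM2r 1 2) s356 0 a356 := aux_base3 tw130 rfl b356
theorem n356 : Sound.{u} (cM2r 1 2) s356 0 :=
  (x356.k4 c356_0 :)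
theorem x357 : AuxS.{u} (cM2r 1 2) s357 0 a357 := aux_base3 tw130 rfl b357
theorem n357 : Sound.{u} (cM2r 1 2) s357 0 :=
  (x357.k4 c357_0 :)
theorem x358 : AuxS.{u} (cM2r 1 2) s358 0 a358 := aux_base3 tw130 rfl b358
theorem n358 : Sound.{u} (cM2r 1 2) s358 0 :=
  (x358.k4 c358_0 :)
theorem x359 : AuxS.{u} (cM2r 1 2) s359 0 a359 := aux_base3 tw130 rfl b359
theorem n359 : Sound.{u} (cM2r 1 2) s359 0 :=
  (x359.k4 c359_0 :)
theorem x360 : AuxS.{u} (cM2r 1 2) s360 0 a360 := aux_base3 tw130 rfl b360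
theorem n360 : Sound.{u} (cM2r 1 2) s360 0 :=
  (x360.k4 c360_0 :)
theorem x361 : AuxS.{u} (cM2r 1 2) s361 0 a361 := aux_base3 tw130 rfl b361
theorem n361 : Sound.{u} (cM2r 1 2) s361 0 :=
  (x361.k4 c361_0 :)
theorem x362 : AuxS.{u} (cM2r 1 2) s362 0 a362 := aux_base3 tw130 rfl b362
theorem x362_1 : AuxS.{u} (cM2r 1 2) s362 0 a362_1 := x362
theorem x362_2 : AuxS.{u} (cM2r 1 2) s362 0 a362_2 := x362_1
theorem x362_3 : AuxS.{u} (cM2r 1 2) s362 0 a362_3 := x362_2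
theorem n362 : Sound.{u} (cM2r 1 2) s362 0 :=
  (x362_3.jump c362_0 c362_1 n349 :)
theorem x363 : AuxS.{u} (cM2r 1 2) s363 0 a363 := aux_base3 tw130 rfl b363
theorem n363 : Sound.{u} (cM2r 1 2) s363 0 :=
  (x363.k4 c363_0 :)
theorem x364 : AuxS.{u} (cM2r 1 2) s364 0 a364 := aux_base3 tw130 rfl b364
theorem n364 : Sound.{u} (cM2r 1 2) s364 0 :=
  (x364.k4 c364_0 :)
theorem x365 : AuxS.{u} (cM2r 1 2) s365 0 a365 := aux_base3 tw130 rfl b365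
theorem x365_1 : AuxS.{u} (cM2r 1 2) s365 0 a365_1 := x365
theorem x365_2 : AuxS.{u} (cM2r 1 2) s365 0 a365_2 := x365_1
theorem x365_3 : AuxS.{u} (cM2r 1 2) s365 0 a365_3 := x365_2
theorem n365 : Sound.{u} (cM2r 1 2) s365 0 :=
  (x365_3.jump c365_0 c365_1 n349 :)
theorem x366 : AuxS.{u} (cM2r 1 2) s366 0 a366 := aux_base3 tw130 rfl b366
theorem n366 : Sound.{u} (cM2r 1 2) s366 0 :=
  (x366.k4 c366_0 :)
theorem x367 : AuxS.{u} (cM2r 1 2) s367 0 a367 := aux_base3 tw130 rfl b367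
theorem n367 : Sound.{u} (cM2r 1 2) s367 0 :=
  (x367.k4 c367_0 :)
theorem x368 : AuxS.{u} (cM2r 1 2) s368 0 a368 := aux_base3 tw130 rfl b368
theorem n368 : Sound.{u} (cM2r 1 2) s368 0 :=
  (x368.k4 c368_0 :)
theorem x369 : AuxS.{u} (cM2r 1 2) s369 0 a369 := aux_base3 tw130 rfl b369
theorem n369 : Sound.{u} (cM2r 1 2) s369 0 :=
  (x369.k4 c369_0 :)
theorem x370 : AuxS.{u} (cM2r 1 2) s370 0 a370 := aux_base3 tw130 rfl b370
theorem n370 : Sound.{u} (cM2r 1 2) s370 0 :=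
  (x370.k4 c370_0 :)
theorem x371 : AuxS.{u} (cM2r 1 2) s371 0 a371 := aux_base3 tw130 rfl b371
theorem n371 : Sound.{u} (cM2r 1 2) s371 0 :=
  (x371.k4 c371_0 :)
theorem x372 : AuxS.{u} (cM2r 1 2) s372 0 a372 := aux_base3 tw130 rfl b372
theorem n372 : Sound.{u} (cM2r 1 2) s372 0 :=
  (x372.k4 c372_0 :)
theorem x373 : AuxS.{u} (cM2r 1 2) s373 0 a373 := aux_base3 tw130 rfl b373
theorem n373 : Sound.{u} (cM2r 1 2) s373 0 :=
  (x373.k4 c373_0 :)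
theorem x374 : AuxS.{u} (cM2r 1 2) s374 0 a374 := aux_base3 tw130 rfl b374
theorem n374 : Sound.{u} (cM2r 1 2) s374 0 :=
  (x374.k4 c374_0 :)
theorem x375 : AuxS.{u} (cM2r 1 2) s375 0 a375 := aux_base3 tw130 rfl b375
theorem n375 : Sound.{u} (cM2r 1 2) s375 0 :=
  (x375.k4 c375_0 :)
theorem x376 : AuxS.{u} (cM2r 1 2) s376 0 a376 := aux_base3 tw130 rfl b376
theorem n376 : Sound.{u} (cM2r 1 2) s376 0 :=
  (x376.k4 c376_0 :)
theorem x377 : AuxS.{u} (cM2r 1 2) s377 0 a377 := aux_base3 tw130 rfl b377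
theorem n377 : Sound.{u} (cM2r 1 2) s377 0 :=
  (x377.k4 c377_0 :)
theorem x378 : AuxS.{u} (cM2r 1 2) s378 0 a378 := aux_base3 tw130 rfl b378
theorem x378_1 : AuxS.{u} (cM2r 1 2) s378 0 a378_1 := x378
theorem x378_2 : AuxS.{u} (cM2r 1 2) s378 0 a378_2 := x378_1
theorem x378_3 : AuxS.{u} (cM2r 1 2) s378 0 a378_3 := x378_2
theorem n378 : Sound.{u} (cM2r 1 2) s378 0 :=
  (x378_3.jump c378_0 c378_1 n349 :)
theorem x379 : AuxS.{u} (cM2r 1 2) s379 0 a379 := aux_base3 tw130 rfl b379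
theorem n379 : Sound.{u} (cM2r 1 2) s379 0 :=
  (x379.k4 c379_0 :)
theorem x380 : AuxS.{u} (cM2r 1 2) s380 0 a380 := aux_base3 tw130 rfl b380
theorem n380 : Sound.{u} (cM2r 1 2) s380 0 :=
  (x380.k4 c380_0 :)
theorem x346 : AuxS.{u} (cM2r 1 2) s346 0 a346 := aux_base3 tw130 rfl b346
theorem x346_1 : AuxS.{u} (cM2r 1 2) s346 0 a346_1 := x346
theorem x346_2 : AuxS.{u} (cM2r 1 2) s346 0 a346_2 := x346_1
theorem x346_3 : AuxS.{u} (cM2r 1 2) s346 0 a346_3 := x346_2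
theorem n346 : Sound.{u} (cM2r 1 2) s346 0 :=
  (x346_3.fr GamS.nil (AllS.cons n349 (AllS.cons n350 (AllS.cons n351 (AllS.cons n352 (AllS.cons n353 (AllS.cons n354 (AllS.cons n355 (AllS.cons n356 (AllS.cons n357 (AllS.cons n358 (AllS.cons n359 (AllS.cons n360 (AllS.cons n361 (AllS.cons n362 (AllS.cons n363 (AllS.cons n364 (AllS.cons n365 (AllS.cons n366 (AllS.cons n367 (AllS.cons n368 (AllS.cons n369 (AllS.cons n370 (AllS.cons n371 (AllS.cons n372 (AllS.cons n373 (AllS.cons n374 (AllS.cons n375 (AllS.cons n376 (AllS.cons n377 (AllS.cons n378 (AllS.cons n379 (AllS.cons n380 AllS.nil)))))))))))))))))))))))))))))))) c346_0 :)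
theorem x347 : AuxS.{u} (cM2r 1 2) s347 0 a347 := aux_base3 tw130 rfl b347
theorem x347_1 : AuxS.{u} (cM2r 1 2) s347 0 a347_1 := (AuxS.up x347 c347_1 :)
theorem x347_2 : AuxS.{u} (cM2r 1 2) s347 0 a347_2 := x347_1
theorem n347 : Sound.{u} (cM2r 1 2) s347 0 :=
  (x347_2.k7 c347_0 :)
theorem x348 : AuxS.{u} (cM2r 1 2) s348 0 a348 := aux_base3 tw130 rfl b348
theorem x348_1 : AuxS.{u} (cM2r 1 2) s348 0 a348_1 := x348
theorem x348_2 : AuxS.{u} (cM2r 1 2) s348 0 a348_2 := x348_1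
theorem x348_3 : AuxS.{u} (cM2r 1 2) s348 0 a348_3 := x348_2
theorem n348 : Sound.{u} (cM2r 1 2) s348 0 :=
  (x348_3.jump c348_0 c348_1 n346 :)
theorem x344 : AuxS.{u} (cM2r 1 2) s344 0 a344 := aux_base3 tw130 rfl b344
theorem x344_1 : AuxS.{u} (cM2r 1 2) s344 0 a344_1 := x344
theorem x344_2 : AuxS.{u} (cM2r 1 2) s344 0 a344_2 := x344_1
theorem x344_3 : AuxS.{u} (cM2r 1 2) s344 0 a344_3 := x344_2
theorem n344 : Sound.{u} (cM2r 1 2) s344 0 :=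
  (x344_3.rho (AllS.cons n345 (AllS.cons n346 (AllS.cons n347 (AllS.cons n348 AllS.nil)))) c344_0 :)
theorem x248 : AuxS.{u} (cM2r 1 2) s248 0 a248 := aux_base3 tw102 rfl b248
theorem x248_1 : AuxS.{u} (cM2r 1 2) s248 0 a248_1 := x248
theorem x248_2 : AuxS.{u} (cM2r 1 2) s248 0 a248_2 := x248_1
theorem x248_3 : AuxS.{u} (cM2r 1 2) s248 0 a248_3 := x248_2
theorem n248 : Sound.{u} (cM2r 1 2) s248 0 :=
  (x248_3.fr2 (AuxS.gam x248_3 c248_0) (AllS.cons n344 AllS.nil) c248_1 :)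
theorem x249 : AuxS.{u} (cM2r 1 2) s249 0 a249 := aux_base3 tw103 rfl b249
theorem x249_1 : AuxS.{u} (cM2r 1 2) s249 0 a249_1 := x249
theorem x249_2 : AuxS.{u} (cM2r 1 2) s249 0 a249_2 := x249_1
theorem n249 : Sound.{u} (cM2r 1 2) s249 0 :=
  (x249_2.fr2 GamS.nil AllS.nil c249_0 :)
theorem x250 : AuxS.{u} (cM2r 1 2) s250 0 a250 := aux_base3 tw104 rfl b250
theorem x250_1 : AuxS.{u} (cM2r 1 2) s250 0 a250_1 := x250
theorem x250_2 : AuxS.{u} (cM2r 1 2) s250 0 a250_2 := x250_1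
theorem n250 : Sound.{u} (cM2r 1 2) s250 0 :=
  (x250_2.fr2 GamS.nil AllS.nil c250_0 :)
theorem x251 : AuxS.{u} (cM2r 1 2) s251 0 a251 := aux_base3 tw105 rfl b251
theorem x251_1 : AuxS.{u} (cM2r 1 2) s251 0 a251_1 := x251
theorem x251_2 : AuxS.{u} (cM2r 1 2) s251 0 a251_2 := x251_1
theorem n251 : Sound.{u} (cM2r 1 2) s251 0 :=
  (x251_2.fr2 GamS.nil AllS.nil c251_0 :)
theorem x252 : AuxS.{u} (cM2r 1 2) s252 0 a252 := aux_base3 tw106 rfl b252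
theorem x252_1 : AuxS.{u} (cM2r 1 2) s252 0 a252_1 := x252
theorem x252_2 : AuxS.{u} (cM2r 1 2) s252 0 a252_2 := x252_1
theorem n252 : Sound.{u} (cM2r 1 2) s252 0 :=
  (x252_2.fr2 GamS.nil AllS.nil c252_0 :)
theorem x253 : AuxS.{u} (cM2r 1 2) s253 0 a253 := aux_base3 tw107 rfl b253
theorem x253_1 : AuxS.{u} (cM2r 1 2) s253 0 a253_1 := x253
theorem x253_2 : AuxS.{u} (cM2r 1 2) s253 0 a253_2 := x253_1
theorem x253_3 : AuxS.{u} (cM2r 1 2) s253 0 a253_3 := x253_2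
theorem n253 : Sound.{u} (cM2r 1 2) s253 0 :=
  (x253_3.fr2 GamS.nil AllS.nil c253_0 :)
theorem x254 : AuxS.{u} (cM2r 1 2) s254 0 a254 := aux_base3 tw108 rfl b254
theorem x254_1 : AuxS.{u} (cM2r 1 2) s254 0 a254_1 := x254
theorem x254_2 : AuxS.{u} (cM2r 1 2) s254 0 a254_2 := x254_1
theorem n254 : Sound.{u} (cM2r 1 2) s254 0 :=
  (x254_2.fr2 GamS.nil AllS.nil c254_0 :)
theorem x255 : AuxS.{u} (cM2r 1 2) s255 0 a255 := aux_base3 tw109 rfl b255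
theorem x255_1 : AuxS.{u} (cM2r 1 2) s255 0 a255_1 := x255
theorem x255_2 : AuxS.{u} (cM2r 1 2) s255 0 a255_2 := x255_1
theorem n255 : Sound.{u} (cM2r 1 2) s255 0 :=
  (x255_2.fr2 GamS.nil AllS.nil c255_0 :)
theorem x256 : AuxS.{u} (cM2r 1 2) s256 0 a256 := aux_base3 tw110 rfl b256
theorem x256_1 : AuxS.{u} (cM2r 1 2) s256 0 a256_1 := x256
theorem x256_2 : AuxS.{u} (cM2r 1 2) s256 0 a256_2 := x256_1
theorem n256 : Sound.{u} (cM2r 1 2) s256 0 :=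
  (x256_2.fr2 GamS.nil AllS.nil c256_0 :)
theorem x257 : AuxS.{u} (cM2r 1 2) s257 0 a257 := aux_base3 tw111 rfl b257
theorem x257_1 : AuxS.{u} (cM2r 1 2) s257 0 a257_1 := x257
theorem x257_2 : AuxS.{u} (cM2r 1 2) s257 0 a257_2 := x257_1
theorem n257 : Sound.{u} (cM2r 1 2) s257 0 :=
  (x257_2.fr2 GamS.nil AllS.nil c257_0 :)
theorem x258 : AuxS.{u} (cM2r 1 2) s258 0 a258 := aux_base3 tw112 rfl b258
theorem x258_1 : AuxS.{u} (cM2r 1 2) s258 0 a258_1 := x258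
theorem x258_2 : AuxS.{u} (cM2r 1 2) s258 0 a258_2 := x258_1
theorem x258_3 : AuxS.{u} (cM2r 1 2) s258 0 a258_3 := x258_2
theorem n258 : Sound.{u} (cM2r 1 2) s258 0 :=
  (x258_3.fr2 GamS.nil AllS.nil c258_0 :)
theorem x235 : AuxS.{u} (cM2r 1 2) s235 0 a235 := aux_base3 tw87 rfl b235
theorem x235_1 : AuxS.{u} (cM2r 1 2) s235 0 a235_1 := x235
theorem x235_2 : AuxS.{u} (cM2r 1 2) s235 0 a235_2 := x235_1
theorem x235_3 : AuxS.{u} (cM2r 1 2) s235 0 a235_3 := x235_2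
theorem x235_4 : AuxS.{u} (cM2r 1 2) s235 0 a235_4 := x235_3
theorem n235 : Sound.{u} (cM2r 1 2) s235 0 :=
  (x235_4.fr2 GamS.nil (AllS.cons n243 (AllS.cons n244 (AllS.cons n245 (AllS.cons n246 (AllS.cons n247 (AllS.cons n248 (AllS.cons n249 (AllS.cons n250 (AllS.cons n251 (AllS.cons n252 (AllS.cons n253 (AllS.cons n254 (AllS.cons n255 (AllS.cons n256 (AllS.cons n257 (AllS.cons n258 AllS.nil)))))))))))))))) c235_0 :)
theorem x236 : AuxS.{u} (cM2r 1 2) s236 0 a236 := aux_base3 tw87 rfl b236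
theorem n236 : Sound.{u} (cM2r 1 2) s236 0 :=
  (x236.k4 c236_0 :)
theorem x237 : AuxS.{u} (cM2r 1 2) s237 0 a237 := aux_base3 tw87 rfl b237
theorem n237 : Sound.{u} (cM2r 1 2) s237 0 :=
  (x237.k4 c237_0 :)
theorem x238 : AuxS.{u} (cM2r 1 2) s238 0 a238 := aux_base3 tw87 rfl b238
theorem n238 : Sound.{u} (cM2r 1 2) s238 0 :=
  (x238.k4 c238_0 :)
theorem x239 : AuxS.{u} (cM2r 1 2) s239 0 a239 := aux_base3 tw87 rfl b239
theorem n239 : Sound.{u} (cM2r 1 2) s239 0 :=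
  (x239.k4 c239_0 :)
theorem x240 : AuxS.{u} (cM2r 1 2) s240 0 a240 := aux_base3 tw87 rfl b240
theorem n240 : Sound.{u} (cM2r 1 2) s240 0 :=
  (x240.k4 c240_0 :)
theorem x241 : AuxS.{u} (cM2r 1 2) s241 0 a241 := aux_base3 tw87 rfl b241
theorem n241 : Sound.{u} (cM2r 1 2) s241 0 :=
  (x241.k4 c241_0 :)
theorem x242 : AuxS.{u} (cM2r 1 2) s242 0 a242 := aux_base3 tw87 rfl b242
theorem n242 : Sound.{u} (cM2r 1 2) s242 0 :=
  (x242.k4 c242_0 :)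
theorem x225 : AuxS.{u} (cM2r 1 2) s225 0 a225 := aux_base3 tw87 rfl b225
theorem x225_1 : AuxS.{u} (cM2r 1 2) s225 0 a225_1 := x225
theorem x225_2 : AuxS.{u} (cM2r 1 2) s225 0 a225_2 := x225_1
theorem n225 : Sound.{u} (cM2r 1 2) s225 0 :=
  (x225_2.fr (AuxS.gam x225_2 c225_0) (AllS.cons n235 (AllS.cons n236 (AllS.cons n237 (AllS.cons n238 (AllS.cons n239 (AllS.cons n240 (AllS.cons n241 (AllS.cons n242 AllS.nil)))))))) c225_1 :)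
theorem x226 : AuxS.{u} (cM2r 1 2) s226 0 a226 := aux_base3 tw88 rfl b226
theorem x226_1 : AuxS.{u} (cM2r 1 2) s226 0 a226_1 := x226
theorem x226_2 : AuxS.{u} (cM2r 1 2) s226 0 a226_2 := x226_1
theorem n226 : Sound.{u} (cM2r 1 2) s226 0 :=
  (x226_2.fr GamS.nil AllS.nil c226_0 :)
theorem x227 : AuxS.{u} (cM2r 1 2) s227 0 a227 := aux_base3 tw89 rfl b227
theorem x227_1 : AuxS.{u} (cM2r 1 2) s227 0 a227_1 := x227
theorem x227_2 : AuxS.{u} (cM2r 1 2) s227 0 a227_2 := x227_1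
theorem n227 : Sound.{u} (cM2r 1 2) s227 0 :=
  (x227_2.fr GamS.nil AllS.nil c227_0 :)
theorem x228 : AuxS.{u} (cM2r 1 2) s228 0 a228 := aux_base3 tw90 rfl b228
theorem x228_1 : AuxS.{u} (cM2r 1 2) s228 0 a228_1 := x228
theorem x228_2 : AuxS.{u} (cM2r 1 2) s228 0 a228_2 := x228_1
theorem n228 : Sound.{u} (cM2r 1 2) s228 0 :=
  (x228_2.fr GamS.nil AllS.nil c228_0 :)
theorem x381 : AuxS.{u} (cM2r 1 2) s381 0 a381 := aux_base3 tw91 rfl b381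
theorem n381 : Sound.{u} (cM2r 1 2) s381 0 :=
  (x381.k4 c381_0 :)
theorem x391 : AuxS.{u} (cM2r 1 2) s391 0 a391 := aux_base3 tw133 rfl b391
theorem n391 : Sound.{u} (cM2r 1 2) s391 0 :=
  (x391.k4 c391_0 :)
theorem x392 : AuxS.{u} (cM2r 1 2) s392 0 a392 := aux_base3 tw134 rfl b392
theorem n392 : Sound.{u} (cM2r 1 2) s392 0 :=
  (x392.k4 c392_0 :)
theorem x393 : AuxS.{u} (cM2r 1 2) s393 0 a393 := aux_base3 tw135 rfl b393
theorem n393 : Sound.{u} (cM2r 1 2) s393 0 :=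
  (x393.k4 c393_0 :)
theorem x394 : AuxS.{u} (cM2r 1 2) s394 0 a394 := aux_base3 tw136 rfl b394
theorem n394 : Sound.{u} (cM2r 1 2) s394 0 :=
  (x394.k4 c394_0 :)
theorem x395 : AuxS.{u} (cM2r 1 2) s395 0 a395 := aux_base3 tw137 rfl b395
theorem n395 : Sound.{u} (cM2r 1 2) s395 0 :=
  (x395.k4 c395_0 :)
theorem x396 : AuxS.{u} (cM2r 1 2) s396 0 a396 := aux_base3 tw138 rfl b396
theorem n396 : Sound.{u} (cM2r 1 2) s396 0 :=
  (x396.k4 c396_0 :)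
theorem x397 : AuxS.{u} (cM2r 1 2) s397 0 a397 := aux_base3 tw139 rfl b397
theorem n397 : Sound.{u} (cM2r 1 2) s397 0 :=
  (x397.k4 c397_0 :)
theorem x398 : AuxS.{u} (cM2r 1 2) s398 0 a398 := aux_base3 tw140 rfl b398
theorem n398 : Sound.{u} (cM2r 1 2) s398 0 :=
  (x398.k4 c398_0 :)
theorem x411 : AuxS.{u} (cM2r 1 2) s411 0 a411 := aux_base3 tw141 rfl b411
theorem n411 : Sound.{u} (cM2r 1 2) s411 0 :=
  (x411.k4 c411_0 :)
theorem x412 : AuxS.{u} (cM2r 1 2) s412 0 a412 := aux_base3 tw141 rfl b412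
theorem n412 : Sound.{u} (cM2r 1 2) s412 0 :=
  (x412.k4 c412_0 :)
theorem x413 : AuxS.{u} (cM2r 1 2) s413 0 a413 := aux_base3 tw141 rfl b413
theorem n413 : Sound.{u} (cM2r 1 2) s413 0 :=
  (x413.k4 c413_0 :)
theorem x414 : AuxS.{u} (cM2r 1 2) s414 0 a414 := aux_base3 tw141 rfl b414
theorem x414_1 : AuxS.{u} (cM2r 1 2) s414 0 a414_1 := (AuxS.up x414 c414_15 :)
theorem x414_L0_1 : AuxS.{u} (cM2r 1 2) s414 (0 + 2) a414_L0_1 := (AuxS.hp (x414_1.lam 0) c414_1 :)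
theorem x414_L165_1 : AuxS.{u} (cM2r 1 2) s414 (165 + 2) a414_L165_1 := (AuxS.hp (x414_1.lam 165) c414_4 :)
theorem x414_L165_2 : AuxS.{u} (cM2r 1 2) s414 (165 + 2) a414_L165_2 := (AuxS.ne x414_L165_1 c414_5 :)
theorem p414_7_1 : Phs s414 a414_1 [] [] ct414_7 v414_7 5 w414_7_1 := (Phs.fin c414_7)
theorem p414_7_3 : Phs s414 a414_1 [] [] ct414_7 v414_7 4 w414_7_3 := (Phs.stp c414_8 p414_7_1)
theorem p414_7_5 : Phs s414 a414_1 [] [] ct414_7 v414_7 2 w414_7_5 := (Phs.stp c414_9 p414_7_3)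
theorem p414_7_7 : Phs s414 a414_1 [] [] ct414_7 v414_7 1 w414_7_7 := (Phs.stp c414_10 p414_7_5)
theorem p414_7_10 : Phs s414 a414_1 [] [] ct414_7 v414_7 5 w414_7_10 := (Phs.fin c414_12)
theorem n414 : Sound.{u} (cM2r 1 2) s414 0 :=
  (x414_1.spl c414_0 (AllM.cons (x414_L0_1.tp c414_2 :) (AllM.cons ((x414_1.lam 33).e8 c414_3 :) (AllM.cons (x414_L165_2.tp c414_6 :) AllM.nil))) ((x414_1.weaken 1).ext2 (fun _ => rfl) GamS.nil AllS.nil c414_14 (Phs.stp c414_11 p414_7_7) (Phs.stp c414_13 p414_7_10)) :)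
theorem x399 : AuxS.{u} (cM2r 1 2) s399 0 a399 := aux_base3 tw141 rfl b399
theorem x399_1 : AuxS.{u} (cM2r 1 2) s399 0 a399_1 := x399
theorem n399 : Sound.{u} (cM2r 1 2) s399 0 :=
  (x399_1.fr (AuxS.gam x399_1 c399_0) (AllS.cons n411 (AllS.cons n412 (AllS.cons n413 (AllS.cons n414 AllS.nil)))) c399_1 :)
theorem x400 : AuxS.{u} (cM2r 1 2) s400 0 a400 := aux_base3 tw142 rfl b400
theorem x400_1 : AuxS.{u} (cM2r 1 2) s400 0 a400_1 := x400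
theorem n400 : Sound.{u} (cM2r 1 2) s400 0 :=
  (x400_1.fr GamS.nil AllS.nil c400_0 :)
theorem x415 : AuxS.{u} (cM2r 1 2) s415 0 a415 := aux_base3 tw143 rfl b415
theorem n415 : Sound.{u} (cM2r 1 2) s415 0 :=
  (x415.k4 c415_0 :)
theorem x416 : AuxS.{u} (cM2r 1 2) s416 0 a416 := aux_base3 tw143 rfl b416
theorem n416 : Sound.{u} (cM2r 1 2) s416 0 :=
  (x416.k4 c416_0 :)
theorem x417 : AuxS.{u} (cM2r 1 2) s417 0 a417 := aux_base3 tw143 rfl b417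
theorem x417_1 : AuxS.{u} (cM2r 1 2) s417 0 a417_1 := (AuxS.up x417 c417_14 :)
theorem x417_L165_1 : AuxS.{u} (cM2r 1 2) s417 (165 + 2) a417_L165_1 := (AuxS.hp (x417_1.lam 165) c417_3 :)
theorem x417_L165_2 : AuxS.{u} (cM2r 1 2) s417 (165 + 2) a417_L165_2 := (AuxS.ne x417_L165_1 c417_4 :)
theorem p417_6_1 : Phs s417 a417_1 [] [] ct417_6 v417_6 5 w417_6_1 := (Phs.fin c417_6)
theorem p417_6_3 : Phs s417 a417_1 [] [] ct417_6 v417_6 4 w417_6_3 := (Phs.stp c417_7 p417_6_1)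
theorem p417_6_5 : Phs s417 a417_1 [] [] ct417_6 v417_6 2 w417_6_5 := (Phs.stp c417_8 p417_6_3)
theorem p417_6_7 : Phs s417 a417_1 [] [] ct417_6 v417_6 1 w417_6_7 := (Phs.stp c417_9 p417_6_5)
theorem p417_6_10 : Phs s417 a417_1 [] [] ct417_6 v417_6 5 w417_6_10 := (Phs.fin c417_11)
theorem n417 : Sound.{u} (cM2r 1 2) s417 0 :=
  (x417_1.spl c417_0 (AllM.cons ((x417_1.lam 0).tp c417_1 :) (AllM.cons ((x417_1.lam 161).e8 c417_2 :) (AllM.cons (x417_L165_2.tp c417_5 :) AllM.nil))) ((x417_1.weaken 1).ext2 (fun _ => rfl) GamS.nil AllS.nil c417_13 (Phs.stp c417_10 p417_6_7) (Phs.stp c417_12 p417_6_10)) :)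
theorem x418 : AuxS.{u} (cM2r 1 2) s418 0 a418 := aux_base3 tw143 rfl b418
theorem n418 : Sound.{u} (cM2r 1 2) s418 0 :=
  (x418.k4 c418_0 :)
theorem x401 : AuxS.{u} (cM2r 1 2) s401 0 a401 := aux_base3 tw143 rfl b401
theorem x401_1 : AuxS.{u} (cM2r 1 2) s401 0 a401_1 := x401
theorem n401 : Sound.{u} (cM2r 1 2) s401 0 :=
  (x401_1.fr (AuxS.gam x401_1 c401_0) (AllS.cons n415 (AllS.cons n416 (AllS.cons n417 (AllS.cons n418 AllS.nil)))) c401_1 :)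
theorem x402 : AuxS.{u} (cM2r 1 2) s402 0 a402 := aux_base3 tw144 rfl b402
theorem x402_1 : AuxS.{u} (cM2r 1 2) s402 0 a402_1 := x402
theorem n402 : Sound.{u} (cM2r 1 2) s402 0 :=
  (x402_1.fr GamS.nil AllS.nil c402_0 :)
theorem x403 : AuxS.{u} (cM2r 1 2) s403 0 a403 := aux_base3 tw145 rfl b403
theorem n403 : Sound.{u} (cM2r 1 2) s403 0 :=
  (x403.k3 c403_0 :)
theorem x404 : AuxS.{u} (cM2r 1 2) s404 0 a404 := aux_base3 tw146 rfl b404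
theorem n404 : Sound.{u} (cM2r 1 2) s404 0 :=
  (x404.k3 c404_0 :)
theorem x405 : AuxS.{u} (cM2r 1 2) s405 0 a405 := aux_base3 tw147 rfl b405
theorem n405 : Sound.{u} (cM2r 1 2) s405 0 :=
  (x405.k3 c405_0 :)
theorem x406 : AuxS.{u} (cM2r 1 2) s406 0 a406 := aux_base3 tw148 rfl b406
theorem n406 : Sound.{u} (cM2r 1 2) s406 0 :=
  (x406.k3 c406_0 :)
theorem x407 : AuxS.{u} (cM2r 1 2) s407 0 a407 := aux_base3 tw149 rfl b407
theorem n407 : Sound.{u} (cM2r 1 2) s407 0 :=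
  (x407.k3 c407_0 :)
theorem x408 : AuxS.{u} (cM2r 1 2) s408 0 a408 := aux_base3 tw150 rfl b408
theorem n408 : Sound.{u} (cM2r 1 2) s408 0 :=
  (x408.k3 c408_0 :)
theorem x409 : AuxS.{u} (cM2r 1 2) s409 0 a409 := aux_base3 tw151 rfl b409
theorem n409 : Sound.{u} (cM2r 1 2) s409 0 :=
  (x409.k3 c409_0 :)
theorem x410 : AuxS.{u} (cM2r 1 2) s410 0 a410 := aux_base3 tw152 rfl b410
theorem n410 : Sound.{u} (cM2r 1 2) s410 0 :=
  (x410.k3 c410_0 :)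
theorem x389 : AuxS.{u} (cM2r 1 2) s389 0 a389 := aux_base3 tw131 rfl b389
theorem x389_1 : AuxS.{u} (cM2r 1 2) s389 0 a389_1 := (AuxS.up x389 c389_19 :)
theorem x389_L37_1 : AuxS.{u} (cM2r 1 2) s389 (37 + 2) a389_L37_1 := (AuxS.hp (x389_1.lam 37) c389_3 :)
theorem x389_L37_2 : AuxS.{u} (cM2r 1 2) s389 (37 + 2) a389_L37_2 := (AuxS.ne x389_L37_1 c389_4 :)
theorem x389_L165_1 : AuxS.{u} (cM2r 1 2) s389 (165 + 2) a389_L165_1 := (AuxS.hp (x389_1.lam 165) c389_7 :)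
theorem p389_9_1 : Phs s389 a389_1 [] [s391, s392, s393, s394, s395, s396, s397, s398, s399, s400, s401, s402, s403, s404, s405, s406, s407, s408, s409, s410] ct389_9 v389_9 5 w389_9_1 := (Phs.fin c389_9)
theorem p389_9_3 : Phs s389 a389_1 [] [s391, s392, s393, s394, s395, s396, s397, s398, s399, s400, s401, s402, s403, s404, s405, s406, s407, s408, s409, s410] ct389_9 v389_9 4 w389_9_3 := (Phs.stp c389_10 p389_9_1)
theorem p389_9_7 : Phs s389 a389_1 [] [s391, s392, s393, s394, s395, s396, s397, s398, s399, s400, s401, s402, s403, s404, s405, s406, s407, s408, s409, s410] ct389_9 v389_9 2 w389_9_7 := (Phs.app (Phs.app (Phs.stp c389_11 p389_9_3) (Phs.stp c389_12 p389_9_3)) (Phs.stp c389_13 p389_9_3))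
theorem p389_9_9 : Phs s389 a389_1 [] [s391, s392, s393, s394, s395, s396, s397, s398, s399, s400, s401, s402, s403, s404, s405, s406, s407, s408, s409, s410] ct389_9 v389_9 1 w389_9_9 := (Phs.stp c389_14 p389_9_7)
theorem p389_9_12 : Phs s389 a389_1 [] [s391, s392, s393, s394, s395, s396, s397, s398, s399, s400, s401, s402, s403, s404, s405, s406, s407, s408, s409, s410] ct389_9 v389_9 5 w389_9_12 := (Phs.fin c389_16)
theorem n389 : Sound.{u} (cM2r 1 2) s389 0 :=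
  (x389_1.spl c389_0 (AllM.cons ((x389_1.lam 0).tp c389_1 :) (AllM.cons ((x389_1.lam 33).e8 c389_2 :) (AllM.cons (x389_L37_2.tp c389_5 :) (AllM.cons ((x389_1.lam 161).e8 c389_6 :) (AllM.cons (x389_L165_1.tp c389_8 :) AllM.nil))))) ((x389_1.weaken 1).ext2 (fun _ => rfl) GamS.nil (AllS.cons n391 (AllS.cons n392 (AllS.cons n393 (AllS.cons n394 (AllS.cons n395 (AllS.cons n396 (AllS.cons n397 (AllS.cons n398 (AllS.cons n399 (AllS.cons n400 (AllS.cons n401 (AllS.cons n402 (AllS.cons n403 (AllS.cons n404 (AllS.cons n405 (AllS.cons n406 (AllS.cons n407 (AllS.cons n408 (AllS.cons n409 (AllS.cons n410 AllS.nil)))))))))))))))))))) c389_18 (Phs.stp c389_15 p389_9_9) (Phs.stp c389_17 p389_9_12)) :)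
theorem x431 : AuxS.{u} (cM2r 1 2) s431 0 a431 := aux_base3 tw153 rfl b431
theorem n431 : Sound.{u} (cM2r 1 2) s431 0 :=
  (x431.k4 c431_0 :)
theorem x432 : AuxS.{u} (cM2r 1 2) s432 0 a432 := aux_base3 tw153 rfl b432
theorem x432_1 : AuxS.{u} (cM2r 1 2) s432 0 a432_1 := (AuxS.up x432 c432_19 :)
theorem x432_2 : AuxS.{u} (cM2r 1 2) s432 0 a432_2 := (AuxS.up x432_1 c432_20 :)
theorem x432_L293_1 : AuxS.{u} (cM2r 1 2) s432 (293 + 2) a432_L293_1 := (AuxS.hp (x432_2.lam 293) c432_3 :)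
theorem p432_5_1 : Phs s432 a432_2 [] [] ct432_5 v432_5 5 w432_5_1 := (Phs.fin c432_5)
theorem p432_5_3 : Phs s432 a432_2 [] [] ct432_5 v432_5 4 w432_5_3 := (Phs.stp c432_6 p432_5_1)
theorem p432_5_8 : Phs s432 a432_2 [] [] ct432_5 v432_5 3 w432_5_8 := (Phs.app (Phs.app (Phs.app (Phs.stp c432_7 p432_5_3) (Phs.stp c432_8 p432_5_3)) (Phs.stp c432_9 p432_5_3)) (Phs.stp c432_10 p432_5_3))
theorem p432_5_13 : Phs s432 a432_2 [] [] ct432_5 v432_5 1 w432_5_13 := (Phs.app (Phs.app (Phs.app (Phs.stp c432_11 p432_5_8) (Phs.stp c432_12 p432_5_8)) (Phs.stp c432_13 p432_5_8)) (Phs.stp c432_14 p432_5_8))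
theorem p432_5_16 : Phs s432 a432_2 [] [] ct432_5 v432_5 5 w432_5_16 := (Phs.fin c432_16)
theorem n432 : Sound.{u} (cM2r 1 2) s432 0 :=
  (x432_2.spl c432_0 (AllM.cons ((x432_2.lam 0).tp c432_1 :) (AllM.cons ((x432_2.lam 33).e8 c432_2 :) (AllM.cons (x432_L293_1.tp c432_4 :) AllM.nil))) ((x432_2.weaken 1).ext2 (fun _ => rfl) GamS.nil AllS.nil c432_18 (Phs.stp c432_15 p432_5_13) (Phs.stp c432_17 p432_5_16)) :)
theorem x433 : AuxS.{u} (cM2r 1 2) s433 0 a433 := aux_base3 tw153 rfl b433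
theorem n433 : Sound.{u} (cM2r 1 2) s433 0 :=
  (x433.k4 c433_0 :)
theorem x434 : AuxS.{u} (cM2r 1 2) s434 0 a434 := aux_base3 tw153 rfl b434
theorem n434 : Sound.{u} (cM2r 1 2) s434 0 :=
  (x434.k4 c434_0 :)
theorem x419 : AuxS.{u} (cM2r 1 2) s419 0 a419 := aux_base3 tw153 rfl b419
theorem x419_1 : AuxS.{u} (cM2r 1 2) s419 0 a419_1 := x419
theorem n419 : Sound.{u} (cM2r 1 2) s419 0 :=
  (x419_1.fr (AuxS.gam x419_1 c419_0) (AllS.cons n431 (AllS.cons n432 (AllS.cons n433 (AllS.cons n434 AllS.nil)))) c419_1 :)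
theorem x420 : AuxS.{u} (cM2r 1 2) s420 0 a420 := aux_base3 tw154 rfl b420
theorem x420_1 : AuxS.{u} (cM2r 1 2) s420 0 a420_1 := (AuxS.up x420 c420_1 :)
theorem x420_2 : AuxS.{u} (cM2r 1 2) s420 0 a420_2 := (AuxS.up2 x420_1 c420_2 :)
theorem n420 : Sound.{u} (cM2r 1 2) s420 0 :=
  (x420_2.k7 c420_0 :)
theorem x435 : AuxS.{u} (cM2r 1 2) s435 0 a435 := aux_base3 tw155 rfl b435
theorem x435_1 : AuxS.{u} (cM2r 1 2) s435 0 a435_1 := (AuxS.up x435 c435_13 :)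
theorem x435_2 : AuxS.{u} (cM2r 1 2) s435 0 a435_2 := (AuxS.up x435_1 c435_14 :)
theorem x435_3 : AuxS.{u} (cM2r 1 2) s435 0 a435_3 := (AuxS.up x435_2 c435_15 :)
theorem x435_4 : AuxS.{u} (cM2r 1 2) s435 0 a435_4 := (AuxS.up x435_3 c435_16 :)
theorem x435_L293_1 : AuxS.{u} (cM2r 1 2) s435 (293 + 2) a435_L293_1 := (AuxS.hp (x435_4.lam 293) c435_3 :)
theorem p435_5_1 : Phs s435 a435_4 [] [] ct435_5 v435_5 5 w435_5_1 := (Phs.fin c435_5)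
theorem p435_5_3 : Phs s435 a435_4 [] [] ct435_5 v435_5 4 w435_5_3 := (Phs.stp c435_6 p435_5_1)
theorem p435_5_5 : Phs s435 a435_4 [] [] ct435_5 v435_5 2 w435_5_5 := (Phs.stp c435_7 p435_5_3)
theorem p435_5_7 : Phs s435 a435_4 [] [] ct435_5 v435_5 1 w435_5_7 := (Phs.stp c435_8 p435_5_5)
theorem p435_5_10 : Phs s435 a435_4 [] [] ct435_5 v435_5 5 w435_5_10 := (Phs.fin c435_10)
theorem n435 : Sound.{u} (cM2r 1 2) s435 0 :=
  (x435_4.spl c435_0 (AllM.cons ((x435_4.lam 0).tp c435_1 :) (AllM.cons ((x435_4.lam 161).e8 c435_2 :) (AllM.cons (x435_L293_1.tp c435_4 :) AllM.nil))) ((x435_4.weaken 1).ext2 (fun _ => rfl) GamS.nil AllS.nil c435_12 (Phs.stp c435_9 p435_5_7) (Phs.stp c435_11 p435_5_10)) :)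
theorem x436 : AuxS.{u} (cM2r 1 2) s436 0 a436 := aux_base3 tw155 rfl b436
theorem n436 : Sound.{u} (cM2r 1 2) s436 0 :=
  (x436.k4 c436_0 :)
theorem x437 : AuxS.{u} (cM2r 1 2) s437 0 a437 := aux_base3 tw155 rfl b437
theorem n437 : Sound.{u} (cM2r 1 2) s437 0 :=
  (x437.k4 c437_0 :)
theorem x438 : AuxS.{u} (cM2r 1 2) s438 0 a438 := aux_base3 tw155 rfl b438
theorem n438 : Sound.{u} (cM2r 1 2) s438 0 :=
  (x438.k4 c438_0 :)
theorem x421 : AuxS.{u} (cM2r 1 2) s421 0 a421 := aux_base3 tw155 rfl b421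
theorem x421_1 : AuxS.{u} (cM2r 1 2) s421 0 a421_1 := x421
theorem x421_2 : AuxS.{u} (cM2r 1 2) s421 0 a421_2 := x421_1
theorem n421 : Sound.{u} (cM2r 1 2) s421 0 :=
  (x421_2.fr (AuxS.gam x421_2 c421_0) (AllS.cons n435 (AllS.cons n436 (AllS.cons n437 (AllS.cons n438 AllS.nil)))) c421_1 :)
theorem x422 : AuxS.{u} (cM2r 1 2) s422 0 a422 := aux_base3 tw156 rfl b422
theorem x422_1 : AuxS.{u} (cM2r 1 2) s422 0 a422_1 := x422
theorem x422_2 : AuxS.{u} (cM2r 1 2) s422 0 a422_2 := x422_1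
theorem n422 : Sound.{u} (cM2r 1 2) s422 0 :=
  (x422_2.fr GamS.nil AllS.nil c422_0 :)
theorem x423 : AuxS.{u} (cM2r 1 2) s423 0 a423 := aux_base3 tw157 rfl b423
theorem n423 : Sound.{u} (cM2r 1 2) s423 0 :=
  (x423.k3 c423_0 :)
theorem x424 : AuxS.{u} (cM2r 1 2) s424 0 a424 := aux_base3 tw158 rfl b424
theorem n424 : Sound.{u} (cM2r 1 2) s424 0 :=
  (x424.k3 c424_0 :)
theorem x425 : AuxS.{u} (cM2r 1 2) s425 0 a425 := aux_base3 tw159 rfl b425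
theorem n425 : Sound.{u} (cM2r 1 2) s425 0 :=
  (x425.k3 c425_0 :)
theorem x426 : AuxS.{u} (cM2r 1 2) s426 0 a426 := aux_base3 tw160 rfl b426
theorem n426 : Sound.{u} (cM2r 1 2) s426 0 :=
  (x426.k3 c426_0 :)
theorem x427 : AuxS.{u} (cM2r 1 2) s427 0 a427 := aux_base3 tw161 rfl b427
theorem n427 : Sound.{u} (cM2r 1 2) s427 0 :=
  (x427.k3 c427_0 :)
theorem x428 : AuxS.{u} (cM2r 1 2) s428 0 a428 := aux_base3 tw162 rfl b428
theorem n428 : Sound.{u} (cM2r 1 2) s428 0 :=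
  (x428.k3 c428_0 :)
theorem x429 : AuxS.{u} (cM2r 1 2) s429 0 a429 := aux_base3 tw163 rfl b429
theorem n429 : Sound.{u} (cM2r 1 2) s429 0 :=
  (x429.k3 c429_0 :)
theorem x430 : AuxS.{u} (cM2r 1 2) s430 0 a430 := aux_base3 tw164 rfl b430
theorem n430 : Sound.{u} (cM2r 1 2) s430 0 :=
  (x430.k3 c430_0 :)
theorem x390 : AuxS.{u} (cM2r 1 2) s390 0 a390 := aux_base3 tw132 rfl b390
theorem x390_1 : AuxS.{u} (cM2r 1 2) s390 0 a390_1 := (AuxS.up x390 c390_19 :)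
theorem x390_L37_1 : AuxS.{u} (cM2r 1 2) s390 (37 + 2) a390_L37_1 := (AuxS.hp (x390_1.lam 37) c390_3 :)
theorem x390_L37_2 : AuxS.{u} (cM2r 1 2) s390 (37 + 2) a390_L37_2 := (AuxS.ne x390_L37_1 c390_4 :)
theorem x390_L165_1 : AuxS.{u} (cM2r 1 2) s390 (165 + 2) a390_L165_1 := (AuxS.hp (x390_1.lam 165) c390_7 :)
theorem p390_9_1 : Phs s390 a390_1 [] [s419, s420, s421, s422, s423, s424, s425, s426, s427, s428, s429, s430] ct390_9 v390_9 5 w390_9_1 := (Phs.fin c390_9)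
theorem p390_9_3 : Phs s390 a390_1 [] [s419, s420, s421, s422, s423, s424, s425, s426, s427, s428, s429, s430] ct390_9 v390_9 4 w390_9_3 := (Phs.stp c390_10 p390_9_1)
theorem p390_9_7 : Phs s390 a390_1 [] [s419, s420, s421, s422, s423, s424, s425, s426, s427, s428, s429, s430] ct390_9 v390_9 2 w390_9_7 := (Phs.app (Phs.app (Phs.stp c390_11 p390_9_3) (Phs.stp c390_12 p390_9_3)) (Phs.stp c390_13 p390_9_3))
theorem p390_9_9 : Phs s390 a390_1 [] [s419, s420, s421, s422, s423, s424, s425, s426, s427, s428, s429, s430] ct390_9 v390_9 1 w390_9_9 := (Phs.stp c390_14 p390_9_7)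
theorem p390_9_12 : Phs s390 a390_1 [] [s419, s420, s421, s422, s423, s424, s425, s426, s427, s428, s429, s430] ct390_9 v390_9 5 w390_9_12 := (Phs.fin c390_16)
theorem n390 : Sound.{u} (cM2r 1 2) s390 0 :=
  (x390_1.spl c390_0 (AllM.cons ((x390_1.lam 0).tp c390_1 :) (AllM.cons ((x390_1.lam 33).e8 c390_2 :) (AllM.cons (x390_L37_2.tp c390_5 :) (AllM.cons ((x390_1.lam 161).e8 c390_6 :) (AllM.cons (x390_L165_1.tp c390_8 :) AllM.nil))))) ((x390_1.weaken 1).ext2 (fun _ => rfl) GamS.nil (AllS.cons n419 (AllS.cons n420 (AllS.cons n421 (AllS.cons n422 (AllS.cons n423 (AllS.cons n424 (AllS.cons n425 (AllS.cons n426 (AllS.cons n427 (AllS.cons n428 (AllS.cons n429 (AllS.cons n430 AllS.nil)))))))))))) c390_18 (Phs.stp c390_15 p390_9_9) (Phs.stp c390_17 p390_9_12)) :)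
theorem x382 : AuxS.{u} (cM2r 1 2) s382 0 a382 := aux_base3 tw91 rfl b382
theorem x382_1 : AuxS.{u} (cM2r 1 2) s382 0 a382_1 := (AuxS.up x382 c382_1 :)
theorem n382 : Sound.{u} (cM2r 1 2) s382 0 :=
  (x382_1.fr2 GamS.nil (AllS.cons n389 (AllS.cons n390 AllS.nil)) c382_0 :)
theorem x383 : AuxS.{u} (cM2r 1 2) s383 0 a383 := aux_base3 tw91 rfl b383
theorem n383 : Sound.{u} (cM2r 1 2) s383 0 :=
  (x383.k4 c383_0 :)
theorem x384 : AuxS.{u} (cM2r 1 2) s384 0 a384 := aux_base3 tw91 rfl b384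
theorem n384 : Sound.{u} (cM2r 1 2) s384 0 :=
  (x384.k4 c384_0 :)
theorem x385 : AuxS.{u} (cM2r 1 2) s385 0 a385 := aux_base3 tw91 rfl b385
theorem n385 : Sound.{u} (cM2r 1 2) s385 0 :=
  (x385.k4 c385_0 :)
theorem x386 : AuxS.{u} (cM2r 1 2) s386 0 a386 := aux_base3 tw91 rfl b386
theorem n386 : Sound.{u} (cM2r 1 2) s386 0 :=
  (x386.k4 c386_0 :)
theorem x387 : AuxS.{u} (cM2r 1 2) s387 0 a387 := aux_base3 tw91 rfl b387
theorem n387 : Sound.{u} (cM2r 1 2) s387 0 :=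
  (x387.k4 c387_0 :)
theorem x388 : AuxS.{u} (cM2r 1 2) s388 0 a388 := aux_base3 tw91 rfl b388
theorem n388 : Sound.{u} (cM2r 1 2) s388 0 :=
  (x388.k4 c388_0 :)
theorem x229 : AuxS.{u} (cM2r 1 2) s229 0 a229 := aux_base3 tw91 rfl b229
theorem x229_1 : AuxS.{u} (cM2r 1 2) s229 0 a229_1 := x229
theorem n229 : Sound.{u} (cM2r 1 2) s229 0 :=
  (x229_1.fr (AuxS.gam x229_1 c229_0) (AllS.cons n381 (AllS.cons n382 (AllS.cons n383 (AllS.cons n384 (AllS.cons n385 (AllS.cons n386 (AllS.cons n387 (AllS.cons n388 AllS.nil)))))))) c229_1 :)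
theorem x230 : AuxS.{u} (cM2r 1 2) s230 0 a230 := aux_base3 tw92 rfl b230
theorem x230_1 : AuxS.{u} (cM2r 1 2) s230 0 a230_1 := x230
theorem n230 : Sound.{u} (cM2r 1 2) s230 0 :=
  (x230_1.fr GamS.nil AllS.nil c230_0 :)
theorem x231 : AuxS.{u} (cM2r 1 2) s231 0 a231 := aux_base3 tw93 rfl b231
theorem x231_1 : AuxS.{u} (cM2r 1 2) s231 0 a231_1 := x231
theorem n231 : Sound.{u} (cM2r 1 2) s231 0 :=
  (x231_1.fr GamS.nil AllS.nil c231_0 :)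
theorem x232 : AuxS.{u} (cM2r 1 2) s232 0 a232 := aux_base3 tw94 rfl b232
theorem x232_1 : AuxS.{u} (cM2r 1 2) s232 0 a232_1 := x232
theorem n232 : Sound.{u} (cM2r 1 2) s232 0 :=
  (x232_1.fr GamS.nil AllS.nil c232_0 :)
theorem x233 : AuxS.{u} (cM2r 1 2) s233 0 a233 := aux_base3 tw95 rfl b233
theorem n233 : Sound.{u} (cM2r 1 2) s233 0 :=
  (x233.k3 c233_0 :)
theorem x234 : AuxS.{u} (cM2r 1 2) s234 0 a234 := aux_base3 tw96 rfl b234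
theorem n234 : Sound.{u} (cM2r 1 2) s234 0 :=
  (x234.k3 c234_0 :)
theorem x224 : AuxS.{u} (cM2r 1 2) s224 0 a224 := aux_base3 tw3 rfl b224
theorem x224_1 : AuxS.{u} (cM2r 1 2) s224 0 a224_1 := (AuxS.up x224 c224_5 :)
theorem p224_0_1 : Phs s224 a224_1 (List.map Prod.fst g224_0) [s225, s226, s227, s228, s229, s230, s231, s232, s233, s234] ct224_0 v224_0 4 w224_0_1 := (Phs.fin c224_1)
theorem p224_0_3 : Phs s224 a224_1 (List.map Prod.fst g224_0) [s225, s226, s227, s228, s229, s230, s231, s232, s233, s234] ct224_0 v224_0 1 w224_0_3 := (Phs.stp c224_2 p224_0_1)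
theorem n224 : Sound.{u} (cM2r 1 2) s224 0 :=
  (x224_1.ext2 (fun h => absurd h (by decide)) (AuxS.gam x224_1 c224_0) (AllS.cons n225 (AllS.cons n226 (AllS.cons n227 (AllS.cons n228 (AllS.cons n229 (AllS.cons n230 (AllS.cons n231 (AllS.cons n232 (AllS.cons n233 (AllS.cons n234 AllS.nil)))))))))) c224_4 (Phs.stp c224_3 p224_0_3) (Phs.fin (ct := ct224_0) rfl) :)
theorem x222 : AuxS.{u} (cM2r 1 2) s222 0 a222 := aux_base3 tw85 rfl b222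
theorem x222_1 : AuxS.{u} (cM2r 1 2) s222 0 a222_1 := x222
theorem n222 : Sound.{u} (cM2r 1 2) s222 0 :=
  (x222_1.jump c222_0 c222_1 n224 :)
theorem x223 : AuxS.{u} (cM2r 1 2) s223 0 a223 := aux_base3 tw86 rfl b223
theorem x223_1 : AuxS.{u} (cM2r 1 2) s223 0 a223_1 := (AuxS.up x223 c223_1 :)
theorem n223 : Sound.{u} (cM2r 1 2) s223 0 :=
  (x223_1.k1 c223_0 :)
theorem x3 : AuxS.{u} (cM2r 1 2) s3 0 a3 := aux_base3 tw3 rfl b3
theorem x3_1 : AuxS.{u} (cM2r 1 2) s3 0 a3_1 := x3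
theorem n3 : Sound.{u} (cM2r 1 2) s3 0 :=
  (x3_1.ext2 (fun h => absurd h (by decide)) GamS.nil (AllS.cons n222 (AllS.cons n223 AllS.nil)) c3_1 (Phs.fin (ct := ct3_0) rfl) (Phs.fin c3_0) :)
theorem x4 : AuxS.{u} (cM2r 1 2) s4 0 a4 := aux_base3 tw4 rfl b4
theorem x4_1 : AuxS.{u} (cM2r 1 2) s4 0 a4_1 := (AuxS.up x4 c4_1 :)
theorem n4 : Sound.{u} (cM2r 1 2) s4 0 :=
  (x4_1.k1 c4_0 :)
theorem x0 : AuxS.{u} (cM2r 1 2) s0 0 a0 := aux_base3 tw0 rfl b0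
theorem x0_1 : AuxS.{u} (cM2r 1 2) s0 0 a0_1 := (AuxS.up x0 c0_3 :)
theorem p0_0_1 : Phs s0 a0_1 [] [s1, s2, s3, s4] ct0_0 v0_0 1 w0_0_1 := (Phs.fin c0_0)
theorem n0 : Sound.{u} (cM2r 1 2) s0 0 :=
  (x0_1.ext2 (fun h => absurd h (by decide)) GamS.nil (AllS.cons n1 (AllS.cons n2 (AllS.cons n3 (AllS.cons n4 AllS.nil)))) c0_2 (Phs.stp c0_1 p0_0_1) (Phs.fin (ct := ct0_0) rfl) :)

theorem main : Sound.{u} (cM2r 1 2) (root 1) 0 := n0

end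

end CfsgLib.Dih8.TM12
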