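import Cfsg.Agent.Lib.Dih8.G.TM13C0
import Cfsg.Agent.Lib.Dih8.Rules

/-! Generated certificates (plans/DIH8.md). -/

set_option autoImplicit false
set_option maxRecDepth 100000
set_option Elab.async false
set_option maxHeartbeats 0
set_option linter.all false

namespace CfsgLib.Dih8.TM13

noncomputable section

universe u

theorem tw33 : Tow.{u} l33 t33 := tow_of tc33_0 (Rng.zero.step tc33_1) (Rng.zero.step tc33_2)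
theorem tw17 : Tow.{u} l17 t17 := tow_of tc17_0 (Rng.zero.step tc17_1) (Rng.zero.step tc17_2)
theorem tw18 : Tow.{u} l18 t18 := tow_of tc18_0 (Rng.zero.step tc18_1) (Rng.zero.step tc18_2)
theorem tw19 : Tow.{u} l19 t19 := tow_of tc19_0 (Rng.zero.step tc19_1) (Rng.zero.step tc19_2)
theorem tw20 : Tow.{u} l20 t20 := tow_of tc20_0 (Rng.zero.step tc20_1) (Rng.zero.step tc20_2)
theorem tw21 : Tow.{u} l21 t21 := tow_of tc21_0 (Rng.zero.step tc21_1) (Rng.zero.step tc21_2)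
theorem tw34 : Tow.{u} l34 t34 := tow_of tc34_0 (Rng.zero.step tc34_1) (Rng.zero.step tc34_2)
theorem tw22 : Tow.{u} l22 t22 := tow_of tc22_0 (Rng.zero.step tc22_1) (Rng.zero.step tc22_2)
theorem tw23 : Tow.{u} l23 t23 := tow_of tc23_0 (Rng.zero.step tc23_1) (Rng.zero.step tc23_2)
theorem tw24 : Tow.{u} l24 t24 := tow_of tc24_0 (Rng.zero.step tc24_1) (Rng.zero.step tc24_2)
theorem tw25 : Tow.{u} l25 t25 := tow_of tc25_0 (Rng.zero.step tc25_1) (Rng.zero.step tc25_2)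
theorem tw26 : Tow.{u} l26 t26 := tow_of tc26_0 (Rng.zero.step tc26_1) (Rng.zero.step tc26_2)
theorem tw27 : Tow.{u} l27 t27 := tow_of tc27_0 (Rng.zero.step tc27_1) (Rng.zero.step tc27_2)
theorem tw28 : Tow.{u} l28 t28 := tow_of tc28_0 (Rng.zero.step tc28_1) (Rng.zero.step tc28_2)
theorem tw29 : Tow.{u} l29 t29 := tow_of tc29_0 (Rng.zero.step tc29_1) (Rng.zero.step tc29_2)
theorem tw30 : Tow.{u} l30 t30 := tow_of tc30_0 (Rng.zero.step tc30_1) (Rng.zero.step tc30_2)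
theorem tw31 : Tow.{u} l31 t31 := tow_of tc31_0 (Rng.zero.step tc31_1) (Rng.zero.step tc31_2)
theorem tw32 : Tow.{u} l32 t32 := tow_of tc32_0 (Rng.zero.step tc32_1) (Rng.zero.step tc32_2)
theorem tw7 : Tow.{u} l7 t7 := tow_of tc7_0 (Rng.zero.step tc7_1) (Rng.zero.step tc7_2)
theorem tw8 : Tow.{u} l8 t8 := tow_of tc8_0 (Rng.zero.step tc8_1) (Rng.zero.step tc8_2)
theorem tw9 : Tow.{u} l9 t9 := tow_of tc9_0 (Rng.zero.step tc9_1) (Rng.zero.step tc9_2)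
theorem tw10 : Tow.{u} l10 t10 := tow_of tc10_0 (Rng.zero.step tc10_1) (Rng.zero.step tc10_2)
theorem tw11 : Tow.{u} l11 t11 := tow_of tc11_0 (Rng.zero.step tc11_1) (Rng.zero.step tc11_2)
theorem tw35 : Tow.{u} l35 t35 := tow_of tc35_0 (Rng.zero.step tc35_1) (Rng.zero.step tc35_2)
theorem tw36 : Tow.{u} l36 t36 := tow_of tc36_0 (Rng.zero.step tc36_1) (Rng.zero.step tc36_2)
theorem tw12 : Tow.{u} l12 t12 := tow_of tc12_0 (Rng.zero.step tc12_1) (Rng.zero.step tc12_2)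
theorem tw13 : Tow.{u} l13 t13 := tow_of tc13_0 (Rng.zero.step tc13_1) (Rng.zero.step tc13_2)
theorem tw14 : Tow.{u} l14 t14 := tow_of tc14_0 (Rng.zero.step tc14_1) (Rng.zero.step tc14_2)
theorem tw15 : Tow.{u} l15 t15 := tow_of tc15_0 (Rng.zero.step tc15_1) (Rng.zero.step tc15_2)
theorem tw16 : Tow.{u} l16 t16 := tow_of tc16_0 (Rng.zero.step tc16_1) (Rng.zero.step tc16_2)
theorem tw1 : Tow.{u} l1 t1 := tow_of tc1_0 (Rng.zero.step tc1_1) (Rng.zero.step tc1_2)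
theorem tw5 : Tow.{u} l5 t5 := tow_of tc5_0 (Rng.zero.step tc5_1) (Rng.zero.step tc5_2)
theorem tw6 : Tow.{u} l6 t6 := tow_of tc6_0 (Rng.zero.step tc6_1) (Rng.zero.step tc6_2)
theorem tw2 : Tow.{u} l2 t2 := tow_of tc2_0 (Rng.zero.step tc2_1) (Rng.zero.step tc2_2)
theorem tw65 : Tow.{u} l65 t65 := tow_of tc65_0 (Rng.zero.step tc65_1) (Rng.zero.step tc65_2)
theorem tw49 : Tow.{u} l49 t49 := tow_of tc49_0 (Rng.zero.step tc49_1) (Rng.zero.step tc49_2)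
theorem tw50 : Tow.{u} l50 t50 := tow_of tc50_0 (Rng.zero.step tc50_1) (Rng.zero.step tc50_2)
theorem tw51 : Tow.{u} l51 t51 := tow_of tc51_0 (Rng.zero.step tc51_1) (Rng.zero.step tc51_2)
theorem tw52 : Tow.{u} l52 t52 := tow_of tc52_0 (Rng.zero.step tc52_1) (Rng.zero.step tc52_2)
theorem tw53 : Tow.{u} l53 t53 := tow_of tc53_0 (Rng.zero.step tc53_1) (Rng.zero.step tc53_2)
theorem tw66 : Tow.{u} l66 t66 := tow_of tc66_0 (Rng.zero.step tc66_1) (Rng.zero.step tc66_2)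
theorem tw54 : Tow.{u} l54 t54 := tow_of tc54_0 (Rng.zero.step tc54_1) (Rng.zero.step tc54_2)
theorem tw55 : Tow.{u} l55 t55 := tow_of tc55_0 (Rng.zero.step tc55_1) (Rng.zero.step tc55_2)
theorem tw56 : Tow.{u} l56 t56 := tow_of tc56_0 (Rng.zero.step tc56_1) (Rng.zero.step tc56_2)
theorem tw57 : Tow.{u} l57 t57 := tow_of tc57_0 (Rng.zero.step tc57_1) (Rng.zero.step tc57_2)
theorem tw58 : Tow.{u} l58 t58 := tow_of tc58_0 (Rng.zero.step tc58_1) (Rng.zero.step tc58_2)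
theorem tw59 : Tow.{u} l59 t59 := tow_of tc59_0 (Rng.zero.step tc59_1) (Rng.zero.step tc59_2)
theorem tw60 : Tow.{u} l60 t60 := tow_of tc60_0 (Rng.zero.step tc60_1) (Rng.zero.step tc60_2)
theorem tw61 : Tow.{u} l61 t61 := tow_of tc61_0 (Rng.zero.step tc61_1) (Rng.zero.step tc61_2)
theorem tw62 : Tow.{u} l62 t62 := tow_of tc62_0 (Rng.zero.step tc62_1) (Rng.zero.step tc62_2)
theorem tw63 : Tow.{u} l63 t63 := tow_of tc63_0 (Rng.zero.step tc63_1) (Rng.zero.step tc63_2)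
theorem tw64 : Tow.{u} l64 t64 := tow_of tc64_0 (Rng.zero.step tc64_1) (Rng.zero.step tc64_2)
theorem tw39 : Tow.{u} l39 t39 := tow_of tc39_0 (Rng.zero.step tc39_1) (Rng.zero.step tc39_2)
theorem tw40 : Tow.{u} l40 t40 := tow_of tc40_0 (Rng.zero.step tc40_1) (Rng.zero.step tc40_2)
theorem tw41 : Tow.{u} l41 t41 := tow_of tc41_0 (Rng.zero.step tc41_1) (Rng.zero.step tc41_2)
theorem tw42 : Tow.{u} l42 t42 := tow_of tc42_0 (Rng.zero.step tc42_1) (Rng.zero.step tc42_2)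
theorem tw43 : Tow.{u} l43 t43 := tow_of tc43_0 (Rng.zero.step tc43_1) (Rng.zero.step tc43_2)
theorem tw67 : Tow.{u} l67 t67 := tow_of tc67_0 (Rng.zero.step tc67_1) (Rng.zero.step tc67_2)
theorem tw68 : Tow.{u} l68 t68 := tow_of tc68_0 (Rng.zero.step tc68_1) (Rng.zero.step tc68_2)
theorem tw44 : Tow.{u} l44 t44 := tow_of tc44_0 (Rng.zero.step tc44_1) (Rng.zero.step tc44_2)
theorem tw45 : Tow.{u} l45 t45 := tow_of tc45_0 (Rng.zero.step tc45_1) (Rng.zero.step tc45_2)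
theorem tw46 : Tow.{u} l46 t46 := tow_of tc46_0 (Rng.zero.step tc46_1) (Rng.zero.step tc46_2)
theorem tw47 : Tow.{u} l47 t47 := tow_of tc47_0 (Rng.zero.step tc47_1) (Rng.zero.step tc47_2)
theorem tw48 : Tow.{u} l48 t48 := tow_of tc48_0 (Rng.zero.step tc48_1) (Rng.zero.step tc48_2)
theorem tw3 : Tow.{u} l3 t3 := tow_of tc3_0 (Rng.zero.step tc3_1) (Rng.zero.step tc3_2)
theorem tw37 : Tow.{u} l37 t37 := tow_of tc37_0 (Rng.zero.step tc37_1) (Rng.zero.step tc37_2)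
theorem tw38 : Tow.{u} l38 t38 := tow_of tc38_0 (Rng.zero.step tc38_1) (Rng.zero.step tc38_2)
theorem tw4 : Tow.{u} l4 t4 := tow_of tc4_0 (Rng.zero.step tc4_1) (Rng.zero.step tc4_2)
theorem tw0 : Tow.{u} [] t0 := tow_of tc0_0 (Rng.zero.step tc0_1) (Rng.zero.step tc0_2)
theorem x43 : AuxS.{u} (cM2r 1 3) s43 0 a43 := aux_base3 tw33 rfl b43
theorem x43_1 : AuxS.{u} (cM2r 1 3) s43 0 a43_1 := (AuxS.up x43 c43_1 :)
theorem x43_2 : AuxS.{u} (cM2r 1 3) s43 0 a43_2 := x43_1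
theorem n43 : Sound.{u} (cM2r 1 3) s43 0 :=
  (x43_2.k1 c43_0 :)
theorem x44 : AuxS.{u} (cM2r 1 3) s44 0 a44 := aux_base3 tw33 rfl b44
theorem x44_1 : AuxS.{u} (cM2r 1 3) s44 0 a44_1 := (AuxS.up x44 c44_1 :)
theorem x44_2 : AuxS.{u} (cM2r 1 3) s44 0 a44_2 := x44_1
theorem n44 : Sound.{u} (cM2r 1 3) s44 0 :=
  (x44_2.k1 c44_0 :)
theorem x45 : AuxS.{u} (cM2r 1 3) s45 0 a45 := aux_base3 tw33 rfl b45
theorem x45_1 : AuxS.{u} (cM2r 1 3) s45 0 a45_1 := (AuxS.up x45 c45_1 :)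
theorem x45_2 : AuxS.{u} (cM2r 1 3) s45 0 a45_2 := x45_1
theorem n45 : Sound.{u} (cM2r 1 3) s45 0 :=
  (x45_2.k1 c45_0 :)
theorem x46 : AuxS.{u} (cM2r 1 3) s46 0 a46 := aux_base3 tw33 rfl b46
theorem x46_1 : AuxS.{u} (cM2r 1 3) s46 0 a46_1 := (AuxS.up x46 c46_1 :)
theorem x46_2 : AuxS.{u} (cM2r 1 3) s46 0 a46_2 := x46_1
theorem n46 : Sound.{u} (cM2r 1 3) s46 0 :=
  (x46_2.k1 c46_0 :)
theorem x42 : AuxS.{u} (cM2r 1 3) s42 0 a42 := aux_base3 tw33 rfl b42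
theorem x42_1 : AuxS.{u} (cM2r 1 3) s42 0 a42_1 := x42
theorem x42_2 : AuxS.{u} (cM2r 1 3) s42 0 a42_2 := x42_1
theorem x42_3 : AuxS.{u} (cM2r 1 3) s42 0 a42_3 := x42_2
theorem x42_4 : AuxS.{u} (cM2r 1 3) s42 0 a42_4 := x42_3
theorem n42 : Sound.{u} (cM2r 1 3) s42 0 :=
  (x42_4.rho (AllS.cons n43 (AllS.cons n44 (AllS.cons n45 (AllS.cons n46 AllS.nil)))) c42_0 :)
theorem x26 : AuxS.{u} (cM2r 1 3) s26 0 a26 := aux_base3 tw17 rfl b26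
theorem x26_1 : AuxS.{u} (cM2r 1 3) s26 0 a26_1 := x26
theorem x26_2 : AuxS.{u} (cM2r 1 3) s26 0 a26_2 := x26_1
theorem x26_3 : AuxS.{u} (cM2r 1 3) s26 0 a26_3 := x26_2
theorem n26 : Sound.{u} (cM2r 1 3) s26 0 :=
  (x26_3.fr2 (AuxS.gam x26_3 c26_0) (AllS.cons n42 AllS.nil) c26_1 :)
theorem x27 : AuxS.{u} (cM2r 1 3) s27 0 a27 := aux_base3 tw18 rfl b27
theorem x27_1 : AuxS.{u} (cM2r 1 3) s27 0 a27_1 := x27
theorem x27_2 : AuxS.{u} (cM2r 1 3) s27 0 a27_2 := x27_1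
theorem n27 : Sound.{u} (cM2r 1 3) s27 0 :=
  (x27_2.fr2 GamS.nil AllS.nil c27_0 :)
theorem x28 : AuxS.{u} (cM2r 1 3) s28 0 a28 := aux_base3 tw19 rfl b28
theorem x28_1 : AuxS.{u} (cM2r 1 3) s28 0 a28_1 := x28
theorem x28_2 : AuxS.{u} (cM2r 1 3) s28 0 a28_2 := x28_1
theorem n28 : Sound.{u} (cM2r 1 3) s28 0 :=
  (x28_2.fr2 GamS.nil AllS.nil c28_0 :)
theorem x29 : AuxS.{u} (cM2r 1 3) s29 0 a29 := aux_base3 tw20 rfl b29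
theorem x29_1 : AuxS.{u} (cM2r 1 3) s29 0 a29_1 := x29
theorem x29_2 : AuxS.{u} (cM2r 1 3) s29 0 a29_2 := x29_1
theorem n29 : Sound.{u} (cM2r 1 3) s29 0 :=
  (x29_2.fr2 GamS.nil AllS.nil c29_0 :)
theorem x30 : AuxS.{u} (cM2r 1 3) s30 0 a30 := aux_base3 tw21 rfl b30
theorem x30_1 : AuxS.{u} (cM2r 1 3) s30 0 a30_1 := x30
theorem x30_2 : AuxS.{u} (cM2r 1 3) s30 0 a30_2 := x30_1
theorem x30_3 : AuxS.{u} (cM2r 1 3) s30 0 a30_3 := x30_2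
theorem n30 : Sound.{u} (cM2r 1 3) s30 0 :=
  (x30_3.fr2 GamS.nil AllS.nil c30_0 :)
theorem x48 : AuxS.{u} (cM2r 1 3) s48 0 a48 := aux_base3 tw34 rfl b48
theorem x48_1 : AuxS.{u} (cM2r 1 3) s48 0 a48_1 := (AuxS.up x48 c48_1 :)
theorem x48_2 : AuxS.{u} (cM2r 1 3) s48 0 a48_2 := x48_1
theorem n48 : Sound.{u} (cM2r 1 3) s48 0 :=
  (x48_2.k7 c48_0 :)
theorem x49 : AuxS.{u} (cM2r 1 3) s49 0 a49 := aux_base3 tw34 rfl b49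
theorem x49_1 : AuxS.{u} (cM2r 1 3) s49 0 a49_1 := (AuxS.up x49 c49_1 :)
theorem x49_2 : AuxS.{u} (cM2r 1 3) s49 0 a49_2 := x49_1
theorem n49 : Sound.{u} (cM2r 1 3) s49 0 :=
  (x49_2.k7 c49_0 :)
theorem x50 : AuxS.{u} (cM2r 1 3) s50 0 a50 := aux_base3 tw34 rfl b50
theorem x50_1 : AuxS.{u} (cM2r 1 3) s50 0 a50_1 := (AuxS.up x50 c50_1 :)
theorem x50_2 : AuxS.{u} (cM2r 1 3) s50 0 a50_2 := x50_1
theorem n50 : Sound.{u} (cM2r 1 3) s50 0 :=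
  (x50_2.k7 c50_0 :)
theorem x51 : AuxS.{u} (cM2r 1 3) s51 0 a51 := aux_base3 tw34 rfl b51
theorem x51_1 : AuxS.{u} (cM2r 1 3) s51 0 a51_1 := (AuxS.up x51 c51_1 :)
theorem x51_2 : AuxS.{u} (cM2r 1 3) s51 0 a51_2 := x51_1
theorem n51 : Sound.{u} (cM2r 1 3) s51 0 :=
  (x51_2.k7 c51_0 :)
theorem x47 : AuxS.{u} (cM2r 1 3) s47 0 a47 := aux_base3 tw34 rfl b47
theorem x47_1 : AuxS.{u} (cM2r 1 3) s47 0 a47_1 := x47
theorem x47_2 : AuxS.{u} (cM2r 1 3) s47 0 a47_2 := x47_1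
theorem x47_3 : AuxS.{u} (cM2r 1 3) s47 0 a47_3 := x47_2
theorem n47 : Sound.{u} (cM2r 1 3) s47 0 :=
  (x47_3.rho (AllS.cons n48 (AllS.cons n49 (AllS.cons n50 (AllS.cons n51 AllS.nil)))) c47_0 :)
theorem x31 : AuxS.{u} (cM2r 1 3) s31 0 a31 := aux_base3 tw22 rfl b31
theorem x31_1 : AuxS.{u} (cM2r 1 3) s31 0 a31_1 := x31
theorem x31_2 : AuxS.{u} (cM2r 1 3) s31 0 a31_2 := x31_1
theorem x31_3 : AuxS.{u} (cM2r 1 3) s31 0 a31_3 := x31_2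
theorem n31 : Sound.{u} (cM2r 1 3) s31 0 :=
  (x31_3.fr2 (AuxS.gam x31_3 c31_0) (AllS.cons n47 AllS.nil) c31_1 :)
theorem x32 : AuxS.{u} (cM2r 1 3) s32 0 a32 := aux_base3 tw23 rfl b32
theorem x32_1 : AuxS.{u} (cM2r 1 3) s32 0 a32_1 := x32
theorem x32_2 : AuxS.{u} (cM2r 1 3) s32 0 a32_2 := x32_1
theorem n32 : Sound.{u} (cM2r 1 3) s32 0 :=
  (x32_2.fr2 GamS.nil AllS.nil c32_0 :)
theorem x33 : AuxS.{u} (cM2r 1 3) s33 0 a33 := aux_base3 tw24 rfl b33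
theorem x33_1 : AuxS.{u} (cM2r 1 3) s33 0 a33_1 := x33
theorem x33_2 : AuxS.{u} (cM2r 1 3) s33 0 a33_2 := x33_1
theorem n33 : Sound.{u} (cM2r 1 3) s33 0 :=
  (x33_2.fr2 GamS.nil AllS.nil c33_0 :)
theorem x34 : AuxS.{u} (cM2r 1 3) s34 0 a34 := aux_base3 tw25 rfl b34
theorem x34_1 : AuxS.{u} (cM2r 1 3) s34 0 a34_1 := x34
theorem x34_2 : AuxS.{u} (cM2r 1 3) s34 0 a34_2 := x34_1
theorem n34 : Sound.{u} (cM2r 1 3) s34 0 :=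
  (x34_2.fr2 GamS.nil AllS.nil c34_0 :)
theorem x35 : AuxS.{u} (cM2r 1 3) s35 0 a35 := aux_base3 tw26 rfl b35
theorem x35_1 : AuxS.{u} (cM2r 1 3) s35 0 a35_1 := x35
theorem x35_2 : AuxS.{u} (cM2r 1 3) s35 0 a35_2 := x35_1
theorem n35 : Sound.{u} (cM2r 1 3) s35 0 :=
  (x35_2.fr2 GamS.nil AllS.nil c35_0 :)
theorem x36 : AuxS.{u} (cM2r 1 3) s36 0 a36 := aux_base3 tw27 rfl b36
theorem x36_1 : AuxS.{u} (cM2r 1 3) s36 0 a36_1 := x36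
theorem x36_2 : AuxS.{u} (cM2r 1 3) s36 0 a36_2 := x36_1
theorem x36_3 : AuxS.{u} (cM2r 1 3) s36 0 a36_3 := x36_2
theorem n36 : Sound.{u} (cM2r 1 3) s36 0 :=
  (x36_3.fr2 GamS.nil AllS.nil c36_0 :)
theorem x37 : AuxS.{u} (cM2r 1 3) s37 0 a37 := aux_base3 tw28 rfl b37
theorem x37_1 : AuxS.{u} (cM2r 1 3) s37 0 a37_1 := x37
theorem x37_2 : AuxS.{u} (cM2r 1 3) s37 0 a37_2 := x37_1
theorem n37 : Sound.{u} (cM2r 1 3) s37 0 :=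
  (x37_2.fr2 GamS.nil AllS.nil c37_0 :)
theorem x38 : AuxS.{u} (cM2r 1 3) s38 0 a38 := aux_base3 tw29 rfl b38
theorem x38_1 : AuxS.{u} (cM2r 1 3) s38 0 a38_1 := x38
theorem x38_2 : AuxS.{u} (cM2r 1 3) s38 0 a38_2 := x38_1
theorem n38 : Sound.{u} (cM2r 1 3) s38 0 :=
  (x38_2.fr2 GamS.nil AllS.nil c38_0 :)
theorem x39 : AuxS.{u} (cM2r 1 3) s39 0 a39 := aux_base3 tw30 rfl b39
theorem x39_1 : AuxS.{u} (cM2r 1 3) s39 0 a39_1 := x39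
theorem x39_2 : AuxS.{u} (cM2r 1 3) s39 0 a39_2 := x39_1
theorem n39 : Sound.{u} (cM2r 1 3) s39 0 :=
  (x39_2.fr2 GamS.nil AllS.nil c39_0 :)
theorem x40 : AuxS.{u} (cM2r 1 3) s40 0 a40 := aux_base3 tw31 rfl b40
theorem x40_1 : AuxS.{u} (cM2r 1 3) s40 0 a40_1 := x40
theorem x40_2 : AuxS.{u} (cM2r 1 3) s40 0 a40_2 := x40_1
theorem n40 : Sound.{u} (cM2r 1 3) s40 0 :=
  (x40_2.fr2 GamS.nil AllS.nil c40_0 :)
theorem x41 : AuxS.{u} (cM2r 1 3) s41 0 a41 := aux_base3 tw32 rfl b41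
theorem x41_1 : AuxS.{u} (cM2r 1 3) s41 0 a41_1 := x41
theorem x41_2 : AuxS.{u} (cM2r 1 3) s41 0 a41_2 := x41_1
theorem x41_3 : AuxS.{u} (cM2r 1 3) s41 0 a41_3 := x41_2
theorem n41 : Sound.{u} (cM2r 1 3) s41 0 :=
  (x41_3.fr2 GamS.nil AllS.nil c41_0 :)
theorem x18 : AuxS.{u} (cM2r 1 3) s18 0 a18 := aux_base3 tw7 rfl b18
theorem x18_1 : AuxS.{u} (cM2r 1 3) s18 0 a18_1 := x18
theorem x18_2 : AuxS.{u} (cM2r 1 3) s18 0 a18_2 := x18_1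
theorem x18_3 : AuxS.{u} (cM2r 1 3) s18 0 a18_3 := x18_2
theorem x18_4 : AuxS.{u} (cM2r 1 3) s18 0 a18_4 := x18_3
theorem n18 : Sound.{u} (cM2r 1 3) s18 0 :=
  (x18_4.fr2 GamS.nil (AllS.cons n26 (AllS.cons n27 (AllS.cons n28 (AllS.cons n29 (AllS.cons n30 (AllS.cons n31 (AllS.cons n32 (AllS.cons n33 (AllS.cons n34 (AllS.cons n35 (AllS.cons n36 (AllS.cons n37 (AllS.cons n38 (AllS.cons n39 (AllS.cons n40 (AllS.cons n41 AllS.nil)))))))))))))))) c18_0 :)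
theorem x19 : AuxS.{u} (cM2r 1 3) s19 0 a19 := aux_base3 tw7 rfl b19
theorem n19 : Sound.{u} (cM2r 1 3) s19 0 :=
  (x19.k4 c19_0 :)
theorem x20 : AuxS.{u} (cM2r 1 3) s20 0 a20 := aux_base3 tw7 rfl b20
theorem n20 : Sound.{u} (cM2r 1 3) s20 0 :=
  (x20.k4 c20_0 :)
theorem x21 : AuxS.{u} (cM2r 1 3) s21 0 a21 := aux_base3 tw7 rfl b21
theorem n21 : Sound.{u} (cM2r 1 3) s21 0 :=
  (x21.k4 c21_0 :)
theorem x22 : AuxS.{u} (cM2r 1 3) s22 0 a22 := aux_base3 tw7 rfl b22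
theorem n22 : Sound.{u} (cM2r 1 3) s22 0 :=
  (x22.k4 c22_0 :)
theorem x23 : AuxS.{u} (cM2r 1 3) s23 0 a23 := aux_base3 tw7 rfl b23
theorem n23 : Sound.{u} (cM2r 1 3) s23 0 :=
  (x23.k4 c23_0 :)
theorem x24 : AuxS.{u} (cM2r 1 3) s24 0 a24 := aux_base3 tw7 rfl b24
theorem n24 : Sound.{u} (cM2r 1 3) s24 0 :=
  (x24.k4 c24_0 :)
theorem x25 : AuxS.{u} (cM2r 1 3) s25 0 a25 := aux_base3 tw7 rfl b25
theorem n25 : Sound.{u} (cM2r 1 3) s25 0 :=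
  (x25.k4 c25_0 :)
theorem x8 : AuxS.{u} (cM2r 1 3) s8 0 a8 := aux_base3 tw7 rfl b8
theorem x8_1 : AuxS.{u} (cM2r 1 3) s8 0 a8_1 := x8
theorem x8_2 : AuxS.{u} (cM2r 1 3) s8 0 a8_2 := x8_1
theorem n8 : Sound.{u} (cM2r 1 3) s8 0 :=
  (x8_2.fr (AuxS.gam x8_2 c8_0) (AllS.cons n18 (AllS.cons n19 (AllS.cons n20 (AllS.cons n21 (AllS.cons n22 (AllS.cons n23 (AllS.cons n24 (AllS.cons n25 AllS.nil)))))))) c8_1 :)
theorem x9 : AuxS.{u} (cM2r 1 3) s9 0 a9 := aux_base3 tw8 rfl b9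
theorem x9_1 : AuxS.{u} (cM2r 1 3) s9 0 a9_1 := x9
theorem x9_2 : AuxS.{u} (cM2r 1 3) s9 0 a9_2 := x9_1
theorem n9 : Sound.{u} (cM2r 1 3) s9 0 :=
  (x9_2.fr GamS.nil AllS.nil c9_0 :)
theorem x10 : AuxS.{u} (cM2r 1 3) s10 0 a10 := aux_base3 tw9 rfl b10
theorem x10_1 : AuxS.{u} (cM2r 1 3) s10 0 a10_1 := x10
theorem x10_2 : AuxS.{u} (cM2r 1 3) s10 0 a10_2 := x10_1
theorem n10 : Sound.{u} (cM2r 1 3) s10 0 :=
  (x10_2.fr GamS.nil AllS.nil c10_0 :)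
theorem x11 : AuxS.{u} (cM2r 1 3) s11 0 a11 := aux_base3 tw10 rfl b11
theorem x11_1 : AuxS.{u} (cM2r 1 3) s11 0 a11_1 := x11
theorem x11_2 : AuxS.{u} (cM2r 1 3) s11 0 a11_2 := x11_1
theorem n11 : Sound.{u} (cM2r 1 3) s11 0 :=
  (x11_2.fr GamS.nil AllS.nil c11_0 :)
theorem x52 : AuxS.{u} (cM2r 1 3) s52 0 a52 := aux_base3 tw11 rfl b52
theorem n52 : Sound.{u} (cM2r 1 3) s52 0 :=
  (x52.k4 c52_0 :)
theorem x60 : AuxS.{u} (cM2r 1 3) s60 0 a60 := aux_base3 tw35 rfl b60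
theorem x60_1 : AuxS.{u} (cM2r 1 3) s60 0 a60_1 := (AuxS.up x60 c60_1 :)
theorem x60_2 : AuxS.{u} (cM2r 1 3) s60 0 a60_2 := (AuxS.up x60_1 c60_2 :)
theorem n60 : Sound.{u} (cM2r 1 3) s60 0 :=
  (x60_2.k7 c60_0 :)
theorem x61 : AuxS.{u} (cM2r 1 3) s61 0 a61 := aux_base3 tw36 rfl b61
theorem x61_1 : AuxS.{u} (cM2r 1 3) s61 0 a61_1 := (AuxS.up x61 c61_1 :)
theorem x61_2 : AuxS.{u} (cM2r 1 3) s61 0 a61_2 := (AuxS.up x61_1 c61_2 :)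
theorem n61 : Sound.{u} (cM2r 1 3) s61 0 :=
  (x61_2.k7 c61_0 :)
theorem x53 : AuxS.{u} (cM2r 1 3) s53 0 a53 := aux_base3 tw11 rfl b53
theorem x53_1 : AuxS.{u} (cM2r 1 3) s53 0 a53_1 := (AuxS.up x53 c53_1 :)
theorem n53 : Sound.{u} (cM2r 1 3) s53 0 :=
  (x53_1.fr2 GamS.nil (AllS.cons n60 (AllS.cons n61 AllS.nil)) c53_0 :)
theorem x54 : AuxS.{u} (cM2r 1 3) s54 0 a54 := aux_base3 tw11 rfl b54
theorem n54 : Sound.{u} (cM2r 1 3) s54 0 :=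
  (x54.k4 c54_0 :)
theorem x55 : AuxS.{u} (cM2r 1 3) s55 0 a55 := aux_base3 tw11 rfl b55
theorem n55 : Sound.{u} (cM2r 1 3) s55 0 :=
  (x55.k4 c55_0 :)
theorem x56 : AuxS.{u} (cM2r 1 3) s56 0 a56 := aux_base3 tw11 rfl b56
theorem n56 : Sound.{u} (cM2r 1 3) s56 0 :=
  (x56.k4 c56_0 :)
theorem x57 : AuxS.{u} (cM2r 1 3) s57 0 a57 := aux_base3 tw11 rfl b57
theorem n57 : Sound.{u} (cM2r 1 3) s57 0 :=
  (x57.k4 c57_0 :)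
theorem x58 : AuxS.{u} (cM2r 1 3) s58 0 a58 := aux_base3 tw11 rfl b58
theorem n58 : Sound.{u} (cM2r 1 3) s58 0 :=
  (x58.k4 c58_0 :)
theorem x59 : AuxS.{u} (cM2r 1 3) s59 0 a59 := aux_base3 tw11 rfl b59
theorem n59 : Sound.{u} (cM2r 1 3) s59 0 :=
  (x59.k4 c59_0 :)
theorem x12 : AuxS.{u} (cM2r 1 3) s12 0 a12 := aux_base3 tw11 rfl b12
theorem x12_1 : AuxS.{u} (cM2r 1 3) s12 0 a12_1 := x12
theorem n12 : Sound.{u} (cM2r 1 3) s12 0 :=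
  (x12_1.fr (AuxS.gam x12_1 c12_0) (AllS.cons n52 (AllS.cons n53 (AllS.cons n54 (AllS.cons n55 (AllS.cons n56 (AllS.cons n57 (AllS.cons n58 (AllS.cons n59 AllS.nil)))))))) c12_1 :)
theorem x13 : AuxS.{u} (cM2r 1 3) s13 0 a13 := aux_base3 tw12 rfl b13
theorem x13_1 : AuxS.{u} (cM2r 1 3) s13 0 a13_1 := x13
theorem n13 : Sound.{u} (cM2r 1 3) s13 0 :=
  (x13_1.fr GamS.nil AllS.nil c13_0 :)
theorem x14 : AuxS.{u} (cM2r 1 3) s14 0 a14 := aux_base3 tw13 rfl b14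
theorem x14_1 : AuxS.{u} (cM2r 1 3) s14 0 a14_1 := x14
theorem n14 : Sound.{u} (cM2r 1 3) s14 0 :=
  (x14_1.fr GamS.nil AllS.nil c14_0 :)
theorem x15 : AuxS.{u} (cM2r 1 3) s15 0 a15 := aux_base3 tw14 rfl b15
theorem x15_1 : AuxS.{u} (cM2r 1 3) s15 0 a15_1 := x15
theorem n15 : Sound.{u} (cM2r 1 3) s15 0 :=
  (x15_1.fr GamS.nil AllS.nil c15_0 :)
theorem x16 : AuxS.{u} (cM2r 1 3) s16 0 a16 := aux_base3 tw15 rfl b16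
theorem n16 : Sound.{u} (cM2r 1 3) s16 0 :=
  (x16.k3 c16_0 :)
theorem x17 : AuxS.{u} (cM2r 1 3) s17 0 a17 := aux_base3 tw16 rfl b17
theorem n17 : Sound.{u} (cM2r 1 3) s17 0 :=
  (x17.k3 c17_0 :)
theorem x7 : AuxS.{u} (cM2r 1 3) s7 0 a7 := aux_base3 tw1 rfl b7
theorem x7_1 : AuxS.{u} (cM2r 1 3) s7 0 a7_1 := (AuxS.up x7 c7_5 :)
theorem p7_0_1 : Phs s7 a7_1 (List.map Prod.fst g7_0) [s8, s9, s10, s11, s12, s13, s14, s15, s16, s17] ct7_0 v7_0 4 w7_0_1 := (Phs.fin c7_1)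
theorem p7_0_3 : Phs s7 a7_1 (List.map Prod.fst g7_0) [s8, s9, s10, s11, s12, s13, s14, s15, s16, s17] ct7_0 v7_0 1 w7_0_3 := (Phs.stp c7_2 p7_0_1)
theorem n7 : Sound.{u} (cM2r 1 3) s7 0 :=
  (x7_1.ext2 (fun h => absurd h (by decide)) (AuxS.gam x7_1 c7_0) (AllS.cons n8 (AllS.cons n9 (AllS.cons n10 (AllS.cons n11 (AllS.cons n12 (AllS.cons n13 (AllS.cons n14 (AllS.cons n15 (AllS.cons n16 (AllS.cons n17 AllS.nil)))))))))) c7_4 (Phs.stp c7_3 p7_0_3) (Phs.fin (ct := ct7_0) rfl) :)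
theorem x5 : AuxS.{u} (cM2r 1 3) s5 0 a5 := aux_base3 tw5 rfl b5
theorem x5_1 : AuxS.{u} (cM2r 1 3) s5 0 a5_1 := x5
theorem n5 : Sound.{u} (cM2r 1 3) s5 0 :=
  (x5_1.jump c5_0 c5_1 n7 :)
theorem x6 : AuxS.{u} (cM2r 1 3) s6 0 a6 := aux_base3 tw6 rfl b6
theorem x6_1 : AuxS.{u} (cM2r 1 3) s6 0 a6_1 := (AuxS.up x6 c6_1 :)
theorem n6 : Sound.{u} (cM2r 1 3) s6 0 :=
  (x6_1.k1 c6_0 :)
theorem x1 : AuxS.{u} (cM2r 1 3) s1 0 a1 := aux_base3 tw1 rfl b1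
theorem x1_1 : AuxS.{u} (cM2r 1 3) s1 0 a1_1 := x1
theorem n1 : Sound.{u} (cM2r 1 3) s1 0 :=
  (x1_1.ext2 (fun h => absurd h (by decide)) GamS.nil (AllS.cons n5 (AllS.cons n6 AllS.nil)) c1_1 (Phs.fin (ct := ct1_0) rfl) (Phs.fin c1_0) :)
theorem x2 : AuxS.{u} (cM2r 1 3) s2 0 a2 := aux_base3 tw2 rfl b2
theorem x2_1 : AuxS.{u} (cM2r 1 3) s2 0 a2_1 := (AuxS.up x2 c2_1 :)
theorem n2 : Sound.{u} (cM2r 1 3) s2 0 :=
  (x2_1.k1 c2_0 :)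
theorem x100 : AuxS.{u} (cM2r 1 3) s100 0 a100 := aux_base3 tw65 rfl b100
theorem x100_1 : AuxS.{u} (cM2r 1 3) s100 0 a100_1 := (AuxS.up x100 c100_1 :)
theorem x100_2 : AuxS.{u} (cM2r 1 3) s100 0 a100_2 := x100_1
theorem n100 : Sound.{u} (cM2r 1 3) s100 0 :=
  (x100_2.k1 c100_0 :)
theorem x101 : AuxS.{u} (cM2r 1 3) s101 0 a101 := aux_base3 tw65 rfl b101
theorem x101_1 : AuxS.{u} (cM2r 1 3) s101 0 a101_1 := (AuxS.up x101 c101_1 :)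
theorem x101_2 : AuxS.{u} (cM2r 1 3) s101 0 a101_2 := x101_1
theorem n101 : Sound.{u} (cM2r 1 3) s101 0 :=
  (x101_2.k1 c101_0 :)
theorem x102 : AuxS.{u} (cM2r 1 3) s102 0 a102 := aux_base3 tw65 rfl b102
theorem x102_1 : AuxS.{u} (cM2r 1 3) s102 0 a102_1 := (AuxS.up x102 c102_1 :)
theorem x102_2 : AuxS.{u} (cM2r 1 3) s102 0 a102_2 := x102_1
theorem n102 : Sound.{u} (cM2r 1 3) s102 0 :=
  (x102_2.k1 c102_0 :)
theorem x103 : AuxS.{u} (cM2r 1 3) s103 0 a103 := aux_base3 tw65 rfl b103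
theorem x103_1 : AuxS.{u} (cM2r 1 3) s103 0 a103_1 := (AuxS.up x103 c103_1 :)
theorem x103_2 : AuxS.{u} (cM2r 1 3) s103 0 a103_2 := x103_1
theorem n103 : Sound.{u} (cM2r 1 3) s103 0 :=
  (x103_2.k1 c103_0 :)
theorem x99 : AuxS.{u} (cM2r 1 3) s99 0 a99 := aux_base3 tw65 rfl b99
theorem x99_1 : AuxS.{u} (cM2r 1 3) s99 0 a99_1 := x99
theorem x99_2 : AuxS.{u} (cM2r 1 3) s99 0 a99_2 := x99_1
theorem x99_3 : AuxS.{u} (cM2r 1 3) s99 0 a99_3 := x99_2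
theorem x99_4 : AuxS.{u} (cM2r 1 3) s99 0 a99_4 := x99_3
theorem n99 : Sound.{u} (cM2r 1 3) s99 0 :=
  (x99_4.rho (AllS.cons n100 (AllS.cons n101 (AllS.cons n102 (AllS.cons n103 AllS.nil)))) c99_0 :)
theorem x83 : AuxS.{u} (cM2r 1 3) s83 0 a83 := aux_base3 tw49 rfl b83
theorem x83_1 : AuxS.{u} (cM2r 1 3) s83 0 a83_1 := x83
theorem x83_2 : AuxS.{u} (cM2r 1 3) s83 0 a83_2 := x83_1
theorem x83_3 : AuxS.{u} (cM2r 1 3) s83 0 a83_3 := x83_2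
theorem n83 : Sound.{u} (cM2r 1 3) s83 0 :=
  (x83_3.fr2 (AuxS.gam x83_3 c83_0) (AllS.cons n99 AllS.nil) c83_1 :)
theorem x84 : AuxS.{u} (cM2r 1 3) s84 0 a84 := aux_base3 tw50 rfl b84
theorem x84_1 : AuxS.{u} (cM2r 1 3) s84 0 a84_1 := x84
theorem x84_2 : AuxS.{u} (cM2r 1 3) s84 0 a84_2 := x84_1
theorem n84 : Sound.{u} (cM2r 1 3) s84 0 :=
  (x84_2.fr2 GamS.nil AllS.nil c84_0 :)
theorem x85 : AuxS.{u} (cM2r 1 3) s85 0 a85 := aux_base3 tw51 rfl b85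
theorem x85_1 : AuxS.{u} (cM2r 1 3) s85 0 a85_1 := x85
theorem x85_2 : AuxS.{u} (cM2r 1 3) s85 0 a85_2 := x85_1
theorem n85 : Sound.{u} (cM2r 1 3) s85 0 :=
  (x85_2.fr2 GamS.nil AllS.nil c85_0 :)
theorem x86 : AuxS.{u} (cM2r 1 3) s86 0 a86 := aux_base3 tw52 rfl b86
theorem x86_1 : AuxS.{u} (cM2r 1 3) s86 0 a86_1 := x86
theorem x86_2 : AuxS.{u} (cM2r 1 3) s86 0 a86_2 := x86_1
theorem n86 : Sound.{u} (cM2r 1 3) s86 0 :=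
  (x86_2.fr2 GamS.nil AllS.nil c86_0 :)
theorem x87 : AuxS.{u} (cM2r 1 3) s87 0 a87 := aux_base3 tw53 rfl b87
theorem x87_1 : AuxS.{u} (cM2r 1 3) s87 0 a87_1 := x87
theorem x87_2 : AuxS.{u} (cM2r 1 3) s87 0 a87_2 := x87_1
theorem x87_3 : AuxS.{u} (cM2r 1 3) s87 0 a87_3 := x87_2
theorem n87 : Sound.{u} (cM2r 1 3) s87 0 :=
  (x87_3.fr2 GamS.nil AllS.nil c87_0 :)
theorem x105 : AuxS.{u} (cM2r 1 3) s105 0 a105 := aux_base3 tw66 rfl b105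
theorem x105_1 : AuxS.{u} (cM2r 1 3) s105 0 a105_1 := (AuxS.up x105 c105_1 :)
theorem x105_2 : AuxS.{u} (cM2r 1 3) s105 0 a105_2 := x105_1
theorem n105 : Sound.{u} (cM2r 1 3) s105 0 :=
  (x105_2.k7 c105_0 :)
theorem x106 : AuxS.{u} (cM2r 1 3) s106 0 a106 := aux_base3 tw66 rfl b106
theorem x106_1 : AuxS.{u} (cM2r 1 3) s106 0 a106_1 := (AuxS.up x106 c106_1 :)
theorem x106_2 : AuxS.{u} (cM2r 1 3) s106 0 a106_2 := x106_1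
theorem n106 : Sound.{u} (cM2r 1 3) s106 0 :=
  (x106_2.k7 c106_0 :)
theorem x107 : AuxS.{u} (cM2r 1 3) s107 0 a107 := aux_base3 tw66 rfl b107
theorem x107_1 : AuxS.{u} (cM2r 1 3) s107 0 a107_1 := (AuxS.up x107 c107_1 :)
theorem x107_2 : AuxS.{u} (cM2r 1 3) s107 0 a107_2 := x107_1
theorem n107 : Sound.{u} (cM2r 1 3) s107 0 :=
  (x107_2.k7 c107_0 :)
theorem x108 : AuxS.{u} (cM2r 1 3) s108 0 a108 := aux_base3 tw66 rfl b108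
theorem x108_1 : AuxS.{u} (cM2r 1 3) s108 0 a108_1 := (AuxS.up x108 c108_1 :)
theorem x108_2 : AuxS.{u} (cM2r 1 3) s108 0 a108_2 := x108_1
theorem n108 : Sound.{u} (cM2r 1 3) s108 0 :=
  (x108_2.k7 c108_0 :)
theorem x104 : AuxS.{u} (cM2r 1 3) s104 0 a104 := aux_base3 tw66 rfl b104
theorem x104_1 : AuxS.{u} (cM2r 1 3) s104 0 a104_1 := x104
theorem x104_2 : AuxS.{u} (cM2r 1 3) s104 0 a104_2 := x104_1
theorem x104_3 : AuxS.{u} (cM2r 1 3) s104 0 a104_3 := x104_2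
theorem n104 : Sound.{u} (cM2r 1 3) s104 0 :=
  (x104_3.rho (AllS.cons n105 (AllS.cons n106 (AllS.cons n107 (AllS.cons n108 AllS.nil)))) c104_0 :)
theorem x88 : AuxS.{u} (cM2r 1 3) s88 0 a88 := aux_base3 tw54 rfl b88
theorem x88_1 : AuxS.{u} (cM2r 1 3) s88 0 a88_1 := x88
theorem x88_2 : AuxS.{u} (cM2r 1 3) s88 0 a88_2 := x88_1
theorem x88_3 : AuxS.{u} (cM2r 1 3) s88 0 a88_3 := x88_2
theorem n88 : Sound.{u} (cM2r 1 3) s88 0 :=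
  (x88_3.fr2 (AuxS.gam x88_3 c88_0) (AllS.cons n104 AllS.nil) c88_1 :)
theorem x89 : AuxS.{u} (cM2r 1 3) s89 0 a89 := aux_base3 tw55 rfl b89
theorem x89_1 : AuxS.{u} (cM2r 1 3) s89 0 a89_1 := x89
theorem x89_2 : AuxS.{u} (cM2r 1 3) s89 0 a89_2 := x89_1
theorem n89 : Sound.{u} (cM2r 1 3) s89 0 :=
  (x89_2.fr2 GamS.nil AllS.nil c89_0 :)
theorem x90 : AuxS.{u} (cM2r 1 3) s90 0 a90 := aux_base3 tw56 rfl b90
theorem x90_1 : AuxS.{u} (cM2r 1 3) s90 0 a90_1 := x90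
theorem x90_2 : AuxS.{u} (cM2r 1 3) s90 0 a90_2 := x90_1
theorem n90 : Sound.{u} (cM2r 1 3) s90 0 :=
  (x90_2.fr2 GamS.nil AllS.nil c90_0 :)
theorem x91 : AuxS.{u} (cM2r 1 3) s91 0 a91 := aux_base3 tw57 rfl b91
theorem x91_1 : AuxS.{u} (cM2r 1 3) s91 0 a91_1 := x91
theorem x91_2 : AuxS.{u} (cM2r 1 3) s91 0 a91_2 := x91_1
theorem n91 : Sound.{u} (cM2r 1 3) s91 0 :=
  (x91_2.fr2 GamS.nil AllS.nil c91_0 :)
theorem x92 : AuxS.{u} (cM2r 1 3) s92 0 a92 := aux_base3 tw58 rfl b92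
theorem x92_1 : AuxS.{u} (cM2r 1 3) s92 0 a92_1 := x92
theorem x92_2 : AuxS.{u} (cM2r 1 3) s92 0 a92_2 := x92_1
theorem n92 : Sound.{u} (cM2r 1 3) s92 0 :=
  (x92_2.fr2 GamS.nil AllS.nil c92_0 :)
theorem x93 : AuxS.{u} (cM2r 1 3) s93 0 a93 := aux_base3 tw59 rfl b93
theorem x93_1 : AuxS.{u} (cM2r 1 3) s93 0 a93_1 := x93
theorem x93_2 : AuxS.{u} (cM2r 1 3) s93 0 a93_2 := x93_1
theorem x93_3 : AuxS.{u} (cM2r 1 3) s93 0 a93_3 := x93_2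
theorem n93 : Sound.{u} (cM2r 1 3) s93 0 :=
  (x93_3.fr2 GamS.nil AllS.nil c93_0 :)
theorem x94 : AuxS.{u} (cM2r 1 3) s94 0 a94 := aux_base3 tw60 rfl b94
theorem x94_1 : AuxS.{u} (cM2r 1 3) s94 0 a94_1 := x94
theorem x94_2 : AuxS.{u} (cM2r 1 3) s94 0 a94_2 := x94_1
theorem n94 : Sound.{u} (cM2r 1 3) s94 0 :=
  (x94_2.fr2 GamS.nil AllS.nil c94_0 :)
theorem x95 : AuxS.{u} (cM2r 1 3) s95 0 a95 := aux_base3 tw61 rfl b95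
theorem x95_1 : AuxS.{u} (cM2r 1 3) s95 0 a95_1 := x95
theorem x95_2 : AuxS.{u} (cM2r 1 3) s95 0 a95_2 := x95_1
theorem n95 : Sound.{u} (cM2r 1 3) s95 0 :=
  (x95_2.fr2 GamS.nil AllS.nil c95_0 :)
theorem x96 : AuxS.{u} (cM2r 1 3) s96 0 a96 := aux_base3 tw62 rfl b96
theorem x96_1 : AuxS.{u} (cM2r 1 3) s96 0 a96_1 := x96
theorem x96_2 : AuxS.{u} (cM2r 1 3) s96 0 a96_2 := x96_1
theorem n96 : Sound.{u} (cM2r 1 3) s96 0 :=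
  (x96_2.fr2 GamS.nil AllS.nil c96_0 :)
theorem x97 : AuxS.{u} (cM2r 1 3) s97 0 a97 := aux_base3 tw63 rfl b97
theorem x97_1 : AuxS.{u} (cM2r 1 3) s97 0 a97_1 := x97
theorem x97_2 : AuxS.{u} (cM2r 1 3) s97 0 a97_2 := x97_1
theorem n97 : Sound.{u} (cM2r 1 3) s97 0 :=
  (x97_2.fr2 GamS.nil AllS.nil c97_0 :)
theorem x98 : AuxS.{u} (cM2r 1 3) s98 0 a98 := aux_base3 tw64 rfl b98
theorem x98_1 : AuxS.{u} (cM2r 1 3) s98 0 a98_1 := x98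
theorem x98_2 : AuxS.{u} (cM2r 1 3) s98 0 a98_2 := x98_1
theorem x98_3 : AuxS.{u} (cM2r 1 3) s98 0 a98_3 := x98_2
theorem n98 : Sound.{u} (cM2r 1 3) s98 0 :=
  (x98_3.fr2 GamS.nil AllS.nil c98_0 :)
theorem x75 : AuxS.{u} (cM2r 1 3) s75 0 a75 := aux_base3 tw39 rfl b75
theorem x75_1 : AuxS.{u} (cM2r 1 3) s75 0 a75_1 := x75
theorem x75_2 : AuxS.{u} (cM2r 1 3) s75 0 a75_2 := x75_1
theorem x75_3 : AuxS.{u} (cM2r 1 3) s75 0 a75_3 := x75_2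
theorem x75_4 : AuxS.{u} (cM2r 1 3) s75 0 a75_4 := x75_3
theorem n75 : Sound.{u} (cM2r 1 3) s75 0 :=
  (x75_4.fr2 GamS.nil (AllS.cons n83 (AllS.cons n84 (AllS.cons n85 (AllS.cons n86 (AllS.cons n87 (AllS.cons n88 (AllS.cons n89 (AllS.cons n90 (AllS.cons n91 (AllS.cons n92 (AllS.cons n93 (AllS.cons n94 (AllS.cons n95 (AllS.cons n96 (AllS.cons n97 (AllS.cons n98 AllS.nil)))))))))))))))) c75_0 :)
theorem x76 : AuxS.{u} (cM2r 1 3) s76 0 a76 := aux_base3 tw39 rfl b76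
theorem n76 : Sound.{u} (cM2r 1 3) s76 0 :=
  (x76.k4 c76_0 :)
theorem x77 : AuxS.{u} (cM2r 1 3) s77 0 a77 := aux_base3 tw39 rfl b77
theorem n77 : Sound.{u} (cM2r 1 3) s77 0 :=
  (x77.k4 c77_0 :)
theorem x78 : AuxS.{u} (cM2r 1 3) s78 0 a78 := aux_base3 tw39 rfl b78
theorem n78 : Sound.{u} (cM2r 1 3) s78 0 :=
  (x78.k4 c78_0 :)
theorem x79 : AuxS.{u} (cM2r 1 3) s79 0 a79 := aux_base3 tw39 rfl b79
theorem n79 : Sound.{u} (cM2r 1 3) s79 0 :=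
  (x79.k4 c79_0 :)
theorem x80 : AuxS.{u} (cM2r 1 3) s80 0 a80 := aux_base3 tw39 rfl b80
theorem n80 : Sound.{u} (cM2r 1 3) s80 0 :=
  (x80.k4 c80_0 :)
theorem x81 : AuxS.{u} (cM2r 1 3) s81 0 a81 := aux_base3 tw39 rfl b81
theorem n81 : Sound.{u} (cM2r 1 3) s81 0 :=
  (x81.k4 c81_0 :)
theorem x82 : AuxS.{u} (cM2r 1 3) s82 0 a82 := aux_base3 tw39 rfl b82
theorem n82 : Sound.{u} (cM2r 1 3) s82 0 :=
  (x82.k4 c82_0 :)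
theorem x65 : AuxS.{u} (cM2r 1 3) s65 0 a65 := aux_base3 tw39 rfl b65
theorem x65_1 : AuxS.{u} (cM2r 1 3) s65 0 a65_1 := x65
theorem x65_2 : AuxS.{u} (cM2r 1 3) s65 0 a65_2 := x65_1
theorem n65 : Sound.{u} (cM2r 1 3) s65 0 :=
  (x65_2.fr (AuxS.gam x65_2 c65_0) (AllS.cons n75 (AllS.cons n76 (AllS.cons n77 (AllS.cons n78 (AllS.cons n79 (AllS.cons n80 (AllS.cons n81 (AllS.cons n82 AllS.nil)))))))) c65_1 :)
theorem x66 : AuxS.{u} (cM2r 1 3) s66 0 a66 := aux_base3 tw40 rfl b66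
theorem x66_1 : AuxS.{u} (cM2r 1 3) s66 0 a66_1 := x66
theorem x66_2 : AuxS.{u} (cM2r 1 3) s66 0 a66_2 := x66_1
theorem n66 : Sound.{u} (cM2r 1 3) s66 0 :=
  (x66_2.fr GamS.nil AllS.nil c66_0 :)
theorem x67 : AuxS.{u} (cM2r 1 3) s67 0 a67 := aux_base3 tw41 rfl b67
theorem x67_1 : AuxS.{u} (cM2r 1 3) s67 0 a67_1 := x67
theorem x67_2 : AuxS.{u} (cM2r 1 3) s67 0 a67_2 := x67_1
theorem n67 : Sound.{u} (cM2r 1 3) s67 0 :=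
  (x67_2.fr GamS.nil AllS.nil c67_0 :)
theorem x68 : AuxS.{u} (cM2r 1 3) s68 0 a68 := aux_base3 tw42 rfl b68
theorem x68_1 : AuxS.{u} (cM2r 1 3) s68 0 a68_1 := x68
theorem x68_2 : AuxS.{u} (cM2r 1 3) s68 0 a68_2 := x68_1
theorem n68 : Sound.{u} (cM2r 1 3) s68 0 :=
  (x68_2.fr GamS.nil AllS.nil c68_0 :)
theorem x109 : AuxS.{u} (cM2r 1 3) s109 0 a109 := aux_base3 tw43 rfl b109
theorem n109 : Sound.{u} (cM2r 1 3) s109 0 :=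
  (x109.k4 c109_0 :)
theorem x117 : AuxS.{u} (cM2r 1 3) s117 0 a117 := aux_base3 tw67 rfl b117
theorem x117_1 : AuxS.{u} (cM2r 1 3) s117 0 a117_1 := (AuxS.up x117 c117_1 :)
theorem x117_2 : AuxS.{u} (cM2r 1 3) s117 0 a117_2 := (AuxS.up x117_1 c117_2 :)
theorem n117 : Sound.{u} (cM2r 1 3) s117 0 :=
  (x117_2.k7 c117_0 :)
theorem x118 : AuxS.{u} (cM2r 1 3) s118 0 a118 := aux_base3 tw68 rfl b118
theorem x118_1 : AuxS.{u} (cM2r 1 3) s118 0 a118_1 := (AuxS.up x118 c118_1 :)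
theorem x118_2 : AuxS.{u} (cM2r 1 3) s118 0 a118_2 := (AuxS.up x118_1 c118_2 :)
theorem n118 : Sound.{u} (cM2r 1 3) s118 0 :=
  (x118_2.k7 c118_0 :)
theorem x110 : AuxS.{u} (cM2r 1 3) s110 0 a110 := aux_base3 tw43 rfl b110
theorem x110_1 : AuxS.{u} (cM2r 1 3) s110 0 a110_1 := (AuxS.up x110 c110_1 :)
theorem n110 : Sound.{u} (cM2r 1 3) s110 0 :=
  (x110_1.fr2 GamS.nil (AllS.cons n117 (AllS.cons n118 AllS.nil)) c110_0 :)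
theorem x111 : AuxS.{u} (cM2r 1 3) s111 0 a111 := aux_base3 tw43 rfl b111
theorem n111 : Sound.{u} (cM2r 1 3) s111 0 :=
  (x111.k4 c111_0 :)
theorem x112 : AuxS.{u} (cM2r 1 3) s112 0 a112 := aux_base3 tw43 rfl b112
theorem n112 : Sound.{u} (cM2r 1 3) s112 0 :=
  (x112.k4 c112_0 :)
theorem x113 : AuxS.{u} (cM2r 1 3) s113 0 a113 := aux_base3 tw43 rfl b113
theorem n113 : Sound.{u} (cM2r 1 3) s113 0 :=
  (x113.k4 c113_0 :)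
theorem x114 : AuxS.{u} (cM2r 1 3) s114 0 a114 := aux_base3 tw43 rfl b114
theorem n114 : Sound.{u} (cM2r 1 3) s114 0 :=
  (x114.k4 c114_0 :)
theorem x115 : AuxS.{u} (cM2r 1 3) s115 0 a115 := aux_base3 tw43 rfl b115
theorem n115 : Sound.{u} (cM2r 1 3) s115 0 :=
  (x115.k4 c115_0 :)
theorem x116 : AuxS.{u} (cM2r 1 3) s116 0 a116 := aux_base3 tw43 rfl b116
theorem n116 : Sound.{u} (cM2r 1 3) s116 0 :=
  (x116.k4 c116_0 :)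
theorem x69 : AuxS.{u} (cM2r 1 3) s69 0 a69 := aux_base3 tw43 rfl b69
theorem x69_1 : AuxS.{u} (cM2r 1 3) s69 0 a69_1 := x69
theorem n69 : Sound.{u} (cM2r 1 3) s69 0 :=
  (x69_1.fr (AuxS.gam x69_1 c69_0) (AllS.cons n109 (AllS.cons n110 (AllS.cons n111 (AllS.cons n112 (AllS.cons n113 (AllS.cons n114 (AllS.cons n115 (AllS.cons n116 AllS.nil)))))))) c69_1 :)
theorem x70 : AuxS.{u} (cM2r 1 3) s70 0 a70 := aux_base3 tw44 rfl b70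
theorem x70_1 : AuxS.{u} (cM2r 1 3) s70 0 a70_1 := x70
theorem n70 : Sound.{u} (cM2r 1 3) s70 0 :=
  (x70_1.fr GamS.nil AllS.nil c70_0 :)
theorem x71 : AuxS.{u} (cM2r 1 3) s71 0 a71 := aux_base3 tw45 rfl b71
theorem x71_1 : AuxS.{u} (cM2r 1 3) s71 0 a71_1 := x71
theorem n71 : Sound.{u} (cM2r 1 3) s71 0 :=
  (x71_1.fr GamS.nil AllS.nil c71_0 :)
theorem x72 : AuxS.{u} (cM2r 1 3) s72 0 a72 := aux_base3 tw46 rfl b72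
theorem x72_1 : AuxS.{u} (cM2r 1 3) s72 0 a72_1 := x72
theorem n72 : Sound.{u} (cM2r 1 3) s72 0 :=
  (x72_1.fr GamS.nil AllS.nil c72_0 :)
theorem x73 : AuxS.{u} (cM2r 1 3) s73 0 a73 := aux_base3 tw47 rfl b73
theorem n73 : Sound.{u} (cM2r 1 3) s73 0 :=
  (x73.k3 c73_0 :)
theorem x74 : AuxS.{u} (cM2r 1 3) s74 0 a74 := aux_base3 tw48 rfl b74
theorem n74 : Sound.{u} (cM2r 1 3) s74 0 :=
  (x74.k3 c74_0 :)
theorem x64 : AuxS.{u} (cM2r 1 3) s64 0 a64 := aux_base3 tw3 rfl b64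
theorem x64_1 : AuxS.{u} (cM2r 1 3) s64 0 a64_1 := (AuxS.up x64 c64_5 :)
theorem p64_0_1 : Phs s64 a64_1 (List.map Prod.fst g64_0) [s65, s66, s67, s68, s69, s70, s71, s72, s73, s74] ct64_0 v64_0 4 w64_0_1 := (Phs.fin c64_1)
theorem p64_0_3 : Phs s64 a64_1 (List.map Prod.fst g64_0) [s65, s66, s67, s68, s69, s70, s71, s72, s73, s74] ct64_0 v64_0 1 w64_0_3 := (Phs.stp c64_2 p64_0_1)
theorem n64 : Sound.{u} (cM2r 1 3) s64 0 :=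
  (x64_1.ext2 (fun h => absurd h (by decide)) (AuxS.gam x64_1 c64_0) (AllS.cons n65 (AllS.cons n66 (AllS.cons n67 (AllS.cons n68 (AllS.cons n69 (AllS.cons n70 (AllS.cons n71 (AllS.cons n72 (AllS.cons n73 (AllS.cons n74 AllS.nil)))))))))) c64_4 (Phs.stp c64_3 p64_0_3) (Phs.fin (ct := ct64_0) rfl) :)
theorem x62 : AuxS.{u} (cM2r 1 3) s62 0 a62 := aux_base3 tw37 rfl b62
theorem x62_1 : AuxS.{u} (cM2r 1 3) s62 0 a62_1 := x62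
theorem n62 : Sound.{u} (cM2r 1 3) s62 0 :=
  (x62_1.jump c62_0 c62_1 n64 :)
theorem x63 : AuxS.{u} (cM2r 1 3) s63 0 a63 := aux_base3 tw38 rfl b63
theorem x63_1 : AuxS.{u} (cM2r 1 3) s63 0 a63_1 := (AuxS.up x63 c63_1 :)
theorem n63 : Sound.{u} (cM2r 1 3) s63 0 :=
  (x63_1.k1 c63_0 :)
theorem x3 : AuxS.{u} (cM2r 1 3) s3 0 a3 := aux_base3 tw3 rfl b3
theorem x3_1 : AuxS.{u} (cM2r 1 3) s3 0 a3_1 := x3
theorem n3 : Sound.{u} (cM2r 1 3) s3 0 :=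
  (x3_1.ext2 (fun h => absurd h (by decide)) GamS.nil (AllS.cons n62 (AllS.cons n63 AllS.nil)) c3_1 (Phs.fin (ct := ct3_0) rfl) (Phs.fin c3_0) :)
theorem x4 : AuxS.{u} (cM2r 1 3) s4 0 a4 := aux_base3 tw4 rfl b4
theorem x4_1 : AuxS.{u} (cM2r 1 3) s4 0 a4_1 := (AuxS.up x4 c4_1 :)
theorem n4 : Sound.{u} (cM2r 1 3) s4 0 :=
  (x4_1.k1 c4_0 :)
theorem x0 : AuxS.{u} (cM2r 1 3) s0 0 a0 := aux_base3 tw0 rfl b0
theorem x0_1 : AuxS.{u} (cM2r 1 3) s0 0 a0_1 := (AuxS.up x0 c0_3 :)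
theorem p0_0_1 : Phs s0 a0_1 [] [s1, s2, s3, s4] ct0_0 v0_0 1 w0_0_1 := (Phs.fin c0_0)
theorem n0 : Sound.{u} (cM2r 1 3) s0 0 :=
  (x0_1.ext2 (fun h => absurd h (by decide)) GamS.nil (AllS.cons n1 (AllS.cons n2 (AllS.cons n3 (AllS.cons n4 AllS.nil)))) c0_2 (Phs.stp c0_1 p0_0_1) (Phs.fin (ct := ct0_0) rfl) :)

theorem main : Sound.{u} (cM2r 1 3) (root 1) 0 := n0

end

end CfsgLib.Dih8.TM13
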