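import Cfsg.Agent.Lib.Dih8.G.TM20C0
import Cfsg.Agent.Lib.Dih8.Rules

/-! Generated certificates (plans/DIH8.md). -/

set_option autoImplicit false
set_option maxRecDepth 100000
set_option Elab.async false
set_option maxHeartbeats 0
set_option linter.all false

namespace CfsgLib.Dih8.TM20

noncomputable section

universe u

theorem tw5 : Tow.{u} l5 t5 := tow_of tc5_0 (Rng.zero.step tc5_1) (Rng.zero.step tc5_2)
theorem tw7 : Tow.{u} l7 t7 := tow_of tc7_0 (Rng.zero.step tc7_1) (Rng.zero.step tc7_2)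
theorem tw8 : Tow.{u} l8 t8 := tow_of tc8_0 (Rng.zero.step tc8_1) (Rng.zero.step tc8_2)
theorem tw9 : Tow.{u} l9 t9 := tow_of tc9_0 (Rng.zero.step tc9_1) (Rng.zero.step tc9_2)
theorem tw10 : Tow.{u} l10 t10 := tow_of tc10_0 (Rng.zero.step tc10_1) (Rng.zero.step tc10_2)
theorem tw11 : Tow.{u} l11 t11 := tow_of tc11_0 (Rng.zero.step tc11_1) (Rng.zero.step tc11_2)
theorem tw12 : Tow.{u} l12 t12 := tow_of tc12_0 (Rng.zero.step tc12_1) (Rng.zero.step tc12_2)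
theorem tw13 : Tow.{u} l13 t13 := tow_of tc13_0 (Rng.zero.step tc13_1) (Rng.zero.step tc13_2)
theorem tw14 : Tow.{u} l14 t14 := tow_of tc14_0 (Rng.zero.step tc14_1) (Rng.zero.step tc14_2)
theorem tw15 : Tow.{u} l15 t15 := tow_of tc15_0 (Rng.zero.step tc15_1) (Rng.zero.step tc15_2)
theorem tw16 : Tow.{u} l16 t16 := tow_of tc16_0 (Rng.zero.step tc16_1) (Rng.zero.step tc16_2)
theorem tw1 : Tow.{u} l1 t1 := tow_of tc1_0 (Rng.zero.step tc1_1) (Rng.zero.step tc1_2)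
theorem tw6 : Tow.{u} l6 t6 := tow_of tc6_0 (Rng.zero.step tc6_1) (Rng.zero.step tc6_2)
theorem tw2 : Tow.{u} l2 t2 := tow_of tc2_0 (Rng.zero.step tc2_1) (Rng.zero.step tc2_2)
theorem tw17 : Tow.{u} l17 t17 := tow_of tc17_0 (Rng.zero.step tc17_1) (Rng.zero.step tc17_2)
theorem tw19 : Tow.{u} l19 t19 := tow_of tc19_0 (Rng.zero.step tc19_1) (Rng.zero.step tc19_2)
theorem tw20 : Tow.{u} l20 t20 := tow_of tc20_0 (Rng.zero.step tc20_1) (Rng.zero.step tc20_2)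
theorem tw21 : Tow.{u} l21 t21 := tow_of tc21_0 (Rng.zero.step tc21_1) (Rng.zero.step tc21_2)
theorem tw22 : Tow.{u} l22 t22 := tow_of tc22_0 (Rng.zero.step tc22_1) (Rng.zero.step tc22_2)
theorem tw23 : Tow.{u} l23 t23 := tow_of tc23_0 (Rng.zero.step tc23_1) (Rng.zero.step tc23_2)
theorem tw24 : Tow.{u} l24 t24 := tow_of tc24_0 (Rng.zero.step tc24_1) (Rng.zero.step tc24_2)
theorem tw25 : Tow.{u} l25 t25 := tow_of tc25_0 (Rng.zero.step tc25_1) (Rng.zero.step tc25_2)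
theorem tw26 : Tow.{u} l26 t26 := tow_of tc26_0 (Rng.zero.step tc26_1) (Rng.zero.step tc26_2)
theorem tw27 : Tow.{u} l27 t27 := tow_of tc27_0 (Rng.zero.step tc27_1) (Rng.zero.step tc27_2)
theorem tw28 : Tow.{u} l28 t28 := tow_of tc28_0 (Rng.zero.step tc28_1) (Rng.zero.step tc28_2)
theorem tw3 : Tow.{u} l3 t3 := tow_of tc3_0 (Rng.zero.step tc3_1) (Rng.zero.step tc3_2)
theorem tw18 : Tow.{u} l18 t18 := tow_of tc18_0 (Rng.zero.step tc18_1) (Rng.zero.step tc18_2)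
theorem tw4 : Tow.{u} l4 t4 := tow_of tc4_0 (Rng.zero.step tc4_1) (Rng.zero.step tc4_2)
theorem tw0 : Tow.{u} [] t0 := tow_of tc0_0 (Rng.zero.step tc0_1) (Rng.zero.step tc0_2)
theorem x5 : AuxS.{u} (cM2r 2 0) s5 0 a5 := aux_base3 tw5 rfl b5
theorem x5_1 : AuxS.{u} (cM2r 2 0) s5 0 a5_1 := (AuxS.up x5 c5_1 :)
theorem x5_2 : AuxS.{u} (cM2r 2 0) s5 0 a5_2 := (AuxS.up2 x5_1 c5_2 :)
theorem x5_3 : AuxS.{u} (cM2r 2 0) s5 0 a5_3 := (AuxS.up x5_2 c5_3 :)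
theorem n5 : Sound.{u} (cM2r 2 0) s5 0 :=
  (x5_3.k7 c5_0 :)
theorem x8 : AuxS.{u} (cM2r 2 0) s8 0 a8 := aux_base3 tw7 rfl b8
theorem n8 : Sound.{u} (cM2r 2 0) s8 0 :=
  (x8.k6 c8_0 :)
theorem x9 : AuxS.{u} (cM2r 2 0) s9 0 a9 := aux_base3 tw8 rfl b9
theorem n9 : Sound.{u} (cM2r 2 0) s9 0 :=
  (x9.k6 c9_0 :)
theorem x10 : AuxS.{u} (cM2r 2 0) s10 0 a10 := aux_base3 tw9 rfl b10
theorem n10 : Sound.{u} (cM2r 2 0) s10 0 :=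
  (x10.k6 c10_0 :)
theorem x11 : AuxS.{u} (cM2r 2 0) s11 0 a11 := aux_base3 tw10 rfl b11
theorem n11 : Sound.{u} (cM2r 2 0) s11 0 :=
  (x11.k6 c11_0 :)
theorem x12 : AuxS.{u} (cM2r 2 0) s12 0 a12 := aux_base3 tw11 rfl b12
theorem n12 : Sound.{u} (cM2r 2 0) s12 0 :=
  (x12.k6 c12_0 :)
theorem x13 : AuxS.{u} (cM2r 2 0) s13 0 a13 := aux_base3 tw12 rfl b13
theorem n13 : Sound.{u} (cM2r 2 0) s13 0 :=
  (x13.k6 c13_0 :)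
theorem x14 : AuxS.{u} (cM2r 2 0) s14 0 a14 := aux_base3 tw13 rfl b14
theorem n14 : Sound.{u} (cM2r 2 0) s14 0 :=
  (x14.k6 c14_0 :)
theorem x15 : AuxS.{u} (cM2r 2 0) s15 0 a15 := aux_base3 tw14 rfl b15
theorem n15 : Sound.{u} (cM2r 2 0) s15 0 :=
  (x15.k6 c15_0 :)
theorem x16 : AuxS.{u} (cM2r 2 0) s16 0 a16 := aux_base3 tw15 rfl b16
theorem n16 : Sound.{u} (cM2r 2 0) s16 0 :=
  (x16.k3 c16_0 :)
theorem x17 : AuxS.{u} (cM2r 2 0) s17 0 a17 := aux_base3 tw16 rfl b17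
theorem n17 : Sound.{u} (cM2r 2 0) s17 0 :=
  (x17.k3 c17_0 :)
theorem x7 : AuxS.{u} (cM2r 2 0) s7 0 a7 := aux_base3 tw1 rfl b7
theorem x7_1 : AuxS.{u} (cM2r 2 0) s7 0 a7_1 := (AuxS.up x7 c7_5 :)
theorem p7_0_1 : Phs s7 a7_1 (List.map Prod.fst g7_0) [s8, s9, s10, s11, s12, s13, s14, s15, s16, s17] ct7_0 v7_0 4 w7_0_1 := (Phs.fin c7_1)
theorem p7_0_3 : Phs s7 a7_1 (List.map Prod.fst g7_0) [s8, s9, s10, s11, s12, s13, s14, s15, s16, s17] ct7_0 v7_0 1 w7_0_3 := (Phs.stp c7_2 p7_0_1)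
theorem n7 : Sound.{u} (cM2r 2 0) s7 0 :=
  (x7_1.ext2 (fun h => absurd h (by decide)) (AuxS.gam x7_1 c7_0) (AllS.cons n8 (AllS.cons n9 (AllS.cons n10 (AllS.cons n11 (AllS.cons n12 (AllS.cons n13 (AllS.cons n14 (AllS.cons n15 (AllS.cons n16 (AllS.cons n17 AllS.nil)))))))))) c7_4 (Phs.stp c7_3 p7_0_3) (Phs.fin (ct := ct7_0) rfl) :)
theorem x6 : AuxS.{u} (cM2r 2 0) s6 0 a6 := aux_base3 tw6 rfl b6
theorem x6_1 : AuxS.{u} (cM2r 2 0) s6 0 a6_1 := x6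
theorem n6 : Sound.{u} (cM2r 2 0) s6 0 :=
  (x6_1.jump c6_0 c6_1 n7 :)
theorem x1 : AuxS.{u} (cM2r 2 0) s1 0 a1 := aux_base3 tw1 rfl b1
theorem x1_1 : AuxS.{u} (cM2r 2 0) s1 0 a1_1 := x1
theorem n1 : Sound.{u} (cM2r 2 0) s1 0 :=
  (x1_1.ext2 (fun h => absurd h (by decide)) GamS.nil (AllS.cons n5 (AllS.cons n6 AllS.nil)) c1_1 (Phs.fin (ct := ct1_0) rfl) (Phs.fin c1_0) :)
theorem x2 : AuxS.{u} (cM2r 2 0) s2 0 a2 := aux_base3 tw2 rfl b2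
theorem x2_1 : AuxS.{u} (cM2r 2 0) s2 0 a2_1 := (AuxS.up x2 c2_1 :)
theorem n2 : Sound.{u} (cM2r 2 0) s2 0 :=
  (x2_1.k7 c2_0 :)
theorem x18 : AuxS.{u} (cM2r 2 0) s18 0 a18 := aux_base3 tw17 rfl b18
theorem x18_1 : AuxS.{u} (cM2r 2 0) s18 0 a18_1 := (AuxS.up x18 c18_1 :)
theorem x18_2 : AuxS.{u} (cM2r 2 0) s18 0 a18_2 := (AuxS.up2 x18_1 c18_2 :)
theorem x18_3 : AuxS.{u} (cM2r 2 0) s18 0 a18_3 := (AuxS.up x18_2 c18_3 :)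
theorem n18 : Sound.{u} (cM2r 2 0) s18 0 :=
  (x18_3.k7 c18_0 :)
theorem x21 : AuxS.{u} (cM2r 2 0) s21 0 a21 := aux_base3 tw19 rfl b21
theorem n21 : Sound.{u} (cM2r 2 0) s21 0 :=
  (x21.k6 c21_0 :)
theorem x22 : AuxS.{u} (cM2r 2 0) s22 0 a22 := aux_base3 tw20 rfl b22
theorem n22 : Sound.{u} (cM2r 2 0) s22 0 :=
  (x22.k6 c22_0 :)
theorem x23 : AuxS.{u} (cM2r 2 0) s23 0 a23 := aux_base3 tw21 rfl b23
theorem n23 : Sound.{u} (cM2r 2 0) s23 0 :=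
  (x23.k6 c23_0 :)
theorem x24 : AuxS.{u} (cM2r 2 0) s24 0 a24 := aux_base3 tw22 rfl b24
theorem n24 : Sound.{u} (cM2r 2 0) s24 0 :=
  (x24.k6 c24_0 :)
theorem x25 : AuxS.{u} (cM2r 2 0) s25 0 a25 := aux_base3 tw23 rfl b25
theorem n25 : Sound.{u} (cM2r 2 0) s25 0 :=
  (x25.k6 c25_0 :)
theorem x26 : AuxS.{u} (cM2r 2 0) s26 0 a26 := aux_base3 tw24 rfl b26
theorem n26 : Sound.{u} (cM2r 2 0) s26 0 :=
  (x26.k6 c26_0 :)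
theorem x27 : AuxS.{u} (cM2r 2 0) s27 0 a27 := aux_base3 tw25 rfl b27
theorem n27 : Sound.{u} (cM2r 2 0) s27 0 :=
  (x27.k6 c27_0 :)
theorem x28 : AuxS.{u} (cM2r 2 0) s28 0 a28 := aux_base3 tw26 rfl b28
theorem n28 : Sound.{u} (cM2r 2 0) s28 0 :=
  (x28.k6 c28_0 :)
theorem x29 : AuxS.{u} (cM2r 2 0) s29 0 a29 := aux_base3 tw27 rfl b29
theorem n29 : Sound.{u} (cM2r 2 0) s29 0 :=
  (x29.k3 c29_0 :)
theorem x30 : AuxS.{u} (cM2r 2 0) s30 0 a30 := aux_base3 tw28 rfl b30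
theorem n30 : Sound.{u} (cM2r 2 0) s30 0 :=
  (x30.k3 c30_0 :)
theorem x20 : AuxS.{u} (cM2r 2 0) s20 0 a20 := aux_base3 tw3 rfl b20
theorem x20_1 : AuxS.{u} (cM2r 2 0) s20 0 a20_1 := (AuxS.up x20 c20_5 :)
theorem p20_0_1 : Phs s20 a20_1 (List.map Prod.fst g20_0) [s21, s22, s23, s24, s25, s26, s27, s28, s29, s30] ct20_0 v20_0 4 w20_0_1 := (Phs.fin c20_1)
theorem p20_0_3 : Phs s20 a20_1 (List.map Prod.fst g20_0) [s21, s22, s23, s24, s25, s26, s27, s28, s29, s30] ct20_0 v20_0 1 w20_0_3 := (Phs.stp c20_2 p20_0_1)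
theorem n20 : Sound.{u} (cM2r 2 0) s20 0 :=
  (x20_1.ext2 (fun h => absurd h (by decide)) (AuxS.gam x20_1 c20_0) (AllS.cons n21 (AllS.cons n22 (AllS.cons n23 (AllS.cons n24 (AllS.cons n25 (AllS.cons n26 (AllS.cons n27 (AllS.cons n28 (AllS.cons n29 (AllS.cons n30 AllS.nil)))))))))) c20_4 (Phs.stp c20_3 p20_0_3) (Phs.fin (ct := ct20_0) rfl) :)
theorem x19 : AuxS.{u} (cM2r 2 0) s19 0 a19 := aux_base3 tw18 rfl b19
theorem x19_1 : AuxS.{u} (cM2r 2 0) s19 0 a19_1 := x19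
theorem n19 : Sound.{u} (cM2r 2 0) s19 0 :=
  (x19_1.jump c19_0 c19_1 n20 :)
theorem x3 : AuxS.{u} (cM2r 2 0) s3 0 a3 := aux_base3 tw3 rfl b3
theorem x3_1 : AuxS.{u} (cM2r 2 0) s3 0 a3_1 := x3
theorem n3 : Sound.{u} (cM2r 2 0) s3 0 :=
  (x3_1.ext2 (fun h => absurd h (by decide)) GamS.nil (AllS.cons n18 (AllS.cons n19 AllS.nil)) c3_1 (Phs.fin (ct := ct3_0) rfl) (Phs.fin c3_0) :)
theorem x4 : AuxS.{u} (cM2r 2 0) s4 0 a4 := aux_base3 tw4 rfl b4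
theorem x4_1 : AuxS.{u} (cM2r 2 0) s4 0 a4_1 := (AuxS.up x4 c4_1 :)
theorem n4 : Sound.{u} (cM2r 2 0) s4 0 :=
  (x4_1.k7 c4_0 :)
theorem x0 : AuxS.{u} (cM2r 2 0) s0 0 a0 := aux_base3 tw0 rfl b0
theorem x0_1 : AuxS.{u} (cM2r 2 0) s0 0 a0_1 := (AuxS.up x0 c0_3 :)
theorem p0_0_1 : Phs s0 a0_1 [] [s1, s2, s3, s4] ct0_0 v0_0 1 w0_0_1 := (Phs.fin c0_0)
theorem n0 : Sound.{u} (cM2r 2 0) s0 0 :=
  (x0_1.ext2 (fun h => absurd h (by decide)) GamS.nil (AllS.cons n1 (AllS.cons n2 (AllS.cons n3 (AllS.cons n4 AllS.nil)))) c0_2 (Phs.stp c0_1 p0_0_1) (Phs.fin (ct := ct0_0) rfl) :)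

theorem main : Sound.{u} (cM2r 2 0) (root 2) 0 := n0

end

end CfsgLib.Dih8.TM20
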