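import Cfsg.Agent.Lib.Dih8.G.TM2C0
import Cfsg.Agent.Lib.Dih8.Rules

/-! Generated certificates (plans/DIH8.md). -/

set_option autoImplicit false
set_option maxRecDepth 100000
set_option Elab.async false
set_option maxHeartbeats 0
set_option linter.all false

namespace CfsgLib.Dih8.TM2

noncomputable section

universe u

theorem tw17 : Tow.{u} l17 t17 := tow_of tc17_0 (Rng.zero.step tc17_1) (Rng.zero.step tc17_2)
theorem tw18 : Tow.{u} l18 t18 := tow_of tc18_0 (Rng.zero.step tc18_1) (Rng.zero.step tc18_2)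
theorem tw19 : Tow.{u} l19 t19 := tow_of tc19_0 (Rng.zero.step tc19_1) (Rng.zero.step tc19_2)
theorem tw20 : Tow.{u} l20 t20 := tow_of tc20_0 (Rng.zero.step tc20_1) (Rng.zero.step tc20_2)
theorem tw21 : Tow.{u} l21 t21 := tow_of tc21_0 (Rng.zero.step tc21_1) (Rng.zero.step tc21_2)
theorem tw22 : Tow.{u} l22 t22 := tow_of tc22_0 (Rng.zero.step tc22_1) (Rng.zero.step tc22_2)
theorem tw23 : Tow.{u} l23 t23 := tow_of tc23_0 (Rng.zero.step tc23_1) (Rng.zero.step tc23_2)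
theorem tw24 : Tow.{u} l24 t24 := tow_of tc24_0 (Rng.zero.step tc24_1) (Rng.zero.step tc24_2)
theorem tw25 : Tow.{u} l25 t25 := tow_of tc25_0 (Rng.zero.step tc25_1) (Rng.zero.step tc25_2)
theorem tw26 : Tow.{u} l26 t26 := tow_of tc26_0 (Rng.zero.step tc26_1) (Rng.zero.step tc26_2)
theorem tw27 : Tow.{u} l27 t27 := tow_of tc27_0 (Rng.zero.step tc27_1) (Rng.zero.step tc27_2)
theorem tw28 : Tow.{u} l28 t28 := tow_of tc28_0 (Rng.zero.step tc28_1) (Rng.zero.step tc28_2)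
theorem tw29 : Tow.{u} l29 t29 := tow_of tc29_0 (Rng.zero.step tc29_1) (Rng.zero.step tc29_2)
theorem tw30 : Tow.{u} l30 t30 := tow_of tc30_0 (Rng.zero.step tc30_1) (Rng.zero.step tc30_2)
theorem tw31 : Tow.{u} l31 t31 := tow_of tc31_0 (Rng.zero.step tc31_1) (Rng.zero.step tc31_2)
theorem tw32 : Tow.{u} l32 t32 := tow_of tc32_0 (Rng.zero.step tc32_1) (Rng.zero.step tc32_2)
theorem tw13 : Tow.{u} l13 t13 := tow_of tc13_0 (Rng.zero.step tc13_1) (Rng.zero.step tc13_2)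
theorem tw14 : Tow.{u} l14 t14 := tow_of tc14_0 (Rng.zero.step tc14_1) (Rng.zero.step tc14_2)
theorem tw15 : Tow.{u} l15 t15 := tow_of tc15_0 (Rng.zero.step tc15_1) (Rng.zero.step tc15_2)
theorem tw16 : Tow.{u} l16 t16 := tow_of tc16_0 (Rng.zero.step tc16_1) (Rng.zero.step tc16_2)
theorem tw1 : Tow.{u} l1 t1 := tow_of tc1_0 (Rng.zero.step tc1_1) (Rng.zero.step tc1_2)
theorem tw5 : Tow.{u} l5 t5 := tow_of tc5_0 (Rng.zero.step tc5_1) (Rng.zero.step tc5_2)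
theorem tw6 : Tow.{u} l6 t6 := tow_of tc6_0 (Rng.zero.step tc6_1) (Rng.zero.step tc6_2)
theorem tw7 : Tow.{u} l7 t7 := tow_of tc7_0 (Rng.zero.step tc7_1) (Rng.zero.step tc7_2)
theorem tw8 : Tow.{u} l8 t8 := tow_of tc8_0 (Rng.zero.step tc8_1) (Rng.zero.step tc8_2)
theorem tw9 : Tow.{u} l9 t9 := tow_of tc9_0 (Rng.zero.step tc9_1) (Rng.zero.step tc9_2)
theorem tw33 : Tow.{u} l33 t33 := tow_of tc33_0 (Rng.zero.step tc33_1) (Rng.zero.step tc33_2)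
theorem tw34 : Tow.{u} l34 t34 := tow_of tc34_0 (Rng.zero.step tc34_1) (Rng.zero.step tc34_2)
theorem tw35 : Tow.{u} l35 t35 := tow_of tc35_0 (Rng.zero.step tc35_1) (Rng.zero.step tc35_2)
theorem tw36 : Tow.{u} l36 t36 := tow_of tc36_0 (Rng.zero.step tc36_1) (Rng.zero.step tc36_2)
theorem tw37 : Tow.{u} l37 t37 := tow_of tc37_0 (Rng.zero.step tc37_1) (Rng.zero.step tc37_2)
theorem tw38 : Tow.{u} l38 t38 := tow_of tc38_0 (Rng.zero.step tc38_1) (Rng.zero.step tc38_2)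
theorem tw39 : Tow.{u} l39 t39 := tow_of tc39_0 (Rng.zero.step tc39_1) (Rng.zero.step tc39_2)
theorem tw40 : Tow.{u} l40 t40 := tow_of tc40_0 (Rng.zero.step tc40_1) (Rng.zero.step tc40_2)
theorem tw10 : Tow.{u} l10 t10 := tow_of tc10_0 (Rng.zero.step tc10_1) (Rng.zero.step tc10_2)
theorem tw11 : Tow.{u} l11 t11 := tow_of tc11_0 (Rng.zero.step tc11_1) (Rng.zero.step tc11_2)
theorem tw12 : Tow.{u} l12 t12 := tow_of tc12_0 (Rng.zero.step tc12_1) (Rng.zero.step tc12_2)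
theorem tw2 : Tow.{u} l2 t2 := tow_of tc2_0 (Rng.zero.step tc2_1) (Rng.zero.step tc2_2)
theorem tw53 : Tow.{u} l53 t53 := tow_of tc53_0 (Rng.zero.step tc53_1) (Rng.zero.step tc53_2)
theorem tw54 : Tow.{u} l54 t54 := tow_of tc54_0 (Rng.zero.step tc54_1) (Rng.zero.step tc54_2)
theorem tw55 : Tow.{u} l55 t55 := tow_of tc55_0 (Rng.zero.step tc55_1) (Rng.zero.step tc55_2)
theorem tw56 : Tow.{u} l56 t56 := tow_of tc56_0 (Rng.zero.step tc56_1) (Rng.zero.step tc56_2)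
theorem tw57 : Tow.{u} l57 t57 := tow_of tc57_0 (Rng.zero.step tc57_1) (Rng.zero.step tc57_2)
theorem tw58 : Tow.{u} l58 t58 := tow_of tc58_0 (Rng.zero.step tc58_1) (Rng.zero.step tc58_2)
theorem tw59 : Tow.{u} l59 t59 := tow_of tc59_0 (Rng.zero.step tc59_1) (Rng.zero.step tc59_2)
theorem tw60 : Tow.{u} l60 t60 := tow_of tc60_0 (Rng.zero.step tc60_1) (Rng.zero.step tc60_2)
theorem tw61 : Tow.{u} l61 t61 := tow_of tc61_0 (Rng.zero.step tc61_1) (Rng.zero.step tc61_2)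
theorem tw62 : Tow.{u} l62 t62 := tow_of tc62_0 (Rng.zero.step tc62_1) (Rng.zero.step tc62_2)
theorem tw63 : Tow.{u} l63 t63 := tow_of tc63_0 (Rng.zero.step tc63_1) (Rng.zero.step tc63_2)
theorem tw64 : Tow.{u} l64 t64 := tow_of tc64_0 (Rng.zero.step tc64_1) (Rng.zero.step tc64_2)
theorem tw65 : Tow.{u} l65 t65 := tow_of tc65_0 (Rng.zero.step tc65_1) (Rng.zero.step tc65_2)
theorem tw66 : Tow.{u} l66 t66 := tow_of tc66_0 (Rng.zero.step tc66_1) (Rng.zero.step tc66_2)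
theorem tw67 : Tow.{u} l67 t67 := tow_of tc67_0 (Rng.zero.step tc67_1) (Rng.zero.step tc67_2)
theorem tw68 : Tow.{u} l68 t68 := tow_of tc68_0 (Rng.zero.step tc68_1) (Rng.zero.step tc68_2)
theorem tw49 : Tow.{u} l49 t49 := tow_of tc49_0 (Rng.zero.step tc49_1) (Rng.zero.step tc49_2)
theorem tw50 : Tow.{u} l50 t50 := tow_of tc50_0 (Rng.zero.step tc50_1) (Rng.zero.step tc50_2)
theorem tw51 : Tow.{u} l51 t51 := tow_of tc51_0 (Rng.zero.step tc51_1) (Rng.zero.step tc51_2)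
theorem tw52 : Tow.{u} l52 t52 := tow_of tc52_0 (Rng.zero.step tc52_1) (Rng.zero.step tc52_2)
theorem tw3 : Tow.{u} l3 t3 := tow_of tc3_0 (Rng.zero.step tc3_1) (Rng.zero.step tc3_2)
theorem tw41 : Tow.{u} l41 t41 := tow_of tc41_0 (Rng.zero.step tc41_1) (Rng.zero.step tc41_2)
theorem tw42 : Tow.{u} l42 t42 := tow_of tc42_0 (Rng.zero.step tc42_1) (Rng.zero.step tc42_2)
theorem tw43 : Tow.{u} l43 t43 := tow_of tc43_0 (Rng.zero.step tc43_1) (Rng.zero.step tc43_2)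
theorem tw44 : Tow.{u} l44 t44 := tow_of tc44_0 (Rng.zero.step tc44_1) (Rng.zero.step tc44_2)
theorem tw45 : Tow.{u} l45 t45 := tow_of tc45_0 (Rng.zero.step tc45_1) (Rng.zero.step tc45_2)
theorem tw69 : Tow.{u} l69 t69 := tow_of tc69_0 (Rng.zero.step tc69_1) (Rng.zero.step tc69_2)
theorem tw70 : Tow.{u} l70 t70 := tow_of tc70_0 (Rng.zero.step tc70_1) (Rng.zero.step tc70_2)
theorem tw71 : Tow.{u} l71 t71 := tow_of tc71_0 (Rng.zero.step tc71_1) (Rng.zero.step tc71_2)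
theorem tw72 : Tow.{u} l72 t72 := tow_of tc72_0 (Rng.zero.step tc72_1) (Rng.zero.step tc72_2)
theorem tw73 : Tow.{u} l73 t73 := tow_of tc73_0 (Rng.zero.step tc73_1) (Rng.zero.step tc73_2)
theorem tw74 : Tow.{u} l74 t74 := tow_of tc74_0 (Rng.zero.step tc74_1) (Rng.zero.step tc74_2)
theorem tw75 : Tow.{u} l75 t75 := tow_of tc75_0 (Rng.zero.step tc75_1) (Rng.zero.step tc75_2)
theorem tw76 : Tow.{u} l76 t76 := tow_of tc76_0 (Rng.zero.step tc76_1) (Rng.zero.step tc76_2)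
theorem tw46 : Tow.{u} l46 t46 := tow_of tc46_0 (Rng.zero.step tc46_1) (Rng.zero.step tc46_2)
theorem tw47 : Tow.{u} l47 t47 := tow_of tc47_0 (Rng.zero.step tc47_1) (Rng.zero.step tc47_2)
theorem tw48 : Tow.{u} l48 t48 := tow_of tc48_0 (Rng.zero.step tc48_1) (Rng.zero.step tc48_2)
theorem tw4 : Tow.{u} l4 t4 := tow_of tc4_0 (Rng.zero.step tc4_1) (Rng.zero.step tc4_2)
theorem tw0 : Tow.{u} [] t0 := tow_of tc0_0 (Rng.zero.step tc0_1) (Rng.zero.step tc0_2)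
theorem x50 : AuxS.{u} (cM2) s50 0 a50 := aux_base3 tw17 rfl b50
theorem x50_1 : AuxS.{u} (cM2) s50 0 a50_1 := (AuxS.up x50 c50_5 :)
theorem x50_2 : AuxS.{u} (cM2) s50 0 a50_2 := (AuxS.up2 x50_1 c50_6 :)
theorem n50 : Sound.{u} (cM2) s50 0 :=
  (x50_2.spl c50_0 (AllM.cons ((x50_2.lam 0).tp c50_1 :) (AllM.cons ((x50_2.lam 1).cl2 c50_2 :) (AllM.cons ((x50_2.lam 5).e8 c50_3 :) AllM.nil))) ((x50_2.weaken 1).ext2 (fun _ => rfl) GamS.nil AllS.nil c50_4 (Phs.fin (ct := ct50_4) rfl) (Phs.fin (ct := ct50_4) rfl)) :)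
theorem x51 : AuxS.{u} (cM2) s51 0 a51 := aux_base3 tw17 rfl b51
theorem n51 : Sound.{u} (cM2) s51 0 :=
  (x51.k4 c51_0 :)
theorem x52 : AuxS.{u} (cM2) s52 0 a52 := aux_base3 tw17 rfl b52
theorem n52 : Sound.{u} (cM2) s52 0 :=
  (x52.k4 c52_0 :)
theorem x53 : AuxS.{u} (cM2) s53 0 a53 := aux_base3 tw17 rfl b53
theorem n53 : Sound.{u} (cM2) s53 0 :=
  (x53.k4 c53_0 :)
theorem x54 : AuxS.{u} (cM2) s54 0 a54 := aux_base3 tw17 rfl b54
theorem n54 : Sound.{u} (cM2) s54 0 :=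
  (x54.k4 c54_0 :)
theorem x55 : AuxS.{u} (cM2) s55 0 a55 := aux_base3 tw17 rfl b55
theorem n55 : Sound.{u} (cM2) s55 0 :=
  (x55.k4 c55_0 :)
theorem x56 : AuxS.{u} (cM2) s56 0 a56 := aux_base3 tw17 rfl b56
theorem n56 : Sound.{u} (cM2) s56 0 :=
  (x56.k4 c56_0 :)
theorem x57 : AuxS.{u} (cM2) s57 0 a57 := aux_base3 tw17 rfl b57
theorem n57 : Sound.{u} (cM2) s57 0 :=
  (x57.k4 c57_0 :)
theorem x34 : AuxS.{u} (cM2) s34 0 a34 := aux_base3 tw17 rfl b34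
theorem x34_1 : AuxS.{u} (cM2) s34 0 a34_1 := x34
theorem x34_2 : AuxS.{u} (cM2) s34 0 a34_2 := x34_1
theorem n34 : Sound.{u} (cM2) s34 0 :=
  (x34_2.fr (AuxS.gam x34_2 c34_0) (AllS.cons n50 (AllS.cons n51 (AllS.cons n52 (AllS.cons n53 (AllS.cons n54 (AllS.cons n55 (AllS.cons n56 (AllS.cons n57 AllS.nil)))))))) c34_1 :)
theorem x35 : AuxS.{u} (cM2) s35 0 a35 := aux_base3 tw18 rfl b35
theorem x35_1 : AuxS.{u} (cM2) s35 0 a35_1 := x35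
theorem n35 : Sound.{u} (cM2) s35 0 :=
  (x35_1.fr GamS.nil AllS.nil c35_0 :)
theorem x36 : AuxS.{u} (cM2) s36 0 a36 := aux_base3 tw19 rfl b36
theorem x36_1 : AuxS.{u} (cM2) s36 0 a36_1 := x36
theorem n36 : Sound.{u} (cM2) s36 0 :=
  (x36_1.fr GamS.nil AllS.nil c36_0 :)
theorem x37 : AuxS.{u} (cM2) s37 0 a37 := aux_base3 tw20 rfl b37
theorem x37_1 : AuxS.{u} (cM2) s37 0 a37_1 := x37
theorem n37 : Sound.{u} (cM2) s37 0 :=
  (x37_1.fr GamS.nil AllS.nil c37_0 :)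
theorem x58 : AuxS.{u} (cM2) s58 0 a58 := aux_base3 tw21 rfl b58
theorem x58_1 : AuxS.{u} (cM2) s58 0 a58_1 := (AuxS.up x58 c58_5 :)
theorem x58_2 : AuxS.{u} (cM2) s58 0 a58_2 := (AuxS.up x58_1 c58_6 :)
theorem n58 : Sound.{u} (cM2) s58 0 :=
  (x58_2.spl c58_0 (AllM.cons ((x58_2.lam 0).tp c58_1 :) (AllM.cons ((x58_2.lam 1).cl2 c58_2 :) (AllM.cons ((x58_2.lam 5).e8 c58_3 :) AllM.nil))) ((x58_2.weaken 1).ext2 (fun _ => rfl) GamS.nil AllS.nil c58_4 (Phs.fin (ct := ct58_4) rfl) (Phs.fin (ct := ct58_4) rfl)) :)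
theorem x59 : AuxS.{u} (cM2) s59 0 a59 := aux_base3 tw21 rfl b59
theorem n59 : Sound.{u} (cM2) s59 0 :=
  (x59.k4 c59_0 :)
theorem x60 : AuxS.{u} (cM2) s60 0 a60 := aux_base3 tw21 rfl b60
theorem n60 : Sound.{u} (cM2) s60 0 :=
  (x60.k4 c60_0 :)
theorem x61 : AuxS.{u} (cM2) s61 0 a61 := aux_base3 tw21 rfl b61
theorem n61 : Sound.{u} (cM2) s61 0 :=
  (x61.k4 c61_0 :)
theorem x62 : AuxS.{u} (cM2) s62 0 a62 := aux_base3 tw21 rfl b62
theorem n62 : Sound.{u} (cM2) s62 0 :=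
  (x62.k4 c62_0 :)
theorem x63 : AuxS.{u} (cM2) s63 0 a63 := aux_base3 tw21 rfl b63
theorem n63 : Sound.{u} (cM2) s63 0 :=
  (x63.k4 c63_0 :)
theorem x64 : AuxS.{u} (cM2) s64 0 a64 := aux_base3 tw21 rfl b64
theorem n64 : Sound.{u} (cM2) s64 0 :=
  (x64.k4 c64_0 :)
theorem x65 : AuxS.{u} (cM2) s65 0 a65 := aux_base3 tw21 rfl b65
theorem n65 : Sound.{u} (cM2) s65 0 :=
  (x65.k4 c65_0 :)
theorem x38 : AuxS.{u} (cM2) s38 0 a38 := aux_base3 tw21 rfl b38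
theorem x38_1 : AuxS.{u} (cM2) s38 0 a38_1 := x38
theorem x38_2 : AuxS.{u} (cM2) s38 0 a38_2 := x38_1
theorem x38_3 : AuxS.{u} (cM2) s38 0 a38_3 := x38_2
theorem n38 : Sound.{u} (cM2) s38 0 :=
  (x38_3.fr (AuxS.gam x38_3 c38_0) (AllS.cons n58 (AllS.cons n59 (AllS.cons n60 (AllS.cons n61 (AllS.cons n62 (AllS.cons n63 (AllS.cons n64 (AllS.cons n65 AllS.nil)))))))) c38_1 :)
theorem x39 : AuxS.{u} (cM2) s39 0 a39 := aux_base3 tw22 rfl b39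
theorem x39_1 : AuxS.{u} (cM2) s39 0 a39_1 := x39
theorem x39_2 : AuxS.{u} (cM2) s39 0 a39_2 := x39_1
theorem x39_3 : AuxS.{u} (cM2) s39 0 a39_3 := x39_2
theorem n39 : Sound.{u} (cM2) s39 0 :=
  (x39_3.fr GamS.nil AllS.nil c39_0 :)
theorem x40 : AuxS.{u} (cM2) s40 0 a40 := aux_base3 tw23 rfl b40
theorem x40_1 : AuxS.{u} (cM2) s40 0 a40_1 := x40
theorem x40_2 : AuxS.{u} (cM2) s40 0 a40_2 := x40_1
theorem n40 : Sound.{u} (cM2) s40 0 :=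
  (x40_2.fr GamS.nil AllS.nil c40_0 :)
theorem x41 : AuxS.{u} (cM2) s41 0 a41 := aux_base3 tw24 rfl b41
theorem x41_1 : AuxS.{u} (cM2) s41 0 a41_1 := x41
theorem x41_2 : AuxS.{u} (cM2) s41 0 a41_2 := x41_1
theorem n41 : Sound.{u} (cM2) s41 0 :=
  (x41_2.fr GamS.nil AllS.nil c41_0 :)
theorem x66 : AuxS.{u} (cM2) s66 0 a66 := aux_base3 tw25 rfl b66
theorem x66_1 : AuxS.{u} (cM2) s66 0 a66_1 := (AuxS.up x66 c66_4 :)
theorem x66_2 : AuxS.{u} (cM2) s66 0 a66_2 := (AuxS.up x66_1 c66_5 :)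
theorem n66 : Sound.{u} (cM2) s66 0 :=
  (x66_2.spl c66_0 (AllM.cons ((x66_2.lam 0).tp c66_1 :) (AllM.cons ((x66_2.lam 1).cl2 c66_2 :) AllM.nil)) ((x66_2.weaken 1).ext2 (fun _ => rfl) GamS.nil AllS.nil c66_3 (Phs.fin (ct := ct66_3) rfl) (Phs.fin (ct := ct66_3) rfl)) :)
theorem x67 : AuxS.{u} (cM2) s67 0 a67 := aux_base3 tw25 rfl b67
theorem n67 : Sound.{u} (cM2) s67 0 :=
  (x67.k4 c67_0 :)
theorem x68 : AuxS.{u} (cM2) s68 0 a68 := aux_base3 tw25 rfl b68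
theorem n68 : Sound.{u} (cM2) s68 0 :=
  (x68.k4 c68_0 :)
theorem x69 : AuxS.{u} (cM2) s69 0 a69 := aux_base3 tw25 rfl b69
theorem n69 : Sound.{u} (cM2) s69 0 :=
  (x69.k4 c69_0 :)
theorem x70 : AuxS.{u} (cM2) s70 0 a70 := aux_base3 tw25 rfl b70
theorem n70 : Sound.{u} (cM2) s70 0 :=
  (x70.k4 c70_0 :)
theorem x71 : AuxS.{u} (cM2) s71 0 a71 := aux_base3 tw25 rfl b71
theorem n71 : Sound.{u} (cM2) s71 0 :=
  (x71.k4 c71_0 :)
theorem x72 : AuxS.{u} (cM2) s72 0 a72 := aux_base3 tw25 rfl b72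
theorem n72 : Sound.{u} (cM2) s72 0 :=
  (x72.k4 c72_0 :)
theorem x73 : AuxS.{u} (cM2) s73 0 a73 := aux_base3 tw25 rfl b73
theorem n73 : Sound.{u} (cM2) s73 0 :=
  (x73.k4 c73_0 :)
theorem x42 : AuxS.{u} (cM2) s42 0 a42 := aux_base3 tw25 rfl b42
theorem x42_1 : AuxS.{u} (cM2) s42 0 a42_1 := x42
theorem x42_2 : AuxS.{u} (cM2) s42 0 a42_2 := x42_1
theorem x42_3 : AuxS.{u} (cM2) s42 0 a42_3 := x42_2
theorem n42 : Sound.{u} (cM2) s42 0 :=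
  (x42_3.fr (AuxS.gam x42_3 c42_0) (AllS.cons n66 (AllS.cons n67 (AllS.cons n68 (AllS.cons n69 (AllS.cons n70 (AllS.cons n71 (AllS.cons n72 (AllS.cons n73 AllS.nil)))))))) c42_1 :)
theorem x43 : AuxS.{u} (cM2) s43 0 a43 := aux_base3 tw26 rfl b43
theorem x43_1 : AuxS.{u} (cM2) s43 0 a43_1 := x43
theorem x43_2 : AuxS.{u} (cM2) s43 0 a43_2 := x43_1
theorem n43 : Sound.{u} (cM2) s43 0 :=
  (x43_2.fr GamS.nil AllS.nil c43_0 :)
theorem x44 : AuxS.{u} (cM2) s44 0 a44 := aux_base3 tw27 rfl b44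
theorem x44_1 : AuxS.{u} (cM2) s44 0 a44_1 := x44
theorem x44_2 : AuxS.{u} (cM2) s44 0 a44_2 := x44_1
theorem n44 : Sound.{u} (cM2) s44 0 :=
  (x44_2.fr GamS.nil AllS.nil c44_0 :)
theorem x45 : AuxS.{u} (cM2) s45 0 a45 := aux_base3 tw28 rfl b45
theorem x45_1 : AuxS.{u} (cM2) s45 0 a45_1 := x45
theorem x45_2 : AuxS.{u} (cM2) s45 0 a45_2 := x45_1
theorem n45 : Sound.{u} (cM2) s45 0 :=
  (x45_2.fr GamS.nil AllS.nil c45_0 :)
theorem x74 : AuxS.{u} (cM2) s74 0 a74 := aux_base3 tw29 rfl b74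
theorem x74_1 : AuxS.{u} (cM2) s74 0 a74_1 := (AuxS.up x74 c74_4 :)
theorem x74_2 : AuxS.{u} (cM2) s74 0 a74_2 := (AuxS.up x74_1 c74_5 :)
theorem n74 : Sound.{u} (cM2) s74 0 :=
  (x74_2.spl c74_0 (AllM.cons ((x74_2.lam 0).tp c74_1 :) (AllM.cons ((x74_2.lam 1).cl2 c74_2 :) AllM.nil)) ((x74_2.weaken 1).ext2 (fun _ => rfl) GamS.nil AllS.nil c74_3 (Phs.fin (ct := ct74_3) rfl) (Phs.fin (ct := ct74_3) rfl)) :)
theorem x75 : AuxS.{u} (cM2) s75 0 a75 := aux_base3 tw29 rfl b75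
theorem n75 : Sound.{u} (cM2) s75 0 :=
  (x75.k4 c75_0 :)
theorem x76 : AuxS.{u} (cM2) s76 0 a76 := aux_base3 tw29 rfl b76
theorem n76 : Sound.{u} (cM2) s76 0 :=
  (x76.k4 c76_0 :)
theorem x77 : AuxS.{u} (cM2) s77 0 a77 := aux_base3 tw29 rfl b77
theorem n77 : Sound.{u} (cM2) s77 0 :=
  (x77.k4 c77_0 :)
theorem x78 : AuxS.{u} (cM2) s78 0 a78 := aux_base3 tw29 rfl b78
theorem n78 : Sound.{u} (cM2) s78 0 :=
  (x78.k4 c78_0 :)
theorem x79 : AuxS.{u} (cM2) s79 0 a79 := aux_base3 tw29 rfl b79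
theorem n79 : Sound.{u} (cM2) s79 0 :=
  (x79.k4 c79_0 :)
theorem x80 : AuxS.{u} (cM2) s80 0 a80 := aux_base3 tw29 rfl b80
theorem n80 : Sound.{u} (cM2) s80 0 :=
  (x80.k4 c80_0 :)
theorem x81 : AuxS.{u} (cM2) s81 0 a81 := aux_base3 tw29 rfl b81
theorem n81 : Sound.{u} (cM2) s81 0 :=
  (x81.k4 c81_0 :)
theorem x46 : AuxS.{u} (cM2) s46 0 a46 := aux_base3 tw29 rfl b46
theorem x46_1 : AuxS.{u} (cM2) s46 0 a46_1 := x46
theorem x46_2 : AuxS.{u} (cM2) s46 0 a46_2 := x46_1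
theorem x46_3 : AuxS.{u} (cM2) s46 0 a46_3 := x46_2
theorem n46 : Sound.{u} (cM2) s46 0 :=
  (x46_3.fr (AuxS.gam x46_3 c46_0) (AllS.cons n74 (AllS.cons n75 (AllS.cons n76 (AllS.cons n77 (AllS.cons n78 (AllS.cons n79 (AllS.cons n80 (AllS.cons n81 AllS.nil)))))))) c46_1 :)
theorem x47 : AuxS.{u} (cM2) s47 0 a47 := aux_base3 tw30 rfl b47
theorem x47_1 : AuxS.{u} (cM2) s47 0 a47_1 := x47
theorem x47_2 : AuxS.{u} (cM2) s47 0 a47_2 := x47_1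
theorem n47 : Sound.{u} (cM2) s47 0 :=
  (x47_2.fr GamS.nil AllS.nil c47_0 :)
theorem x48 : AuxS.{u} (cM2) s48 0 a48 := aux_base3 tw31 rfl b48
theorem x48_1 : AuxS.{u} (cM2) s48 0 a48_1 := x48
theorem x48_2 : AuxS.{u} (cM2) s48 0 a48_2 := x48_1
theorem n48 : Sound.{u} (cM2) s48 0 :=
  (x48_2.fr GamS.nil AllS.nil c48_0 :)
theorem x49 : AuxS.{u} (cM2) s49 0 a49 := aux_base3 tw32 rfl b49
theorem x49_1 : AuxS.{u} (cM2) s49 0 a49_1 := x49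
theorem x49_2 : AuxS.{u} (cM2) s49 0 a49_2 := x49_1
theorem n49 : Sound.{u} (cM2) s49 0 :=
  (x49_2.fr GamS.nil AllS.nil c49_0 :)
theorem x26 : AuxS.{u} (cM2) s26 0 a26 := aux_base3 tw13 rfl b26
theorem x26_1 : AuxS.{u} (cM2) s26 0 a26_1 := x26
theorem x26_2 : AuxS.{u} (cM2) s26 0 a26_2 := x26_1
theorem n26 : Sound.{u} (cM2) s26 0 :=
  (x26_2.fr2 GamS.nil (AllS.cons n34 (AllS.cons n35 (AllS.cons n36 (AllS.cons n37 (AllS.cons n38 (AllS.cons n39 (AllS.cons n40 (AllS.cons n41 (AllS.cons n42 (AllS.cons n43 (AllS.cons n44 (AllS.cons n45 (AllS.cons n46 (AllS.cons n47 (AllS.cons n48 (AllS.cons n49 AllS.nil)))))))))))))))) c26_0 :)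
theorem x27 : AuxS.{u} (cM2) s27 0 a27 := aux_base3 tw13 rfl b27
theorem n27 : Sound.{u} (cM2) s27 0 :=
  (x27.k4 c27_0 :)
theorem x28 : AuxS.{u} (cM2) s28 0 a28 := aux_base3 tw13 rfl b28
theorem n28 : Sound.{u} (cM2) s28 0 :=
  (x28.k4 c28_0 :)
theorem x29 : AuxS.{u} (cM2) s29 0 a29 := aux_base3 tw13 rfl b29
theorem n29 : Sound.{u} (cM2) s29 0 :=
  (x29.k4 c29_0 :)
theorem x30 : AuxS.{u} (cM2) s30 0 a30 := aux_base3 tw13 rfl b30
theorem n30 : Sound.{u} (cM2) s30 0 :=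
  (x30.k4 c30_0 :)
theorem x31 : AuxS.{u} (cM2) s31 0 a31 := aux_base3 tw13 rfl b31
theorem n31 : Sound.{u} (cM2) s31 0 :=
  (x31.k4 c31_0 :)
theorem x32 : AuxS.{u} (cM2) s32 0 a32 := aux_base3 tw13 rfl b32
theorem n32 : Sound.{u} (cM2) s32 0 :=
  (x32.k4 c32_0 :)
theorem x33 : AuxS.{u} (cM2) s33 0 a33 := aux_base3 tw13 rfl b33
theorem n33 : Sound.{u} (cM2) s33 0 :=
  (x33.k4 c33_0 :)
theorem x22 : AuxS.{u} (cM2) s22 0 a22 := aux_base3 tw13 rfl b22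
theorem x22_1 : AuxS.{u} (cM2) s22 0 a22_1 := x22
theorem x22_2 : AuxS.{u} (cM2) s22 0 a22_2 := x22_1
theorem n22 : Sound.{u} (cM2) s22 0 :=
  (x22_2.fr (AuxS.gam x22_2 c22_0) (AllS.cons n26 (AllS.cons n27 (AllS.cons n28 (AllS.cons n29 (AllS.cons n30 (AllS.cons n31 (AllS.cons n32 (AllS.cons n33 AllS.nil)))))))) c22_1 :)
theorem x23 : AuxS.{u} (cM2) s23 0 a23 := aux_base3 tw14 rfl b23
theorem x23_1 : AuxS.{u} (cM2) s23 0 a23_1 := x23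
theorem n23 : Sound.{u} (cM2) s23 0 :=
  (x23_1.fr GamS.nil AllS.nil c23_0 :)
theorem x24 : AuxS.{u} (cM2) s24 0 a24 := aux_base3 tw15 rfl b24
theorem x24_1 : AuxS.{u} (cM2) s24 0 a24_1 := x24
theorem n24 : Sound.{u} (cM2) s24 0 :=
  (x24_1.fr GamS.nil AllS.nil c24_0 :)
theorem x25 : AuxS.{u} (cM2) s25 0 a25 := aux_base3 tw16 rfl b25
theorem x25_1 : AuxS.{u} (cM2) s25 0 a25_1 := x25
theorem n25 : Sound.{u} (cM2) s25 0 :=
  (x25_1.fr GamS.nil AllS.nil c25_0 :)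
theorem x21 : AuxS.{u} (cM2) s21 0 a21 := aux_base3 tw1 rfl b21
theorem x21_1 : AuxS.{u} (cM2) s21 0 a21_1 := (AuxS.up x21 c21_4 :)
theorem x21_2 : AuxS.{u} (cM2) s21 0 a21_2 := (AuxS.up2 x21_1 c21_5 :)
theorem p21_0_1 : Phs s21 a21_2 [] [s22, s23, s24, s25] ct21_0 v21_0 4 w21_0_1 := (Phs.fin c21_0)
theorem p21_0_3 : Phs s21 a21_2 [] [s22, s23, s24, s25] ct21_0 v21_0 1 w21_0_3 := (Phs.stp c21_1 p21_0_1)
theorem n21 : Sound.{u} (cM2) s21 0 :=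
  (x21_2.ext2 (fun h => absurd h (by decide)) GamS.nil (AllS.cons n22 (AllS.cons n23 (AllS.cons n24 (AllS.cons n25 AllS.nil)))) c21_3 (Phs.stp c21_2 p21_0_3) (Phs.fin (ct := ct21_0) rfl) :)
theorem x13 : AuxS.{u} (cM2) s13 0 a13 := aux_base3 tw5 rfl b13
theorem x13_1 : AuxS.{u} (cM2) s13 0 a13_1 := x13
theorem x13_2 : AuxS.{u} (cM2) s13 0 a13_2 := x13_1
theorem n13 : Sound.{u} (cM2) s13 0 :=
  (x13_2.jump c13_0 c13_1 n21 :)
theorem x14 : AuxS.{u} (cM2) s14 0 a14 := aux_base3 tw5 rfl b14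
theorem n14 : Sound.{u} (cM2) s14 0 :=
  (x14.k4 c14_0 :)
theorem x15 : AuxS.{u} (cM2) s15 0 a15 := aux_base3 tw5 rfl b15
theorem n15 : Sound.{u} (cM2) s15 0 :=
  (x15.k4 c15_0 :)
theorem x16 : AuxS.{u} (cM2) s16 0 a16 := aux_base3 tw5 rfl b16
theorem n16 : Sound.{u} (cM2) s16 0 :=
  (x16.k4 c16_0 :)
theorem x17 : AuxS.{u} (cM2) s17 0 a17 := aux_base3 tw5 rfl b17
theorem n17 : Sound.{u} (cM2) s17 0 :=
  (x17.k4 c17_0 :)
theorem x18 : AuxS.{u} (cM2) s18 0 a18 := aux_base3 tw5 rfl b18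
theorem n18 : Sound.{u} (cM2) s18 0 :=
  (x18.k4 c18_0 :)
theorem x19 : AuxS.{u} (cM2) s19 0 a19 := aux_base3 tw5 rfl b19
theorem n19 : Sound.{u} (cM2) s19 0 :=
  (x19.k4 c19_0 :)
theorem x20 : AuxS.{u} (cM2) s20 0 a20 := aux_base3 tw5 rfl b20
theorem n20 : Sound.{u} (cM2) s20 0 :=
  (x20.k4 c20_0 :)
theorem x5 : AuxS.{u} (cM2) s5 0 a5 := aux_base3 tw5 rfl b5
theorem x5_1 : AuxS.{u} (cM2) s5 0 a5_1 := x5
theorem x5_2 : AuxS.{u} (cM2) s5 0 a5_2 := x5_1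
theorem n5 : Sound.{u} (cM2) s5 0 :=
  (x5_2.fr (AuxS.gam x5_2 c5_0) (AllS.cons n13 (AllS.cons n14 (AllS.cons n15 (AllS.cons n16 (AllS.cons n17 (AllS.cons n18 (AllS.cons n19 (AllS.cons n20 AllS.nil)))))))) c5_1 :)
theorem x6 : AuxS.{u} (cM2) s6 0 a6 := aux_base3 tw6 rfl b6
theorem x6_1 : AuxS.{u} (cM2) s6 0 a6_1 := x6
theorem n6 : Sound.{u} (cM2) s6 0 :=
  (x6_1.fr GamS.nil AllS.nil c6_0 :)
theorem x7 : AuxS.{u} (cM2) s7 0 a7 := aux_base3 tw7 rfl b7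
theorem x7_1 : AuxS.{u} (cM2) s7 0 a7_1 := x7
theorem n7 : Sound.{u} (cM2) s7 0 :=
  (x7_1.fr GamS.nil AllS.nil c7_0 :)
theorem x8 : AuxS.{u} (cM2) s8 0 a8 := aux_base3 tw8 rfl b8
theorem x8_1 : AuxS.{u} (cM2) s8 0 a8_1 := x8
theorem n8 : Sound.{u} (cM2) s8 0 :=
  (x8_1.fr GamS.nil AllS.nil c8_0 :)
theorem x82 : AuxS.{u} (cM2) s82 0 a82 := aux_base3 tw9 rfl b82
theorem n82 : Sound.{u} (cM2) s82 0 :=
  (x82.k4 c82_0 :)
theorem x83 : AuxS.{u} (cM2) s83 0 a83 := aux_base3 tw9 rfl b83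
theorem n83 : Sound.{u} (cM2) s83 0 :=
  (x83.k4 c83_0 :)
theorem x84 : AuxS.{u} (cM2) s84 0 a84 := aux_base3 tw9 rfl b84
theorem n84 : Sound.{u} (cM2) s84 0 :=
  (x84.k4 c84_0 :)
theorem x85 : AuxS.{u} (cM2) s85 0 a85 := aux_base3 tw9 rfl b85
theorem n85 : Sound.{u} (cM2) s85 0 :=
  (x85.k4 c85_0 :)
theorem x86 : AuxS.{u} (cM2) s86 0 a86 := aux_base3 tw9 rfl b86
theorem n86 : Sound.{u} (cM2) s86 0 :=
  (x86.k4 c86_0 :)
theorem x99 : AuxS.{u} (cM2) s99 0 a99 := aux_base3 tw33 rfl b99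
theorem n99 : Sound.{u} (cM2) s99 0 :=
  (x99.k4 c99_0 :)
theorem x107 : AuxS.{u} (cM2) s107 0 a107 := aux_base3 tw33 rfl b107
theorem x107_1 : AuxS.{u} (cM2) s107 0 a107_1 := (AuxS.up x107 c107_1 :)
theorem n107 : Sound.{u} (cM2) s107 0 :=
  (x107_1.fr GamS.nil AllS.nil c107_0 :)
theorem x100 : AuxS.{u} (cM2) s100 0 a100 := aux_base3 tw33 rfl b100
theorem x100_1 : AuxS.{u} (cM2) s100 0 a100_1 := x100
theorem n100 : Sound.{u} (cM2) s100 0 :=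
  (x100_1.jump c100_0 c100_1 n107 :)
theorem x101 : AuxS.{u} (cM2) s101 0 a101 := aux_base3 tw33 rfl b101
theorem n101 : Sound.{u} (cM2) s101 0 :=
  (x101.k4 c101_0 :)
theorem x102 : AuxS.{u} (cM2) s102 0 a102 := aux_base3 tw33 rfl b102
theorem n102 : Sound.{u} (cM2) s102 0 :=
  (x102.k4 c102_0 :)
theorem x103 : AuxS.{u} (cM2) s103 0 a103 := aux_base3 tw33 rfl b103
theorem n103 : Sound.{u} (cM2) s103 0 :=
  (x103.k4 c103_0 :)
theorem x104 : AuxS.{u} (cM2) s104 0 a104 := aux_base3 tw33 rfl b104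
theorem n104 : Sound.{u} (cM2) s104 0 :=
  (x104.k4 c104_0 :)
theorem x105 : AuxS.{u} (cM2) s105 0 a105 := aux_base3 tw33 rfl b105
theorem n105 : Sound.{u} (cM2) s105 0 :=
  (x105.k4 c105_0 :)
theorem x106 : AuxS.{u} (cM2) s106 0 a106 := aux_base3 tw33 rfl b106
theorem n106 : Sound.{u} (cM2) s106 0 :=
  (x106.k4 c106_0 :)
theorem x91 : AuxS.{u} (cM2) s91 0 a91 := aux_base3 tw33 rfl b91
theorem x91_1 : AuxS.{u} (cM2) s91 0 a91_1 := x91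
theorem n91 : Sound.{u} (cM2) s91 0 :=
  (x91_1.fr (AuxS.gam x91_1 c91_0) (AllS.cons n99 (AllS.cons n100 (AllS.cons n101 (AllS.cons n102 (AllS.cons n103 (AllS.cons n104 (AllS.cons n105 (AllS.cons n106 AllS.nil)))))))) c91_1 :)
theorem x92 : AuxS.{u} (cM2) s92 0 a92 := aux_base3 tw34 rfl b92
theorem x92_1 : AuxS.{u} (cM2) s92 0 a92_1 := x92
theorem n92 : Sound.{u} (cM2) s92 0 :=
  (x92_1.fr GamS.nil AllS.nil c92_0 :)
theorem x93 : AuxS.{u} (cM2) s93 0 a93 := aux_base3 tw35 rfl b93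
theorem x93_1 : AuxS.{u} (cM2) s93 0 a93_1 := x93
theorem n93 : Sound.{u} (cM2) s93 0 :=
  (x93_1.fr GamS.nil AllS.nil c93_0 :)
theorem x94 : AuxS.{u} (cM2) s94 0 a94 := aux_base3 tw36 rfl b94
theorem x94_1 : AuxS.{u} (cM2) s94 0 a94_1 := x94
theorem n94 : Sound.{u} (cM2) s94 0 :=
  (x94_1.fr GamS.nil AllS.nil c94_0 :)
theorem x95 : AuxS.{u} (cM2) s95 0 a95 := aux_base3 tw37 rfl b95
theorem n95 : Sound.{u} (cM2) s95 0 :=
  (x95.k6 c95_0 :)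
theorem x96 : AuxS.{u} (cM2) s96 0 a96 := aux_base3 tw38 rfl b96
theorem n96 : Sound.{u} (cM2) s96 0 :=
  (x96.k6 c96_0 :)
theorem x97 : AuxS.{u} (cM2) s97 0 a97 := aux_base3 tw39 rfl b97
theorem n97 : Sound.{u} (cM2) s97 0 :=
  (x97.k6 c97_0 :)
theorem x98 : AuxS.{u} (cM2) s98 0 a98 := aux_base3 tw40 rfl b98
theorem n98 : Sound.{u} (cM2) s98 0 :=
  (x98.k6 c98_0 :)
theorem x90 : AuxS.{u} (cM2) s90 0 a90 := aux_base3 tw1 rfl b90
theorem x90_1 : AuxS.{u} (cM2) s90 0 a90_1 := (AuxS.up x90 c90_4 :)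
theorem p90_0_1 : Phs s90 a90_1 [] [s91, s92, s93, s94, s95, s96, s97, s98] ct90_0 v90_0 4 w90_0_1 := (Phs.fin c90_0)
theorem p90_0_3 : Phs s90 a90_1 [] [s91, s92, s93, s94, s95, s96, s97, s98] ct90_0 v90_0 1 w90_0_3 := (Phs.stp c90_1 p90_0_1)
theorem n90 : Sound.{u} (cM2) s90 0 :=
  (x90_1.ext2 (fun h => absurd h (by decide)) GamS.nil (AllS.cons n91 (AllS.cons n92 (AllS.cons n93 (AllS.cons n94 (AllS.cons n95 (AllS.cons n96 (AllS.cons n97 (AllS.cons n98 AllS.nil)))))))) c90_3 (Phs.stp c90_2 p90_0_3) (Phs.fin (ct := ct90_0) rfl) :)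
theorem x87 : AuxS.{u} (cM2) s87 0 a87 := aux_base3 tw9 rfl b87
theorem x87_1 : AuxS.{u} (cM2) s87 0 a87_1 := x87
theorem n87 : Sound.{u} (cM2) s87 0 :=
  (x87_1.jump c87_0 c87_1 n90 :)
theorem x88 : AuxS.{u} (cM2) s88 0 a88 := aux_base3 tw9 rfl b88
theorem n88 : Sound.{u} (cM2) s88 0 :=
  (x88.k4 c88_0 :)
theorem x89 : AuxS.{u} (cM2) s89 0 a89 := aux_base3 tw9 rfl b89
theorem n89 : Sound.{u} (cM2) s89 0 :=
  (x89.k4 c89_0 :)
theorem x9 : AuxS.{u} (cM2) s9 0 a9 := aux_base3 tw9 rfl b9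
theorem x9_1 : AuxS.{u} (cM2) s9 0 a9_1 := x9
theorem n9 : Sound.{u} (cM2) s9 0 :=
  (x9_1.fr (AuxS.gam x9_1 c9_0) (AllS.cons n82 (AllS.cons n83 (AllS.cons n84 (AllS.cons n85 (AllS.cons n86 (AllS.cons n87 (AllS.cons n88 (AllS.cons n89 AllS.nil)))))))) c9_1 :)
theorem x10 : AuxS.{u} (cM2) s10 0 a10 := aux_base3 tw10 rfl b10
theorem x10_1 : AuxS.{u} (cM2) s10 0 a10_1 := x10
theorem n10 : Sound.{u} (cM2) s10 0 :=
  (x10_1.fr GamS.nil AllS.nil c10_0 :)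
theorem x11 : AuxS.{u} (cM2) s11 0 a11 := aux_base3 tw11 rfl b11
theorem x11_1 : AuxS.{u} (cM2) s11 0 a11_1 := x11
theorem n11 : Sound.{u} (cM2) s11 0 :=
  (x11_1.fr GamS.nil AllS.nil c11_0 :)
theorem x12 : AuxS.{u} (cM2) s12 0 a12 := aux_base3 tw12 rfl b12
theorem x12_1 : AuxS.{u} (cM2) s12 0 a12_1 := x12
theorem n12 : Sound.{u} (cM2) s12 0 :=
  (x12_1.fr GamS.nil AllS.nil c12_0 :)
theorem x1 : AuxS.{u} (cM2) s1 0 a1 := aux_base3 tw1 rfl b1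
theorem x1_1 : AuxS.{u} (cM2) s1 0 a1_1 := (AuxS.up x1 c1_6 :)
theorem p1_0_1 : Phs s1 a1_1 (List.map Prod.fst g1_0) [s5, s6, s7, s8, s9, s10, s11, s12] ct1_0 v1_0 4 w1_0_1 := (Phs.fin c1_1)
theorem p1_0_3 : Phs s1 a1_1 (List.map Prod.fst g1_0) [s5, s6, s7, s8, s9, s10, s11, s12] ct1_0 v1_0 3 w1_0_3 := (Phs.stp c1_2 p1_0_1)
theorem p1_0_5 : Phs s1 a1_1 (List.map Prod.fst g1_0) [s5, s6, s7, s8, s9, s10, s11, s12] ct1_0 v1_0 1 w1_0_5 := (Phs.stp c1_3 p1_0_3)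
theorem n1 : Sound.{u} (cM2) s1 0 :=
  (x1_1.ext2 (fun h => absurd h (by decide)) (AuxS.gam x1_1 c1_0) (AllS.cons n5 (AllS.cons n6 (AllS.cons n7 (AllS.cons n8 (AllS.cons n9 (AllS.cons n10 (AllS.cons n11 (AllS.cons n12 AllS.nil)))))))) c1_5 (Phs.stp c1_4 p1_0_5) (Phs.fin (ct := ct1_0) rfl) :)
theorem x2 : AuxS.{u} (cM2) s2 0 a2 := aux_base3 tw2 rfl b2
theorem x2_1 : AuxS.{u} (cM2) s2 0 a2_1 := (AuxS.up x2 c2_1 :)
theorem n2 : Sound.{u} (cM2) s2 0 :=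
  (x2_1.k7 c2_0 :)
theorem x153 : AuxS.{u} (cM2) s153 0 a153 := aux_base3 tw53 rfl b153
theorem x153_1 : AuxS.{u} (cM2) s153 0 a153_1 := (AuxS.up x153 c153_5 :)
theorem x153_2 : AuxS.{u} (cM2) s153 0 a153_2 := (AuxS.up2 x153_1 c153_6 :)
theorem n153 : Sound.{u} (cM2) s153 0 :=
  (x153_2.spl c153_0 (AllM.cons ((x153_2.lam 0).tp c153_1 :) (AllM.cons ((x153_2.lam 1).e8 c153_2 :) (AllM.cons ((x153_2.lam 5).cl2 c153_3 :) AllM.nil))) ((x153_2.weaken 1).ext2 (fun _ => rfl) GamS.nil AllS.nil c153_4 (Phs.fin (ct := ct153_4) rfl) (Phs.fin (ct := ct153_4) rfl)) :)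
theorem x154 : AuxS.{u} (cM2) s154 0 a154 := aux_base3 tw53 rfl b154
theorem n154 : Sound.{u} (cM2) s154 0 :=
  (x154.k4 c154_0 :)
theorem x155 : AuxS.{u} (cM2) s155 0 a155 := aux_base3 tw53 rfl b155
theorem n155 : Sound.{u} (cM2) s155 0 :=
  (x155.k4 c155_0 :)
theorem x156 : AuxS.{u} (cM2) s156 0 a156 := aux_base3 tw53 rfl b156
theorem n156 : Sound.{u} (cM2) s156 0 :=
  (x156.k4 c156_0 :)
theorem x157 : AuxS.{u} (cM2) s157 0 a157 := aux_base3 tw53 rfl b157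
theorem n157 : Sound.{u} (cM2) s157 0 :=
  (x157.k4 c157_0 :)
theorem x158 : AuxS.{u} (cM2) s158 0 a158 := aux_base3 tw53 rfl b158
theorem n158 : Sound.{u} (cM2) s158 0 :=
  (x158.k4 c158_0 :)
theorem x159 : AuxS.{u} (cM2) s159 0 a159 := aux_base3 tw53 rfl b159
theorem n159 : Sound.{u} (cM2) s159 0 :=
  (x159.k4 c159_0 :)
theorem x160 : AuxS.{u} (cM2) s160 0 a160 := aux_base3 tw53 rfl b160
theorem n160 : Sound.{u} (cM2) s160 0 :=
  (x160.k4 c160_0 :)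
theorem x137 : AuxS.{u} (cM2) s137 0 a137 := aux_base3 tw53 rfl b137
theorem x137_1 : AuxS.{u} (cM2) s137 0 a137_1 := x137
theorem x137_2 : AuxS.{u} (cM2) s137 0 a137_2 := x137_1
theorem n137 : Sound.{u} (cM2) s137 0 :=
  (x137_2.fr (AuxS.gam x137_2 c137_0) (AllS.cons n153 (AllS.cons n154 (AllS.cons n155 (AllS.cons n156 (AllS.cons n157 (AllS.cons n158 (AllS.cons n159 (AllS.cons n160 AllS.nil)))))))) c137_1 :)
theorem x138 : AuxS.{u} (cM2) s138 0 a138 := aux_base3 tw54 rfl b138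
theorem x138_1 : AuxS.{u} (cM2) s138 0 a138_1 := x138
theorem n138 : Sound.{u} (cM2) s138 0 :=
  (x138_1.fr GamS.nil AllS.nil c138_0 :)
theorem x139 : AuxS.{u} (cM2) s139 0 a139 := aux_base3 tw55 rfl b139
theorem x139_1 : AuxS.{u} (cM2) s139 0 a139_1 := x139
theorem n139 : Sound.{u} (cM2) s139 0 :=
  (x139_1.fr GamS.nil AllS.nil c139_0 :)
theorem x140 : AuxS.{u} (cM2) s140 0 a140 := aux_base3 tw56 rfl b140
theorem x140_1 : AuxS.{u} (cM2) s140 0 a140_1 := x140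
theorem n140 : Sound.{u} (cM2) s140 0 :=
  (x140_1.fr GamS.nil AllS.nil c140_0 :)
theorem x161 : AuxS.{u} (cM2) s161 0 a161 := aux_base3 tw57 rfl b161
theorem x161_1 : AuxS.{u} (cM2) s161 0 a161_1 := (AuxS.up x161 c161_5 :)
theorem x161_2 : AuxS.{u} (cM2) s161 0 a161_2 := (AuxS.up x161_1 c161_6 :)
theorem n161 : Sound.{u} (cM2) s161 0 :=
  (x161_2.spl c161_0 (AllM.cons ((x161_2.lam 0).tp c161_1 :) (AllM.cons ((x161_2.lam 1).e8 c161_2 :) (AllM.cons ((x161_2.lam 5).cl2 c161_3 :) AllM.nil))) ((x161_2.weaken 1).ext2 (fun _ => rfl) GamS.nil AllS.nil c161_4 (Phs.fin (ct := ct161_4) rfl) (Phs.fin (ct := ct161_4) rfl)) :)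
theorem x162 : AuxS.{u} (cM2) s162 0 a162 := aux_base3 tw57 rfl b162
theorem n162 : Sound.{u} (cM2) s162 0 :=
  (x162.k4 c162_0 :)
theorem x163 : AuxS.{u} (cM2) s163 0 a163 := aux_base3 tw57 rfl b163
theorem n163 : Sound.{u} (cM2) s163 0 :=
  (x163.k4 c163_0 :)
theorem x164 : AuxS.{u} (cM2) s164 0 a164 := aux_base3 tw57 rfl b164
theorem n164 : Sound.{u} (cM2) s164 0 :=
  (x164.k4 c164_0 :)
theorem x165 : AuxS.{u} (cM2) s165 0 a165 := aux_base3 tw57 rfl b165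
theorem n165 : Sound.{u} (cM2) s165 0 :=
  (x165.k4 c165_0 :)
theorem x166 : AuxS.{u} (cM2) s166 0 a166 := aux_base3 tw57 rfl b166
theorem n166 : Sound.{u} (cM2) s166 0 :=
  (x166.k4 c166_0 :)
theorem x167 : AuxS.{u} (cM2) s167 0 a167 := aux_base3 tw57 rfl b167
theorem n167 : Sound.{u} (cM2) s167 0 :=
  (x167.k4 c167_0 :)
theorem x168 : AuxS.{u} (cM2) s168 0 a168 := aux_base3 tw57 rfl b168
theorem n168 : Sound.{u} (cM2) s168 0 :=
  (x168.k4 c168_0 :)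
theorem x141 : AuxS.{u} (cM2) s141 0 a141 := aux_base3 tw57 rfl b141
theorem x141_1 : AuxS.{u} (cM2) s141 0 a141_1 := x141
theorem x141_2 : AuxS.{u} (cM2) s141 0 a141_2 := x141_1
theorem x141_3 : AuxS.{u} (cM2) s141 0 a141_3 := x141_2
theorem n141 : Sound.{u} (cM2) s141 0 :=
  (x141_3.fr (AuxS.gam x141_3 c141_0) (AllS.cons n161 (AllS.cons n162 (AllS.cons n163 (AllS.cons n164 (AllS.cons n165 (AllS.cons n166 (AllS.cons n167 (AllS.cons n168 AllS.nil)))))))) c141_1 :)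
theorem x142 : AuxS.{u} (cM2) s142 0 a142 := aux_base3 tw58 rfl b142
theorem x142_1 : AuxS.{u} (cM2) s142 0 a142_1 := x142
theorem x142_2 : AuxS.{u} (cM2) s142 0 a142_2 := x142_1
theorem x142_3 : AuxS.{u} (cM2) s142 0 a142_3 := x142_2
theorem n142 : Sound.{u} (cM2) s142 0 :=
  (x142_3.fr GamS.nil AllS.nil c142_0 :)
theorem x143 : AuxS.{u} (cM2) s143 0 a143 := aux_base3 tw59 rfl b143
theorem x143_1 : AuxS.{u} (cM2) s143 0 a143_1 := x143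
theorem x143_2 : AuxS.{u} (cM2) s143 0 a143_2 := x143_1
theorem n143 : Sound.{u} (cM2) s143 0 :=
  (x143_2.fr GamS.nil AllS.nil c143_0 :)
theorem x144 : AuxS.{u} (cM2) s144 0 a144 := aux_base3 tw60 rfl b144
theorem x144_1 : AuxS.{u} (cM2) s144 0 a144_1 := x144
theorem x144_2 : AuxS.{u} (cM2) s144 0 a144_2 := x144_1
theorem n144 : Sound.{u} (cM2) s144 0 :=
  (x144_2.fr GamS.nil AllS.nil c144_0 :)
theorem x169 : AuxS.{u} (cM2) s169 0 a169 := aux_base3 tw61 rfl b169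
theorem x169_1 : AuxS.{u} (cM2) s169 0 a169_1 := (AuxS.up x169 c169_4 :)
theorem x169_2 : AuxS.{u} (cM2) s169 0 a169_2 := (AuxS.up x169_1 c169_5 :)
theorem n169 : Sound.{u} (cM2) s169 0 :=
  (x169_2.spl c169_0 (AllM.cons ((x169_2.lam 0).tp c169_1 :) (AllM.cons ((x169_2.lam 5).cl2 c169_2 :) AllM.nil)) ((x169_2.weaken 1).ext2 (fun _ => rfl) GamS.nil AllS.nil c169_3 (Phs.fin (ct := ct169_3) rfl) (Phs.fin (ct := ct169_3) rfl)) :)
theorem x170 : AuxS.{u} (cM2) s170 0 a170 := aux_base3 tw61 rfl b170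
theorem n170 : Sound.{u} (cM2) s170 0 :=
  (x170.k4 c170_0 :)
theorem x171 : AuxS.{u} (cM2) s171 0 a171 := aux_base3 tw61 rfl b171
theorem n171 : Sound.{u} (cM2) s171 0 :=
  (x171.k4 c171_0 :)
theorem x172 : AuxS.{u} (cM2) s172 0 a172 := aux_base3 tw61 rfl b172
theorem n172 : Sound.{u} (cM2) s172 0 :=
  (x172.k4 c172_0 :)
theorem x173 : AuxS.{u} (cM2) s173 0 a173 := aux_base3 tw61 rfl b173
theorem n173 : Sound.{u} (cM2) s173 0 :=
  (x173.k4 c173_0 :)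
theorem x174 : AuxS.{u} (cM2) s174 0 a174 := aux_base3 tw61 rfl b174
theorem n174 : Sound.{u} (cM2) s174 0 :=
  (x174.k4 c174_0 :)
theorem x175 : AuxS.{u} (cM2) s175 0 a175 := aux_base3 tw61 rfl b175
theorem n175 : Sound.{u} (cM2) s175 0 :=
  (x175.k4 c175_0 :)
theorem x176 : AuxS.{u} (cM2) s176 0 a176 := aux_base3 tw61 rfl b176
theorem n176 : Sound.{u} (cM2) s176 0 :=
  (x176.k4 c176_0 :)
theorem x145 : AuxS.{u} (cM2) s145 0 a145 := aux_base3 tw61 rfl b145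
theorem x145_1 : AuxS.{u} (cM2) s145 0 a145_1 := x145
theorem x145_2 : AuxS.{u} (cM2) s145 0 a145_2 := x145_1
theorem x145_3 : AuxS.{u} (cM2) s145 0 a145_3 := x145_2
theorem n145 : Sound.{u} (cM2) s145 0 :=
  (x145_3.fr (AuxS.gam x145_3 c145_0) (AllS.cons n169 (AllS.cons n170 (AllS.cons n171 (AllS.cons n172 (AllS.cons n173 (AllS.cons n174 (AllS.cons n175 (AllS.cons n176 AllS.nil)))))))) c145_1 :)
theorem x146 : AuxS.{u} (cM2) s146 0 a146 := aux_base3 tw62 rfl b146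
theorem x146_1 : AuxS.{u} (cM2) s146 0 a146_1 := x146
theorem x146_2 : AuxS.{u} (cM2) s146 0 a146_2 := x146_1
theorem n146 : Sound.{u} (cM2) s146 0 :=
  (x146_2.fr GamS.nil AllS.nil c146_0 :)
theorem x147 : AuxS.{u} (cM2) s147 0 a147 := aux_base3 tw63 rfl b147
theorem x147_1 : AuxS.{u} (cM2) s147 0 a147_1 := x147
theorem x147_2 : AuxS.{u} (cM2) s147 0 a147_2 := x147_1
theorem n147 : Sound.{u} (cM2) s147 0 :=
  (x147_2.fr GamS.nil AllS.nil c147_0 :)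
theorem x148 : AuxS.{u} (cM2) s148 0 a148 := aux_base3 tw64 rfl b148
theorem x148_1 : AuxS.{u} (cM2) s148 0 a148_1 := x148
theorem x148_2 : AuxS.{u} (cM2) s148 0 a148_2 := x148_1
theorem n148 : Sound.{u} (cM2) s148 0 :=
  (x148_2.fr GamS.nil AllS.nil c148_0 :)
theorem x177 : AuxS.{u} (cM2) s177 0 a177 := aux_base3 tw65 rfl b177
theorem x177_1 : AuxS.{u} (cM2) s177 0 a177_1 := (AuxS.up x177 c177_4 :)
theorem x177_2 : AuxS.{u} (cM2) s177 0 a177_2 := (AuxS.up x177_1 c177_5 :)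
theorem n177 : Sound.{u} (cM2) s177 0 :=
  (x177_2.spl c177_0 (AllM.cons ((x177_2.lam 0).tp c177_1 :) (AllM.cons ((x177_2.lam 5).cl2 c177_2 :) AllM.nil)) ((x177_2.weaken 1).ext2 (fun _ => rfl) GamS.nil AllS.nil c177_3 (Phs.fin (ct := ct177_3) rfl) (Phs.fin (ct := ct177_3) rfl)) :)
theorem x178 : AuxS.{u} (cM2) s178 0 a178 := aux_base3 tw65 rfl b178
theorem n178 : Sound.{u} (cM2) s178 0 :=
  (x178.k4 c178_0 :)
theorem x179 : AuxS.{u} (cM2) s179 0 a179 := aux_base3 tw65 rfl b179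
theorem n179 : Sound.{u} (cM2) s179 0 :=
  (x179.k4 c179_0 :)
theorem x180 : AuxS.{u} (cM2) s180 0 a180 := aux_base3 tw65 rfl b180
theorem n180 : Sound.{u} (cM2) s180 0 :=
  (x180.k4 c180_0 :)
theorem x181 : AuxS.{u} (cM2) s181 0 a181 := aux_base3 tw65 rfl b181
theorem n181 : Sound.{u} (cM2) s181 0 :=
  (x181.k4 c181_0 :)
theorem x182 : AuxS.{u} (cM2) s182 0 a182 := aux_base3 tw65 rfl b182
theorem n182 : Sound.{u} (cM2) s182 0 :=
  (x182.k4 c182_0 :)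
theorem x183 : AuxS.{u} (cM2) s183 0 a183 := aux_base3 tw65 rfl b183
theorem n183 : Sound.{u} (cM2) s183 0 :=
  (x183.k4 c183_0 :)
theorem x184 : AuxS.{u} (cM2) s184 0 a184 := aux_base3 tw65 rfl b184
theorem n184 : Sound.{u} (cM2) s184 0 :=
  (x184.k4 c184_0 :)
theorem x149 : AuxS.{u} (cM2) s149 0 a149 := aux_base3 tw65 rfl b149
theorem x149_1 : AuxS.{u} (cM2) s149 0 a149_1 := x149
theorem x149_2 : AuxS.{u} (cM2) s149 0 a149_2 := x149_1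
theorem x149_3 : AuxS.{u} (cM2) s149 0 a149_3 := x149_2
theorem n149 : Sound.{u} (cM2) s149 0 :=
  (x149_3.fr (AuxS.gam x149_3 c149_0) (AllS.cons n177 (AllS.cons n178 (AllS.cons n179 (AllS.cons n180 (AllS.cons n181 (AllS.cons n182 (AllS.cons n183 (AllS.cons n184 AllS.nil)))))))) c149_1 :)
theorem x150 : AuxS.{u} (cM2) s150 0 a150 := aux_base3 tw66 rfl b150
theorem x150_1 : AuxS.{u} (cM2) s150 0 a150_1 := x150
theorem x150_2 : AuxS.{u} (cM2) s150 0 a150_2 := x150_1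
theorem n150 : Sound.{u} (cM2) s150 0 :=
  (x150_2.fr GamS.nil AllS.nil c150_0 :)
theorem x151 : AuxS.{u} (cM2) s151 0 a151 := aux_base3 tw67 rfl b151
theorem x151_1 : AuxS.{u} (cM2) s151 0 a151_1 := x151
theorem x151_2 : AuxS.{u} (cM2) s151 0 a151_2 := x151_1
theorem n151 : Sound.{u} (cM2) s151 0 :=
  (x151_2.fr GamS.nil AllS.nil c151_0 :)
theorem x152 : AuxS.{u} (cM2) s152 0 a152 := aux_base3 tw68 rfl b152
theorem x152_1 : AuxS.{u} (cM2) s152 0 a152_1 := x152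
theorem x152_2 : AuxS.{u} (cM2) s152 0 a152_2 := x152_1
theorem n152 : Sound.{u} (cM2) s152 0 :=
  (x152_2.fr GamS.nil AllS.nil c152_0 :)
theorem x129 : AuxS.{u} (cM2) s129 0 a129 := aux_base3 tw49 rfl b129
theorem x129_1 : AuxS.{u} (cM2) s129 0 a129_1 := x129
theorem x129_2 : AuxS.{u} (cM2) s129 0 a129_2 := x129_1
theorem n129 : Sound.{u} (cM2) s129 0 :=
  (x129_2.fr2 GamS.nil (AllS.cons n137 (AllS.cons n138 (AllS.cons n139 (AllS.cons n140 (AllS.cons n141 (AllS.cons n142 (AllS.cons n143 (AllS.cons n144 (AllS.cons n145 (AllS.cons n146 (AllS.cons n147 (AllS.cons n148 (AllS.cons n149 (AllS.cons n150 (AllS.cons n151 (AllS.cons n152 AllS.nil)))))))))))))))) c129_0 :)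
theorem x130 : AuxS.{u} (cM2) s130 0 a130 := aux_base3 tw49 rfl b130
theorem n130 : Sound.{u} (cM2) s130 0 :=
  (x130.k4 c130_0 :)
theorem x131 : AuxS.{u} (cM2) s131 0 a131 := aux_base3 tw49 rfl b131
theorem n131 : Sound.{u} (cM2) s131 0 :=
  (x131.k4 c131_0 :)
theorem x132 : AuxS.{u} (cM2) s132 0 a132 := aux_base3 tw49 rfl b132
theorem n132 : Sound.{u} (cM2) s132 0 :=
  (x132.k4 c132_0 :)
theorem x133 : AuxS.{u} (cM2) s133 0 a133 := aux_base3 tw49 rfl b133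
theorem n133 : Sound.{u} (cM2) s133 0 :=
  (x133.k4 c133_0 :)
theorem x134 : AuxS.{u} (cM2) s134 0 a134 := aux_base3 tw49 rfl b134
theorem n134 : Sound.{u} (cM2) s134 0 :=
  (x134.k4 c134_0 :)
theorem x135 : AuxS.{u} (cM2) s135 0 a135 := aux_base3 tw49 rfl b135
theorem n135 : Sound.{u} (cM2) s135 0 :=
  (x135.k4 c135_0 :)
theorem x136 : AuxS.{u} (cM2) s136 0 a136 := aux_base3 tw49 rfl b136
theorem n136 : Sound.{u} (cM2) s136 0 :=
  (x136.k4 c136_0 :)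
theorem x125 : AuxS.{u} (cM2) s125 0 a125 := aux_base3 tw49 rfl b125
theorem x125_1 : AuxS.{u} (cM2) s125 0 a125_1 := x125
theorem x125_2 : AuxS.{u} (cM2) s125 0 a125_2 := x125_1
theorem n125 : Sound.{u} (cM2) s125 0 :=
  (x125_2.fr (AuxS.gam x125_2 c125_0) (AllS.cons n129 (AllS.cons n130 (AllS.cons n131 (AllS.cons n132 (AllS.cons n133 (AllS.cons n134 (AllS.cons n135 (AllS.cons n136 AllS.nil)))))))) c125_1 :)
theorem x126 : AuxS.{u} (cM2) s126 0 a126 := aux_base3 tw50 rfl b126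
theorem x126_1 : AuxS.{u} (cM2) s126 0 a126_1 := x126
theorem n126 : Sound.{u} (cM2) s126 0 :=
  (x126_1.fr GamS.nil AllS.nil c126_0 :)
theorem x127 : AuxS.{u} (cM2) s127 0 a127 := aux_base3 tw51 rfl b127
theorem x127_1 : AuxS.{u} (cM2) s127 0 a127_1 := x127
theorem n127 : Sound.{u} (cM2) s127 0 :=
  (x127_1.fr GamS.nil AllS.nil c127_0 :)
theorem x128 : AuxS.{u} (cM2) s128 0 a128 := aux_base3 tw52 rfl b128
theorem x128_1 : AuxS.{u} (cM2) s128 0 a128_1 := x128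
theorem n128 : Sound.{u} (cM2) s128 0 :=
  (x128_1.fr GamS.nil AllS.nil c128_0 :)
theorem x124 : AuxS.{u} (cM2) s124 0 a124 := aux_base3 tw3 rfl b124
theorem x124_1 : AuxS.{u} (cM2) s124 0 a124_1 := (AuxS.up x124 c124_4 :)
theorem x124_2 : AuxS.{u} (cM2) s124 0 a124_2 := (AuxS.up2 x124_1 c124_5 :)
theorem p124_0_1 : Phs s124 a124_2 [] [s125, s126, s127, s128] ct124_0 v124_0 4 w124_0_1 := (Phs.fin c124_0)
theorem p124_0_3 : Phs s124 a124_2 [] [s125, s126, s127, s128] ct124_0 v124_0 1 w124_0_3 := (Phs.stp c124_1 p124_0_1)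
theorem n124 : Sound.{u} (cM2) s124 0 :=
  (x124_2.ext2 (fun h => absurd h (by decide)) GamS.nil (AllS.cons n125 (AllS.cons n126 (AllS.cons n127 (AllS.cons n128 AllS.nil)))) c124_3 (Phs.stp c124_2 p124_0_3) (Phs.fin (ct := ct124_0) rfl) :)
theorem x116 : AuxS.{u} (cM2) s116 0 a116 := aux_base3 tw41 rfl b116
theorem x116_1 : AuxS.{u} (cM2) s116 0 a116_1 := x116
theorem x116_2 : AuxS.{u} (cM2) s116 0 a116_2 := x116_1
theorem n116 : Sound.{u} (cM2) s116 0 :=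
  (x116_2.jump c116_0 c116_1 n124 :)
theorem x117 : AuxS.{u} (cM2) s117 0 a117 := aux_base3 tw41 rfl b117
theorem n117 : Sound.{u} (cM2) s117 0 :=
  (x117.k4 c117_0 :)
theorem x118 : AuxS.{u} (cM2) s118 0 a118 := aux_base3 tw41 rfl b118
theorem n118 : Sound.{u} (cM2) s118 0 :=
  (x118.k4 c118_0 :)
theorem x119 : AuxS.{u} (cM2) s119 0 a119 := aux_base3 tw41 rfl b119
theorem n119 : Sound.{u} (cM2) s119 0 :=
  (x119.k4 c119_0 :)
theorem x120 : AuxS.{u} (cM2) s120 0 a120 := aux_base3 tw41 rfl b120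
theorem n120 : Sound.{u} (cM2) s120 0 :=
  (x120.k4 c120_0 :)
theorem x121 : AuxS.{u} (cM2) s121 0 a121 := aux_base3 tw41 rfl b121
theorem n121 : Sound.{u} (cM2) s121 0 :=
  (x121.k4 c121_0 :)
theorem x122 : AuxS.{u} (cM2) s122 0 a122 := aux_base3 tw41 rfl b122
theorem n122 : Sound.{u} (cM2) s122 0 :=
  (x122.k4 c122_0 :)
theorem x123 : AuxS.{u} (cM2) s123 0 a123 := aux_base3 tw41 rfl b123
theorem n123 : Sound.{u} (cM2) s123 0 :=
  (x123.k4 c123_0 :)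
theorem x108 : AuxS.{u} (cM2) s108 0 a108 := aux_base3 tw41 rfl b108
theorem x108_1 : AuxS.{u} (cM2) s108 0 a108_1 := x108
theorem x108_2 : AuxS.{u} (cM2) s108 0 a108_2 := x108_1
theorem n108 : Sound.{u} (cM2) s108 0 :=
  (x108_2.fr (AuxS.gam x108_2 c108_0) (AllS.cons n116 (AllS.cons n117 (AllS.cons n118 (AllS.cons n119 (AllS.cons n120 (AllS.cons n121 (AllS.cons n122 (AllS.cons n123 AllS.nil)))))))) c108_1 :)
theorem x109 : AuxS.{u} (cM2) s109 0 a109 := aux_base3 tw42 rfl b109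
theorem x109_1 : AuxS.{u} (cM2) s109 0 a109_1 := x109
theorem n109 : Sound.{u} (cM2) s109 0 :=
  (x109_1.fr GamS.nil AllS.nil c109_0 :)
theorem x110 : AuxS.{u} (cM2) s110 0 a110 := aux_base3 tw43 rfl b110
theorem x110_1 : AuxS.{u} (cM2) s110 0 a110_1 := x110
theorem n110 : Sound.{u} (cM2) s110 0 :=
  (x110_1.fr GamS.nil AllS.nil c110_0 :)
theorem x111 : AuxS.{u} (cM2) s111 0 a111 := aux_base3 tw44 rfl b111
theorem x111_1 : AuxS.{u} (cM2) s111 0 a111_1 := x111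
theorem n111 : Sound.{u} (cM2) s111 0 :=
  (x111_1.fr GamS.nil AllS.nil c111_0 :)
theorem x185 : AuxS.{u} (cM2) s185 0 a185 := aux_base3 tw45 rfl b185
theorem n185 : Sound.{u} (cM2) s185 0 :=
  (x185.k4 c185_0 :)
theorem x186 : AuxS.{u} (cM2) s186 0 a186 := aux_base3 tw45 rfl b186
theorem n186 : Sound.{u} (cM2) s186 0 :=
  (x186.k4 c186_0 :)
theorem x187 : AuxS.{u} (cM2) s187 0 a187 := aux_base3 tw45 rfl b187
theorem n187 : Sound.{u} (cM2) s187 0 :=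
  (x187.k4 c187_0 :)
theorem x188 : AuxS.{u} (cM2) s188 0 a188 := aux_base3 tw45 rfl b188
theorem n188 : Sound.{u} (cM2) s188 0 :=
  (x188.k4 c188_0 :)
theorem x189 : AuxS.{u} (cM2) s189 0 a189 := aux_base3 tw45 rfl b189
theorem n189 : Sound.{u} (cM2) s189 0 :=
  (x189.k4 c189_0 :)
theorem x202 : AuxS.{u} (cM2) s202 0 a202 := aux_base3 tw69 rfl b202
theorem n202 : Sound.{u} (cM2) s202 0 :=
  (x202.k4 c202_0 :)
theorem x210 : AuxS.{u} (cM2) s210 0 a210 := aux_base3 tw69 rfl b210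
theorem x210_1 : AuxS.{u} (cM2) s210 0 a210_1 := (AuxS.up x210 c210_1 :)
theorem n210 : Sound.{u} (cM2) s210 0 :=
  (x210_1.fr GamS.nil AllS.nil c210_0 :)
theorem x203 : AuxS.{u} (cM2) s203 0 a203 := aux_base3 tw69 rfl b203
theorem x203_1 : AuxS.{u} (cM2) s203 0 a203_1 := x203
theorem n203 : Sound.{u} (cM2) s203 0 :=
  (x203_1.jump c203_0 c203_1 n210 :)
theorem x204 : AuxS.{u} (cM2) s204 0 a204 := aux_base3 tw69 rfl b204
theorem n204 : Sound.{u} (cM2) s204 0 :=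
  (x204.k4 c204_0 :)
theorem x205 : AuxS.{u} (cM2) s205 0 a205 := aux_base3 tw69 rfl b205
theorem n205 : Sound.{u} (cM2) s205 0 :=
  (x205.k4 c205_0 :)
theorem x206 : AuxS.{u} (cM2) s206 0 a206 := aux_base3 tw69 rfl b206
theorem n206 : Sound.{u} (cM2) s206 0 :=
  (x206.k4 c206_0 :)
theorem x207 : AuxS.{u} (cM2) s207 0 a207 := aux_base3 tw69 rfl b207
theorem n207 : Sound.{u} (cM2) s207 0 :=
  (x207.k4 c207_0 :)
theorem x208 : AuxS.{u} (cM2) s208 0 a208 := aux_base3 tw69 rfl b208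
theorem n208 : Sound.{u} (cM2) s208 0 :=
  (x208.k4 c208_0 :)
theorem x209 : AuxS.{u} (cM2) s209 0 a209 := aux_base3 tw69 rfl b209
theorem n209 : Sound.{u} (cM2) s209 0 :=
  (x209.k4 c209_0 :)
theorem x194 : AuxS.{u} (cM2) s194 0 a194 := aux_base3 tw69 rfl b194
theorem x194_1 : AuxS.{u} (cM2) s194 0 a194_1 := x194
theorem n194 : Sound.{u} (cM2) s194 0 :=
  (x194_1.fr (AuxS.gam x194_1 c194_0) (AllS.cons n202 (AllS.cons n203 (AllS.cons n204 (AllS.cons n205 (AllS.cons n206 (AllS.cons n207 (AllS.cons n208 (AllS.cons n209 AllS.nil)))))))) c194_1 :)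
theorem x195 : AuxS.{u} (cM2) s195 0 a195 := aux_base3 tw70 rfl b195
theorem x195_1 : AuxS.{u} (cM2) s195 0 a195_1 := x195
theorem n195 : Sound.{u} (cM2) s195 0 :=
  (x195_1.fr GamS.nil AllS.nil c195_0 :)
theorem x196 : AuxS.{u} (cM2) s196 0 a196 := aux_base3 tw71 rfl b196
theorem x196_1 : AuxS.{u} (cM2) s196 0 a196_1 := x196
theorem n196 : Sound.{u} (cM2) s196 0 :=
  (x196_1.fr GamS.nil AllS.nil c196_0 :)
theorem x197 : AuxS.{u} (cM2) s197 0 a197 := aux_base3 tw72 rfl b197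
theorem x197_1 : AuxS.{u} (cM2) s197 0 a197_1 := x197
theorem n197 : Sound.{u} (cM2) s197 0 :=
  (x197_1.fr GamS.nil AllS.nil c197_0 :)
theorem x198 : AuxS.{u} (cM2) s198 0 a198 := aux_base3 tw73 rfl b198
theorem n198 : Sound.{u} (cM2) s198 0 :=
  (x198.k6 c198_0 :)
theorem x199 : AuxS.{u} (cM2) s199 0 a199 := aux_base3 tw74 rfl b199
theorem n199 : Sound.{u} (cM2) s199 0 :=
  (x199.k6 c199_0 :)
theorem x200 : AuxS.{u} (cM2) s200 0 a200 := aux_base3 tw75 rfl b200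
theorem n200 : Sound.{u} (cM2) s200 0 :=
  (x200.k6 c200_0 :)
theorem x201 : AuxS.{u} (cM2) s201 0 a201 := aux_base3 tw76 rfl b201
theorem n201 : Sound.{u} (cM2) s201 0 :=
  (x201.k6 c201_0 :)
theorem x193 : AuxS.{u} (cM2) s193 0 a193 := aux_base3 tw3 rfl b193
theorem x193_1 : AuxS.{u} (cM2) s193 0 a193_1 := (AuxS.up x193 c193_4 :)
theorem p193_0_1 : Phs s193 a193_1 [] [s194, s195, s196, s197, s198, s199, s200, s201] ct193_0 v193_0 4 w193_0_1 := (Phs.fin c193_0)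
theorem p193_0_3 : Phs s193 a193_1 [] [s194, s195, s196, s197, s198, s199, s200, s201] ct193_0 v193_0 1 w193_0_3 := (Phs.stp c193_1 p193_0_1)
theorem n193 : Sound.{u} (cM2) s193 0 :=
  (x193_1.ext2 (fun h => absurd h (by decide)) GamS.nil (AllS.cons n194 (AllS.cons n195 (AllS.cons n196 (AllS.cons n197 (AllS.cons n198 (AllS.cons n199 (AllS.cons n200 (AllS.cons n201 AllS.nil)))))))) c193_3 (Phs.stp c193_2 p193_0_3) (Phs.fin (ct := ct193_0) rfl) :)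
theorem x190 : AuxS.{u} (cM2) s190 0 a190 := aux_base3 tw45 rfl b190
theorem x190_1 : AuxS.{u} (cM2) s190 0 a190_1 := x190
theorem n190 : Sound.{u} (cM2) s190 0 :=
  (x190_1.jump c190_0 c190_1 n193 :)
theorem x191 : AuxS.{u} (cM2) s191 0 a191 := aux_base3 tw45 rfl b191
theorem n191 : Sound.{u} (cM2) s191 0 :=
  (x191.k4 c191_0 :)
theorem x192 : AuxS.{u} (cM2) s192 0 a192 := aux_base3 tw45 rfl b192
theorem n192 : Sound.{u} (cM2) s192 0 :=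
  (x192.k4 c192_0 :)
theorem x112 : AuxS.{u} (cM2) s112 0 a112 := aux_base3 tw45 rfl b112
theorem x112_1 : AuxS.{u} (cM2) s112 0 a112_1 := x112
theorem n112 : Sound.{u} (cM2) s112 0 :=
  (x112_1.fr (AuxS.gam x112_1 c112_0) (AllS.cons n185 (AllS.cons n186 (AllS.cons n187 (AllS.cons n188 (AllS.cons n189 (AllS.cons n190 (AllS.cons n191 (AllS.cons n192 AllS.nil)))))))) c112_1 :)
theorem x113 : AuxS.{u} (cM2) s113 0 a113 := aux_base3 tw46 rfl b113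
theorem x113_1 : AuxS.{u} (cM2) s113 0 a113_1 := x113
theorem n113 : Sound.{u} (cM2) s113 0 :=
  (x113_1.fr GamS.nil AllS.nil c113_0 :)
theorem x114 : AuxS.{u} (cM2) s114 0 a114 := aux_base3 tw47 rfl b114
theorem x114_1 : AuxS.{u} (cM2) s114 0 a114_1 := x114
theorem n114 : Sound.{u} (cM2) s114 0 :=
  (x114_1.fr GamS.nil AllS.nil c114_0 :)
theorem x115 : AuxS.{u} (cM2) s115 0 a115 := aux_base3 tw48 rfl b115
theorem x115_1 : AuxS.{u} (cM2) s115 0 a115_1 := x115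
theorem n115 : Sound.{u} (cM2) s115 0 :=
  (x115_1.fr GamS.nil AllS.nil c115_0 :)
theorem x3 : AuxS.{u} (cM2) s3 0 a3 := aux_base3 tw3 rfl b3
theorem x3_1 : AuxS.{u} (cM2) s3 0 a3_1 := (AuxS.up x3 c3_6 :)
theorem p3_0_1 : Phs s3 a3_1 (List.map Prod.fst g3_0) [s108, s109, s110, s111, s112, s113, s114, s115] ct3_0 v3_0 4 w3_0_1 := (Phs.fin c3_1)
theorem p3_0_3 : Phs s3 a3_1 (List.map Prod.fst g3_0) [s108, s109, s110, s111, s112, s113, s114, s115] ct3_0 v3_0 3 w3_0_3 := (Phs.stp c3_2 p3_0_1)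
theorem p3_0_5 : Phs s3 a3_1 (List.map Prod.fst g3_0) [s108, s109, s110, s111, s112, s113, s114, s115] ct3_0 v3_0 1 w3_0_5 := (Phs.stp c3_3 p3_0_3)
theorem n3 : Sound.{u} (cM2) s3 0 :=
  (x3_1.ext2 (fun h => absurd h (by decide)) (AuxS.gam x3_1 c3_0) (AllS.cons n108 (AllS.cons n109 (AllS.cons n110 (AllS.cons n111 (AllS.cons n112 (AllS.cons n113 (AllS.cons n114 (AllS.cons n115 AllS.nil)))))))) c3_5 (Phs.stp c3_4 p3_0_5) (Phs.fin (ct := ct3_0) rfl) :)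
theorem x4 : AuxS.{u} (cM2) s4 0 a4 := aux_base3 tw4 rfl b4
theorem x4_1 : AuxS.{u} (cM2) s4 0 a4_1 := (AuxS.up x4 c4_1 :)
theorem n4 : Sound.{u} (cM2) s4 0 :=
  (x4_1.k7 c4_0 :)
theorem x0 : AuxS.{u} (cM2) s0 0 a0 := aux_base3 tw0 rfl b0
theorem x0_1 : AuxS.{u} (cM2) s0 0 a0_1 := (AuxS.up x0 c0_3 :)
theorem p0_0_1 : Phs s0 a0_1 [] [s1, s2, s3, s4] ct0_0 v0_0 1 w0_0_1 := (Phs.fin c0_0)
theorem n0 : Sound.{u} (cM2) s0 0 :=
  (x0_1.ext2 (fun h => absurd h (by decide)) GamS.nil (AllS.cons n1 (AllS.cons n2 (AllS.cons n3 (AllS.cons n4 AllS.nil)))) c0_2 (Phs.stp c0_1 p0_0_1) (Phs.fin (ct := ct0_0) rfl) :)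

theorem main : Sound.{u} (cM2) (root 0) 0 := n0

end

end CfsgLib.Dih8.TM2
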