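import Cfsg.Agent.Lib.Dih8.G.TP12C0
import Cfsg.Agent.Lib.Dih8.G.TP12C1
import Cfsg.Agent.Lib.Dih8.G.TP12C2
import Cfsg.Agent.Lib.Dih8.G.TP12C3
import Cfsg.Agent.Lib.Dih8.G.TP12C4
import Cfsg.Agent.Lib.Dih8.G.TP12C5
import Cfsg.Agent.Lib.Dih8.G.TP12C6
import Cfsg.Agent.Lib.Dih8.G.TP12C7
import Cfsg.Agent.Lib.Dih8.G.TP12C8
import Cfsg.Agent.Lib.Dih8.G.TP12C9
import Cfsg.Agent.Lib.Dih8.G.TP12C10
import Cfsg.Agent.Lib.Dih8.G.TP12C11
import Cfsg.Agent.Lib.Dih8.G.TP12C12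
import Cfsg.Agent.Lib.Dih8.G.TP12C13
import Cfsg.Agent.Lib.Dih8.G.TP12C14
import Cfsg.Agent.Lib.Dih8.Rules

/-! Generated certificates (plans/DIH8.md). -/

set_option autoImplicit false
set_option maxRecDepth 100000
set_option Elab.async false
set_option maxHeartbeats 0
set_option linter.all false

namespace CfsgLib.Dih8.TP12

noncomputable section

universe u

theorem tw80 : Tow.{u} l80 t80 := tow_of tc80_0 ((Rng.zero.step tc80_1).step tc80_2) ((Rng.zero.step tc80_3).step tc80_4)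
theorem tw81 : Tow.{u} l81 t81 := tow_of tc81_0 ((Rng.zero.step tc81_1).step tc81_2) ((Rng.zero.step tc81_3).step tc81_4)
theorem tw82 : Tow.{u} l82 t82 := tow_of tc82_0 ((Rng.zero.step tc82_1).step tc82_2) ((Rng.zero.step tc82_3).step tc82_4)
theorem tw83 : Tow.{u} l83 t83 := tow_of tc83_0 ((Rng.zero.step tc83_1).step tc83_2) ((Rng.zero.step tc83_3).step tc83_4)
theorem tw84 : Tow.{u} l84 t84 := tow_of tc84_0 ((Rng.zero.step tc84_1).step tc84_2) ((Rng.zero.step tc84_3).step tc84_4)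
theorem tw85 : Tow.{u} l85 t85 := tow_of tc85_0 ((Rng.zero.step tc85_1).step tc85_2) ((Rng.zero.step tc85_3).step tc85_4)
theorem tw86 : Tow.{u} l86 t86 := tow_of tc86_0 ((Rng.zero.step tc86_1).step tc86_2) ((Rng.zero.step tc86_3).step tc86_4)
theorem tw87 : Tow.{u} l87 t87 := tow_of tc87_0 ((Rng.zero.step tc87_1).step tc87_2) ((Rng.zero.step tc87_3).step tc87_4)
theorem tw88 : Tow.{u} l88 t88 := tow_of tc88_0 (Rng.zero.step tc88_1) (Rng.zero.step tc88_2)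
theorem tw89 : Tow.{u} l89 t89 := tow_of tc89_0 (Rng.zero.step tc89_1) (Rng.zero.step tc89_2)
theorem tw90 : Tow.{u} l90 t90 := tow_of tc90_0 (Rng.zero.step tc90_1) (Rng.zero.step tc90_2)
theorem tw91 : Tow.{u} l91 t91 := tow_of tc91_0 (Rng.zero.step tc91_1) (Rng.zero.step tc91_2)
theorem tw92 : Tow.{u} l92 t92 := tow_of tc92_0 (Rng.zero.step tc92_1) (Rng.zero.step tc92_2)
theorem tw93 : Tow.{u} l93 t93 := tow_of tc93_0 (Rng.zero.step tc93_1) (Rng.zero.step tc93_2)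
theorem tw94 : Tow.{u} l94 t94 := tow_of tc94_0 (Rng.zero.step tc94_1) (Rng.zero.step tc94_2)
theorem tw95 : Tow.{u} l95 t95 := tow_of tc95_0 (Rng.zero.step tc95_1) (Rng.zero.step tc95_2)
theorem tw96 : Tow.{u} l96 t96 := tow_of tc96_0 (Rng.zero.step tc96_1) (Rng.zero.step tc96_2)
theorem tw97 : Tow.{u} l97 t97 := tow_of tc97_0 (Rng.zero.step tc97_1) (Rng.zero.step tc97_2)
theorem tw98 : Tow.{u} l98 t98 := tow_of tc98_0 (Rng.zero.step tc98_1) (Rng.zero.step tc98_2)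
theorem tw99 : Tow.{u} l99 t99 := tow_of tc99_0 (Rng.zero.step tc99_1) (Rng.zero.step tc99_2)
theorem tw100 : Tow.{u} l100 t100 := tow_of tc100_0 ((Rng.zero.step tc100_1).step tc100_2) (Rng.zero.step tc100_3)
theorem tw101 : Tow.{u} l101 t101 := tow_of tc101_0 ((Rng.zero.step tc101_1).step tc101_2) (Rng.zero.step tc101_3)
theorem tw102 : Tow.{u} l102 t102 := tow_of tc102_0 ((Rng.zero.step tc102_1).step tc102_2) (Rng.zero.step tc102_3)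
theorem tw103 : Tow.{u} l103 t103 := tow_of tc103_0 ((Rng.zero.step tc103_1).step tc103_2) (Rng.zero.step tc103_3)
theorem tw104 : Tow.{u} l104 t104 := tow_of tc104_0 ((Rng.zero.step tc104_1).step tc104_2) (Rng.zero.step tc104_3)
theorem tw105 : Tow.{u} l105 t105 := tow_of tc105_0 ((Rng.zero.step tc105_1).step tc105_2) (Rng.zero.step tc105_3)
theorem tw106 : Tow.{u} l106 t106 := tow_of tc106_0 ((Rng.zero.step tc106_1).step tc106_2) ((Rng.zero.step tc106_3).step tc106_4)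
theorem tw107 : Tow.{u} l107 t107 := tow_of tc107_0 ((Rng.zero.step tc107_1).step tc107_2) ((Rng.zero.step tc107_3).step tc107_4)
theorem tw79 : Tow.{u} l79 t79 := tow_of tc79_0 (Rng.zero.step tc79_1) (Rng.zero.step tc79_2)
theorem tw63 : Tow.{u} l63 t63 := tow_of tc63_0 (Rng.zero.step tc63_1) (Rng.zero.step tc63_2)
theorem tw64 : Tow.{u} l64 t64 := tow_of tc64_0 (Rng.zero.step tc64_1) (Rng.zero.step tc64_2)
theorem tw65 : Tow.{u} l65 t65 := tow_of tc65_0 (Rng.zero.step tc65_1) (Rng.zero.step tc65_2)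
theorem tw66 : Tow.{u} l66 t66 := tow_of tc66_0 (Rng.zero.step tc66_1) (Rng.zero.step tc66_2)
theorem tw67 : Tow.{u} l67 t67 := tow_of tc67_0 (Rng.zero.step tc67_1) (Rng.zero.step tc67_2)
theorem tw108 : Tow.{u} l108 t108 := tow_of tc108_0 (Rng.zero.step tc108_1) (Rng.zero.step tc108_2)
theorem tw68 : Tow.{u} l68 t68 := tow_of tc68_0 (Rng.zero.step tc68_1) (Rng.zero.step tc68_2)
theorem tw69 : Tow.{u} l69 t69 := tow_of tc69_0 (Rng.zero.step tc69_1) (Rng.zero.step tc69_2)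
theorem tw70 : Tow.{u} l70 t70 := tow_of tc70_0 (Rng.zero.step tc70_1) (Rng.zero.step tc70_2)
theorem tw71 : Tow.{u} l71 t71 := tow_of tc71_0 (Rng.zero.step tc71_1) (Rng.zero.step tc71_2)
theorem tw72 : Tow.{u} l72 t72 := tow_of tc72_0 (Rng.zero.step tc72_1) (Rng.zero.step tc72_2)
theorem tw73 : Tow.{u} l73 t73 := tow_of tc73_0 (Rng.zero.step tc73_1) (Rng.zero.step tc73_2)
theorem tw74 : Tow.{u} l74 t74 := tow_of tc74_0 (Rng.zero.step tc74_1) (Rng.zero.step tc74_2)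
theorem tw75 : Tow.{u} l75 t75 := tow_of tc75_0 (Rng.zero.step tc75_1) (Rng.zero.step tc75_2)
theorem tw76 : Tow.{u} l76 t76 := tow_of tc76_0 (Rng.zero.step tc76_1) (Rng.zero.step tc76_2)
theorem tw77 : Tow.{u} l77 t77 := tow_of tc77_0 (Rng.zero.step tc77_1) (Rng.zero.step tc77_2)
theorem tw78 : Tow.{u} l78 t78 := tow_of tc78_0 (Rng.zero.step tc78_1) (Rng.zero.step tc78_2)
theorem tw45 : Tow.{u} l45 t45 := tow_of tc45_0 (Rng.zero.step tc45_1) (Rng.zero.step tc45_2)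
theorem tw46 : Tow.{u} l46 t46 := tow_of tc46_0 (Rng.zero.step tc46_1) (Rng.zero.step tc46_2)
theorem tw47 : Tow.{u} l47 t47 := tow_of tc47_0 (Rng.zero.step tc47_1) (Rng.zero.step tc47_2)
theorem tw48 : Tow.{u} l48 t48 := tow_of tc48_0 (Rng.zero.step tc48_1) (Rng.zero.step tc48_2)
theorem tw49 : Tow.{u} l49 t49 := tow_of tc49_0 (Rng.zero.step tc49_1) (Rng.zero.step tc49_2)
theorem tw50 : Tow.{u} l50 t50 := tow_of tc50_0 (Rng.zero.step tc50_1) (Rng.zero.step tc50_2)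
theorem tw51 : Tow.{u} l51 t51 := tow_of tc51_0 (Rng.zero.step tc51_1) (Rng.zero.step tc51_2)
theorem tw52 : Tow.{u} l52 t52 := tow_of tc52_0 (Rng.zero.step tc52_1) (Rng.zero.step tc52_2)
theorem tw53 : Tow.{u} l53 t53 := tow_of tc53_0 (Rng.zero.step tc53_1) (Rng.zero.step tc53_2)
theorem tw54 : Tow.{u} l54 t54 := tow_of tc54_0 (Rng.zero.step tc54_1) (Rng.zero.step tc54_2)
theorem tw55 : Tow.{u} l55 t55 := tow_of tc55_0 (Rng.zero.step tc55_1) (Rng.zero.step tc55_2)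
theorem tw56 : Tow.{u} l56 t56 := tow_of tc56_0 (Rng.zero.step tc56_1) (Rng.zero.step tc56_2)
theorem tw57 : Tow.{u} l57 t57 := tow_of tc57_0 (Rng.zero.step tc57_1) (Rng.zero.step tc57_2)
theorem tw58 : Tow.{u} l58 t58 := tow_of tc58_0 (Rng.zero.step tc58_1) (Rng.zero.step tc58_2)
theorem tw59 : Tow.{u} l59 t59 := tow_of tc59_0 (Rng.zero.step tc59_1) (Rng.zero.step tc59_2)
theorem tw60 : Tow.{u} l60 t60 := tow_of tc60_0 (Rng.zero.step tc60_1) (Rng.zero.step tc60_2)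
theorem tw61 : Tow.{u} l61 t61 := tow_of tc61_0 (Rng.zero.step tc61_1) (Rng.zero.step tc61_2)
theorem tw62 : Tow.{u} l62 t62 := tow_of tc62_0 (Rng.zero.step tc62_1) (Rng.zero.step tc62_2)
theorem tw33 : Tow.{u} l33 t33 := tow_of tc33_0 (Rng.zero.step tc33_1) (Rng.zero.step tc33_2)
theorem tw43 : Tow.{u} l43 t43 := tow_of tc43_0 (Rng.zero.step tc43_1) (Rng.zero.step tc43_2)
theorem tw44 : Tow.{u} l44 t44 := tow_of tc44_0 (Rng.zero.step tc44_1) (Rng.zero.step tc44_2)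
theorem tw111 : Tow.{u} l111 t111 := tow_of tc111_0 (Rng.zero.step tc111_1) (Rng.zero.step tc111_2)
theorem tw112 : Tow.{u} l112 t112 := tow_of tc112_0 (Rng.zero.step tc112_1) (Rng.zero.step tc112_2)
theorem tw113 : Tow.{u} l113 t113 := tow_of tc113_0 (Rng.zero.step tc113_1) (Rng.zero.step tc113_2)
theorem tw114 : Tow.{u} l114 t114 := tow_of tc114_0 (Rng.zero.step tc114_1) (Rng.zero.step tc114_2)
theorem tw115 : Tow.{u} l115 t115 := tow_of tc115_0 (Rng.zero.step tc115_1) (Rng.zero.step tc115_2)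
theorem tw116 : Tow.{u} l116 t116 := tow_of tc116_0 (Rng.zero.step tc116_1) (Rng.zero.step tc116_2)
theorem tw117 : Tow.{u} l117 t117 := tow_of tc117_0 (Rng.zero.step tc117_1) (Rng.zero.step tc117_2)
theorem tw118 : Tow.{u} l118 t118 := tow_of tc118_0 (Rng.zero.step tc118_1) (Rng.zero.step tc118_2)
theorem tw119 : Tow.{u} l119 t119 := tow_of tc119_0 (Rng.zero.step tc119_1) (Rng.zero.step tc119_2)
theorem tw120 : Tow.{u} l120 t120 := tow_of tc120_0 (Rng.zero.step tc120_1) (Rng.zero.step tc120_2)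
theorem tw121 : Tow.{u} l121 t121 := tow_of tc121_0 (Rng.zero.step tc121_1) (Rng.zero.step tc121_2)
theorem tw122 : Tow.{u} l122 t122 := tow_of tc122_0 (Rng.zero.step tc122_1) (Rng.zero.step tc122_2)
theorem tw123 : Tow.{u} l123 t123 := tow_of tc123_0 (Rng.zero.step tc123_1) (Rng.zero.step tc123_2)
theorem tw124 : Tow.{u} l124 t124 := tow_of tc124_0 (Rng.zero.step tc124_1) (Rng.zero.step tc124_2)
theorem tw125 : Tow.{u} l125 t125 := tow_of tc125_0 (Rng.zero.step tc125_1) (Rng.zero.step tc125_2)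
theorem tw126 : Tow.{u} l126 t126 := tow_of tc126_0 (Rng.zero.step tc126_1) (Rng.zero.step tc126_2)
theorem tw127 : Tow.{u} l127 t127 := tow_of tc127_0 (Rng.zero.step tc127_1) (Rng.zero.step tc127_2)
theorem tw128 : Tow.{u} l128 t128 := tow_of tc128_0 (Rng.zero.step tc128_1) (Rng.zero.step tc128_2)
theorem tw34 : Tow.{u} l34 t34 := tow_of tc34_0 (Rng.zero.step tc34_1) (Rng.zero.step tc34_2)
theorem tw109 : Tow.{u} l109 t109 := tow_of tc109_0 (Rng.zero.step tc109_1) (Rng.zero.step tc109_2)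
theorem tw110 : Tow.{u} l110 t110 := tow_of tc110_0 (Rng.zero.step tc110_1) (Rng.zero.step tc110_2)
theorem tw35 : Tow.{u} l35 t35 := tow_of tc35_0 (Rng.zero.step tc35_1) (Rng.zero.step tc35_2)
theorem tw36 : Tow.{u} l36 t36 := tow_of tc36_0 (Rng.zero.step tc36_1) (Rng.zero.step tc36_2)
theorem tw37 : Tow.{u} l37 t37 := tow_of tc37_0 (Rng.zero.step tc37_1) (Rng.zero.step tc37_2)
theorem tw38 : Tow.{u} l38 t38 := tow_of tc38_0 (Rng.zero.step tc38_1) (Rng.zero.step tc38_2)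
theorem tw131 : Tow.{u} l131 t131 := tow_of tc131_0 (Rng.zero.step tc131_1) (Rng.zero.step tc131_2)
theorem tw149 : Tow.{u} l149 t149 := tow_of tc149_0 (Rng.zero.step tc149_1) (Rng.zero.step tc149_2)
theorem tw152 : Tow.{u} l152 t152 := tow_of tc152_0 (Rng.zero.step tc152_1) (Rng.zero.step tc152_2)
theorem tw153 : Tow.{u} l153 t153 := tow_of tc153_0 (Rng.zero.step tc153_1) (Rng.zero.step tc153_2)
theorem tw154 : Tow.{u} l154 t154 := tow_of tc154_0 (Rng.zero.step tc154_1) (Rng.zero.step tc154_2)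
theorem tw155 : Tow.{u} l155 t155 := tow_of tc155_0 (Rng.zero.step tc155_1) (Rng.zero.step tc155_2)
theorem tw156 : Tow.{u} l156 t156 := tow_of tc156_0 (Rng.zero.step tc156_1) (Rng.zero.step tc156_2)
theorem tw157 : Tow.{u} l157 t157 := tow_of tc157_0 (Rng.zero.step tc157_1) (Rng.zero.step tc157_2)
theorem tw158 : Tow.{u} l158 t158 := tow_of tc158_0 (Rng.zero.step tc158_1) (Rng.zero.step tc158_2)
theorem tw159 : Tow.{u} l159 t159 := tow_of tc159_0 (Rng.zero.step tc159_1) (Rng.zero.step tc159_2)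
theorem tw160 : Tow.{u} l160 t160 := tow_of tc160_0 (Rng.zero.step tc160_1) (Rng.zero.step tc160_2)
theorem tw161 : Tow.{u} l161 t161 := tow_of tc161_0 (Rng.zero.step tc161_1) (Rng.zero.step tc161_2)
theorem tw162 : Tow.{u} l162 t162 := tow_of tc162_0 (Rng.zero.step tc162_1) (Rng.zero.step tc162_2)
theorem tw163 : Tow.{u} l163 t163 := tow_of tc163_0 (Rng.zero.step tc163_1) (Rng.zero.step tc163_2)
theorem tw164 : Tow.{u} l164 t164 := tow_of tc164_0 (Rng.zero.step tc164_1) (Rng.zero.step tc164_2)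
theorem tw165 : Tow.{u} l165 t165 := tow_of tc165_0 (Rng.zero.step tc165_1) (Rng.zero.step tc165_2)
theorem tw166 : Tow.{u} l166 t166 := tow_of tc166_0 (Rng.zero.step tc166_1) (Rng.zero.step tc166_2)
theorem tw167 : Tow.{u} l167 t167 := tow_of tc167_0 (Rng.zero.step tc167_1) (Rng.zero.step tc167_2)
theorem tw168 : Tow.{u} l168 t168 := tow_of tc168_0 (Rng.zero.step tc168_1) (Rng.zero.step tc168_2)
theorem tw169 : Tow.{u} l169 t169 := tow_of tc169_0 (Rng.zero.step tc169_1) (Rng.zero.step tc169_2)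
theorem tw170 : Tow.{u} l170 t170 := tow_of tc170_0 (Rng.zero.step tc170_1) (Rng.zero.step tc170_2)
theorem tw171 : Tow.{u} l171 t171 := tow_of tc171_0 (Rng.zero.step tc171_1) (Rng.zero.step tc171_2)
theorem tw172 : Tow.{u} l172 t172 := tow_of tc172_0 (Rng.zero.step tc172_1) (Rng.zero.step tc172_2)
theorem tw173 : Tow.{u} l173 t173 := tow_of tc173_0 (Rng.zero.step tc173_1) (Rng.zero.step tc173_2)
theorem tw174 : Tow.{u} l174 t174 := tow_of tc174_0 (Rng.zero.step tc174_1) (Rng.zero.step tc174_2)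
theorem tw175 : Tow.{u} l175 t175 := tow_of tc175_0 (Rng.zero.step tc175_1) (Rng.zero.step tc175_2)
theorem tw176 : Tow.{u} l176 t176 := tow_of tc176_0 (Rng.zero.step tc176_1) (Rng.zero.step tc176_2)
theorem tw177 : Tow.{u} l177 t177 := tow_of tc177_0 (Rng.zero.step tc177_1) (Rng.zero.step tc177_2)
theorem tw178 : Tow.{u} l178 t178 := tow_of tc178_0 (Rng.zero.step tc178_1) (Rng.zero.step tc178_2)
theorem tw179 : Tow.{u} l179 t179 := tow_of tc179_0 (Rng.zero.step tc179_1) (Rng.zero.step tc179_2)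
theorem tw180 : Tow.{u} l180 t180 := tow_of tc180_0 (Rng.zero.step tc180_1) (Rng.zero.step tc180_2)
theorem tw181 : Tow.{u} l181 t181 := tow_of tc181_0 (Rng.zero.step tc181_1) (Rng.zero.step tc181_2)
theorem tw182 : Tow.{u} l182 t182 := tow_of tc182_0 (Rng.zero.step tc182_1) (Rng.zero.step tc182_2)
theorem tw183 : Tow.{u} l183 t183 := tow_of tc183_0 (Rng.zero.step tc183_1) (Rng.zero.step tc183_2)
theorem tw184 : Tow.{u} l184 t184 := tow_of tc184_0 (Rng.zero.step tc184_1) (Rng.zero.step tc184_2)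
theorem tw150 : Tow.{u} l150 t150 := tow_of tc150_0 (Rng.zero.step tc150_1) (Rng.zero.step tc150_2)
theorem tw132 : Tow.{u} l132 t132 := tow_of tc132_0 (Rng.zero.step tc132_1) (Rng.zero.step tc132_2)
theorem tw133 : Tow.{u} l133 t133 := tow_of tc133_0 (Rng.zero.step tc133_1) (Rng.zero.step tc133_2)
theorem tw134 : Tow.{u} l134 t134 := tow_of tc134_0 (Rng.zero.step tc134_1) (Rng.zero.step tc134_2)
theorem tw135 : Tow.{u} l135 t135 := tow_of tc135_0 (Rng.zero.step tc135_1) (Rng.zero.step tc135_2)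
theorem tw136 : Tow.{u} l136 t136 := tow_of tc136_0 (Rng.zero.step tc136_1) (Rng.zero.step tc136_2)
theorem tw137 : Tow.{u} l137 t137 := tow_of tc137_0 (Rng.zero.step tc137_1) (Rng.zero.step tc137_2)
theorem tw138 : Tow.{u} l138 t138 := tow_of tc138_0 (Rng.zero.step tc138_1) (Rng.zero.step tc138_2)
theorem tw139 : Tow.{u} l139 t139 := tow_of tc139_0 (Rng.zero.step tc139_1) (Rng.zero.step tc139_2)
theorem tw140 : Tow.{u} l140 t140 := tow_of tc140_0 (Rng.zero.step tc140_1) (Rng.zero.step tc140_2)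
theorem tw141 : Tow.{u} l141 t141 := tow_of tc141_0 (Rng.zero.step tc141_1) (Rng.zero.step tc141_2)
theorem tw142 : Tow.{u} l142 t142 := tow_of tc142_0 (Rng.zero.step tc142_1) (Rng.zero.step tc142_2)
theorem tw143 : Tow.{u} l143 t143 := tow_of tc143_0 (Rng.zero.step tc143_1) (Rng.zero.step tc143_2)
theorem tw144 : Tow.{u} l144 t144 := tow_of tc144_0 (Rng.zero.step tc144_1) (Rng.zero.step tc144_2)
theorem tw145 : Tow.{u} l145 t145 := tow_of tc145_0 (Rng.zero.step tc145_1) (Rng.zero.step tc145_2)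
theorem tw146 : Tow.{u} l146 t146 := tow_of tc146_0 (Rng.zero.step tc146_1) (Rng.zero.step tc146_2)
theorem tw147 : Tow.{u} l147 t147 := tow_of tc147_0 (Rng.zero.step tc147_1) (Rng.zero.step tc147_2)
theorem tw148 : Tow.{u} l148 t148 := tow_of tc148_0 (Rng.zero.step tc148_1) (Rng.zero.step tc148_2)
theorem tw39 : Tow.{u} l39 t39 := tow_of tc39_0 (Rng.zero.step tc39_1) (Rng.zero.step tc39_2)
theorem tw129 : Tow.{u} l129 t129 := tow_of tc129_0 (Rng.zero.step tc129_1) (Rng.zero.step tc129_2)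
theorem tw130 : Tow.{u} l130 t130 := tow_of tc130_0 (Rng.zero.step tc130_1) (Rng.zero.step tc130_2)
theorem tw187 : Tow.{u} l187 t187 := tow_of tc187_0 (Rng.zero.step tc187_1) (Rng.zero.step tc187_2)
theorem tw188 : Tow.{u} l188 t188 := tow_of tc188_0 (Rng.zero.step tc188_1) (Rng.zero.step tc188_2)
theorem tw189 : Tow.{u} l189 t189 := tow_of tc189_0 (Rng.zero.step tc189_1) (Rng.zero.step tc189_2)
theorem tw190 : Tow.{u} l190 t190 := tow_of tc190_0 (Rng.zero.step tc190_1) (Rng.zero.step tc190_2)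
theorem tw191 : Tow.{u} l191 t191 := tow_of tc191_0 (Rng.zero.step tc191_1) (Rng.zero.step tc191_2)
theorem tw192 : Tow.{u} l192 t192 := tow_of tc192_0 (Rng.zero.step tc192_1) (Rng.zero.step tc192_2)
theorem tw193 : Tow.{u} l193 t193 := tow_of tc193_0 (Rng.zero.step tc193_1) (Rng.zero.step tc193_2)
theorem tw194 : Tow.{u} l194 t194 := tow_of tc194_0 (Rng.zero.step tc194_1) (Rng.zero.step tc194_2)
theorem tw195 : Tow.{u} l195 t195 := tow_of tc195_0 (Rng.zero.step tc195_1) (Rng.zero.step tc195_2)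
theorem tw196 : Tow.{u} l196 t196 := tow_of tc196_0 (Rng.zero.step tc196_1) (Rng.zero.step tc196_2)
theorem tw197 : Tow.{u} l197 t197 := tow_of tc197_0 (Rng.zero.step tc197_1) (Rng.zero.step tc197_2)
theorem tw198 : Tow.{u} l198 t198 := tow_of tc198_0 (Rng.zero.step tc198_1) (Rng.zero.step tc198_2)
theorem tw199 : Tow.{u} l199 t199 := tow_of tc199_0 (Rng.zero.step tc199_1) (Rng.zero.step tc199_2)
theorem tw200 : Tow.{u} l200 t200 := tow_of tc200_0 (Rng.zero.step tc200_1) (Rng.zero.step tc200_2)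
theorem tw201 : Tow.{u} l201 t201 := tow_of tc201_0 (Rng.zero.step tc201_1) (Rng.zero.step tc201_2)
theorem tw202 : Tow.{u} l202 t202 := tow_of tc202_0 (Rng.zero.step tc202_1) (Rng.zero.step tc202_2)
theorem tw203 : Tow.{u} l203 t203 := tow_of tc203_0 (Rng.zero.step tc203_1) (Rng.zero.step tc203_2)
theorem tw204 : Tow.{u} l204 t204 := tow_of tc204_0 (Rng.zero.step tc204_1) (Rng.zero.step tc204_2)
theorem tw40 : Tow.{u} l40 t40 := tow_of tc40_0 (Rng.zero.step tc40_1) (Rng.zero.step tc40_2)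
theorem tw185 : Tow.{u} l185 t185 := tow_of tc185_0 (Rng.zero.step tc185_1) (Rng.zero.step tc185_2)
theorem tw186 : Tow.{u} l186 t186 := tow_of tc186_0 (Rng.zero.step tc186_1) (Rng.zero.step tc186_2)
theorem tw41 : Tow.{u} l41 t41 := tow_of tc41_0 (Rng.zero.step tc41_1) (Rng.zero.step tc41_2)
theorem tw42 : Tow.{u} l42 t42 := tow_of tc42_0 (Rng.zero.step tc42_1) (Rng.zero.step tc42_2)
theorem tw1 : Tow.{u} l1 t1 := tow_of tc1_0 (Rng.zero.step tc1_1) (Rng.zero.step tc1_2)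
theorem tw2 : Tow.{u} l2 t2 := tow_of tc2_0 (Rng.zero.step tc2_1) (Rng.zero.step tc2_2)
theorem tw3 : Tow.{u} l3 t3 := tow_of tc3_0 (Rng.zero.step tc3_1) (Rng.zero.step tc3_2)
theorem tw4 : Tow.{u} l4 t4 := tow_of tc4_0 (Rng.zero.step tc4_1) (Rng.zero.step tc4_2)
theorem tw5 : Tow.{u} l5 t5 := tow_of tc5_0 (Rng.zero.step tc5_1) (Rng.zero.step tc5_2)
theorem tw6 : Tow.{u} l6 t6 := tow_of tc6_0 (Rng.zero.step tc6_1) (Rng.zero.step tc6_2)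
theorem tw205 : Tow.{u} l205 t205 := tow_of tc205_0 (Rng.zero.step tc205_1) (Rng.zero.step tc205_2)
theorem tw206 : Tow.{u} l206 t206 := tow_of tc206_0 (Rng.zero.step tc206_1) (Rng.zero.step tc206_2)
theorem tw207 : Tow.{u} l207 t207 := tow_of tc207_0 (Rng.zero.step tc207_1) (Rng.zero.step tc207_2)
theorem tw208 : Tow.{u} l208 t208 := tow_of tc208_0 (Rng.zero.step tc208_1) (Rng.zero.step tc208_2)
theorem tw209 : Tow.{u} l209 t209 := tow_of tc209_0 (Rng.zero.step tc209_1) (Rng.zero.step tc209_2)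
theorem tw210 : Tow.{u} l210 t210 := tow_of tc210_0 (Rng.zero.step tc210_1) (Rng.zero.step tc210_2)
theorem tw211 : Tow.{u} l211 t211 := tow_of tc211_0 (Rng.zero.step tc211_1) (Rng.zero.step tc211_2)
theorem tw212 : Tow.{u} l212 t212 := tow_of tc212_0 (Rng.zero.step tc212_1) (Rng.zero.step tc212_2)
theorem tw7 : Tow.{u} l7 t7 := tow_of tc7_0 (Rng.zero.step tc7_1) (Rng.zero.step tc7_2)
theorem tw213 : Tow.{u} l213 t213 := tow_of tc213_0 (Rng.zero.step tc213_1) (Rng.zero.step tc213_2)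
theorem tw214 : Tow.{u} l214 t214 := tow_of tc214_0 (Rng.zero.step tc214_1) (Rng.zero.step tc214_2)
theorem tw221 : Tow.{u} l221 t221 := tow_of tc221_0 (Rng.zero.step tc221_1) (Rng.zero.step tc221_2)
theorem tw222 : Tow.{u} l222 t222 := tow_of tc222_0 (Rng.zero.step tc222_1) (Rng.zero.step tc222_2)
theorem tw215 : Tow.{u} l215 t215 := tow_of tc215_0 (Rng.zero.step tc215_1) (Rng.zero.step tc215_2)
theorem tw216 : Tow.{u} l216 t216 := tow_of tc216_0 (Rng.zero.step tc216_1) (Rng.zero.step tc216_2)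
theorem tw217 : Tow.{u} l217 t217 := tow_of tc217_0 (Rng.zero.step tc217_1) (Rng.zero.step tc217_2)
theorem tw223 : Tow.{u} l223 t223 := tow_of tc223_0 (Rng.zero.step tc223_1) (Rng.zero.step tc223_2)
theorem tw224 : Tow.{u} l224 t224 := tow_of tc224_0 (Rng.zero.step tc224_1) (Rng.zero.step tc224_2)
theorem tw218 : Tow.{u} l218 t218 := tow_of tc218_0 (Rng.zero.step tc218_1) (Rng.zero.step tc218_2)
theorem tw219 : Tow.{u} l219 t219 := tow_of tc219_0 (Rng.zero.step tc219_1) (Rng.zero.step tc219_2)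
theorem tw220 : Tow.{u} l220 t220 := tow_of tc220_0 (Rng.zero.step tc220_1) (Rng.zero.step tc220_2)
theorem tw8 : Tow.{u} l8 t8 := tow_of tc8_0 (Rng.zero.step tc8_1) (Rng.zero.step tc8_2)
theorem tw9 : Tow.{u} l9 t9 := tow_of tc9_0 (Rng.zero.step tc9_1) (Rng.zero.step tc9_2)
theorem tw10 : Tow.{u} l10 t10 := tow_of tc10_0 (Rng.zero.step tc10_1) (Rng.zero.step tc10_2)
theorem tw11 : Tow.{u} l11 t11 := tow_of tc11_0 (Rng.zero.step tc11_1) (Rng.zero.step tc11_2)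
theorem tw12 : Tow.{u} l12 t12 := tow_of tc12_0 (Rng.zero.step tc12_1) (Rng.zero.step tc12_2)
theorem tw13 : Tow.{u} l13 t13 := tow_of tc13_0 (Rng.zero.step tc13_1) (Rng.zero.step tc13_2)
theorem tw14 : Tow.{u} l14 t14 := tow_of tc14_0 (Rng.zero.step tc14_1) (Rng.zero.step tc14_2)
theorem tw15 : Tow.{u} l15 t15 := tow_of tc15_0 (Rng.zero.step tc15_1) (Rng.zero.step tc15_2)
theorem tw16 : Tow.{u} l16 t16 := tow_of tc16_0 (Rng.zero.step tc16_1) (Rng.zero.step tc16_2)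
theorem tw269 : Tow.{u} l269 t269 := tow_of tc269_0 (Rng.zero.step tc269_1) (Rng.zero.step tc269_2)
theorem tw253 : Tow.{u} l253 t253 := tow_of tc253_0 (Rng.zero.step tc253_1) (Rng.zero.step tc253_2)
theorem tw254 : Tow.{u} l254 t254 := tow_of tc254_0 (Rng.zero.step tc254_1) (Rng.zero.step tc254_2)
theorem tw255 : Tow.{u} l255 t255 := tow_of tc255_0 (Rng.zero.step tc255_1) (Rng.zero.step tc255_2)
theorem tw256 : Tow.{u} l256 t256 := tow_of tc256_0 (Rng.zero.step tc256_1) (Rng.zero.step tc256_2)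
theorem tw257 : Tow.{u} l257 t257 := tow_of tc257_0 (Rng.zero.step tc257_1) (Rng.zero.step tc257_2)
theorem tw270 : Tow.{u} l270 t270 := tow_of tc270_0 (Rng.zero.step tc270_1) (Rng.zero.step tc270_2)
theorem tw258 : Tow.{u} l258 t258 := tow_of tc258_0 (Rng.zero.step tc258_1) (Rng.zero.step tc258_2)
theorem tw259 : Tow.{u} l259 t259 := tow_of tc259_0 (Rng.zero.step tc259_1) (Rng.zero.step tc259_2)
theorem tw260 : Tow.{u} l260 t260 := tow_of tc260_0 (Rng.zero.step tc260_1) (Rng.zero.step tc260_2)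
theorem tw261 : Tow.{u} l261 t261 := tow_of tc261_0 (Rng.zero.step tc261_1) (Rng.zero.step tc261_2)
theorem tw262 : Tow.{u} l262 t262 := tow_of tc262_0 (Rng.zero.step tc262_1) (Rng.zero.step tc262_2)
theorem tw263 : Tow.{u} l263 t263 := tow_of tc263_0 (Rng.zero.step tc263_1) (Rng.zero.step tc263_2)
theorem tw264 : Tow.{u} l264 t264 := tow_of tc264_0 (Rng.zero.step tc264_1) (Rng.zero.step tc264_2)
theorem tw265 : Tow.{u} l265 t265 := tow_of tc265_0 (Rng.zero.step tc265_1) (Rng.zero.step tc265_2)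
theorem tw266 : Tow.{u} l266 t266 := tow_of tc266_0 (Rng.zero.step tc266_1) (Rng.zero.step tc266_2)
theorem tw267 : Tow.{u} l267 t267 := tow_of tc267_0 (Rng.zero.step tc267_1) (Rng.zero.step tc267_2)
theorem tw268 : Tow.{u} l268 t268 := tow_of tc268_0 (Rng.zero.step tc268_1) (Rng.zero.step tc268_2)
theorem tw235 : Tow.{u} l235 t235 := tow_of tc235_0 (Rng.zero.step tc235_1) (Rng.zero.step tc235_2)
theorem tw236 : Tow.{u} l236 t236 := tow_of tc236_0 (Rng.zero.step tc236_1) (Rng.zero.step tc236_2)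
theorem tw237 : Tow.{u} l237 t237 := tow_of tc237_0 (Rng.zero.step tc237_1) (Rng.zero.step tc237_2)
theorem tw238 : Tow.{u} l238 t238 := tow_of tc238_0 (Rng.zero.step tc238_1) (Rng.zero.step tc238_2)
theorem tw239 : Tow.{u} l239 t239 := tow_of tc239_0 (Rng.zero.step tc239_1) (Rng.zero.step tc239_2)
theorem tw240 : Tow.{u} l240 t240 := tow_of tc240_0 (Rng.zero.step tc240_1) (Rng.zero.step tc240_2)
theorem tw241 : Tow.{u} l241 t241 := tow_of tc241_0 (Rng.zero.step tc241_1) (Rng.zero.step tc241_2)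
theorem tw242 : Tow.{u} l242 t242 := tow_of tc242_0 (Rng.zero.step tc242_1) (Rng.zero.step tc242_2)
theorem tw243 : Tow.{u} l243 t243 := tow_of tc243_0 (Rng.zero.step tc243_1) (Rng.zero.step tc243_2)
theorem tw244 : Tow.{u} l244 t244 := tow_of tc244_0 (Rng.zero.step tc244_1) (Rng.zero.step tc244_2)
theorem tw245 : Tow.{u} l245 t245 := tow_of tc245_0 (Rng.zero.step tc245_1) (Rng.zero.step tc245_2)
theorem tw246 : Tow.{u} l246 t246 := tow_of tc246_0 (Rng.zero.step tc246_1) (Rng.zero.step tc246_2)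
theorem tw247 : Tow.{u} l247 t247 := tow_of tc247_0 (Rng.zero.step tc247_1) (Rng.zero.step tc247_2)
theorem tw248 : Tow.{u} l248 t248 := tow_of tc248_0 (Rng.zero.step tc248_1) (Rng.zero.step tc248_2)
theorem tw249 : Tow.{u} l249 t249 := tow_of tc249_0 (Rng.zero.step tc249_1) (Rng.zero.step tc249_2)
theorem tw250 : Tow.{u} l250 t250 := tow_of tc250_0 (Rng.zero.step tc250_1) (Rng.zero.step tc250_2)
theorem tw251 : Tow.{u} l251 t251 := tow_of tc251_0 (Rng.zero.step tc251_1) (Rng.zero.step tc251_2)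
theorem tw252 : Tow.{u} l252 t252 := tow_of tc252_0 (Rng.zero.step tc252_1) (Rng.zero.step tc252_2)
theorem tw225 : Tow.{u} l225 t225 := tow_of tc225_0 (Rng.zero.step tc225_1) (Rng.zero.step tc225_2)
theorem tw233 : Tow.{u} l233 t233 := tow_of tc233_0 (Rng.zero.step tc233_1) (Rng.zero.step tc233_2)
theorem tw234 : Tow.{u} l234 t234 := tow_of tc234_0 (Rng.zero.step tc234_1) (Rng.zero.step tc234_2)
theorem tw226 : Tow.{u} l226 t226 := tow_of tc226_0 (Rng.zero.step tc226_1) (Rng.zero.step tc226_2)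
theorem tw227 : Tow.{u} l227 t227 := tow_of tc227_0 (Rng.zero.step tc227_1) (Rng.zero.step tc227_2)
theorem tw228 : Tow.{u} l228 t228 := tow_of tc228_0 (Rng.zero.step tc228_1) (Rng.zero.step tc228_2)
theorem tw229 : Tow.{u} l229 t229 := tow_of tc229_0 (Rng.zero.step tc229_1) (Rng.zero.step tc229_2)
theorem tw273 : Tow.{u} l273 t273 := tow_of tc273_0 (Rng.zero.step tc273_1) (Rng.zero.step tc273_2)
theorem tw294 : Tow.{u} l294 t294 := tow_of tc294_0 (Rng.zero.step tc294_1) (Rng.zero.step tc294_2)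
theorem tw291 : Tow.{u} l291 t291 := tow_of tc291_0 (Rng.zero.step tc291_1) (Rng.zero.step tc291_2)
theorem tw292 : Tow.{u} l292 t292 := tow_of tc292_0 (Rng.zero.step tc292_1) (Rng.zero.step tc292_2)
theorem tw274 : Tow.{u} l274 t274 := tow_of tc274_0 (Rng.zero.step tc274_1) (Rng.zero.step tc274_2)
theorem tw275 : Tow.{u} l275 t275 := tow_of tc275_0 (Rng.zero.step tc275_1) (Rng.zero.step tc275_2)
theorem tw276 : Tow.{u} l276 t276 := tow_of tc276_0 (Rng.zero.step tc276_1) (Rng.zero.step tc276_2)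
theorem tw277 : Tow.{u} l277 t277 := tow_of tc277_0 (Rng.zero.step tc277_1) (Rng.zero.step tc277_2)
theorem tw278 : Tow.{u} l278 t278 := tow_of tc278_0 (Rng.zero.step tc278_1) (Rng.zero.step tc278_2)
theorem tw279 : Tow.{u} l279 t279 := tow_of tc279_0 (Rng.zero.step tc279_1) (Rng.zero.step tc279_2)
theorem tw280 : Tow.{u} l280 t280 := tow_of tc280_0 (Rng.zero.step tc280_1) (Rng.zero.step tc280_2)
theorem tw281 : Tow.{u} l281 t281 := tow_of tc281_0 (Rng.zero.step tc281_1) (Rng.zero.step tc281_2)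
theorem tw282 : Tow.{u} l282 t282 := tow_of tc282_0 (Rng.zero.step tc282_1) (Rng.zero.step tc282_2)
theorem tw283 : Tow.{u} l283 t283 := tow_of tc283_0 (Rng.zero.step tc283_1) (Rng.zero.step tc283_2)
theorem tw284 : Tow.{u} l284 t284 := tow_of tc284_0 (Rng.zero.step tc284_1) (Rng.zero.step tc284_2)
theorem tw285 : Tow.{u} l285 t285 := tow_of tc285_0 (Rng.zero.step tc285_1) (Rng.zero.step tc285_2)
theorem tw286 : Tow.{u} l286 t286 := tow_of tc286_0 (Rng.zero.step tc286_1) (Rng.zero.step tc286_2)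
theorem tw287 : Tow.{u} l287 t287 := tow_of tc287_0 (Rng.zero.step tc287_1) (Rng.zero.step tc287_2)
theorem tw288 : Tow.{u} l288 t288 := tow_of tc288_0 (Rng.zero.step tc288_1) (Rng.zero.step tc288_2)
theorem tw289 : Tow.{u} l289 t289 := tow_of tc289_0 (Rng.zero.step tc289_1) (Rng.zero.step tc289_2)
theorem tw290 : Tow.{u} l290 t290 := tow_of tc290_0 (Rng.zero.step tc290_1) (Rng.zero.step tc290_2)
theorem tw230 : Tow.{u} l230 t230 := tow_of tc230_0 (Rng.zero.step tc230_1) (Rng.zero.step tc230_2)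
theorem tw271 : Tow.{u} l271 t271 := tow_of tc271_0 (Rng.zero.step tc271_1) (Rng.zero.step tc271_2)
theorem tw272 : Tow.{u} l272 t272 := tow_of tc272_0 (Rng.zero.step tc272_1) (Rng.zero.step tc272_2)
theorem tw231 : Tow.{u} l231 t231 := tow_of tc231_0 (Rng.zero.step tc231_1) (Rng.zero.step tc231_2)
theorem tw232 : Tow.{u} l232 t232 := tow_of tc232_0 (Rng.zero.step tc232_1) (Rng.zero.step tc232_2)
theorem tw17 : Tow.{u} l17 t17 := tow_of tc17_0 (Rng.zero.step tc17_1) (Rng.zero.step tc17_2)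
theorem tw305 : Tow.{u} l305 t305 := tow_of tc305_0 (Rng.zero.step tc305_1) (Rng.zero.step tc305_2)
theorem tw306 : Tow.{u} l306 t306 := tow_of tc306_0 (Rng.zero.step tc306_1) (Rng.zero.step tc306_2)
theorem tw307 : Tow.{u} l307 t307 := tow_of tc307_0 (Rng.zero.step tc307_1) (Rng.zero.step tc307_2)
theorem tw308 : Tow.{u} l308 t308 := tow_of tc308_0 (Rng.zero.step tc308_1) (Rng.zero.step tc308_2)
theorem tw309 : Tow.{u} l309 t309 := tow_of tc309_0 (Rng.zero.step tc309_1) (Rng.zero.step tc309_2)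
theorem tw310 : Tow.{u} l310 t310 := tow_of tc310_0 (Rng.zero.step tc310_1) (Rng.zero.step tc310_2)
theorem tw311 : Tow.{u} l311 t311 := tow_of tc311_0 (Rng.zero.step tc311_1) (Rng.zero.step tc311_2)
theorem tw312 : Tow.{u} l312 t312 := tow_of tc312_0 (Rng.zero.step tc312_1) (Rng.zero.step tc312_2)
theorem tw313 : Tow.{u} l313 t313 := tow_of tc313_0 (Rng.zero.step tc313_1) (Rng.zero.step tc313_2)
theorem tw314 : Tow.{u} l314 t314 := tow_of tc314_0 (Rng.zero.step tc314_1) (Rng.zero.step tc314_2)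
theorem tw315 : Tow.{u} l315 t315 := tow_of tc315_0 (Rng.zero.step tc315_1) (Rng.zero.step tc315_2)
theorem tw316 : Tow.{u} l316 t316 := tow_of tc316_0 (Rng.zero.step tc316_1) (Rng.zero.step tc316_2)
theorem tw317 : Tow.{u} l317 t317 := tow_of tc317_0 (Rng.zero.step tc317_1) (Rng.zero.step tc317_2)
theorem tw318 : Tow.{u} l318 t318 := tow_of tc318_0 (Rng.zero.step tc318_1) (Rng.zero.step tc318_2)
theorem tw319 : Tow.{u} l319 t319 := tow_of tc319_0 (Rng.zero.step tc319_1) (Rng.zero.step tc319_2)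
theorem tw320 : Tow.{u} l320 t320 := tow_of tc320_0 (Rng.zero.step tc320_1) (Rng.zero.step tc320_2)
theorem tw321 : Tow.{u} l321 t321 := tow_of tc321_0 (Rng.zero.step tc321_1) (Rng.zero.step tc321_2)
theorem tw322 : Tow.{u} l322 t322 := tow_of tc322_0 (Rng.zero.step tc322_1) (Rng.zero.step tc322_2)
theorem tw295 : Tow.{u} l295 t295 := tow_of tc295_0 (Rng.zero.step tc295_1) (Rng.zero.step tc295_2)
theorem tw303 : Tow.{u} l303 t303 := tow_of tc303_0 (Rng.zero.step tc303_1) (Rng.zero.step tc303_2)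
theorem tw304 : Tow.{u} l304 t304 := tow_of tc304_0 (Rng.zero.step tc304_1) (Rng.zero.step tc304_2)
theorem tw296 : Tow.{u} l296 t296 := tow_of tc296_0 (Rng.zero.step tc296_1) (Rng.zero.step tc296_2)
theorem tw297 : Tow.{u} l297 t297 := tow_of tc297_0 (Rng.zero.step tc297_1) (Rng.zero.step tc297_2)
theorem tw298 : Tow.{u} l298 t298 := tow_of tc298_0 (Rng.zero.step tc298_1) (Rng.zero.step tc298_2)
theorem tw299 : Tow.{u} l299 t299 := tow_of tc299_0 (Rng.zero.step tc299_1) (Rng.zero.step tc299_2)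
theorem tw325 : Tow.{u} l325 t325 := tow_of tc325_0 (Rng.zero.step tc325_1) (Rng.zero.step tc325_2)
theorem tw326 : Tow.{u} l326 t326 := tow_of tc326_0 (Rng.zero.step tc326_1) (Rng.zero.step tc326_2)
theorem tw327 : Tow.{u} l327 t327 := tow_of tc327_0 (Rng.zero.step tc327_1) (Rng.zero.step tc327_2)
theorem tw328 : Tow.{u} l328 t328 := tow_of tc328_0 (Rng.zero.step tc328_1) (Rng.zero.step tc328_2)
theorem tw329 : Tow.{u} l329 t329 := tow_of tc329_0 (Rng.zero.step tc329_1) (Rng.zero.step tc329_2)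
theorem tw330 : Tow.{u} l330 t330 := tow_of tc330_0 (Rng.zero.step tc330_1) (Rng.zero.step tc330_2)
theorem tw331 : Tow.{u} l331 t331 := tow_of tc331_0 (Rng.zero.step tc331_1) (Rng.zero.step tc331_2)
theorem tw332 : Tow.{u} l332 t332 := tow_of tc332_0 (Rng.zero.step tc332_1) (Rng.zero.step tc332_2)
theorem tw333 : Tow.{u} l333 t333 := tow_of tc333_0 (Rng.zero.step tc333_1) (Rng.zero.step tc333_2)
theorem tw334 : Tow.{u} l334 t334 := tow_of tc334_0 (Rng.zero.step tc334_1) (Rng.zero.step tc334_2)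
theorem tw335 : Tow.{u} l335 t335 := tow_of tc335_0 (Rng.zero.step tc335_1) (Rng.zero.step tc335_2)
theorem tw336 : Tow.{u} l336 t336 := tow_of tc336_0 (Rng.zero.step tc336_1) (Rng.zero.step tc336_2)
theorem tw337 : Tow.{u} l337 t337 := tow_of tc337_0 (Rng.zero.step tc337_1) (Rng.zero.step tc337_2)
theorem tw338 : Tow.{u} l338 t338 := tow_of tc338_0 (Rng.zero.step tc338_1) (Rng.zero.step tc338_2)
theorem tw339 : Tow.{u} l339 t339 := tow_of tc339_0 (Rng.zero.step tc339_1) (Rng.zero.step tc339_2)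
theorem tw340 : Tow.{u} l340 t340 := tow_of tc340_0 (Rng.zero.step tc340_1) (Rng.zero.step tc340_2)
theorem tw341 : Tow.{u} l341 t341 := tow_of tc341_0 (Rng.zero.step tc341_1) (Rng.zero.step tc341_2)
theorem tw342 : Tow.{u} l342 t342 := tow_of tc342_0 (Rng.zero.step tc342_1) (Rng.zero.step tc342_2)
theorem tw300 : Tow.{u} l300 t300 := tow_of tc300_0 (Rng.zero.step tc300_1) (Rng.zero.step tc300_2)
theorem tw323 : Tow.{u} l323 t323 := tow_of tc323_0 (Rng.zero.step tc323_1) (Rng.zero.step tc323_2)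
theorem tw324 : Tow.{u} l324 t324 := tow_of tc324_0 (Rng.zero.step tc324_1) (Rng.zero.step tc324_2)
theorem tw301 : Tow.{u} l301 t301 := tow_of tc301_0 (Rng.zero.step tc301_1) (Rng.zero.step tc301_2)
theorem tw302 : Tow.{u} l302 t302 := tow_of tc302_0 (Rng.zero.step tc302_1) (Rng.zero.step tc302_2)
theorem tw18 : Tow.{u} l18 t18 := tow_of tc18_0 (Rng.zero.step tc18_1) (Rng.zero.step tc18_2)
theorem tw19 : Tow.{u} l19 t19 := tow_of tc19_0 (Rng.zero.step tc19_1) (Rng.zero.step tc19_2)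
theorem tw20 : Tow.{u} l20 t20 := tow_of tc20_0 (Rng.zero.step tc20_1) (Rng.zero.step tc20_2)
theorem tw343 : Tow.{u} l343 t343 := tow_of tc343_0 (Rng.zero.step tc343_1) (Rng.zero.step tc343_2)
theorem tw344 : Tow.{u} l344 t344 := tow_of tc344_0 (Rng.zero.step tc344_1) (Rng.zero.step tc344_2)
theorem tw345 : Tow.{u} l345 t345 := tow_of tc345_0 (Rng.zero.step tc345_1) (Rng.zero.step tc345_2)
theorem tw346 : Tow.{u} l346 t346 := tow_of tc346_0 (Rng.zero.step tc346_1) (Rng.zero.step tc346_2)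
theorem tw351 : Tow.{u} l351 t351 := tow_of tc351_0 (Rng.zero.step tc351_1) (Rng.zero.step tc351_2)
theorem tw352 : Tow.{u} l352 t352 := tow_of tc352_0 (Rng.zero.step tc352_1) (Rng.zero.step tc352_2)
theorem tw347 : Tow.{u} l347 t347 := tow_of tc347_0 (Rng.zero.step tc347_1) (Rng.zero.step tc347_2)
theorem tw348 : Tow.{u} l348 t348 := tow_of tc348_0 (Rng.zero.step tc348_1) (Rng.zero.step tc348_2)
theorem tw353 : Tow.{u} l353 t353 := tow_of tc353_0 (Rng.zero.step tc353_1) (Rng.zero.step tc353_2)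
theorem tw354 : Tow.{u} l354 t354 := tow_of tc354_0 (Rng.zero.step tc354_1) (Rng.zero.step tc354_2)
theorem tw349 : Tow.{u} l349 t349 := tow_of tc349_0 (Rng.zero.step tc349_1) (Rng.zero.step tc349_2)
theorem tw350 : Tow.{u} l350 t350 := tow_of tc350_0 (Rng.zero.step tc350_1) (Rng.zero.step tc350_2)
theorem tw21 : Tow.{u} l21 t21 := tow_of tc21_0 (Rng.zero.step tc21_1) (Rng.zero.step tc21_2)
theorem tw22 : Tow.{u} l22 t22 := tow_of tc22_0 (Rng.zero.step tc22_1) (Rng.zero.step tc22_2)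
theorem tw23 : Tow.{u} l23 t23 := tow_of tc23_0 (Rng.zero.step tc23_1) (Rng.zero.step tc23_2)
theorem tw24 : Tow.{u} l24 t24 := tow_of tc24_0 (Rng.zero.step tc24_1) (Rng.zero.step tc24_2)
theorem tw399 : Tow.{u} l399 t399 := tow_of tc399_0 (Rng.zero.step tc399_1) (Rng.zero.step tc399_2)
theorem tw383 : Tow.{u} l383 t383 := tow_of tc383_0 (Rng.zero.step tc383_1) (Rng.zero.step tc383_2)
theorem tw384 : Tow.{u} l384 t384 := tow_of tc384_0 (Rng.zero.step tc384_1) (Rng.zero.step tc384_2)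
theorem tw385 : Tow.{u} l385 t385 := tow_of tc385_0 (Rng.zero.step tc385_1) (Rng.zero.step tc385_2)
theorem tw386 : Tow.{u} l386 t386 := tow_of tc386_0 (Rng.zero.step tc386_1) (Rng.zero.step tc386_2)
theorem tw387 : Tow.{u} l387 t387 := tow_of tc387_0 (Rng.zero.step tc387_1) (Rng.zero.step tc387_2)
theorem tw400 : Tow.{u} l400 t400 := tow_of tc400_0 (Rng.zero.step tc400_1) (Rng.zero.step tc400_2)
theorem tw388 : Tow.{u} l388 t388 := tow_of tc388_0 (Rng.zero.step tc388_1) (Rng.zero.step tc388_2)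
theorem tw389 : Tow.{u} l389 t389 := tow_of tc389_0 (Rng.zero.step tc389_1) (Rng.zero.step tc389_2)
theorem tw390 : Tow.{u} l390 t390 := tow_of tc390_0 (Rng.zero.step tc390_1) (Rng.zero.step tc390_2)
theorem tw391 : Tow.{u} l391 t391 := tow_of tc391_0 (Rng.zero.step tc391_1) (Rng.zero.step tc391_2)
theorem tw392 : Tow.{u} l392 t392 := tow_of tc392_0 (Rng.zero.step tc392_1) (Rng.zero.step tc392_2)
theorem tw393 : Tow.{u} l393 t393 := tow_of tc393_0 (Rng.zero.step tc393_1) (Rng.zero.step tc393_2)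
theorem tw394 : Tow.{u} l394 t394 := tow_of tc394_0 (Rng.zero.step tc394_1) (Rng.zero.step tc394_2)
theorem tw395 : Tow.{u} l395 t395 := tow_of tc395_0 (Rng.zero.step tc395_1) (Rng.zero.step tc395_2)
theorem tw396 : Tow.{u} l396 t396 := tow_of tc396_0 (Rng.zero.step tc396_1) (Rng.zero.step tc396_2)
theorem tw397 : Tow.{u} l397 t397 := tow_of tc397_0 (Rng.zero.step tc397_1) (Rng.zero.step tc397_2)
theorem tw398 : Tow.{u} l398 t398 := tow_of tc398_0 (Rng.zero.step tc398_1) (Rng.zero.step tc398_2)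
theorem tw365 : Tow.{u} l365 t365 := tow_of tc365_0 (Rng.zero.step tc365_1) (Rng.zero.step tc365_2)
theorem tw366 : Tow.{u} l366 t366 := tow_of tc366_0 (Rng.zero.step tc366_1) (Rng.zero.step tc366_2)
theorem tw367 : Tow.{u} l367 t367 := tow_of tc367_0 (Rng.zero.step tc367_1) (Rng.zero.step tc367_2)
theorem tw368 : Tow.{u} l368 t368 := tow_of tc368_0 (Rng.zero.step tc368_1) (Rng.zero.step tc368_2)
theorem tw369 : Tow.{u} l369 t369 := tow_of tc369_0 (Rng.zero.step tc369_1) (Rng.zero.step tc369_2)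
theorem tw370 : Tow.{u} l370 t370 := tow_of tc370_0 (Rng.zero.step tc370_1) (Rng.zero.step tc370_2)
theorem tw371 : Tow.{u} l371 t371 := tow_of tc371_0 (Rng.zero.step tc371_1) (Rng.zero.step tc371_2)
theorem tw372 : Tow.{u} l372 t372 := tow_of tc372_0 (Rng.zero.step tc372_1) (Rng.zero.step tc372_2)
theorem tw373 : Tow.{u} l373 t373 := tow_of tc373_0 (Rng.zero.step tc373_1) (Rng.zero.step tc373_2)
theorem tw374 : Tow.{u} l374 t374 := tow_of tc374_0 (Rng.zero.step tc374_1) (Rng.zero.step tc374_2)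
theorem tw375 : Tow.{u} l375 t375 := tow_of tc375_0 (Rng.zero.step tc375_1) (Rng.zero.step tc375_2)
theorem tw376 : Tow.{u} l376 t376 := tow_of tc376_0 (Rng.zero.step tc376_1) (Rng.zero.step tc376_2)
theorem tw377 : Tow.{u} l377 t377 := tow_of tc377_0 (Rng.zero.step tc377_1) (Rng.zero.step tc377_2)
theorem tw378 : Tow.{u} l378 t378 := tow_of tc378_0 (Rng.zero.step tc378_1) (Rng.zero.step tc378_2)
theorem tw379 : Tow.{u} l379 t379 := tow_of tc379_0 (Rng.zero.step tc379_1) (Rng.zero.step tc379_2)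
theorem tw380 : Tow.{u} l380 t380 := tow_of tc380_0 (Rng.zero.step tc380_1) (Rng.zero.step tc380_2)
theorem tw381 : Tow.{u} l381 t381 := tow_of tc381_0 (Rng.zero.step tc381_1) (Rng.zero.step tc381_2)
theorem tw382 : Tow.{u} l382 t382 := tow_of tc382_0 (Rng.zero.step tc382_1) (Rng.zero.step tc382_2)
theorem tw355 : Tow.{u} l355 t355 := tow_of tc355_0 (Rng.zero.step tc355_1) (Rng.zero.step tc355_2)
theorem tw363 : Tow.{u} l363 t363 := tow_of tc363_0 (Rng.zero.step tc363_1) (Rng.zero.step tc363_2)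
theorem tw364 : Tow.{u} l364 t364 := tow_of tc364_0 (Rng.zero.step tc364_1) (Rng.zero.step tc364_2)
theorem tw356 : Tow.{u} l356 t356 := tow_of tc356_0 (Rng.zero.step tc356_1) (Rng.zero.step tc356_2)
theorem tw357 : Tow.{u} l357 t357 := tow_of tc357_0 (Rng.zero.step tc357_1) (Rng.zero.step tc357_2)
theorem tw358 : Tow.{u} l358 t358 := tow_of tc358_0 (Rng.zero.step tc358_1) (Rng.zero.step tc358_2)
theorem tw359 : Tow.{u} l359 t359 := tow_of tc359_0 (Rng.zero.step tc359_1) (Rng.zero.step tc359_2)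
theorem tw403 : Tow.{u} l403 t403 := tow_of tc403_0 (Rng.zero.step tc403_1) (Rng.zero.step tc403_2)
theorem tw424 : Tow.{u} l424 t424 := tow_of tc424_0 (Rng.zero.step tc424_1) (Rng.zero.step tc424_2)
theorem tw421 : Tow.{u} l421 t421 := tow_of tc421_0 (Rng.zero.step tc421_1) (Rng.zero.step tc421_2)
theorem tw422 : Tow.{u} l422 t422 := tow_of tc422_0 (Rng.zero.step tc422_1) (Rng.zero.step tc422_2)
theorem tw404 : Tow.{u} l404 t404 := tow_of tc404_0 (Rng.zero.step tc404_1) (Rng.zero.step tc404_2)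
theorem tw405 : Tow.{u} l405 t405 := tow_of tc405_0 (Rng.zero.step tc405_1) (Rng.zero.step tc405_2)
theorem tw406 : Tow.{u} l406 t406 := tow_of tc406_0 (Rng.zero.step tc406_1) (Rng.zero.step tc406_2)
theorem tw407 : Tow.{u} l407 t407 := tow_of tc407_0 (Rng.zero.step tc407_1) (Rng.zero.step tc407_2)
theorem tw408 : Tow.{u} l408 t408 := tow_of tc408_0 (Rng.zero.step tc408_1) (Rng.zero.step tc408_2)
theorem tw409 : Tow.{u} l409 t409 := tow_of tc409_0 (Rng.zero.step tc409_1) (Rng.zero.step tc409_2)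
theorem tw410 : Tow.{u} l410 t410 := tow_of tc410_0 (Rng.zero.step tc410_1) (Rng.zero.step tc410_2)
theorem tw411 : Tow.{u} l411 t411 := tow_of tc411_0 (Rng.zero.step tc411_1) (Rng.zero.step tc411_2)
theorem tw412 : Tow.{u} l412 t412 := tow_of tc412_0 (Rng.zero.step tc412_1) (Rng.zero.step tc412_2)
theorem tw413 : Tow.{u} l413 t413 := tow_of tc413_0 (Rng.zero.step tc413_1) (Rng.zero.step tc413_2)
theorem tw414 : Tow.{u} l414 t414 := tow_of tc414_0 (Rng.zero.step tc414_1) (Rng.zero.step tc414_2)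
theorem tw415 : Tow.{u} l415 t415 := tow_of tc415_0 (Rng.zero.step tc415_1) (Rng.zero.step tc415_2)
theorem tw416 : Tow.{u} l416 t416 := tow_of tc416_0 (Rng.zero.step tc416_1) (Rng.zero.step tc416_2)
theorem tw417 : Tow.{u} l417 t417 := tow_of tc417_0 (Rng.zero.step tc417_1) (Rng.zero.step tc417_2)
theorem tw418 : Tow.{u} l418 t418 := tow_of tc418_0 (Rng.zero.step tc418_1) (Rng.zero.step tc418_2)
theorem tw419 : Tow.{u} l419 t419 := tow_of tc419_0 (Rng.zero.step tc419_1) (Rng.zero.step tc419_2)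
theorem tw420 : Tow.{u} l420 t420 := tow_of tc420_0 (Rng.zero.step tc420_1) (Rng.zero.step tc420_2)
theorem tw360 : Tow.{u} l360 t360 := tow_of tc360_0 (Rng.zero.step tc360_1) (Rng.zero.step tc360_2)
theorem tw401 : Tow.{u} l401 t401 := tow_of tc401_0 (Rng.zero.step tc401_1) (Rng.zero.step tc401_2)
theorem tw402 : Tow.{u} l402 t402 := tow_of tc402_0 (Rng.zero.step tc402_1) (Rng.zero.step tc402_2)
theorem tw361 : Tow.{u} l361 t361 := tow_of tc361_0 (Rng.zero.step tc361_1) (Rng.zero.step tc361_2)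
theorem tw362 : Tow.{u} l362 t362 := tow_of tc362_0 (Rng.zero.step tc362_1) (Rng.zero.step tc362_2)
theorem tw25 : Tow.{u} l25 t25 := tow_of tc25_0 (Rng.zero.step tc25_1) (Rng.zero.step tc25_2)
theorem tw435 : Tow.{u} l435 t435 := tow_of tc435_0 (Rng.zero.step tc435_1) (Rng.zero.step tc435_2)
theorem tw436 : Tow.{u} l436 t436 := tow_of tc436_0 (Rng.zero.step tc436_1) (Rng.zero.step tc436_2)
theorem tw437 : Tow.{u} l437 t437 := tow_of tc437_0 (Rng.zero.step tc437_1) (Rng.zero.step tc437_2)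
theorem tw438 : Tow.{u} l438 t438 := tow_of tc438_0 (Rng.zero.step tc438_1) (Rng.zero.step tc438_2)
theorem tw439 : Tow.{u} l439 t439 := tow_of tc439_0 (Rng.zero.step tc439_1) (Rng.zero.step tc439_2)
theorem tw440 : Tow.{u} l440 t440 := tow_of tc440_0 (Rng.zero.step tc440_1) (Rng.zero.step tc440_2)
theorem tw441 : Tow.{u} l441 t441 := tow_of tc441_0 (Rng.zero.step tc441_1) (Rng.zero.step tc441_2)
theorem tw442 : Tow.{u} l442 t442 := tow_of tc442_0 (Rng.zero.step tc442_1) (Rng.zero.step tc442_2)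
theorem tw443 : Tow.{u} l443 t443 := tow_of tc443_0 (Rng.zero.step tc443_1) (Rng.zero.step tc443_2)
theorem tw444 : Tow.{u} l444 t444 := tow_of tc444_0 (Rng.zero.step tc444_1) (Rng.zero.step tc444_2)
theorem tw445 : Tow.{u} l445 t445 := tow_of tc445_0 (Rng.zero.step tc445_1) (Rng.zero.step tc445_2)
theorem tw446 : Tow.{u} l446 t446 := tow_of tc446_0 (Rng.zero.step tc446_1) (Rng.zero.step tc446_2)
theorem tw447 : Tow.{u} l447 t447 := tow_of tc447_0 (Rng.zero.step tc447_1) (Rng.zero.step tc447_2)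
theorem tw448 : Tow.{u} l448 t448 := tow_of tc448_0 (Rng.zero.step tc448_1) (Rng.zero.step tc448_2)
theorem tw449 : Tow.{u} l449 t449 := tow_of tc449_0 (Rng.zero.step tc449_1) (Rng.zero.step tc449_2)
theorem tw450 : Tow.{u} l450 t450 := tow_of tc450_0 (Rng.zero.step tc450_1) (Rng.zero.step tc450_2)
theorem tw451 : Tow.{u} l451 t451 := tow_of tc451_0 (Rng.zero.step tc451_1) (Rng.zero.step tc451_2)
theorem tw452 : Tow.{u} l452 t452 := tow_of tc452_0 (Rng.zero.step tc452_1) (Rng.zero.step tc452_2)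
theorem tw425 : Tow.{u} l425 t425 := tow_of tc425_0 (Rng.zero.step tc425_1) (Rng.zero.step tc425_2)
theorem tw433 : Tow.{u} l433 t433 := tow_of tc433_0 (Rng.zero.step tc433_1) (Rng.zero.step tc433_2)
theorem tw434 : Tow.{u} l434 t434 := tow_of tc434_0 (Rng.zero.step tc434_1) (Rng.zero.step tc434_2)
theorem tw426 : Tow.{u} l426 t426 := tow_of tc426_0 (Rng.zero.step tc426_1) (Rng.zero.step tc426_2)
theorem tw427 : Tow.{u} l427 t427 := tow_of tc427_0 (Rng.zero.step tc427_1) (Rng.zero.step tc427_2)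
theorem tw428 : Tow.{u} l428 t428 := tow_of tc428_0 (Rng.zero.step tc428_1) (Rng.zero.step tc428_2)
theorem tw429 : Tow.{u} l429 t429 := tow_of tc429_0 (Rng.zero.step tc429_1) (Rng.zero.step tc429_2)
theorem tw455 : Tow.{u} l455 t455 := tow_of tc455_0 (Rng.zero.step tc455_1) (Rng.zero.step tc455_2)
theorem tw456 : Tow.{u} l456 t456 := tow_of tc456_0 (Rng.zero.step tc456_1) (Rng.zero.step tc456_2)
theorem tw457 : Tow.{u} l457 t457 := tow_of tc457_0 (Rng.zero.step tc457_1) (Rng.zero.step tc457_2)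
theorem tw458 : Tow.{u} l458 t458 := tow_of tc458_0 (Rng.zero.step tc458_1) (Rng.zero.step tc458_2)
theorem tw459 : Tow.{u} l459 t459 := tow_of tc459_0 (Rng.zero.step tc459_1) (Rng.zero.step tc459_2)
theorem tw460 : Tow.{u} l460 t460 := tow_of tc460_0 (Rng.zero.step tc460_1) (Rng.zero.step tc460_2)
theorem tw461 : Tow.{u} l461 t461 := tow_of tc461_0 (Rng.zero.step tc461_1) (Rng.zero.step tc461_2)
theorem tw462 : Tow.{u} l462 t462 := tow_of tc462_0 (Rng.zero.step tc462_1) (Rng.zero.step tc462_2)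
theorem tw463 : Tow.{u} l463 t463 := tow_of tc463_0 (Rng.zero.step tc463_1) (Rng.zero.step tc463_2)
theorem tw464 : Tow.{u} l464 t464 := tow_of tc464_0 (Rng.zero.step tc464_1) (Rng.zero.step tc464_2)
theorem tw465 : Tow.{u} l465 t465 := tow_of tc465_0 (Rng.zero.step tc465_1) (Rng.zero.step tc465_2)
theorem tw466 : Tow.{u} l466 t466 := tow_of tc466_0 (Rng.zero.step tc466_1) (Rng.zero.step tc466_2)
theorem tw467 : Tow.{u} l467 t467 := tow_of tc467_0 (Rng.zero.step tc467_1) (Rng.zero.step tc467_2)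
theorem tw468 : Tow.{u} l468 t468 := tow_of tc468_0 (Rng.zero.step tc468_1) (Rng.zero.step tc468_2)
theorem tw469 : Tow.{u} l469 t469 := tow_of tc469_0 (Rng.zero.step tc469_1) (Rng.zero.step tc469_2)
theorem tw470 : Tow.{u} l470 t470 := tow_of tc470_0 (Rng.zero.step tc470_1) (Rng.zero.step tc470_2)
theorem tw471 : Tow.{u} l471 t471 := tow_of tc471_0 (Rng.zero.step tc471_1) (Rng.zero.step tc471_2)
theorem tw472 : Tow.{u} l472 t472 := tow_of tc472_0 (Rng.zero.step tc472_1) (Rng.zero.step tc472_2)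
theorem tw430 : Tow.{u} l430 t430 := tow_of tc430_0 (Rng.zero.step tc430_1) (Rng.zero.step tc430_2)
theorem tw453 : Tow.{u} l453 t453 := tow_of tc453_0 (Rng.zero.step tc453_1) (Rng.zero.step tc453_2)
theorem tw454 : Tow.{u} l454 t454 := tow_of tc454_0 (Rng.zero.step tc454_1) (Rng.zero.step tc454_2)
theorem tw431 : Tow.{u} l431 t431 := tow_of tc431_0 (Rng.zero.step tc431_1) (Rng.zero.step tc431_2)
theorem tw432 : Tow.{u} l432 t432 := tow_of tc432_0 (Rng.zero.step tc432_1) (Rng.zero.step tc432_2)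
theorem tw26 : Tow.{u} l26 t26 := tow_of tc26_0 (Rng.zero.step tc26_1) (Rng.zero.step tc26_2)
theorem tw473 : Tow.{u} l473 t473 := tow_of tc473_0 (Rng.zero.step tc473_1) (Rng.zero.step tc473_2)
theorem tw474 : Tow.{u} l474 t474 := tow_of tc474_0 (Rng.zero.step tc474_1) (Rng.zero.step tc474_2)
theorem tw481 : Tow.{u} l481 t481 := tow_of tc481_0 (Rng.zero.step tc481_1) (Rng.zero.step tc481_2)
theorem tw482 : Tow.{u} l482 t482 := tow_of tc482_0 (Rng.zero.step tc482_1) (Rng.zero.step tc482_2)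
theorem tw475 : Tow.{u} l475 t475 := tow_of tc475_0 (Rng.zero.step tc475_1) (Rng.zero.step tc475_2)
theorem tw476 : Tow.{u} l476 t476 := tow_of tc476_0 (Rng.zero.step tc476_1) (Rng.zero.step tc476_2)
theorem tw477 : Tow.{u} l477 t477 := tow_of tc477_0 (Rng.zero.step tc477_1) (Rng.zero.step tc477_2)
theorem tw478 : Tow.{u} l478 t478 := tow_of tc478_0 (Rng.zero.step tc478_1) (Rng.zero.step tc478_2)
theorem tw479 : Tow.{u} l479 t479 := tow_of tc479_0 (Rng.zero.step tc479_1) (Rng.zero.step tc479_2)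
theorem tw480 : Tow.{u} l480 t480 := tow_of tc480_0 (Rng.zero.step tc480_1) (Rng.zero.step tc480_2)
theorem tw483 : Tow.{u} l483 t483 := tow_of tc483_0 (Rng.zero.step tc483_1) (Rng.zero.step tc483_2)
theorem tw484 : Tow.{u} l484 t484 := tow_of tc484_0 (Rng.zero.step tc484_1) (Rng.zero.step tc484_2)
theorem tw27 : Tow.{u} l27 t27 := tow_of tc27_0 (Rng.zero.step tc27_1) (Rng.zero.step tc27_2)
theorem tw28 : Tow.{u} l28 t28 := tow_of tc28_0 (Rng.zero.step tc28_1) (Rng.zero.step tc28_2)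
theorem tw29 : Tow.{u} l29 t29 := tow_of tc29_0 (Rng.zero.step tc29_1) (Rng.zero.step tc29_2)
theorem tw30 : Tow.{u} l30 t30 := tow_of tc30_0 (Rng.zero.step tc30_1) (Rng.zero.step tc30_2)
theorem tw31 : Tow.{u} l31 t31 := tow_of tc31_0 (Rng.zero.step tc31_1) (Rng.zero.step tc31_2)
theorem tw32 : Tow.{u} l32 t32 := tow_of tc32_0 (Rng.zero.step tc32_1) (Rng.zero.step tc32_2)
theorem tw0 : Tow.{u} [] t0 := tow_of tc0_0 (Rng.zero.step tc0_1) (Rng.zero.step tc0_2)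
theorem x373 : AuxS.{u} (cP4r 1 2) s373 0 a373 := aux_base3 tw80 rfl b373
theorem x373_1 : AuxS.{u} (cP4r 1 2) s373 0 a373_1 := (AuxS.up x373 c373_20 :)
theorem x373_2 : AuxS.{u} (cP4r 1 2) s373 0 a373_2 := (AuxS.up x373_1 c373_21 :)
theorem x373_3 : AuxS.{u} (cP4r 1 2) s373 0 a373_3 := (AuxS.up2 x373_2 c373_22 :)
theorem x373_L1_1 : AuxS.{u} (cP4r 1 2) s373 (1 + 2) a373_L1_1 := (AuxS.jn (x373_3.lam 1) c373_2 :)
theorem x373_L1_2 : AuxS.{u} (cP4r 1 2) s373 (1 + 2) a373_L1_2 := (AuxS.hp x373_L1_1 c373_3 :)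
theorem x373_L65_1 : AuxS.{u} (cP4r 1 2) s373 (65 + 2) a373_L65_1 := (AuxS.jn (x373_3.lam 65) c373_5 :)
theorem x373_L65_2 : AuxS.{u} (cP4r 1 2) s373 (65 + 2) a373_L65_2 := (AuxS.hp x373_L65_1 c373_6 :)
theorem x373_L65_3 : AuxS.{u} (cP4r 1 2) s373 (65 + 2) a373_L65_3 := (AuxS.ne x373_L65_2 c373_7 :)
theorem x373_L65_4 : AuxS.{u} (cP4r 1 2) s373 (65 + 2) a373_L65_4 := (AuxS.nf x373_L65_3 c373_8 :)
theorem x373_L65_5 : AuxS.{u} (cP4r 1 2) s373 (65 + 2) a373_L65_5 := (AuxS.hp x373_L65_4 c373_9 :)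
theorem x373_L1025_1 : AuxS.{u} (cP4r 1 2) s373 (1025 + 2) a373_L1025_1 := (AuxS.jn (x373_3.lam 1025) c373_11 :)
theorem x373_L1025_2 : AuxS.{u} (cP4r 1 2) s373 (1025 + 2) a373_L1025_2 := (AuxS.hp x373_L1025_1 c373_12 :)
theorem x373_L1089_1 : AuxS.{u} (cP4r 1 2) s373 (1089 + 2) a373_L1089_1 := (AuxS.jn (x373_3.lam 1089) c373_14 :)
theorem x373_L1089_2 : AuxS.{u} (cP4r 1 2) s373 (1089 + 2) a373_L1089_2 := (AuxS.ne x373_L1089_1 c373_15 :)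
theorem x373_L1089_3 : AuxS.{u} (cP4r 1 2) s373 (1089 + 2) a373_L1089_3 := (AuxS.nf x373_L1089_2 c373_16 :)
theorem x373_L1089_4 : AuxS.{u} (cP4r 1 2) s373 (1089 + 2) a373_L1089_4 := (AuxS.hp x373_L1089_3 c373_17 :)
theorem n373 : Sound.{u} (cP4r 1 2) s373 0 :=
  (x373_3.spl c373_0 (AllM.cons ((x373_3.lam 0).tp c373_1 :) (AllM.cons (x373_L1_2.tp c373_4 :) (AllM.cons (x373_L65_5.tp c373_10 :) (AllM.cons (x373_L1025_2.tp c373_13 :) (AllM.cons (x373_L1089_4.tp c373_18 :) AllM.nil))))) ((x373_3.weaken 1).ext2 (fun _ => rfl) GamS.nil AllS.nil c373_19 (Phs.fin (ct := ct373_19) rfl) (Phs.fin (ct := ct373_19) rfl)) :)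
theorem x374 : AuxS.{u} (cP4r 1 2) s374 0 a374 := aux_base3 tw81 rfl b374
theorem x374_1 : AuxS.{u} (cP4r 1 2) s374 0 a374_1 := (AuxS.up x374 c374_20 :)
theorem x374_2 : AuxS.{u} (cP4r 1 2) s374 0 a374_2 := (AuxS.up x374_1 c374_21 :)
theorem x374_L1_1 : AuxS.{u} (cP4r 1 2) s374 (1 + 2) a374_L1_1 := (AuxS.jn (x374_2.lam 1) c374_2 :)
theorem x374_L1_2 : AuxS.{u} (cP4r 1 2) s374 (1 + 2) a374_L1_2 := (AuxS.hp x374_L1_1 c374_3 :)
theorem x374_L65_1 : AuxS.{u} (cP4r 1 2) s374 (65 + 2) a374_L65_1 := (AuxS.jn (x374_2.lam 65) c374_5 :)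
theorem x374_L65_2 : AuxS.{u} (cP4r 1 2) s374 (65 + 2) a374_L65_2 := (AuxS.hp x374_L65_1 c374_6 :)
theorem x374_L65_3 : AuxS.{u} (cP4r 1 2) s374 (65 + 2) a374_L65_3 := (AuxS.ne x374_L65_2 c374_7 :)
theorem x374_L65_4 : AuxS.{u} (cP4r 1 2) s374 (65 + 2) a374_L65_4 := (AuxS.nf x374_L65_3 c374_8 :)
theorem x374_L65_5 : AuxS.{u} (cP4r 1 2) s374 (65 + 2) a374_L65_5 := (AuxS.hp x374_L65_4 c374_9 :)
theorem x374_L1025_1 : AuxS.{u} (cP4r 1 2) s374 (1025 + 2) a374_L1025_1 := (AuxS.jn (x374_2.lam 1025) c374_11 :)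
theorem x374_L1025_2 : AuxS.{u} (cP4r 1 2) s374 (1025 + 2) a374_L1025_2 := (AuxS.hp x374_L1025_1 c374_12 :)
theorem x374_L1089_1 : AuxS.{u} (cP4r 1 2) s374 (1089 + 2) a374_L1089_1 := (AuxS.jn (x374_2.lam 1089) c374_14 :)
theorem x374_L1089_2 : AuxS.{u} (cP4r 1 2) s374 (1089 + 2) a374_L1089_2 := (AuxS.ne x374_L1089_1 c374_15 :)
theorem x374_L1089_3 : AuxS.{u} (cP4r 1 2) s374 (1089 + 2) a374_L1089_3 := (AuxS.nf x374_L1089_2 c374_16 :)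
theorem x374_L1089_4 : AuxS.{u} (cP4r 1 2) s374 (1089 + 2) a374_L1089_4 := (AuxS.hp x374_L1089_3 c374_17 :)
theorem n374 : Sound.{u} (cP4r 1 2) s374 0 :=
  (x374_2.spl c374_0 (AllM.cons ((x374_2.lam 0).tp c374_1 :) (AllM.cons (x374_L1_2.tp c374_4 :) (AllM.cons (x374_L65_5.tp c374_10 :) (AllM.cons (x374_L1025_2.tp c374_13 :) (AllM.cons (x374_L1089_4.tp c374_18 :) AllM.nil))))) ((x374_2.weaken 1).ext2 (fun _ => rfl) GamS.nil AllS.nil c374_19 (Phs.fin (ct := ct374_19) rfl) (Phs.fin (ct := ct374_19) rfl)) :)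
theorem x375 : AuxS.{u} (cP4r 1 2) s375 0 a375 := aux_base3 tw82 rfl b375
theorem x375_1 : AuxS.{u} (cP4r 1 2) s375 0 a375_1 := (AuxS.up x375 c375_20 :)
theorem x375_2 : AuxS.{u} (cP4r 1 2) s375 0 a375_2 := (AuxS.up x375_1 c375_21 :)
theorem x375_L1_1 : AuxS.{u} (cP4r 1 2) s375 (1 + 2) a375_L1_1 := (AuxS.jn (x375_2.lam 1) c375_2 :)
theorem x375_L1_2 : AuxS.{u} (cP4r 1 2) s375 (1 + 2) a375_L1_2 := (AuxS.hp x375_L1_1 c375_3 :)
theorem x375_L65_1 : AuxS.{u} (cP4r 1 2) s375 (65 + 2) a375_L65_1 := (AuxS.jn (x375_2.lam 65) c375_5 :)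
theorem x375_L65_2 : AuxS.{u} (cP4r 1 2) s375 (65 + 2) a375_L65_2 := (AuxS.hp x375_L65_1 c375_6 :)
theorem x375_L65_3 : AuxS.{u} (cP4r 1 2) s375 (65 + 2) a375_L65_3 := (AuxS.ne x375_L65_2 c375_7 :)
theorem x375_L65_4 : AuxS.{u} (cP4r 1 2) s375 (65 + 2) a375_L65_4 := (AuxS.nf x375_L65_3 c375_8 :)
theorem x375_L65_5 : AuxS.{u} (cP4r 1 2) s375 (65 + 2) a375_L65_5 := (AuxS.hp x375_L65_4 c375_9 :)
theorem x375_L1025_1 : AuxS.{u} (cP4r 1 2) s375 (1025 + 2) a375_L1025_1 := (AuxS.jn (x375_2.lam 1025) c375_11 :)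
theorem x375_L1025_2 : AuxS.{u} (cP4r 1 2) s375 (1025 + 2) a375_L1025_2 := (AuxS.hp x375_L1025_1 c375_12 :)
theorem x375_L1089_1 : AuxS.{u} (cP4r 1 2) s375 (1089 + 2) a375_L1089_1 := (AuxS.jn (x375_2.lam 1089) c375_14 :)
theorem x375_L1089_2 : AuxS.{u} (cP4r 1 2) s375 (1089 + 2) a375_L1089_2 := (AuxS.ne x375_L1089_1 c375_15 :)
theorem x375_L1089_3 : AuxS.{u} (cP4r 1 2) s375 (1089 + 2) a375_L1089_3 := (AuxS.nf x375_L1089_2 c375_16 :)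
theorem x375_L1089_4 : AuxS.{u} (cP4r 1 2) s375 (1089 + 2) a375_L1089_4 := (AuxS.hp x375_L1089_3 c375_17 :)
theorem n375 : Sound.{u} (cP4r 1 2) s375 0 :=
  (x375_2.spl c375_0 (AllM.cons ((x375_2.lam 0).tp c375_1 :) (AllM.cons (x375_L1_2.tp c375_4 :) (AllM.cons (x375_L65_5.tp c375_10 :) (AllM.cons (x375_L1025_2.tp c375_13 :) (AllM.cons (x375_L1089_4.tp c375_18 :) AllM.nil))))) ((x375_2.weaken 1).ext2 (fun _ => rfl) GamS.nil AllS.nil c375_19 (Phs.fin (ct := ct375_19) rfl) (Phs.fin (ct := ct375_19) rfl)) :)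
theorem x376 : AuxS.{u} (cP4r 1 2) s376 0 a376 := aux_base3 tw83 rfl b376
theorem x376_1 : AuxS.{u} (cP4r 1 2) s376 0 a376_1 := (AuxS.up x376 c376_20 :)
theorem x376_2 : AuxS.{u} (cP4r 1 2) s376 0 a376_2 := (AuxS.up x376_1 c376_21 :)
theorem x376_3 : AuxS.{u} (cP4r 1 2) s376 0 a376_3 := (AuxS.up2 x376_2 c376_22 :)
theorem x376_L1_1 : AuxS.{u} (cP4r 1 2) s376 (1 + 2) a376_L1_1 := (AuxS.jn (x376_3.lam 1) c376_2 :)
theorem x376_L1_2 : AuxS.{u} (cP4r 1 2) s376 (1 + 2) a376_L1_2 := (AuxS.hp x376_L1_1 c376_3 :)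
theorem x376_L65_1 : AuxS.{u} (cP4r 1 2) s376 (65 + 2) a376_L65_1 := (AuxS.jn (x376_3.lam 65) c376_5 :)
theorem x376_L65_2 : AuxS.{u} (cP4r 1 2) s376 (65 + 2) a376_L65_2 := (AuxS.hp x376_L65_1 c376_6 :)
theorem x376_L65_3 : AuxS.{u} (cP4r 1 2) s376 (65 + 2) a376_L65_3 := (AuxS.ne x376_L65_2 c376_7 :)
theorem x376_L65_4 : AuxS.{u} (cP4r 1 2) s376 (65 + 2) a376_L65_4 := (AuxS.nf x376_L65_3 c376_8 :)
theorem x376_L65_5 : AuxS.{u} (cP4r 1 2) s376 (65 + 2) a376_L65_5 := (AuxS.hp x376_L65_4 c376_9 :)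
theorem x376_L1025_1 : AuxS.{u} (cP4r 1 2) s376 (1025 + 2) a376_L1025_1 := (AuxS.jn (x376_3.lam 1025) c376_11 :)
theorem x376_L1025_2 : AuxS.{u} (cP4r 1 2) s376 (1025 + 2) a376_L1025_2 := (AuxS.hp x376_L1025_1 c376_12 :)
theorem x376_L1089_1 : AuxS.{u} (cP4r 1 2) s376 (1089 + 2) a376_L1089_1 := (AuxS.jn (x376_3.lam 1089) c376_14 :)
theorem x376_L1089_2 : AuxS.{u} (cP4r 1 2) s376 (1089 + 2) a376_L1089_2 := (AuxS.ne x376_L1089_1 c376_15 :)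
theorem x376_L1089_3 : AuxS.{u} (cP4r 1 2) s376 (1089 + 2) a376_L1089_3 := (AuxS.nf x376_L1089_2 c376_16 :)
theorem x376_L1089_4 : AuxS.{u} (cP4r 1 2) s376 (1089 + 2) a376_L1089_4 := (AuxS.hp x376_L1089_3 c376_17 :)
theorem n376 : Sound.{u} (cP4r 1 2) s376 0 :=
  (x376_3.spl c376_0 (AllM.cons ((x376_3.lam 0).tp c376_1 :) (AllM.cons (x376_L1_2.tp c376_4 :) (AllM.cons (x376_L65_5.tp c376_10 :) (AllM.cons (x376_L1025_2.tp c376_13 :) (AllM.cons (x376_L1089_4.tp c376_18 :) AllM.nil))))) ((x376_3.weaken 1).ext2 (fun _ => rfl) GamS.nil AllS.nil c376_19 (Phs.fin (ct := ct376_19) rfl) (Phs.fin (ct := ct376_19) rfl)) :)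
theorem x377 : AuxS.{u} (cP4r 1 2) s377 0 a377 := aux_base3 tw84 rfl b377
theorem x377_1 : AuxS.{u} (cP4r 1 2) s377 0 a377_1 := (AuxS.up x377 c377_22 :)
theorem x377_2 : AuxS.{u} (cP4r 1 2) s377 0 a377_2 := (AuxS.up x377_1 c377_23 :)
theorem x377_3 : AuxS.{u} (cP4r 1 2) s377 0 a377_3 := (AuxS.up2 x377_2 c377_24 :)
theorem x377_L1_1 : AuxS.{u} (cP4r 1 2) s377 (1 + 2) a377_L1_1 := (AuxS.jn (x377_3.lam 1) c377_2 :)
theorem x377_L1_2 : AuxS.{u} (cP4r 1 2) s377 (1 + 2) a377_L1_2 := (AuxS.hp x377_L1_1 c377_3 :)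
theorem x377_L1_3 : AuxS.{u} (cP4r 1 2) s377 (1 + 2) a377_L1_3 := (AuxS.nf x377_L1_2 c377_4 :)
theorem x377_L65_1 : AuxS.{u} (cP4r 1 2) s377 (65 + 2) a377_L65_1 := (AuxS.jn (x377_3.lam 65) c377_6 :)
theorem x377_L65_2 : AuxS.{u} (cP4r 1 2) s377 (65 + 2) a377_L65_2 := (AuxS.hp x377_L65_1 c377_7 :)
theorem x377_L65_3 : AuxS.{u} (cP4r 1 2) s377 (65 + 2) a377_L65_3 := (AuxS.ne x377_L65_2 c377_8 :)
theorem x377_L65_4 : AuxS.{u} (cP4r 1 2) s377 (65 + 2) a377_L65_4 := (AuxS.nf x377_L65_3 c377_9 :)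
theorem x377_L65_5 : AuxS.{u} (cP4r 1 2) s377 (65 + 2) a377_L65_5 := (AuxS.hp x377_L65_4 c377_10 :)
theorem x377_L1025_1 : AuxS.{u} (cP4r 1 2) s377 (1025 + 2) a377_L1025_1 := (AuxS.jn (x377_3.lam 1025) c377_12 :)
theorem x377_L1025_2 : AuxS.{u} (cP4r 1 2) s377 (1025 + 2) a377_L1025_2 := (AuxS.hp x377_L1025_1 c377_13 :)
theorem x377_L1025_3 : AuxS.{u} (cP4r 1 2) s377 (1025 + 2) a377_L1025_3 := (AuxS.nf x377_L1025_2 c377_14 :)
theorem x377_L1089_1 : AuxS.{u} (cP4r 1 2) s377 (1089 + 2) a377_L1089_1 := (AuxS.jn (x377_3.lam 1089) c377_16 :)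
theorem x377_L1089_2 : AuxS.{u} (cP4r 1 2) s377 (1089 + 2) a377_L1089_2 := (AuxS.ne x377_L1089_1 c377_17 :)
theorem x377_L1089_3 : AuxS.{u} (cP4r 1 2) s377 (1089 + 2) a377_L1089_3 := (AuxS.nf x377_L1089_2 c377_18 :)
theorem x377_L1089_4 : AuxS.{u} (cP4r 1 2) s377 (1089 + 2) a377_L1089_4 := (AuxS.hp x377_L1089_3 c377_19 :)
theorem n377 : Sound.{u} (cP4r 1 2) s377 0 :=
  (x377_3.spl c377_0 (AllM.cons ((x377_3.lam 0).tp c377_1 :) (AllM.cons (x377_L1_3.k5 c377_5 :) (AllM.cons (x377_L65_5.tp c377_11 :) (AllM.cons (x377_L1025_3.k5 c377_15 :) (AllM.cons (x377_L1089_4.tp c377_20 :) AllM.nil))))) ((x377_3.weaken 1).ext2 (fun _ => rfl) GamS.nil AllS.nil c377_21 (Phs.fin (ct := ct377_21) rfl) (Phs.fin (ct := ct377_21) rfl)) :)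
theorem x378 : AuxS.{u} (cP4r 1 2) s378 0 a378 := aux_base3 tw85 rfl b378
theorem x378_1 : AuxS.{u} (cP4r 1 2) s378 0 a378_1 := (AuxS.up x378 c378_22 :)
theorem x378_2 : AuxS.{u} (cP4r 1 2) s378 0 a378_2 := (AuxS.up x378_1 c378_23 :)
theorem x378_3 : AuxS.{u} (cP4r 1 2) s378 0 a378_3 := (AuxS.up2 x378_2 c378_24 :)
theorem x378_L1_1 : AuxS.{u} (cP4r 1 2) s378 (1 + 2) a378_L1_1 := (AuxS.jn (x378_3.lam 1) c378_2 :)
theorem x378_L1_2 : AuxS.{u} (cP4r 1 2) s378 (1 + 2) a378_L1_2 := (AuxS.hp x378_L1_1 c378_3 :)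
theorem x378_L1_3 : AuxS.{u} (cP4r 1 2) s378 (1 + 2) a378_L1_3 := (AuxS.nf x378_L1_2 c378_4 :)
theorem x378_L65_1 : AuxS.{u} (cP4r 1 2) s378 (65 + 2) a378_L65_1 := (AuxS.jn (x378_3.lam 65) c378_6 :)
theorem x378_L65_2 : AuxS.{u} (cP4r 1 2) s378 (65 + 2) a378_L65_2 := (AuxS.hp x378_L65_1 c378_7 :)
theorem x378_L65_3 : AuxS.{u} (cP4r 1 2) s378 (65 + 2) a378_L65_3 := (AuxS.ne x378_L65_2 c378_8 :)
theorem x378_L65_4 : AuxS.{u} (cP4r 1 2) s378 (65 + 2) a378_L65_4 := (AuxS.nf x378_L65_3 c378_9 :)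
theorem x378_L65_5 : AuxS.{u} (cP4r 1 2) s378 (65 + 2) a378_L65_5 := (AuxS.hp x378_L65_4 c378_10 :)
theorem x378_L1025_1 : AuxS.{u} (cP4r 1 2) s378 (1025 + 2) a378_L1025_1 := (AuxS.jn (x378_3.lam 1025) c378_12 :)
theorem x378_L1025_2 : AuxS.{u} (cP4r 1 2) s378 (1025 + 2) a378_L1025_2 := (AuxS.hp x378_L1025_1 c378_13 :)
theorem x378_L1025_3 : AuxS.{u} (cP4r 1 2) s378 (1025 + 2) a378_L1025_3 := (AuxS.nf x378_L1025_2 c378_14 :)
theorem x378_L1089_1 : AuxS.{u} (cP4r 1 2) s378 (1089 + 2) a378_L1089_1 := (AuxS.jn (x378_3.lam 1089) c378_16 :)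
theorem x378_L1089_2 : AuxS.{u} (cP4r 1 2) s378 (1089 + 2) a378_L1089_2 := (AuxS.ne x378_L1089_1 c378_17 :)
theorem x378_L1089_3 : AuxS.{u} (cP4r 1 2) s378 (1089 + 2) a378_L1089_3 := (AuxS.nf x378_L1089_2 c378_18 :)
theorem x378_L1089_4 : AuxS.{u} (cP4r 1 2) s378 (1089 + 2) a378_L1089_4 := (AuxS.hp x378_L1089_3 c378_19 :)
theorem n378 : Sound.{u} (cP4r 1 2) s378 0 :=
  (x378_3.spl c378_0 (AllM.cons ((x378_3.lam 0).tp c378_1 :) (AllM.cons (x378_L1_3.k5 c378_5 :) (AllM.cons (x378_L65_5.tp c378_11 :) (AllM.cons (x378_L1025_3.k5 c378_15 :) (AllM.cons (x378_L1089_4.tp c378_20 :) AllM.nil))))) ((x378_3.weaken 1).ext2 (fun _ => rfl) GamS.nil AllS.nil c378_21 (Phs.fin (ct := ct378_21) rfl) (Phs.fin (ct := ct378_21) rfl)) :)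
theorem x379 : AuxS.{u} (cP4r 1 2) s379 0 a379 := aux_base3 tw86 rfl b379
theorem x379_1 : AuxS.{u} (cP4r 1 2) s379 0 a379_1 := (AuxS.up x379 c379_22 :)
theorem x379_2 : AuxS.{u} (cP4r 1 2) s379 0 a379_2 := (AuxS.up x379_1 c379_23 :)
theorem x379_3 : AuxS.{u} (cP4r 1 2) s379 0 a379_3 := (AuxS.up2 x379_2 c379_24 :)
theorem x379_L1_1 : AuxS.{u} (cP4r 1 2) s379 (1 + 2) a379_L1_1 := (AuxS.jn (x379_3.lam 1) c379_2 :)
theorem x379_L1_2 : AuxS.{u} (cP4r 1 2) s379 (1 + 2) a379_L1_2 := (AuxS.hp x379_L1_1 c379_3 :)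
theorem x379_L1_3 : AuxS.{u} (cP4r 1 2) s379 (1 + 2) a379_L1_3 := (AuxS.nf x379_L1_2 c379_4 :)
theorem x379_L65_1 : AuxS.{u} (cP4r 1 2) s379 (65 + 2) a379_L65_1 := (AuxS.jn (x379_3.lam 65) c379_6 :)
theorem x379_L65_2 : AuxS.{u} (cP4r 1 2) s379 (65 + 2) a379_L65_2 := (AuxS.hp x379_L65_1 c379_7 :)
theorem x379_L65_3 : AuxS.{u} (cP4r 1 2) s379 (65 + 2) a379_L65_3 := (AuxS.ne x379_L65_2 c379_8 :)
theorem x379_L65_4 : AuxS.{u} (cP4r 1 2) s379 (65 + 2) a379_L65_4 := (AuxS.nf x379_L65_3 c379_9 :)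
theorem x379_L65_5 : AuxS.{u} (cP4r 1 2) s379 (65 + 2) a379_L65_5 := (AuxS.hp x379_L65_4 c379_10 :)
theorem x379_L1025_1 : AuxS.{u} (cP4r 1 2) s379 (1025 + 2) a379_L1025_1 := (AuxS.jn (x379_3.lam 1025) c379_12 :)
theorem x379_L1025_2 : AuxS.{u} (cP4r 1 2) s379 (1025 + 2) a379_L1025_2 := (AuxS.hp x379_L1025_1 c379_13 :)
theorem x379_L1025_3 : AuxS.{u} (cP4r 1 2) s379 (1025 + 2) a379_L1025_3 := (AuxS.nf x379_L1025_2 c379_14 :)
theorem x379_L1089_1 : AuxS.{u} (cP4r 1 2) s379 (1089 + 2) a379_L1089_1 := (AuxS.jn (x379_3.lam 1089) c379_16 :)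
theorem x379_L1089_2 : AuxS.{u} (cP4r 1 2) s379 (1089 + 2) a379_L1089_2 := (AuxS.ne x379_L1089_1 c379_17 :)
theorem x379_L1089_3 : AuxS.{u} (cP4r 1 2) s379 (1089 + 2) a379_L1089_3 := (AuxS.nf x379_L1089_2 c379_18 :)
theorem x379_L1089_4 : AuxS.{u} (cP4r 1 2) s379 (1089 + 2) a379_L1089_4 := (AuxS.hp x379_L1089_3 c379_19 :)
theorem n379 : Sound.{u} (cP4r 1 2) s379 0 :=
  (x379_3.spl c379_0 (AllM.cons ((x379_3.lam 0).tp c379_1 :) (AllM.cons (x379_L1_3.k5 c379_5 :) (AllM.cons (x379_L65_5.tp c379_11 :) (AllM.cons (x379_L1025_3.k5 c379_15 :) (AllM.cons (x379_L1089_4.tp c379_20 :) AllM.nil))))) ((x379_3.weaken 1).ext2 (fun _ => rfl) GamS.nil AllS.nil c379_21 (Phs.fin (ct := ct379_21) rfl) (Phs.fin (ct := ct379_21) rfl)) :)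
theorem x380 : AuxS.{u} (cP4r 1 2) s380 0 a380 := aux_base3 tw87 rfl b380
theorem x380_1 : AuxS.{u} (cP4r 1 2) s380 0 a380_1 := (AuxS.up x380 c380_22 :)
theorem x380_2 : AuxS.{u} (cP4r 1 2) s380 0 a380_2 := (AuxS.up x380_1 c380_23 :)
theorem x380_3 : AuxS.{u} (cP4r 1 2) s380 0 a380_3 := (AuxS.up2 x380_2 c380_24 :)
theorem x380_L1_1 : AuxS.{u} (cP4r 1 2) s380 (1 + 2) a380_L1_1 := (AuxS.jn (x380_3.lam 1) c380_2 :)
theorem x380_L1_2 : AuxS.{u} (cP4r 1 2) s380 (1 + 2) a380_L1_2 := (AuxS.hp x380_L1_1 c380_3 :)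
theorem x380_L1_3 : AuxS.{u} (cP4r 1 2) s380 (1 + 2) a380_L1_3 := (AuxS.nf x380_L1_2 c380_4 :)
theorem x380_L65_1 : AuxS.{u} (cP4r 1 2) s380 (65 + 2) a380_L65_1 := (AuxS.jn (x380_3.lam 65) c380_6 :)
theorem x380_L65_2 : AuxS.{u} (cP4r 1 2) s380 (65 + 2) a380_L65_2 := (AuxS.hp x380_L65_1 c380_7 :)
theorem x380_L65_3 : AuxS.{u} (cP4r 1 2) s380 (65 + 2) a380_L65_3 := (AuxS.ne x380_L65_2 c380_8 :)
theorem x380_L65_4 : AuxS.{u} (cP4r 1 2) s380 (65 + 2) a380_L65_4 := (AuxS.nf x380_L65_3 c380_9 :)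
theorem x380_L65_5 : AuxS.{u} (cP4r 1 2) s380 (65 + 2) a380_L65_5 := (AuxS.hp x380_L65_4 c380_10 :)
theorem x380_L1025_1 : AuxS.{u} (cP4r 1 2) s380 (1025 + 2) a380_L1025_1 := (AuxS.jn (x380_3.lam 1025) c380_12 :)
theorem x380_L1025_2 : AuxS.{u} (cP4r 1 2) s380 (1025 + 2) a380_L1025_2 := (AuxS.hp x380_L1025_1 c380_13 :)
theorem x380_L1025_3 : AuxS.{u} (cP4r 1 2) s380 (1025 + 2) a380_L1025_3 := (AuxS.nf x380_L1025_2 c380_14 :)
theorem x380_L1089_1 : AuxS.{u} (cP4r 1 2) s380 (1089 + 2) a380_L1089_1 := (AuxS.jn (x380_3.lam 1089) c380_16 :)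
theorem x380_L1089_2 : AuxS.{u} (cP4r 1 2) s380 (1089 + 2) a380_L1089_2 := (AuxS.ne x380_L1089_1 c380_17 :)
theorem x380_L1089_3 : AuxS.{u} (cP4r 1 2) s380 (1089 + 2) a380_L1089_3 := (AuxS.nf x380_L1089_2 c380_18 :)
theorem x380_L1089_4 : AuxS.{u} (cP4r 1 2) s380 (1089 + 2) a380_L1089_4 := (AuxS.hp x380_L1089_3 c380_19 :)
theorem n380 : Sound.{u} (cP4r 1 2) s380 0 :=
  (x380_3.spl c380_0 (AllM.cons ((x380_3.lam 0).tp c380_1 :) (AllM.cons (x380_L1_3.k5 c380_5 :) (AllM.cons (x380_L65_5.tp c380_11 :) (AllM.cons (x380_L1025_3.k5 c380_15 :) (AllM.cons (x380_L1089_4.tp c380_20 :) AllM.nil))))) ((x380_3.weaken 1).ext2 (fun _ => rfl) GamS.nil AllS.nil c380_21 (Phs.fin (ct := ct380_21) rfl) (Phs.fin (ct := ct380_21) rfl)) :)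
theorem x381 : AuxS.{u} (cP4r 1 2) s381 0 a381 := aux_base3 tw88 rfl b381
theorem x381_1 : AuxS.{u} (cP4r 1 2) s381 0 a381_1 := (AuxS.up x381 c381_9 :)
theorem x381_2 : AuxS.{u} (cP4r 1 2) s381 0 a381_2 := (AuxS.up x381_1 c381_10 :)
theorem x381_3 : AuxS.{u} (cP4r 1 2) s381 0 a381_3 := (AuxS.up2 x381_2 c381_11 :)
theorem x381_L1_1 : AuxS.{u} (cP4r 1 2) s381 (1 + 2) a381_L1_1 := (AuxS.jn (x381_3.lam 1) c381_2 :)
theorem x381_L1_2 : AuxS.{u} (cP4r 1 2) s381 (1 + 2) a381_L1_2 := (AuxS.nf x381_L1_1 c381_3 :)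
theorem x381_L1025_1 : AuxS.{u} (cP4r 1 2) s381 (1025 + 2) a381_L1025_1 := (AuxS.jn (x381_3.lam 1025) c381_5 :)
theorem x381_L1025_2 : AuxS.{u} (cP4r 1 2) s381 (1025 + 2) a381_L1025_2 := (AuxS.nf x381_L1025_1 c381_6 :)
theorem n381 : Sound.{u} (cP4r 1 2) s381 0 :=
  (x381_3.spl c381_0 (AllM.cons ((x381_3.lam 0).tp c381_1 :) (AllM.cons (x381_L1_2.k5 c381_4 :) (AllM.cons (x381_L1025_2.k5 c381_7 :) AllM.nil))) ((x381_3.weaken 1).ext2 (fun _ => rfl) GamS.nil AllS.nil c381_8 (Phs.fin (ct := ct381_8) rfl) (Phs.fin (ct := ct381_8) rfl)) :)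
theorem x382 : AuxS.{u} (cP4r 1 2) s382 0 a382 := aux_base3 tw89 rfl b382
theorem x382_1 : AuxS.{u} (cP4r 1 2) s382 0 a382_1 := (AuxS.up x382 c382_9 :)
theorem x382_2 : AuxS.{u} (cP4r 1 2) s382 0 a382_2 := (AuxS.up x382_1 c382_10 :)
theorem x382_3 : AuxS.{u} (cP4r 1 2) s382 0 a382_3 := (AuxS.up2 x382_2 c382_11 :)
theorem x382_L1_1 : AuxS.{u} (cP4r 1 2) s382 (1 + 2) a382_L1_1 := (AuxS.jn (x382_3.lam 1) c382_2 :)
theorem x382_L1_2 : AuxS.{u} (cP4r 1 2) s382 (1 + 2) a382_L1_2 := (AuxS.nf x382_L1_1 c382_3 :)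
theorem x382_L1025_1 : AuxS.{u} (cP4r 1 2) s382 (1025 + 2) a382_L1025_1 := (AuxS.jn (x382_3.lam 1025) c382_5 :)
theorem x382_L1025_2 : AuxS.{u} (cP4r 1 2) s382 (1025 + 2) a382_L1025_2 := (AuxS.nf x382_L1025_1 c382_6 :)
theorem n382 : Sound.{u} (cP4r 1 2) s382 0 :=
  (x382_3.spl c382_0 (AllM.cons ((x382_3.lam 0).tp c382_1 :) (AllM.cons (x382_L1_2.k5 c382_4 :) (AllM.cons (x382_L1025_2.k5 c382_7 :) AllM.nil))) ((x382_3.weaken 1).ext2 (fun _ => rfl) GamS.nil AllS.nil c382_8 (Phs.fin (ct := ct382_8) rfl) (Phs.fin (ct := ct382_8) rfl)) :)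
theorem x383 : AuxS.{u} (cP4r 1 2) s383 0 a383 := aux_base3 tw90 rfl b383
theorem x383_1 : AuxS.{u} (cP4r 1 2) s383 0 a383_1 := (AuxS.up x383 c383_9 :)
theorem x383_2 : AuxS.{u} (cP4r 1 2) s383 0 a383_2 := (AuxS.up x383_1 c383_10 :)
theorem x383_3 : AuxS.{u} (cP4r 1 2) s383 0 a383_3 := (AuxS.up2 x383_2 c383_11 :)
theorem x383_L1_1 : AuxS.{u} (cP4r 1 2) s383 (1 + 2) a383_L1_1 := (AuxS.jn (x383_3.lam 1) c383_2 :)
theorem x383_L1_2 : AuxS.{u} (cP4r 1 2) s383 (1 + 2) a383_L1_2 := (AuxS.nf x383_L1_1 c383_3 :)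
theorem x383_L1025_1 : AuxS.{u} (cP4r 1 2) s383 (1025 + 2) a383_L1025_1 := (AuxS.jn (x383_3.lam 1025) c383_5 :)
theorem x383_L1025_2 : AuxS.{u} (cP4r 1 2) s383 (1025 + 2) a383_L1025_2 := (AuxS.nf x383_L1025_1 c383_6 :)
theorem n383 : Sound.{u} (cP4r 1 2) s383 0 :=
  (x383_3.spl c383_0 (AllM.cons ((x383_3.lam 0).tp c383_1 :) (AllM.cons (x383_L1_2.k5 c383_4 :) (AllM.cons (x383_L1025_2.k5 c383_7 :) AllM.nil))) ((x383_3.weaken 1).ext2 (fun _ => rfl) GamS.nil AllS.nil c383_8 (Phs.fin (ct := ct383_8) rfl) (Phs.fin (ct := ct383_8) rfl)) :)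
theorem x384 : AuxS.{u} (cP4r 1 2) s384 0 a384 := aux_base3 tw91 rfl b384
theorem x384_1 : AuxS.{u} (cP4r 1 2) s384 0 a384_1 := (AuxS.up x384 c384_9 :)
theorem x384_2 : AuxS.{u} (cP4r 1 2) s384 0 a384_2 := (AuxS.up x384_1 c384_10 :)
theorem x384_3 : AuxS.{u} (cP4r 1 2) s384 0 a384_3 := (AuxS.up2 x384_2 c384_11 :)
theorem x384_L1_1 : AuxS.{u} (cP4r 1 2) s384 (1 + 2) a384_L1_1 := (AuxS.jn (x384_3.lam 1) c384_2 :)
theorem x384_L1_2 : AuxS.{u} (cP4r 1 2) s384 (1 + 2) a384_L1_2 := (AuxS.nf x384_L1_1 c384_3 :)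
theorem x384_L1025_1 : AuxS.{u} (cP4r 1 2) s384 (1025 + 2) a384_L1025_1 := (AuxS.jn (x384_3.lam 1025) c384_5 :)
theorem x384_L1025_2 : AuxS.{u} (cP4r 1 2) s384 (1025 + 2) a384_L1025_2 := (AuxS.nf x384_L1025_1 c384_6 :)
theorem n384 : Sound.{u} (cP4r 1 2) s384 0 :=
  (x384_3.spl c384_0 (AllM.cons ((x384_3.lam 0).tp c384_1 :) (AllM.cons (x384_L1_2.k5 c384_4 :) (AllM.cons (x384_L1025_2.k5 c384_7 :) AllM.nil))) ((x384_3.weaken 1).ext2 (fun _ => rfl) GamS.nil AllS.nil c384_8 (Phs.fin (ct := ct384_8) rfl) (Phs.fin (ct := ct384_8) rfl)) :)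
theorem x385 : AuxS.{u} (cP4r 1 2) s385 0 a385 := aux_base3 tw92 rfl b385
theorem x385_1 : AuxS.{u} (cP4r 1 2) s385 0 a385_1 := (AuxS.up x385 c385_8 :)
theorem x385_2 : AuxS.{u} (cP4r 1 2) s385 0 a385_2 := (AuxS.up x385_1 c385_9 :)
theorem x385_L1_1 : AuxS.{u} (cP4r 1 2) s385 (1 + 2) a385_L1_1 := (AuxS.hp (x385_2.lam 1) c385_2 :)
theorem x385_L1025_1 : AuxS.{u} (cP4r 1 2) s385 (1025 + 2) a385_L1025_1 := (AuxS.jn (x385_2.lam 1025) c385_4 :)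
theorem x385_L1025_2 : AuxS.{u} (cP4r 1 2) s385 (1025 + 2) a385_L1025_2 := (AuxS.nf x385_L1025_1 c385_5 :)
theorem n385 : Sound.{u} (cP4r 1 2) s385 0 :=
  (x385_2.spl c385_0 (AllM.cons ((x385_2.lam 0).tp c385_1 :) (AllM.cons (x385_L1_1.tp c385_3 :) (AllM.cons (x385_L1025_2.k5 c385_6 :) AllM.nil))) ((x385_2.weaken 1).ext2 (fun _ => rfl) GamS.nil AllS.nil c385_7 (Phs.fin (ct := ct385_7) rfl) (Phs.fin (ct := ct385_7) rfl)) :)
theorem x386 : AuxS.{u} (cP4r 1 2) s386 0 a386 := aux_base3 tw93 rfl b386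
theorem x386_1 : AuxS.{u} (cP4r 1 2) s386 0 a386_1 := (AuxS.up x386 c386_8 :)
theorem x386_2 : AuxS.{u} (cP4r 1 2) s386 0 a386_2 := (AuxS.up x386_1 c386_9 :)
theorem x386_L1_1 : AuxS.{u} (cP4r 1 2) s386 (1 + 2) a386_L1_1 := (AuxS.hp (x386_2.lam 1) c386_2 :)
theorem x386_L1025_1 : AuxS.{u} (cP4r 1 2) s386 (1025 + 2) a386_L1025_1 := (AuxS.jn (x386_2.lam 1025) c386_4 :)
theorem x386_L1025_2 : AuxS.{u} (cP4r 1 2) s386 (1025 + 2) a386_L1025_2 := (AuxS.nf x386_L1025_1 c386_5 :)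
theorem n386 : Sound.{u} (cP4r 1 2) s386 0 :=
  (x386_2.spl c386_0 (AllM.cons ((x386_2.lam 0).tp c386_1 :) (AllM.cons (x386_L1_1.tp c386_3 :) (AllM.cons (x386_L1025_2.k5 c386_6 :) AllM.nil))) ((x386_2.weaken 1).ext2 (fun _ => rfl) GamS.nil AllS.nil c386_7 (Phs.fin (ct := ct386_7) rfl) (Phs.fin (ct := ct386_7) rfl)) :)
theorem x387 : AuxS.{u} (cP4r 1 2) s387 0 a387 := aux_base3 tw94 rfl b387
theorem x387_1 : AuxS.{u} (cP4r 1 2) s387 0 a387_1 := (AuxS.up x387 c387_8 :)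
theorem x387_2 : AuxS.{u} (cP4r 1 2) s387 0 a387_2 := (AuxS.up x387_1 c387_9 :)
theorem x387_L1_1 : AuxS.{u} (cP4r 1 2) s387 (1 + 2) a387_L1_1 := (AuxS.hp (x387_2.lam 1) c387_2 :)
theorem x387_L1025_1 : AuxS.{u} (cP4r 1 2) s387 (1025 + 2) a387_L1025_1 := (AuxS.jn (x387_2.lam 1025) c387_4 :)
theorem x387_L1025_2 : AuxS.{u} (cP4r 1 2) s387 (1025 + 2) a387_L1025_2 := (AuxS.nf x387_L1025_1 c387_5 :)
theorem n387 : Sound.{u} (cP4r 1 2) s387 0 :=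
  (x387_2.spl c387_0 (AllM.cons ((x387_2.lam 0).tp c387_1 :) (AllM.cons (x387_L1_1.tp c387_3 :) (AllM.cons (x387_L1025_2.k5 c387_6 :) AllM.nil))) ((x387_2.weaken 1).ext2 (fun _ => rfl) GamS.nil AllS.nil c387_7 (Phs.fin (ct := ct387_7) rfl) (Phs.fin (ct := ct387_7) rfl)) :)
theorem x388 : AuxS.{u} (cP4r 1 2) s388 0 a388 := aux_base3 tw95 rfl b388
theorem x388_1 : AuxS.{u} (cP4r 1 2) s388 0 a388_1 := (AuxS.up x388 c388_8 :)
theorem x388_2 : AuxS.{u} (cP4r 1 2) s388 0 a388_2 := (AuxS.up x388_1 c388_9 :)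
theorem x388_L1_1 : AuxS.{u} (cP4r 1 2) s388 (1 + 2) a388_L1_1 := (AuxS.hp (x388_2.lam 1) c388_2 :)
theorem x388_L1025_1 : AuxS.{u} (cP4r 1 2) s388 (1025 + 2) a388_L1025_1 := (AuxS.jn (x388_2.lam 1025) c388_4 :)
theorem x388_L1025_2 : AuxS.{u} (cP4r 1 2) s388 (1025 + 2) a388_L1025_2 := (AuxS.nf x388_L1025_1 c388_5 :)
theorem n388 : Sound.{u} (cP4r 1 2) s388 0 :=
  (x388_2.spl c388_0 (AllM.cons ((x388_2.lam 0).tp c388_1 :) (AllM.cons (x388_L1_1.tp c388_3 :) (AllM.cons (x388_L1025_2.k5 c388_6 :) AllM.nil))) ((x388_2.weaken 1).ext2 (fun _ => rfl) GamS.nil AllS.nil c388_7 (Phs.fin (ct := ct388_7) rfl) (Phs.fin (ct := ct388_7) rfl)) :)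
theorem x389 : AuxS.{u} (cP4r 1 2) s389 0 a389 := aux_base3 tw96 rfl b389
theorem x389_1 : AuxS.{u} (cP4r 1 2) s389 0 a389_1 := (AuxS.up x389 c389_9 :)
theorem x389_2 : AuxS.{u} (cP4r 1 2) s389 0 a389_2 := (AuxS.up x389_1 c389_10 :)
theorem x389_3 : AuxS.{u} (cP4r 1 2) s389 0 a389_3 := (AuxS.up2 x389_2 c389_11 :)
theorem x389_L1_1 : AuxS.{u} (cP4r 1 2) s389 (1 + 2) a389_L1_1 := (AuxS.jn (x389_3.lam 1) c389_2 :)
theorem x389_L1_2 : AuxS.{u} (cP4r 1 2) s389 (1 + 2) a389_L1_2 := (AuxS.nf x389_L1_1 c389_3 :)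
theorem x389_L1025_1 : AuxS.{u} (cP4r 1 2) s389 (1025 + 2) a389_L1025_1 := (AuxS.jn (x389_3.lam 1025) c389_5 :)
theorem x389_L1025_2 : AuxS.{u} (cP4r 1 2) s389 (1025 + 2) a389_L1025_2 := (AuxS.nf x389_L1025_1 c389_6 :)
theorem n389 : Sound.{u} (cP4r 1 2) s389 0 :=
  (x389_3.spl c389_0 (AllM.cons ((x389_3.lam 0).tp c389_1 :) (AllM.cons (x389_L1_2.k5 c389_4 :) (AllM.cons (x389_L1025_2.k5 c389_7 :) AllM.nil))) ((x389_3.weaken 1).ext2 (fun _ => rfl) GamS.nil AllS.nil c389_8 (Phs.fin (ct := ct389_8) rfl) (Phs.fin (ct := ct389_8) rfl)) :)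
theorem x390 : AuxS.{u} (cP4r 1 2) s390 0 a390 := aux_base3 tw97 rfl b390
theorem x390_1 : AuxS.{u} (cP4r 1 2) s390 0 a390_1 := (AuxS.up x390 c390_9 :)
theorem x390_2 : AuxS.{u} (cP4r 1 2) s390 0 a390_2 := (AuxS.up x390_1 c390_10 :)
theorem x390_L1_1 : AuxS.{u} (cP4r 1 2) s390 (1 + 2) a390_L1_1 := (AuxS.jn (x390_2.lam 1) c390_2 :)
theorem x390_L1_2 : AuxS.{u} (cP4r 1 2) s390 (1 + 2) a390_L1_2 := (AuxS.nf x390_L1_1 c390_3 :)
theorem x390_L1025_1 : AuxS.{u} (cP4r 1 2) s390 (1025 + 2) a390_L1025_1 := (AuxS.jn (x390_2.lam 1025) c390_5 :)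
theorem x390_L1025_2 : AuxS.{u} (cP4r 1 2) s390 (1025 + 2) a390_L1025_2 := (AuxS.nf x390_L1025_1 c390_6 :)
theorem n390 : Sound.{u} (cP4r 1 2) s390 0 :=
  (x390_2.spl c390_0 (AllM.cons ((x390_2.lam 0).tp c390_1 :) (AllM.cons (x390_L1_2.k5 c390_4 :) (AllM.cons (x390_L1025_2.k5 c390_7 :) AllM.nil))) ((x390_2.weaken 1).ext2 (fun _ => rfl) GamS.nil AllS.nil c390_8 (Phs.fin (ct := ct390_8) rfl) (Phs.fin (ct := ct390_8) rfl)) :)
theorem x391 : AuxS.{u} (cP4r 1 2) s391 0 a391 := aux_base3 tw98 rfl b391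
theorem x391_1 : AuxS.{u} (cP4r 1 2) s391 0 a391_1 := (AuxS.up x391 c391_9 :)
theorem x391_2 : AuxS.{u} (cP4r 1 2) s391 0 a391_2 := (AuxS.up x391_1 c391_10 :)
theorem x391_3 : AuxS.{u} (cP4r 1 2) s391 0 a391_3 := (AuxS.up2 x391_2 c391_11 :)
theorem x391_L1_1 : AuxS.{u} (cP4r 1 2) s391 (1 + 2) a391_L1_1 := (AuxS.jn (x391_3.lam 1) c391_2 :)
theorem x391_L1_2 : AuxS.{u} (cP4r 1 2) s391 (1 + 2) a391_L1_2 := (AuxS.nf x391_L1_1 c391_3 :)
theorem x391_L1025_1 : AuxS.{u} (cP4r 1 2) s391 (1025 + 2) a391_L1025_1 := (AuxS.jn (x391_3.lam 1025) c391_5 :)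
theorem x391_L1025_2 : AuxS.{u} (cP4r 1 2) s391 (1025 + 2) a391_L1025_2 := (AuxS.nf x391_L1025_1 c391_6 :)
theorem n391 : Sound.{u} (cP4r 1 2) s391 0 :=
  (x391_3.spl c391_0 (AllM.cons ((x391_3.lam 0).tp c391_1 :) (AllM.cons (x391_L1_2.k5 c391_4 :) (AllM.cons (x391_L1025_2.k5 c391_7 :) AllM.nil))) ((x391_3.weaken 1).ext2 (fun _ => rfl) GamS.nil AllS.nil c391_8 (Phs.fin (ct := ct391_8) rfl) (Phs.fin (ct := ct391_8) rfl)) :)
theorem x392 : AuxS.{u} (cP4r 1 2) s392 0 a392 := aux_base3 tw99 rfl b392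
theorem x392_1 : AuxS.{u} (cP4r 1 2) s392 0 a392_1 := (AuxS.up x392 c392_9 :)
theorem x392_2 : AuxS.{u} (cP4r 1 2) s392 0 a392_2 := (AuxS.up x392_1 c392_10 :)
theorem x392_L1_1 : AuxS.{u} (cP4r 1 2) s392 (1 + 2) a392_L1_1 := (AuxS.jn (x392_2.lam 1) c392_2 :)
theorem x392_L1_2 : AuxS.{u} (cP4r 1 2) s392 (1 + 2) a392_L1_2 := (AuxS.nf x392_L1_1 c392_3 :)
theorem x392_L1025_1 : AuxS.{u} (cP4r 1 2) s392 (1025 + 2) a392_L1025_1 := (AuxS.jn (x392_2.lam 1025) c392_5 :)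
theorem x392_L1025_2 : AuxS.{u} (cP4r 1 2) s392 (1025 + 2) a392_L1025_2 := (AuxS.nf x392_L1025_1 c392_6 :)
theorem n392 : Sound.{u} (cP4r 1 2) s392 0 :=
  (x392_2.spl c392_0 (AllM.cons ((x392_2.lam 0).tp c392_1 :) (AllM.cons (x392_L1_2.k5 c392_4 :) (AllM.cons (x392_L1025_2.k5 c392_7 :) AllM.nil))) ((x392_2.weaken 1).ext2 (fun _ => rfl) GamS.nil AllS.nil c392_8 (Phs.fin (ct := ct392_8) rfl) (Phs.fin (ct := ct392_8) rfl)) :)
theorem x393 : AuxS.{u} (cP4r 1 2) s393 0 a393 := aux_base3 tw100 rfl b393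
theorem x393_1 : AuxS.{u} (cP4r 1 2) s393 0 a393_1 := (AuxS.up x393 c393_21 :)
theorem x393_2 : AuxS.{u} (cP4r 1 2) s393 0 a393_2 := (AuxS.up x393_1 c393_22 :)
theorem x393_3 : AuxS.{u} (cP4r 1 2) s393 0 a393_3 := (AuxS.up2 x393_2 c393_23 :)
theorem x393_L1_1 : AuxS.{u} (cP4r 1 2) s393 (1 + 2) a393_L1_1 := (AuxS.jn (x393_3.lam 1) c393_2 :)
theorem x393_L1_2 : AuxS.{u} (cP4r 1 2) s393 (1 + 2) a393_L1_2 := (AuxS.hp x393_L1_1 c393_3 :)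
theorem x393_L65_1 : AuxS.{u} (cP4r 1 2) s393 (65 + 2) a393_L65_1 := (AuxS.jn (x393_3.lam 65) c393_5 :)
theorem x393_L65_2 : AuxS.{u} (cP4r 1 2) s393 (65 + 2) a393_L65_2 := (AuxS.hp x393_L65_1 c393_6 :)
theorem x393_L65_3 : AuxS.{u} (cP4r 1 2) s393 (65 + 2) a393_L65_3 := (AuxS.ne x393_L65_2 c393_7 :)
theorem x393_L65_4 : AuxS.{u} (cP4r 1 2) s393 (65 + 2) a393_L65_4 := (AuxS.nf x393_L65_3 c393_8 :)
theorem x393_L65_5 : AuxS.{u} (cP4r 1 2) s393 (65 + 2) a393_L65_5 := (AuxS.hp x393_L65_4 c393_9 :)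
theorem x393_L1025_1 : AuxS.{u} (cP4r 1 2) s393 (1025 + 2) a393_L1025_1 := (AuxS.jn (x393_3.lam 1025) c393_11 :)
theorem x393_L1025_2 : AuxS.{u} (cP4r 1 2) s393 (1025 + 2) a393_L1025_2 := (AuxS.hp x393_L1025_1 c393_12 :)
theorem x393_L1089_1 : AuxS.{u} (cP4r 1 2) s393 (1089 + 2) a393_L1089_1 := (AuxS.jn (x393_3.lam 1089) c393_14 :)
theorem x393_L1089_2 : AuxS.{u} (cP4r 1 2) s393 (1089 + 2) a393_L1089_2 := (AuxS.hp x393_L1089_1 c393_15 :)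
theorem x393_L1089_3 : AuxS.{u} (cP4r 1 2) s393 (1089 + 2) a393_L1089_3 := (AuxS.ne x393_L1089_2 c393_16 :)
theorem x393_L1089_4 : AuxS.{u} (cP4r 1 2) s393 (1089 + 2) a393_L1089_4 := (AuxS.nf x393_L1089_3 c393_17 :)
theorem x393_L1089_5 : AuxS.{u} (cP4r 1 2) s393 (1089 + 2) a393_L1089_5 := (AuxS.hp x393_L1089_4 c393_18 :)
theorem n393 : Sound.{u} (cP4r 1 2) s393 0 :=
  (x393_3.spl c393_0 (AllM.cons ((x393_3.lam 0).tp c393_1 :) (AllM.cons (x393_L1_2.tp c393_4 :) (AllM.cons (x393_L65_5.tp c393_10 :) (AllM.cons (x393_L1025_2.tp c393_13 :) (AllM.cons (x393_L1089_5.tp c393_19 :) AllM.nil))))) ((x393_3.weaken 1).ext2 (fun _ => rfl) GamS.nil AllS.nil c393_20 (Phs.fin (ct := ct393_20) rfl) (Phs.fin (ct := ct393_20) rfl)) :)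
theorem x394 : AuxS.{u} (cP4r 1 2) s394 0 a394 := aux_base3 tw101 rfl b394
theorem x394_1 : AuxS.{u} (cP4r 1 2) s394 0 a394_1 := (AuxS.up x394 c394_19 :)
theorem x394_2 : AuxS.{u} (cP4r 1 2) s394 0 a394_2 := (AuxS.up x394_1 c394_20 :)
theorem x394_L1_1 : AuxS.{u} (cP4r 1 2) s394 (1 + 2) a394_L1_1 := (AuxS.jn (x394_2.lam 1) c394_2 :)
theorem x394_L1_2 : AuxS.{u} (cP4r 1 2) s394 (1 + 2) a394_L1_2 := (AuxS.hp x394_L1_1 c394_3 :)
theorem x394_L65_1 : AuxS.{u} (cP4r 1 2) s394 (65 + 2) a394_L65_1 := (AuxS.jn (x394_2.lam 65) c394_5 :)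
theorem x394_L65_2 : AuxS.{u} (cP4r 1 2) s394 (65 + 2) a394_L65_2 := (AuxS.ne x394_L65_1 c394_6 :)
theorem x394_L65_3 : AuxS.{u} (cP4r 1 2) s394 (65 + 2) a394_L65_3 := (AuxS.nf x394_L65_2 c394_7 :)
theorem x394_L65_4 : AuxS.{u} (cP4r 1 2) s394 (65 + 2) a394_L65_4 := (AuxS.hp x394_L65_3 c394_8 :)
theorem x394_L1025_1 : AuxS.{u} (cP4r 1 2) s394 (1025 + 2) a394_L1025_1 := (AuxS.jn (x394_2.lam 1025) c394_10 :)
theorem x394_L1025_2 : AuxS.{u} (cP4r 1 2) s394 (1025 + 2) a394_L1025_2 := (AuxS.hp x394_L1025_1 c394_11 :)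
theorem x394_L1089_1 : AuxS.{u} (cP4r 1 2) s394 (1089 + 2) a394_L1089_1 := (AuxS.jn (x394_2.lam 1089) c394_13 :)
theorem x394_L1089_2 : AuxS.{u} (cP4r 1 2) s394 (1089 + 2) a394_L1089_2 := (AuxS.ne x394_L1089_1 c394_14 :)
theorem x394_L1089_3 : AuxS.{u} (cP4r 1 2) s394 (1089 + 2) a394_L1089_3 := (AuxS.nf x394_L1089_2 c394_15 :)
theorem x394_L1089_4 : AuxS.{u} (cP4r 1 2) s394 (1089 + 2) a394_L1089_4 := (AuxS.hp x394_L1089_3 c394_16 :)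
theorem n394 : Sound.{u} (cP4r 1 2) s394 0 :=
  (x394_2.spl c394_0 (AllM.cons ((x394_2.lam 0).tp c394_1 :) (AllM.cons (x394_L1_2.tp c394_4 :) (AllM.cons (x394_L65_4.tp c394_9 :) (AllM.cons (x394_L1025_2.tp c394_12 :) (AllM.cons (x394_L1089_4.tp c394_17 :) AllM.nil))))) ((x394_2.weaken 1).ext2 (fun _ => rfl) GamS.nil AllS.nil c394_18 (Phs.fin (ct := ct394_18) rfl) (Phs.fin (ct := ct394_18) rfl)) :)
theorem x395 : AuxS.{u} (cP4r 1 2) s395 0 a395 := aux_base3 tw102 rfl b395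
theorem x395_1 : AuxS.{u} (cP4r 1 2) s395 0 a395_1 := (AuxS.up x395 c395_21 :)
theorem x395_2 : AuxS.{u} (cP4r 1 2) s395 0 a395_2 := (AuxS.up x395_1 c395_22 :)
theorem x395_L1_1 : AuxS.{u} (cP4r 1 2) s395 (1 + 2) a395_L1_1 := (AuxS.jn (x395_2.lam 1) c395_2 :)
theorem x395_L1_2 : AuxS.{u} (cP4r 1 2) s395 (1 + 2) a395_L1_2 := (AuxS.hp x395_L1_1 c395_3 :)
theorem x395_L65_1 : AuxS.{u} (cP4r 1 2) s395 (65 + 2) a395_L65_1 := (AuxS.jn (x395_2.lam 65) c395_5 :)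
theorem x395_L65_2 : AuxS.{u} (cP4r 1 2) s395 (65 + 2) a395_L65_2 := (AuxS.hp x395_L65_1 c395_6 :)
theorem x395_L65_3 : AuxS.{u} (cP4r 1 2) s395 (65 + 2) a395_L65_3 := (AuxS.ne x395_L65_2 c395_7 :)
theorem x395_L65_4 : AuxS.{u} (cP4r 1 2) s395 (65 + 2) a395_L65_4 := (AuxS.nf x395_L65_3 c395_8 :)
theorem x395_L65_5 : AuxS.{u} (cP4r 1 2) s395 (65 + 2) a395_L65_5 := (AuxS.hp x395_L65_4 c395_9 :)
theorem x395_L1025_1 : AuxS.{u} (cP4r 1 2) s395 (1025 + 2) a395_L1025_1 := (AuxS.jn (x395_2.lam 1025) c395_11 :)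
theorem x395_L1025_2 : AuxS.{u} (cP4r 1 2) s395 (1025 + 2) a395_L1025_2 := (AuxS.hp x395_L1025_1 c395_12 :)
theorem x395_L1089_1 : AuxS.{u} (cP4r 1 2) s395 (1089 + 2) a395_L1089_1 := (AuxS.jn (x395_2.lam 1089) c395_14 :)
theorem x395_L1089_2 : AuxS.{u} (cP4r 1 2) s395 (1089 + 2) a395_L1089_2 := (AuxS.hp x395_L1089_1 c395_15 :)
theorem x395_L1089_3 : AuxS.{u} (cP4r 1 2) s395 (1089 + 2) a395_L1089_3 := (AuxS.ne x395_L1089_2 c395_16 :)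
theorem x395_L1089_4 : AuxS.{u} (cP4r 1 2) s395 (1089 + 2) a395_L1089_4 := (AuxS.nf x395_L1089_3 c395_17 :)
theorem x395_L1089_5 : AuxS.{u} (cP4r 1 2) s395 (1089 + 2) a395_L1089_5 := (AuxS.hp x395_L1089_4 c395_18 :)
theorem n395 : Sound.{u} (cP4r 1 2) s395 0 :=
  (x395_2.spl c395_0 (AllM.cons ((x395_2.lam 0).tp c395_1 :) (AllM.cons (x395_L1_2.tp c395_4 :) (AllM.cons (x395_L65_5.tp c395_10 :) (AllM.cons (x395_L1025_2.tp c395_13 :) (AllM.cons (x395_L1089_5.tp c395_19 :) AllM.nil))))) ((x395_2.weaken 1).ext2 (fun _ => rfl) GamS.nil AllS.nil c395_20 (Phs.fin (ct := ct395_20) rfl) (Phs.fin (ct := ct395_20) rfl)) :)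
theorem x396 : AuxS.{u} (cP4r 1 2) s396 0 a396 := aux_base3 tw103 rfl b396
theorem x396_1 : AuxS.{u} (cP4r 1 2) s396 0 a396_1 := (AuxS.up x396 c396_19 :)
theorem x396_2 : AuxS.{u} (cP4r 1 2) s396 0 a396_2 := (AuxS.up x396_1 c396_20 :)
theorem x396_3 : AuxS.{u} (cP4r 1 2) s396 0 a396_3 := (AuxS.up2 x396_2 c396_21 :)
theorem x396_L1_1 : AuxS.{u} (cP4r 1 2) s396 (1 + 2) a396_L1_1 := (AuxS.jn (x396_3.lam 1) c396_2 :)
theorem x396_L1_2 : AuxS.{u} (cP4r 1 2) s396 (1 + 2) a396_L1_2 := (AuxS.hp x396_L1_1 c396_3 :)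
theorem x396_L65_1 : AuxS.{u} (cP4r 1 2) s396 (65 + 2) a396_L65_1 := (AuxS.jn (x396_3.lam 65) c396_5 :)
theorem x396_L65_2 : AuxS.{u} (cP4r 1 2) s396 (65 + 2) a396_L65_2 := (AuxS.ne x396_L65_1 c396_6 :)
theorem x396_L65_3 : AuxS.{u} (cP4r 1 2) s396 (65 + 2) a396_L65_3 := (AuxS.nf x396_L65_2 c396_7 :)
theorem x396_L65_4 : AuxS.{u} (cP4r 1 2) s396 (65 + 2) a396_L65_4 := (AuxS.hp x396_L65_3 c396_8 :)
theorem x396_L1025_1 : AuxS.{u} (cP4r 1 2) s396 (1025 + 2) a396_L1025_1 := (AuxS.jn (x396_3.lam 1025) c396_10 :)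
theorem x396_L1025_2 : AuxS.{u} (cP4r 1 2) s396 (1025 + 2) a396_L1025_2 := (AuxS.hp x396_L1025_1 c396_11 :)
theorem x396_L1089_1 : AuxS.{u} (cP4r 1 2) s396 (1089 + 2) a396_L1089_1 := (AuxS.jn (x396_3.lam 1089) c396_13 :)
theorem x396_L1089_2 : AuxS.{u} (cP4r 1 2) s396 (1089 + 2) a396_L1089_2 := (AuxS.ne x396_L1089_1 c396_14 :)
theorem x396_L1089_3 : AuxS.{u} (cP4r 1 2) s396 (1089 + 2) a396_L1089_3 := (AuxS.nf x396_L1089_2 c396_15 :)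
theorem x396_L1089_4 : AuxS.{u} (cP4r 1 2) s396 (1089 + 2) a396_L1089_4 := (AuxS.hp x396_L1089_3 c396_16 :)
theorem n396 : Sound.{u} (cP4r 1 2) s396 0 :=
  (x396_3.spl c396_0 (AllM.cons ((x396_3.lam 0).tp c396_1 :) (AllM.cons (x396_L1_2.tp c396_4 :) (AllM.cons (x396_L65_4.tp c396_9 :) (AllM.cons (x396_L1025_2.tp c396_12 :) (AllM.cons (x396_L1089_4.tp c396_17 :) AllM.nil))))) ((x396_3.weaken 1).ext2 (fun _ => rfl) GamS.nil AllS.nil c396_18 (Phs.fin (ct := ct396_18) rfl) (Phs.fin (ct := ct396_18) rfl)) :)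
theorem x397 : AuxS.{u} (cP4r 1 2) s397 0 a397 := aux_base3 tw104 rfl b397
theorem x397_1 : AuxS.{u} (cP4r 1 2) s397 0 a397_1 := (AuxS.up x397 c397_21 :)
theorem x397_2 : AuxS.{u} (cP4r 1 2) s397 0 a397_2 := (AuxS.up x397_1 c397_22 :)
theorem x397_3 : AuxS.{u} (cP4r 1 2) s397 0 a397_3 := (AuxS.up2 x397_2 c397_23 :)
theorem x397_L1_1 : AuxS.{u} (cP4r 1 2) s397 (1 + 2) a397_L1_1 := (AuxS.jn (x397_3.lam 1) c397_2 :)
theorem x397_L1_2 : AuxS.{u} (cP4r 1 2) s397 (1 + 2) a397_L1_2 := (AuxS.hp x397_L1_1 c397_3 :)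
theorem x397_L1_3 : AuxS.{u} (cP4r 1 2) s397 (1 + 2) a397_L1_3 := (AuxS.nf x397_L1_2 c397_4 :)
theorem x397_L65_1 : AuxS.{u} (cP4r 1 2) s397 (65 + 2) a397_L65_1 := (AuxS.jn (x397_3.lam 65) c397_6 :)
theorem x397_L65_2 : AuxS.{u} (cP4r 1 2) s397 (65 + 2) a397_L65_2 := (AuxS.ne x397_L65_1 c397_7 :)
theorem x397_L65_3 : AuxS.{u} (cP4r 1 2) s397 (65 + 2) a397_L65_3 := (AuxS.nf x397_L65_2 c397_8 :)
theorem x397_L65_4 : AuxS.{u} (cP4r 1 2) s397 (65 + 2) a397_L65_4 := (AuxS.hp x397_L65_3 c397_9 :)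
theorem x397_L1025_1 : AuxS.{u} (cP4r 1 2) s397 (1025 + 2) a397_L1025_1 := (AuxS.jn (x397_3.lam 1025) c397_11 :)
theorem x397_L1025_2 : AuxS.{u} (cP4r 1 2) s397 (1025 + 2) a397_L1025_2 := (AuxS.hp x397_L1025_1 c397_12 :)
theorem x397_L1025_3 : AuxS.{u} (cP4r 1 2) s397 (1025 + 2) a397_L1025_3 := (AuxS.nf x397_L1025_2 c397_13 :)
theorem x397_L1089_1 : AuxS.{u} (cP4r 1 2) s397 (1089 + 2) a397_L1089_1 := (AuxS.jn (x397_3.lam 1089) c397_15 :)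
theorem x397_L1089_2 : AuxS.{u} (cP4r 1 2) s397 (1089 + 2) a397_L1089_2 := (AuxS.ne x397_L1089_1 c397_16 :)
theorem x397_L1089_3 : AuxS.{u} (cP4r 1 2) s397 (1089 + 2) a397_L1089_3 := (AuxS.nf x397_L1089_2 c397_17 :)
theorem x397_L1089_4 : AuxS.{u} (cP4r 1 2) s397 (1089 + 2) a397_L1089_4 := (AuxS.hp x397_L1089_3 c397_18 :)
theorem n397 : Sound.{u} (cP4r 1 2) s397 0 :=
  (x397_3.spl c397_0 (AllM.cons ((x397_3.lam 0).tp c397_1 :) (AllM.cons (x397_L1_3.k5 c397_5 :) (AllM.cons (x397_L65_4.tp c397_10 :) (AllM.cons (x397_L1025_3.k5 c397_14 :) (AllM.cons (x397_L1089_4.tp c397_19 :) AllM.nil))))) ((x397_3.weaken 1).ext2 (fun _ => rfl) GamS.nil AllS.nil c397_20 (Phs.fin (ct := ct397_20) rfl) (Phs.fin (ct := ct397_20) rfl)) :)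
theorem x398 : AuxS.{u} (cP4r 1 2) s398 0 a398 := aux_base3 tw105 rfl b398
theorem x398_1 : AuxS.{u} (cP4r 1 2) s398 0 a398_1 := (AuxS.up x398 c398_21 :)
theorem x398_2 : AuxS.{u} (cP4r 1 2) s398 0 a398_2 := (AuxS.up x398_1 c398_22 :)
theorem x398_3 : AuxS.{u} (cP4r 1 2) s398 0 a398_3 := (AuxS.up2 x398_2 c398_23 :)
theorem x398_L1_1 : AuxS.{u} (cP4r 1 2) s398 (1 + 2) a398_L1_1 := (AuxS.jn (x398_3.lam 1) c398_2 :)
theorem x398_L1_2 : AuxS.{u} (cP4r 1 2) s398 (1 + 2) a398_L1_2 := (AuxS.hp x398_L1_1 c398_3 :)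
theorem x398_L1_3 : AuxS.{u} (cP4r 1 2) s398 (1 + 2) a398_L1_3 := (AuxS.nf x398_L1_2 c398_4 :)
theorem x398_L65_1 : AuxS.{u} (cP4r 1 2) s398 (65 + 2) a398_L65_1 := (AuxS.jn (x398_3.lam 65) c398_6 :)
theorem x398_L65_2 : AuxS.{u} (cP4r 1 2) s398 (65 + 2) a398_L65_2 := (AuxS.ne x398_L65_1 c398_7 :)
theorem x398_L65_3 : AuxS.{u} (cP4r 1 2) s398 (65 + 2) a398_L65_3 := (AuxS.nf x398_L65_2 c398_8 :)
theorem x398_L65_4 : AuxS.{u} (cP4r 1 2) s398 (65 + 2) a398_L65_4 := (AuxS.hp x398_L65_3 c398_9 :)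
theorem x398_L1025_1 : AuxS.{u} (cP4r 1 2) s398 (1025 + 2) a398_L1025_1 := (AuxS.jn (x398_3.lam 1025) c398_11 :)
theorem x398_L1025_2 : AuxS.{u} (cP4r 1 2) s398 (1025 + 2) a398_L1025_2 := (AuxS.hp x398_L1025_1 c398_12 :)
theorem x398_L1025_3 : AuxS.{u} (cP4r 1 2) s398 (1025 + 2) a398_L1025_3 := (AuxS.nf x398_L1025_2 c398_13 :)
theorem x398_L1089_1 : AuxS.{u} (cP4r 1 2) s398 (1089 + 2) a398_L1089_1 := (AuxS.jn (x398_3.lam 1089) c398_15 :)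
theorem x398_L1089_2 : AuxS.{u} (cP4r 1 2) s398 (1089 + 2) a398_L1089_2 := (AuxS.ne x398_L1089_1 c398_16 :)
theorem x398_L1089_3 : AuxS.{u} (cP4r 1 2) s398 (1089 + 2) a398_L1089_3 := (AuxS.nf x398_L1089_2 c398_17 :)
theorem x398_L1089_4 : AuxS.{u} (cP4r 1 2) s398 (1089 + 2) a398_L1089_4 := (AuxS.hp x398_L1089_3 c398_18 :)
theorem n398 : Sound.{u} (cP4r 1 2) s398 0 :=
  (x398_3.spl c398_0 (AllM.cons ((x398_3.lam 0).tp c398_1 :) (AllM.cons (x398_L1_3.k5 c398_5 :) (AllM.cons (x398_L65_4.tp c398_10 :) (AllM.cons (x398_L1025_3.k5 c398_14 :) (AllM.cons (x398_L1089_4.tp c398_19 :) AllM.nil))))) ((x398_3.weaken 1).ext2 (fun _ => rfl) GamS.nil AllS.nil c398_20 (Phs.fin (ct := ct398_20) rfl) (Phs.fin (ct := ct398_20) rfl)) :)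
theorem x399 : AuxS.{u} (cP4r 1 2) s399 0 a399 := aux_base3 tw106 rfl b399
theorem x399_1 : AuxS.{u} (cP4r 1 2) s399 0 a399_1 := (AuxS.up x399 c399_22 :)
theorem x399_2 : AuxS.{u} (cP4r 1 2) s399 0 a399_2 := (AuxS.up x399_1 c399_23 :)
theorem x399_3 : AuxS.{u} (cP4r 1 2) s399 0 a399_3 := (AuxS.up2 x399_2 c399_24 :)
theorem x399_L1_1 : AuxS.{u} (cP4r 1 2) s399 (1 + 2) a399_L1_1 := (AuxS.jn (x399_3.lam 1) c399_2 :)
theorem x399_L1_2 : AuxS.{u} (cP4r 1 2) s399 (1 + 2) a399_L1_2 := (AuxS.hp x399_L1_1 c399_3 :)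
theorem x399_L1_3 : AuxS.{u} (cP4r 1 2) s399 (1 + 2) a399_L1_3 := (AuxS.nf x399_L1_2 c399_4 :)
theorem x399_L65_1 : AuxS.{u} (cP4r 1 2) s399 (65 + 2) a399_L65_1 := (AuxS.jn (x399_3.lam 65) c399_6 :)
theorem x399_L65_2 : AuxS.{u} (cP4r 1 2) s399 (65 + 2) a399_L65_2 := (AuxS.hp x399_L65_1 c399_7 :)
theorem x399_L65_3 : AuxS.{u} (cP4r 1 2) s399 (65 + 2) a399_L65_3 := (AuxS.ne x399_L65_2 c399_8 :)
theorem x399_L65_4 : AuxS.{u} (cP4r 1 2) s399 (65 + 2) a399_L65_4 := (AuxS.nf x399_L65_3 c399_9 :)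
theorem x399_L65_5 : AuxS.{u} (cP4r 1 2) s399 (65 + 2) a399_L65_5 := (AuxS.hp x399_L65_4 c399_10 :)
theorem x399_L1025_1 : AuxS.{u} (cP4r 1 2) s399 (1025 + 2) a399_L1025_1 := (AuxS.jn (x399_3.lam 1025) c399_12 :)
theorem x399_L1025_2 : AuxS.{u} (cP4r 1 2) s399 (1025 + 2) a399_L1025_2 := (AuxS.hp x399_L1025_1 c399_13 :)
theorem x399_L1025_3 : AuxS.{u} (cP4r 1 2) s399 (1025 + 2) a399_L1025_3 := (AuxS.nf x399_L1025_2 c399_14 :)
theorem x399_L1089_1 : AuxS.{u} (cP4r 1 2) s399 (1089 + 2) a399_L1089_1 := (AuxS.jn (x399_3.lam 1089) c399_16 :)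
theorem x399_L1089_2 : AuxS.{u} (cP4r 1 2) s399 (1089 + 2) a399_L1089_2 := (AuxS.ne x399_L1089_1 c399_17 :)
theorem x399_L1089_3 : AuxS.{u} (cP4r 1 2) s399 (1089 + 2) a399_L1089_3 := (AuxS.nf x399_L1089_2 c399_18 :)
theorem x399_L1089_4 : AuxS.{u} (cP4r 1 2) s399 (1089 + 2) a399_L1089_4 := (AuxS.hp x399_L1089_3 c399_19 :)
theorem n399 : Sound.{u} (cP4r 1 2) s399 0 :=
  (x399_3.spl c399_0 (AllM.cons ((x399_3.lam 0).tp c399_1 :) (AllM.cons (x399_L1_3.k5 c399_5 :) (AllM.cons (x399_L65_5.tp c399_11 :) (AllM.cons (x399_L1025_3.k5 c399_15 :) (AllM.cons (x399_L1089_4.tp c399_20 :) AllM.nil))))) ((x399_3.weaken 1).ext2 (fun _ => rfl) GamS.nil AllS.nil c399_21 (Phs.fin (ct := ct399_21) rfl) (Phs.fin (ct := ct399_21) rfl)) :)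
theorem x400 : AuxS.{u} (cP4r 1 2) s400 0 a400 := aux_base3 tw107 rfl b400
theorem x400_1 : AuxS.{u} (cP4r 1 2) s400 0 a400_1 := (AuxS.up x400 c400_22 :)
theorem x400_2 : AuxS.{u} (cP4r 1 2) s400 0 a400_2 := (AuxS.up x400_1 c400_23 :)
theorem x400_3 : AuxS.{u} (cP4r 1 2) s400 0 a400_3 := (AuxS.up2 x400_2 c400_24 :)
theorem x400_L1_1 : AuxS.{u} (cP4r 1 2) s400 (1 + 2) a400_L1_1 := (AuxS.jn (x400_3.lam 1) c400_2 :)
theorem x400_L1_2 : AuxS.{u} (cP4r 1 2) s400 (1 + 2) a400_L1_2 := (AuxS.hp x400_L1_1 c400_3 :)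
theorem x400_L1_3 : AuxS.{u} (cP4r 1 2) s400 (1 + 2) a400_L1_3 := (AuxS.nf x400_L1_2 c400_4 :)
theorem x400_L65_1 : AuxS.{u} (cP4r 1 2) s400 (65 + 2) a400_L65_1 := (AuxS.jn (x400_3.lam 65) c400_6 :)
theorem x400_L65_2 : AuxS.{u} (cP4r 1 2) s400 (65 + 2) a400_L65_2 := (AuxS.ne x400_L65_1 c400_7 :)
theorem x400_L65_3 : AuxS.{u} (cP4r 1 2) s400 (65 + 2) a400_L65_3 := (AuxS.nf x400_L65_2 c400_8 :)
theorem x400_L65_4 : AuxS.{u} (cP4r 1 2) s400 (65 + 2) a400_L65_4 := (AuxS.hp x400_L65_3 c400_9 :)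
theorem x400_L1025_1 : AuxS.{u} (cP4r 1 2) s400 (1025 + 2) a400_L1025_1 := (AuxS.jn (x400_3.lam 1025) c400_11 :)
theorem x400_L1025_2 : AuxS.{u} (cP4r 1 2) s400 (1025 + 2) a400_L1025_2 := (AuxS.hp x400_L1025_1 c400_12 :)
theorem x400_L1025_3 : AuxS.{u} (cP4r 1 2) s400 (1025 + 2) a400_L1025_3 := (AuxS.nf x400_L1025_2 c400_13 :)
theorem x400_L1089_1 : AuxS.{u} (cP4r 1 2) s400 (1089 + 2) a400_L1089_1 := (AuxS.jn (x400_3.lam 1089) c400_15 :)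
theorem x400_L1089_2 : AuxS.{u} (cP4r 1 2) s400 (1089 + 2) a400_L1089_2 := (AuxS.hp x400_L1089_1 c400_16 :)
theorem x400_L1089_3 : AuxS.{u} (cP4r 1 2) s400 (1089 + 2) a400_L1089_3 := (AuxS.ne x400_L1089_2 c400_17 :)
theorem x400_L1089_4 : AuxS.{u} (cP4r 1 2) s400 (1089 + 2) a400_L1089_4 := (AuxS.nf x400_L1089_3 c400_18 :)
theorem x400_L1089_5 : AuxS.{u} (cP4r 1 2) s400 (1089 + 2) a400_L1089_5 := (AuxS.hp x400_L1089_4 c400_19 :)
theorem n400 : Sound.{u} (cP4r 1 2) s400 0 :=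
  (x400_3.spl c400_0 (AllM.cons ((x400_3.lam 0).tp c400_1 :) (AllM.cons (x400_L1_3.k5 c400_5 :) (AllM.cons (x400_L65_4.tp c400_10 :) (AllM.cons (x400_L1025_3.k5 c400_14 :) (AllM.cons (x400_L1089_5.tp c400_20 :) AllM.nil))))) ((x400_3.weaken 1).ext2 (fun _ => rfl) GamS.nil AllS.nil c400_21 (Phs.fin (ct := ct400_21) rfl) (Phs.fin (ct := ct400_21) rfl)) :)
theorem x117 : AuxS.{u} (cP4r 1 2) s117 0 a117 := aux_base3 tw79 rfl b117
theorem x117_1 : AuxS.{u} (cP4r 1 2) s117 0 a117_1 := (AuxS.up x117 c117_23 :)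
theorem x117_2 : AuxS.{u} (cP4r 1 2) s117 0 a117_2 := (AuxS.up x117_1 c117_24 :)
theorem x117_3 : AuxS.{u} (cP4r 1 2) s117 0 a117_3 := (AuxS.up2 x117_2 c117_25 :)
theorem p117_1_16 : Phs s117 a117_3 [] [s373, s374, s375, s376, s377, s378, s379, s380, s381, s382, s383, s384, s385, s386, s387, s388, s389, s390, s391, s392, s393, s394, s395, s396, s397, s398, s399, s400] ct117_1 v117_1 5 w117_1_16 := (Phs.app (Phs.app (Phs.app (Phs.app (Phs.app (Phs.app (Phs.app (Phs.app (Phs.app (Phs.app (Phs.app (Phs.app (Phs.app (Phs.app (Phs.app (Phs.fin c117_1) (Phs.fin c117_2)) (Phs.fin c117_3)) (Phs.fin c117_4)) (Phs.fin c117_5)) (Phs.fin c117_6)) (Phs.fin c117_7)) (Phs.fin c117_8)) (Phs.fin c117_9)) (Phs.fin c117_10)) (Phs.fin c117_11)) (Phs.fin c117_12)) (Phs.fin c117_13)) (Phs.fin c117_14)) (Phs.fin c117_15)) (Phs.fin c117_16))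
theorem p117_1_18 : Phs s117 a117_3 [] [s373, s374, s375, s376, s377, s378, s379, s380, s381, s382, s383, s384, s385, s386, s387, s388, s389, s390, s391, s392, s393, s394, s395, s396, s397, s398, s399, s400] ct117_1 v117_1 4 w117_1_18 := (Phs.stp c117_17 p117_1_16)
theorem p117_1_21 : Phs s117 a117_3 [] [s373, s374, s375, s376, s377, s378, s379, s380, s381, s382, s383, s384, s385, s386, s387, s388, s389, s390, s391, s392, s393, s394, s395, s396, s397, s398, s399, s400] ct117_1 v117_1 2 w117_1_21 := (Phs.app (Phs.stp c117_18 p117_1_18) (Phs.stp c117_19 p117_1_18))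
theorem p117_1_23 : Phs s117 a117_3 [] [s373, s374, s375, s376, s377, s378, s379, s380, s381, s382, s383, s384, s385, s386, s387, s388, s389, s390, s391, s392, s393, s394, s395, s396, s397, s398, s399, s400] ct117_1 v117_1 1 w117_1_23 := (Phs.stp c117_20 p117_1_21)
theorem n117 : Sound.{u} (cP4r 1 2) s117 0 :=
  (x117_3.par c117_0 ((x117_3.weaken 1).ext2 (fun _ => rfl) GamS.nil (AllS.cons n373 (AllS.cons n374 (AllS.cons n375 (AllS.cons n376 (AllS.cons n377 (AllS.cons n378 (AllS.cons n379 (AllS.cons n380 (AllS.cons n381 (AllS.cons n382 (AllS.cons n383 (AllS.cons n384 (AllS.cons n385 (AllS.cons n386 (AllS.cons n387 (AllS.cons n388 (AllS.cons n389 (AllS.cons n390 (AllS.cons n391 (AllS.cons n392 (AllS.cons n393 (AllS.cons n394 (AllS.cons n395 (AllS.cons n396 (AllS.cons n397 (AllS.cons n398 (AllS.cons n399 (AllS.cons n400 AllS.nil)))))))))))))))))))))))))))) c117_22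 (Phs.stp c117_21 p117_1_23) (Phs.fin (ct := ct117_1) rfl)) :)
theorem x118 : AuxS.{u} (cP4r 1 2) s118 0 a118 := aux_base3 tw79 rfl b118
theorem n118 : Sound.{u} (cP4r 1 2) s118 0 :=
  (x118.k4 c118_0 :)
theorem x119 : AuxS.{u} (cP4r 1 2) s119 0 a119 := aux_base3 tw79 rfl b119
theorem n119 : Sound.{u} (cP4r 1 2) s119 0 :=
  (x119.k4 c119_0 :)
theorem x120 : AuxS.{u} (cP4r 1 2) s120 0 a120 := aux_base3 tw79 rfl b120
theorem n120 : Sound.{u} (cP4r 1 2) s120 0 :=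
  (x120.k4 c120_0 :)
theorem x121 : AuxS.{u} (cP4r 1 2) s121 0 a121 := aux_base3 tw79 rfl b121
theorem n121 : Sound.{u} (cP4r 1 2) s121 0 :=
  (x121.k4 c121_0 :)
theorem x122 : AuxS.{u} (cP4r 1 2) s122 0 a122 := aux_base3 tw79 rfl b122
theorem n122 : Sound.{u} (cP4r 1 2) s122 0 :=
  (x122.k4 c122_0 :)
theorem x123 : AuxS.{u} (cP4r 1 2) s123 0 a123 := aux_base3 tw79 rfl b123
theorem n123 : Sound.{u} (cP4r 1 2) s123 0 :=
  (x123.k4 c123_0 :)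
theorem x124 : AuxS.{u} (cP4r 1 2) s124 0 a124 := aux_base3 tw79 rfl b124
theorem n124 : Sound.{u} (cP4r 1 2) s124 0 :=
  (x124.k4 c124_0 :)
theorem x125 : AuxS.{u} (cP4r 1 2) s125 0 a125 := aux_base3 tw79 rfl b125
theorem n125 : Sound.{u} (cP4r 1 2) s125 0 :=
  (x125.k4 c125_0 :)
theorem x126 : AuxS.{u} (cP4r 1 2) s126 0 a126 := aux_base3 tw79 rfl b126
theorem n126 : Sound.{u} (cP4r 1 2) s126 0 :=
  (x126.k4 c126_0 :)
theorem x127 : AuxS.{u} (cP4r 1 2) s127 0 a127 := aux_base3 tw79 rfl b127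
theorem n127 : Sound.{u} (cP4r 1 2) s127 0 :=
  (x127.k4 c127_0 :)
theorem x128 : AuxS.{u} (cP4r 1 2) s128 0 a128 := aux_base3 tw79 rfl b128
theorem n128 : Sound.{u} (cP4r 1 2) s128 0 :=
  (x128.k4 c128_0 :)
theorem x129 : AuxS.{u} (cP4r 1 2) s129 0 a129 := aux_base3 tw79 rfl b129
theorem n129 : Sound.{u} (cP4r 1 2) s129 0 :=
  (x129.k4 c129_0 :)
theorem x130 : AuxS.{u} (cP4r 1 2) s130 0 a130 := aux_base3 tw79 rfl b130
theorem n130 : Sound.{u} (cP4r 1 2) s130 0 :=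
  (x130.k4 c130_0 :)
theorem x131 : AuxS.{u} (cP4r 1 2) s131 0 a131 := aux_base3 tw79 rfl b131
theorem n131 : Sound.{u} (cP4r 1 2) s131 0 :=
  (x131.k4 c131_0 :)
theorem x132 : AuxS.{u} (cP4r 1 2) s132 0 a132 := aux_base3 tw79 rfl b132
theorem n132 : Sound.{u} (cP4r 1 2) s132 0 :=
  (x132.k4 c132_0 :)
theorem x133 : AuxS.{u} (cP4r 1 2) s133 0 a133 := aux_base3 tw79 rfl b133
theorem n133 : Sound.{u} (cP4r 1 2) s133 0 :=
  (x133.k4 c133_0 :)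
theorem x134 : AuxS.{u} (cP4r 1 2) s134 0 a134 := aux_base3 tw79 rfl b134
theorem n134 : Sound.{u} (cP4r 1 2) s134 0 :=
  (x134.k4 c134_0 :)
theorem x135 : AuxS.{u} (cP4r 1 2) s135 0 a135 := aux_base3 tw79 rfl b135
theorem n135 : Sound.{u} (cP4r 1 2) s135 0 :=
  (x135.k4 c135_0 :)
theorem x136 : AuxS.{u} (cP4r 1 2) s136 0 a136 := aux_base3 tw79 rfl b136
theorem n136 : Sound.{u} (cP4r 1 2) s136 0 :=
  (x136.k4 c136_0 :)
theorem x137 : AuxS.{u} (cP4r 1 2) s137 0 a137 := aux_base3 tw79 rfl b137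
theorem n137 : Sound.{u} (cP4r 1 2) s137 0 :=
  (x137.k4 c137_0 :)
theorem x138 : AuxS.{u} (cP4r 1 2) s138 0 a138 := aux_base3 tw79 rfl b138
theorem n138 : Sound.{u} (cP4r 1 2) s138 0 :=
  (x138.k4 c138_0 :)
theorem x139 : AuxS.{u} (cP4r 1 2) s139 0 a139 := aux_base3 tw79 rfl b139
theorem n139 : Sound.{u} (cP4r 1 2) s139 0 :=
  (x139.k4 c139_0 :)
theorem x140 : AuxS.{u} (cP4r 1 2) s140 0 a140 := aux_base3 tw79 rfl b140
theorem n140 : Sound.{u} (cP4r 1 2) s140 0 :=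
  (x140.k4 c140_0 :)
theorem x141 : AuxS.{u} (cP4r 1 2) s141 0 a141 := aux_base3 tw79 rfl b141
theorem n141 : Sound.{u} (cP4r 1 2) s141 0 :=
  (x141.k4 c141_0 :)
theorem x142 : AuxS.{u} (cP4r 1 2) s142 0 a142 := aux_base3 tw79 rfl b142
theorem n142 : Sound.{u} (cP4r 1 2) s142 0 :=
  (x142.k4 c142_0 :)
theorem x143 : AuxS.{u} (cP4r 1 2) s143 0 a143 := aux_base3 tw79 rfl b143
theorem n143 : Sound.{u} (cP4r 1 2) s143 0 :=
  (x143.k4 c143_0 :)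
theorem x144 : AuxS.{u} (cP4r 1 2) s144 0 a144 := aux_base3 tw79 rfl b144
theorem n144 : Sound.{u} (cP4r 1 2) s144 0 :=
  (x144.k4 c144_0 :)
theorem x145 : AuxS.{u} (cP4r 1 2) s145 0 a145 := aux_base3 tw79 rfl b145
theorem n145 : Sound.{u} (cP4r 1 2) s145 0 :=
  (x145.k4 c145_0 :)
theorem x146 : AuxS.{u} (cP4r 1 2) s146 0 a146 := aux_base3 tw79 rfl b146
theorem n146 : Sound.{u} (cP4r 1 2) s146 0 :=
  (x146.k4 c146_0 :)
theorem x147 : AuxS.{u} (cP4r 1 2) s147 0 a147 := aux_base3 tw79 rfl b147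
theorem n147 : Sound.{u} (cP4r 1 2) s147 0 :=
  (x147.k4 c147_0 :)
theorem x148 : AuxS.{u} (cP4r 1 2) s148 0 a148 := aux_base3 tw79 rfl b148
theorem n148 : Sound.{u} (cP4r 1 2) s148 0 :=
  (x148.k4 c148_0 :)
theorem x149 : AuxS.{u} (cP4r 1 2) s149 0 a149 := aux_base3 tw79 rfl b149
theorem n149 : Sound.{u} (cP4r 1 2) s149 0 :=
  (x149.k4 c149_0 :)
theorem x150 : AuxS.{u} (cP4r 1 2) s150 0 a150 := aux_base3 tw79 rfl b150
theorem n150 : Sound.{u} (cP4r 1 2) s150 0 :=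
  (x150.k4 c150_0 :)
theorem x151 : AuxS.{u} (cP4r 1 2) s151 0 a151 := aux_base3 tw79 rfl b151
theorem n151 : Sound.{u} (cP4r 1 2) s151 0 :=
  (x151.k4 c151_0 :)
theorem x152 : AuxS.{u} (cP4r 1 2) s152 0 a152 := aux_base3 tw79 rfl b152
theorem n152 : Sound.{u} (cP4r 1 2) s152 0 :=
  (x152.k4 c152_0 :)
theorem x153 : AuxS.{u} (cP4r 1 2) s153 0 a153 := aux_base3 tw79 rfl b153
theorem n153 : Sound.{u} (cP4r 1 2) s153 0 :=
  (x153.k4 c153_0 :)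
theorem x154 : AuxS.{u} (cP4r 1 2) s154 0 a154 := aux_base3 tw79 rfl b154
theorem n154 : Sound.{u} (cP4r 1 2) s154 0 :=
  (x154.k4 c154_0 :)
theorem x155 : AuxS.{u} (cP4r 1 2) s155 0 a155 := aux_base3 tw79 rfl b155
theorem n155 : Sound.{u} (cP4r 1 2) s155 0 :=
  (x155.k4 c155_0 :)
theorem x156 : AuxS.{u} (cP4r 1 2) s156 0 a156 := aux_base3 tw79 rfl b156
theorem n156 : Sound.{u} (cP4r 1 2) s156 0 :=
  (x156.k4 c156_0 :)
theorem x157 : AuxS.{u} (cP4r 1 2) s157 0 a157 := aux_base3 tw79 rfl b157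
theorem x157_1 : AuxS.{u} (cP4r 1 2) s157 0 a157_1 := x157
theorem x157_2 : AuxS.{u} (cP4r 1 2) s157 0 a157_2 := x157_1
theorem x157_3 : AuxS.{u} (cP4r 1 2) s157 0 a157_3 := x157_2
theorem n157 : Sound.{u} (cP4r 1 2) s157 0 :=
  (x157_3.jump c157_0 c157_1 n117 :)
theorem x158 : AuxS.{u} (cP4r 1 2) s158 0 a158 := aux_base3 tw79 rfl b158
theorem n158 : Sound.{u} (cP4r 1 2) s158 0 :=
  (x158.k4 c158_0 :)
theorem x159 : AuxS.{u} (cP4r 1 2) s159 0 a159 := aux_base3 tw79 rfl b159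
theorem n159 : Sound.{u} (cP4r 1 2) s159 0 :=
  (x159.k4 c159_0 :)
theorem x160 : AuxS.{u} (cP4r 1 2) s160 0 a160 := aux_base3 tw79 rfl b160
theorem n160 : Sound.{u} (cP4r 1 2) s160 0 :=
  (x160.k4 c160_0 :)
theorem x161 : AuxS.{u} (cP4r 1 2) s161 0 a161 := aux_base3 tw79 rfl b161
theorem n161 : Sound.{u} (cP4r 1 2) s161 0 :=
  (x161.k4 c161_0 :)
theorem x162 : AuxS.{u} (cP4r 1 2) s162 0 a162 := aux_base3 tw79 rfl b162
theorem n162 : Sound.{u} (cP4r 1 2) s162 0 :=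
  (x162.k4 c162_0 :)
theorem x163 : AuxS.{u} (cP4r 1 2) s163 0 a163 := aux_base3 tw79 rfl b163
theorem n163 : Sound.{u} (cP4r 1 2) s163 0 :=
  (x163.k4 c163_0 :)
theorem x164 : AuxS.{u} (cP4r 1 2) s164 0 a164 := aux_base3 tw79 rfl b164
theorem n164 : Sound.{u} (cP4r 1 2) s164 0 :=
  (x164.k4 c164_0 :)
theorem x165 : AuxS.{u} (cP4r 1 2) s165 0 a165 := aux_base3 tw79 rfl b165
theorem n165 : Sound.{u} (cP4r 1 2) s165 0 :=
  (x165.k4 c165_0 :)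
theorem x166 : AuxS.{u} (cP4r 1 2) s166 0 a166 := aux_base3 tw79 rfl b166
theorem n166 : Sound.{u} (cP4r 1 2) s166 0 :=
  (x166.k4 c166_0 :)
theorem x167 : AuxS.{u} (cP4r 1 2) s167 0 a167 := aux_base3 tw79 rfl b167
theorem n167 : Sound.{u} (cP4r 1 2) s167 0 :=
  (x167.k4 c167_0 :)
theorem x168 : AuxS.{u} (cP4r 1 2) s168 0 a168 := aux_base3 tw79 rfl b168
theorem n168 : Sound.{u} (cP4r 1 2) s168 0 :=
  (x168.k4 c168_0 :)
theorem x169 : AuxS.{u} (cP4r 1 2) s169 0 a169 := aux_base3 tw79 rfl b169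
theorem n169 : Sound.{u} (cP4r 1 2) s169 0 :=
  (x169.k4 c169_0 :)
theorem x170 : AuxS.{u} (cP4r 1 2) s170 0 a170 := aux_base3 tw79 rfl b170
theorem n170 : Sound.{u} (cP4r 1 2) s170 0 :=
  (x170.k4 c170_0 :)
theorem x171 : AuxS.{u} (cP4r 1 2) s171 0 a171 := aux_base3 tw79 rfl b171
theorem n171 : Sound.{u} (cP4r 1 2) s171 0 :=
  (x171.k4 c171_0 :)
theorem x172 : AuxS.{u} (cP4r 1 2) s172 0 a172 := aux_base3 tw79 rfl b172
theorem n172 : Sound.{u} (cP4r 1 2) s172 0 :=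
  (x172.k4 c172_0 :)
theorem x173 : AuxS.{u} (cP4r 1 2) s173 0 a173 := aux_base3 tw79 rfl b173
theorem n173 : Sound.{u} (cP4r 1 2) s173 0 :=
  (x173.k4 c173_0 :)
theorem x174 : AuxS.{u} (cP4r 1 2) s174 0 a174 := aux_base3 tw79 rfl b174
theorem n174 : Sound.{u} (cP4r 1 2) s174 0 :=
  (x174.k4 c174_0 :)
theorem x175 : AuxS.{u} (cP4r 1 2) s175 0 a175 := aux_base3 tw79 rfl b175
theorem n175 : Sound.{u} (cP4r 1 2) s175 0 :=
  (x175.k4 c175_0 :)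
theorem x176 : AuxS.{u} (cP4r 1 2) s176 0 a176 := aux_base3 tw79 rfl b176
theorem n176 : Sound.{u} (cP4r 1 2) s176 0 :=
  (x176.k4 c176_0 :)
theorem x177 : AuxS.{u} (cP4r 1 2) s177 0 a177 := aux_base3 tw79 rfl b177
theorem n177 : Sound.{u} (cP4r 1 2) s177 0 :=
  (x177.k4 c177_0 :)
theorem x178 : AuxS.{u} (cP4r 1 2) s178 0 a178 := aux_base3 tw79 rfl b178
theorem n178 : Sound.{u} (cP4r 1 2) s178 0 :=
  (x178.k4 c178_0 :)
theorem x179 : AuxS.{u} (cP4r 1 2) s179 0 a179 := aux_base3 tw79 rfl b179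
theorem n179 : Sound.{u} (cP4r 1 2) s179 0 :=
  (x179.k4 c179_0 :)
theorem x180 : AuxS.{u} (cP4r 1 2) s180 0 a180 := aux_base3 tw79 rfl b180
theorem n180 : Sound.{u} (cP4r 1 2) s180 0 :=
  (x180.k4 c180_0 :)
theorem x181 : AuxS.{u} (cP4r 1 2) s181 0 a181 := aux_base3 tw79 rfl b181
theorem n181 : Sound.{u} (cP4r 1 2) s181 0 :=
  (x181.k4 c181_0 :)
theorem x182 : AuxS.{u} (cP4r 1 2) s182 0 a182 := aux_base3 tw79 rfl b182
theorem n182 : Sound.{u} (cP4r 1 2) s182 0 :=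
  (x182.k4 c182_0 :)
theorem x183 : AuxS.{u} (cP4r 1 2) s183 0 a183 := aux_base3 tw79 rfl b183
theorem n183 : Sound.{u} (cP4r 1 2) s183 0 :=
  (x183.k4 c183_0 :)
theorem x184 : AuxS.{u} (cP4r 1 2) s184 0 a184 := aux_base3 tw79 rfl b184
theorem n184 : Sound.{u} (cP4r 1 2) s184 0 :=
  (x184.k4 c184_0 :)
theorem x185 : AuxS.{u} (cP4r 1 2) s185 0 a185 := aux_base3 tw79 rfl b185
theorem n185 : Sound.{u} (cP4r 1 2) s185 0 :=
  (x185.k4 c185_0 :)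
theorem x186 : AuxS.{u} (cP4r 1 2) s186 0 a186 := aux_base3 tw79 rfl b186
theorem x186_1 : AuxS.{u} (cP4r 1 2) s186 0 a186_1 := x186
theorem x186_2 : AuxS.{u} (cP4r 1 2) s186 0 a186_2 := x186_1
theorem x186_3 : AuxS.{u} (cP4r 1 2) s186 0 a186_3 := x186_2
theorem n186 : Sound.{u} (cP4r 1 2) s186 0 :=
  (x186_3.jump c186_0 c186_1 n117 :)
theorem x187 : AuxS.{u} (cP4r 1 2) s187 0 a187 := aux_base3 tw79 rfl b187
theorem n187 : Sound.{u} (cP4r 1 2) s187 0 :=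
  (x187.k4 c187_0 :)
theorem x188 : AuxS.{u} (cP4r 1 2) s188 0 a188 := aux_base3 tw79 rfl b188
theorem n188 : Sound.{u} (cP4r 1 2) s188 0 :=
  (x188.k4 c188_0 :)
theorem x189 : AuxS.{u} (cP4r 1 2) s189 0 a189 := aux_base3 tw79 rfl b189
theorem n189 : Sound.{u} (cP4r 1 2) s189 0 :=
  (x189.k4 c189_0 :)
theorem x190 : AuxS.{u} (cP4r 1 2) s190 0 a190 := aux_base3 tw79 rfl b190
theorem n190 : Sound.{u} (cP4r 1 2) s190 0 :=
  (x190.k4 c190_0 :)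
theorem x191 : AuxS.{u} (cP4r 1 2) s191 0 a191 := aux_base3 tw79 rfl b191
theorem n191 : Sound.{u} (cP4r 1 2) s191 0 :=
  (x191.k4 c191_0 :)
theorem x192 : AuxS.{u} (cP4r 1 2) s192 0 a192 := aux_base3 tw79 rfl b192
theorem n192 : Sound.{u} (cP4r 1 2) s192 0 :=
  (x192.k4 c192_0 :)
theorem x193 : AuxS.{u} (cP4r 1 2) s193 0 a193 := aux_base3 tw79 rfl b193
theorem n193 : Sound.{u} (cP4r 1 2) s193 0 :=
  (x193.k4 c193_0 :)
theorem x194 : AuxS.{u} (cP4r 1 2) s194 0 a194 := aux_base3 tw79 rfl b194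
theorem n194 : Sound.{u} (cP4r 1 2) s194 0 :=
  (x194.k4 c194_0 :)
theorem x195 : AuxS.{u} (cP4r 1 2) s195 0 a195 := aux_base3 tw79 rfl b195
theorem n195 : Sound.{u} (cP4r 1 2) s195 0 :=
  (x195.k4 c195_0 :)
theorem x196 : AuxS.{u} (cP4r 1 2) s196 0 a196 := aux_base3 tw79 rfl b196
theorem n196 : Sound.{u} (cP4r 1 2) s196 0 :=
  (x196.k4 c196_0 :)
theorem x197 : AuxS.{u} (cP4r 1 2) s197 0 a197 := aux_base3 tw79 rfl b197
theorem n197 : Sound.{u} (cP4r 1 2) s197 0 :=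
  (x197.k4 c197_0 :)
theorem x198 : AuxS.{u} (cP4r 1 2) s198 0 a198 := aux_base3 tw79 rfl b198
theorem n198 : Sound.{u} (cP4r 1 2) s198 0 :=
  (x198.k4 c198_0 :)
theorem x199 : AuxS.{u} (cP4r 1 2) s199 0 a199 := aux_base3 tw79 rfl b199
theorem n199 : Sound.{u} (cP4r 1 2) s199 0 :=
  (x199.k4 c199_0 :)
theorem x200 : AuxS.{u} (cP4r 1 2) s200 0 a200 := aux_base3 tw79 rfl b200
theorem n200 : Sound.{u} (cP4r 1 2) s200 0 :=
  (x200.k4 c200_0 :)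
theorem x201 : AuxS.{u} (cP4r 1 2) s201 0 a201 := aux_base3 tw79 rfl b201
theorem n201 : Sound.{u} (cP4r 1 2) s201 0 :=
  (x201.k4 c201_0 :)
theorem x202 : AuxS.{u} (cP4r 1 2) s202 0 a202 := aux_base3 tw79 rfl b202
theorem n202 : Sound.{u} (cP4r 1 2) s202 0 :=
  (x202.k4 c202_0 :)
theorem x203 : AuxS.{u} (cP4r 1 2) s203 0 a203 := aux_base3 tw79 rfl b203
theorem n203 : Sound.{u} (cP4r 1 2) s203 0 :=
  (x203.k4 c203_0 :)
theorem x204 : AuxS.{u} (cP4r 1 2) s204 0 a204 := aux_base3 tw79 rfl b204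
theorem n204 : Sound.{u} (cP4r 1 2) s204 0 :=
  (x204.k4 c204_0 :)
theorem x205 : AuxS.{u} (cP4r 1 2) s205 0 a205 := aux_base3 tw79 rfl b205
theorem n205 : Sound.{u} (cP4r 1 2) s205 0 :=
  (x205.k4 c205_0 :)
theorem x206 : AuxS.{u} (cP4r 1 2) s206 0 a206 := aux_base3 tw79 rfl b206
theorem n206 : Sound.{u} (cP4r 1 2) s206 0 :=
  (x206.k4 c206_0 :)
theorem x207 : AuxS.{u} (cP4r 1 2) s207 0 a207 := aux_base3 tw79 rfl b207
theorem n207 : Sound.{u} (cP4r 1 2) s207 0 :=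
  (x207.k4 c207_0 :)
theorem x208 : AuxS.{u} (cP4r 1 2) s208 0 a208 := aux_base3 tw79 rfl b208
theorem n208 : Sound.{u} (cP4r 1 2) s208 0 :=
  (x208.k4 c208_0 :)
theorem x209 : AuxS.{u} (cP4r 1 2) s209 0 a209 := aux_base3 tw79 rfl b209
theorem n209 : Sound.{u} (cP4r 1 2) s209 0 :=
  (x209.k4 c209_0 :)
theorem x210 : AuxS.{u} (cP4r 1 2) s210 0 a210 := aux_base3 tw79 rfl b210
theorem n210 : Sound.{u} (cP4r 1 2) s210 0 :=
  (x210.k4 c210_0 :)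
theorem x211 : AuxS.{u} (cP4r 1 2) s211 0 a211 := aux_base3 tw79 rfl b211
theorem n211 : Sound.{u} (cP4r 1 2) s211 0 :=
  (x211.k4 c211_0 :)
theorem x212 : AuxS.{u} (cP4r 1 2) s212 0 a212 := aux_base3 tw79 rfl b212
theorem n212 : Sound.{u} (cP4r 1 2) s212 0 :=
  (x212.k4 c212_0 :)
theorem x213 : AuxS.{u} (cP4r 1 2) s213 0 a213 := aux_base3 tw79 rfl b213
theorem n213 : Sound.{u} (cP4r 1 2) s213 0 :=
  (x213.k4 c213_0 :)
theorem x214 : AuxS.{u} (cP4r 1 2) s214 0 a214 := aux_base3 tw79 rfl b214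
theorem n214 : Sound.{u} (cP4r 1 2) s214 0 :=
  (x214.k4 c214_0 :)
theorem x215 : AuxS.{u} (cP4r 1 2) s215 0 a215 := aux_base3 tw79 rfl b215
theorem n215 : Sound.{u} (cP4r 1 2) s215 0 :=
  (x215.k4 c215_0 :)
theorem x216 : AuxS.{u} (cP4r 1 2) s216 0 a216 := aux_base3 tw79 rfl b216
theorem n216 : Sound.{u} (cP4r 1 2) s216 0 :=
  (x216.k4 c216_0 :)
theorem x217 : AuxS.{u} (cP4r 1 2) s217 0 a217 := aux_base3 tw79 rfl b217
theorem n217 : Sound.{u} (cP4r 1 2) s217 0 :=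
  (x217.k4 c217_0 :)
theorem x218 : AuxS.{u} (cP4r 1 2) s218 0 a218 := aux_base3 tw79 rfl b218
theorem n218 : Sound.{u} (cP4r 1 2) s218 0 :=
  (x218.k4 c218_0 :)
theorem x219 : AuxS.{u} (cP4r 1 2) s219 0 a219 := aux_base3 tw79 rfl b219
theorem n219 : Sound.{u} (cP4r 1 2) s219 0 :=
  (x219.k4 c219_0 :)
theorem x220 : AuxS.{u} (cP4r 1 2) s220 0 a220 := aux_base3 tw79 rfl b220
theorem n220 : Sound.{u} (cP4r 1 2) s220 0 :=
  (x220.k4 c220_0 :)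
theorem x221 : AuxS.{u} (cP4r 1 2) s221 0 a221 := aux_base3 tw79 rfl b221
theorem n221 : Sound.{u} (cP4r 1 2) s221 0 :=
  (x221.k4 c221_0 :)
theorem x222 : AuxS.{u} (cP4r 1 2) s222 0 a222 := aux_base3 tw79 rfl b222
theorem n222 : Sound.{u} (cP4r 1 2) s222 0 :=
  (x222.k4 c222_0 :)
theorem x223 : AuxS.{u} (cP4r 1 2) s223 0 a223 := aux_base3 tw79 rfl b223
theorem n223 : Sound.{u} (cP4r 1 2) s223 0 :=
  (x223.k4 c223_0 :)
theorem x224 : AuxS.{u} (cP4r 1 2) s224 0 a224 := aux_base3 tw79 rfl b224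
theorem n224 : Sound.{u} (cP4r 1 2) s224 0 :=
  (x224.k4 c224_0 :)
theorem x225 : AuxS.{u} (cP4r 1 2) s225 0 a225 := aux_base3 tw79 rfl b225
theorem n225 : Sound.{u} (cP4r 1 2) s225 0 :=
  (x225.k4 c225_0 :)
theorem x226 : AuxS.{u} (cP4r 1 2) s226 0 a226 := aux_base3 tw79 rfl b226
theorem x226_1 : AuxS.{u} (cP4r 1 2) s226 0 a226_1 := x226
theorem x226_2 : AuxS.{u} (cP4r 1 2) s226 0 a226_2 := x226_1
theorem x226_3 : AuxS.{u} (cP4r 1 2) s226 0 a226_3 := x226_2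
theorem n226 : Sound.{u} (cP4r 1 2) s226 0 :=
  (x226_3.jump c226_0 c226_1 n117 :)
theorem x227 : AuxS.{u} (cP4r 1 2) s227 0 a227 := aux_base3 tw79 rfl b227
theorem n227 : Sound.{u} (cP4r 1 2) s227 0 :=
  (x227.k4 c227_0 :)
theorem x228 : AuxS.{u} (cP4r 1 2) s228 0 a228 := aux_base3 tw79 rfl b228
theorem n228 : Sound.{u} (cP4r 1 2) s228 0 :=
  (x228.k4 c228_0 :)
theorem x229 : AuxS.{u} (cP4r 1 2) s229 0 a229 := aux_base3 tw79 rfl b229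
theorem n229 : Sound.{u} (cP4r 1 2) s229 0 :=
  (x229.k4 c229_0 :)
theorem x230 : AuxS.{u} (cP4r 1 2) s230 0 a230 := aux_base3 tw79 rfl b230
theorem n230 : Sound.{u} (cP4r 1 2) s230 0 :=
  (x230.k4 c230_0 :)
theorem x231 : AuxS.{u} (cP4r 1 2) s231 0 a231 := aux_base3 tw79 rfl b231
theorem n231 : Sound.{u} (cP4r 1 2) s231 0 :=
  (x231.k4 c231_0 :)
theorem x232 : AuxS.{u} (cP4r 1 2) s232 0 a232 := aux_base3 tw79 rfl b232
theorem n232 : Sound.{u} (cP4r 1 2) s232 0 :=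
  (x232.k4 c232_0 :)
theorem x233 : AuxS.{u} (cP4r 1 2) s233 0 a233 := aux_base3 tw79 rfl b233
theorem n233 : Sound.{u} (cP4r 1 2) s233 0 :=
  (x233.k4 c233_0 :)
theorem x234 : AuxS.{u} (cP4r 1 2) s234 0 a234 := aux_base3 tw79 rfl b234
theorem n234 : Sound.{u} (cP4r 1 2) s234 0 :=
  (x234.k4 c234_0 :)
theorem x235 : AuxS.{u} (cP4r 1 2) s235 0 a235 := aux_base3 tw79 rfl b235
theorem n235 : Sound.{u} (cP4r 1 2) s235 0 :=
  (x235.k4 c235_0 :)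
theorem x236 : AuxS.{u} (cP4r 1 2) s236 0 a236 := aux_base3 tw79 rfl b236
theorem n236 : Sound.{u} (cP4r 1 2) s236 0 :=
  (x236.k4 c236_0 :)
theorem x237 : AuxS.{u} (cP4r 1 2) s237 0 a237 := aux_base3 tw79 rfl b237
theorem n237 : Sound.{u} (cP4r 1 2) s237 0 :=
  (x237.k4 c237_0 :)
theorem x238 : AuxS.{u} (cP4r 1 2) s238 0 a238 := aux_base3 tw79 rfl b238
theorem n238 : Sound.{u} (cP4r 1 2) s238 0 :=
  (x238.k4 c238_0 :)
theorem x239 : AuxS.{u} (cP4r 1 2) s239 0 a239 := aux_base3 tw79 rfl b239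
theorem n239 : Sound.{u} (cP4r 1 2) s239 0 :=
  (x239.k4 c239_0 :)
theorem x240 : AuxS.{u} (cP4r 1 2) s240 0 a240 := aux_base3 tw79 rfl b240
theorem n240 : Sound.{u} (cP4r 1 2) s240 0 :=
  (x240.k4 c240_0 :)
theorem x241 : AuxS.{u} (cP4r 1 2) s241 0 a241 := aux_base3 tw79 rfl b241
theorem n241 : Sound.{u} (cP4r 1 2) s241 0 :=
  (x241.k4 c241_0 :)
theorem x242 : AuxS.{u} (cP4r 1 2) s242 0 a242 := aux_base3 tw79 rfl b242
theorem n242 : Sound.{u} (cP4r 1 2) s242 0 :=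
  (x242.k4 c242_0 :)
theorem x243 : AuxS.{u} (cP4r 1 2) s243 0 a243 := aux_base3 tw79 rfl b243
theorem n243 : Sound.{u} (cP4r 1 2) s243 0 :=
  (x243.k4 c243_0 :)
theorem x244 : AuxS.{u} (cP4r 1 2) s244 0 a244 := aux_base3 tw79 rfl b244
theorem n244 : Sound.{u} (cP4r 1 2) s244 0 :=
  (x244.k4 c244_0 :)
theorem x245 : AuxS.{u} (cP4r 1 2) s245 0 a245 := aux_base3 tw79 rfl b245
theorem x245_1 : AuxS.{u} (cP4r 1 2) s245 0 a245_1 := x245
theorem x245_2 : AuxS.{u} (cP4r 1 2) s245 0 a245_2 := x245_1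
theorem x245_3 : AuxS.{u} (cP4r 1 2) s245 0 a245_3 := x245_2
theorem n245 : Sound.{u} (cP4r 1 2) s245 0 :=
  (x245_3.jump c245_0 c245_1 n117 :)
theorem x246 : AuxS.{u} (cP4r 1 2) s246 0 a246 := aux_base3 tw79 rfl b246
theorem n246 : Sound.{u} (cP4r 1 2) s246 0 :=
  (x246.k4 c246_0 :)
theorem x247 : AuxS.{u} (cP4r 1 2) s247 0 a247 := aux_base3 tw79 rfl b247
theorem n247 : Sound.{u} (cP4r 1 2) s247 0 :=
  (x247.k4 c247_0 :)
theorem x248 : AuxS.{u} (cP4r 1 2) s248 0 a248 := aux_base3 tw79 rfl b248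
theorem n248 : Sound.{u} (cP4r 1 2) s248 0 :=
  (x248.k4 c248_0 :)
theorem x249 : AuxS.{u} (cP4r 1 2) s249 0 a249 := aux_base3 tw79 rfl b249
theorem n249 : Sound.{u} (cP4r 1 2) s249 0 :=
  (x249.k4 c249_0 :)
theorem x250 : AuxS.{u} (cP4r 1 2) s250 0 a250 := aux_base3 tw79 rfl b250
theorem n250 : Sound.{u} (cP4r 1 2) s250 0 :=
  (x250.k4 c250_0 :)
theorem x251 : AuxS.{u} (cP4r 1 2) s251 0 a251 := aux_base3 tw79 rfl b251
theorem n251 : Sound.{u} (cP4r 1 2) s251 0 :=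
  (x251.k4 c251_0 :)
theorem x252 : AuxS.{u} (cP4r 1 2) s252 0 a252 := aux_base3 tw79 rfl b252
theorem n252 : Sound.{u} (cP4r 1 2) s252 0 :=
  (x252.k4 c252_0 :)
theorem x253 : AuxS.{u} (cP4r 1 2) s253 0 a253 := aux_base3 tw79 rfl b253
theorem n253 : Sound.{u} (cP4r 1 2) s253 0 :=
  (x253.k4 c253_0 :)
theorem x254 : AuxS.{u} (cP4r 1 2) s254 0 a254 := aux_base3 tw79 rfl b254
theorem n254 : Sound.{u} (cP4r 1 2) s254 0 :=
  (x254.k4 c254_0 :)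
theorem x255 : AuxS.{u} (cP4r 1 2) s255 0 a255 := aux_base3 tw79 rfl b255
theorem n255 : Sound.{u} (cP4r 1 2) s255 0 :=
  (x255.k4 c255_0 :)
theorem x256 : AuxS.{u} (cP4r 1 2) s256 0 a256 := aux_base3 tw79 rfl b256
theorem n256 : Sound.{u} (cP4r 1 2) s256 0 :=
  (x256.k4 c256_0 :)
theorem x257 : AuxS.{u} (cP4r 1 2) s257 0 a257 := aux_base3 tw79 rfl b257
theorem n257 : Sound.{u} (cP4r 1 2) s257 0 :=
  (x257.k4 c257_0 :)
theorem x258 : AuxS.{u} (cP4r 1 2) s258 0 a258 := aux_base3 tw79 rfl b258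
theorem n258 : Sound.{u} (cP4r 1 2) s258 0 :=
  (x258.k4 c258_0 :)
theorem x259 : AuxS.{u} (cP4r 1 2) s259 0 a259 := aux_base3 tw79 rfl b259
theorem n259 : Sound.{u} (cP4r 1 2) s259 0 :=
  (x259.k4 c259_0 :)
theorem x260 : AuxS.{u} (cP4r 1 2) s260 0 a260 := aux_base3 tw79 rfl b260
theorem n260 : Sound.{u} (cP4r 1 2) s260 0 :=
  (x260.k4 c260_0 :)
theorem x261 : AuxS.{u} (cP4r 1 2) s261 0 a261 := aux_base3 tw79 rfl b261
theorem n261 : Sound.{u} (cP4r 1 2) s261 0 :=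
  (x261.k4 c261_0 :)
theorem x262 : AuxS.{u} (cP4r 1 2) s262 0 a262 := aux_base3 tw79 rfl b262
theorem n262 : Sound.{u} (cP4r 1 2) s262 0 :=
  (x262.k4 c262_0 :)
theorem x263 : AuxS.{u} (cP4r 1 2) s263 0 a263 := aux_base3 tw79 rfl b263
theorem n263 : Sound.{u} (cP4r 1 2) s263 0 :=
  (x263.k4 c263_0 :)
theorem x264 : AuxS.{u} (cP4r 1 2) s264 0 a264 := aux_base3 tw79 rfl b264
theorem n264 : Sound.{u} (cP4r 1 2) s264 0 :=
  (x264.k4 c264_0 :)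
theorem x265 : AuxS.{u} (cP4r 1 2) s265 0 a265 := aux_base3 tw79 rfl b265
theorem n265 : Sound.{u} (cP4r 1 2) s265 0 :=
  (x265.k4 c265_0 :)
theorem x266 : AuxS.{u} (cP4r 1 2) s266 0 a266 := aux_base3 tw79 rfl b266
theorem n266 : Sound.{u} (cP4r 1 2) s266 0 :=
  (x266.k4 c266_0 :)
theorem x267 : AuxS.{u} (cP4r 1 2) s267 0 a267 := aux_base3 tw79 rfl b267
theorem n267 : Sound.{u} (cP4r 1 2) s267 0 :=
  (x267.k4 c267_0 :)
theorem x268 : AuxS.{u} (cP4r 1 2) s268 0 a268 := aux_base3 tw79 rfl b268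
theorem n268 : Sound.{u} (cP4r 1 2) s268 0 :=
  (x268.k4 c268_0 :)
theorem x269 : AuxS.{u} (cP4r 1 2) s269 0 a269 := aux_base3 tw79 rfl b269
theorem n269 : Sound.{u} (cP4r 1 2) s269 0 :=
  (x269.k4 c269_0 :)
theorem x270 : AuxS.{u} (cP4r 1 2) s270 0 a270 := aux_base3 tw79 rfl b270
theorem n270 : Sound.{u} (cP4r 1 2) s270 0 :=
  (x270.k4 c270_0 :)
theorem x271 : AuxS.{u} (cP4r 1 2) s271 0 a271 := aux_base3 tw79 rfl b271
theorem n271 : Sound.{u} (cP4r 1 2) s271 0 :=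
  (x271.k4 c271_0 :)
theorem x272 : AuxS.{u} (cP4r 1 2) s272 0 a272 := aux_base3 tw79 rfl b272
theorem n272 : Sound.{u} (cP4r 1 2) s272 0 :=
  (x272.k4 c272_0 :)
theorem x273 : AuxS.{u} (cP4r 1 2) s273 0 a273 := aux_base3 tw79 rfl b273
theorem n273 : Sound.{u} (cP4r 1 2) s273 0 :=
  (x273.k4 c273_0 :)
theorem x274 : AuxS.{u} (cP4r 1 2) s274 0 a274 := aux_base3 tw79 rfl b274
theorem n274 : Sound.{u} (cP4r 1 2) s274 0 :=
  (x274.k4 c274_0 :)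
theorem x275 : AuxS.{u} (cP4r 1 2) s275 0 a275 := aux_base3 tw79 rfl b275
theorem n275 : Sound.{u} (cP4r 1 2) s275 0 :=
  (x275.k4 c275_0 :)
theorem x276 : AuxS.{u} (cP4r 1 2) s276 0 a276 := aux_base3 tw79 rfl b276
theorem n276 : Sound.{u} (cP4r 1 2) s276 0 :=
  (x276.k4 c276_0 :)
theorem x277 : AuxS.{u} (cP4r 1 2) s277 0 a277 := aux_base3 tw79 rfl b277
theorem n277 : Sound.{u} (cP4r 1 2) s277 0 :=
  (x277.k4 c277_0 :)
theorem x278 : AuxS.{u} (cP4r 1 2) s278 0 a278 := aux_base3 tw79 rfl b278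
theorem n278 : Sound.{u} (cP4r 1 2) s278 0 :=
  (x278.k4 c278_0 :)
theorem x279 : AuxS.{u} (cP4r 1 2) s279 0 a279 := aux_base3 tw79 rfl b279
theorem n279 : Sound.{u} (cP4r 1 2) s279 0 :=
  (x279.k4 c279_0 :)
theorem x280 : AuxS.{u} (cP4r 1 2) s280 0 a280 := aux_base3 tw79 rfl b280
theorem n280 : Sound.{u} (cP4r 1 2) s280 0 :=
  (x280.k4 c280_0 :)
theorem x281 : AuxS.{u} (cP4r 1 2) s281 0 a281 := aux_base3 tw79 rfl b281
theorem n281 : Sound.{u} (cP4r 1 2) s281 0 :=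
  (x281.k4 c281_0 :)
theorem x282 : AuxS.{u} (cP4r 1 2) s282 0 a282 := aux_base3 tw79 rfl b282
theorem n282 : Sound.{u} (cP4r 1 2) s282 0 :=
  (x282.k4 c282_0 :)
theorem x283 : AuxS.{u} (cP4r 1 2) s283 0 a283 := aux_base3 tw79 rfl b283
theorem n283 : Sound.{u} (cP4r 1 2) s283 0 :=
  (x283.k4 c283_0 :)
theorem x284 : AuxS.{u} (cP4r 1 2) s284 0 a284 := aux_base3 tw79 rfl b284
theorem n284 : Sound.{u} (cP4r 1 2) s284 0 :=
  (x284.k4 c284_0 :)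
theorem x285 : AuxS.{u} (cP4r 1 2) s285 0 a285 := aux_base3 tw79 rfl b285
theorem x285_1 : AuxS.{u} (cP4r 1 2) s285 0 a285_1 := x285
theorem x285_2 : AuxS.{u} (cP4r 1 2) s285 0 a285_2 := x285_1
theorem x285_3 : AuxS.{u} (cP4r 1 2) s285 0 a285_3 := x285_2
theorem n285 : Sound.{u} (cP4r 1 2) s285 0 :=
  (x285_3.jump c285_0 c285_1 n117 :)
theorem x286 : AuxS.{u} (cP4r 1 2) s286 0 a286 := aux_base3 tw79 rfl b286
theorem n286 : Sound.{u} (cP4r 1 2) s286 0 :=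
  (x286.k4 c286_0 :)
theorem x287 : AuxS.{u} (cP4r 1 2) s287 0 a287 := aux_base3 tw79 rfl b287
theorem n287 : Sound.{u} (cP4r 1 2) s287 0 :=
  (x287.k4 c287_0 :)
theorem x288 : AuxS.{u} (cP4r 1 2) s288 0 a288 := aux_base3 tw79 rfl b288
theorem n288 : Sound.{u} (cP4r 1 2) s288 0 :=
  (x288.k4 c288_0 :)
theorem x289 : AuxS.{u} (cP4r 1 2) s289 0 a289 := aux_base3 tw79 rfl b289
theorem n289 : Sound.{u} (cP4r 1 2) s289 0 :=
  (x289.k4 c289_0 :)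
theorem x290 : AuxS.{u} (cP4r 1 2) s290 0 a290 := aux_base3 tw79 rfl b290
theorem n290 : Sound.{u} (cP4r 1 2) s290 0 :=
  (x290.k4 c290_0 :)
theorem x291 : AuxS.{u} (cP4r 1 2) s291 0 a291 := aux_base3 tw79 rfl b291
theorem n291 : Sound.{u} (cP4r 1 2) s291 0 :=
  (x291.k4 c291_0 :)
theorem x292 : AuxS.{u} (cP4r 1 2) s292 0 a292 := aux_base3 tw79 rfl b292
theorem n292 : Sound.{u} (cP4r 1 2) s292 0 :=
  (x292.k4 c292_0 :)
theorem x293 : AuxS.{u} (cP4r 1 2) s293 0 a293 := aux_base3 tw79 rfl b293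
theorem n293 : Sound.{u} (cP4r 1 2) s293 0 :=
  (x293.k4 c293_0 :)
theorem x294 : AuxS.{u} (cP4r 1 2) s294 0 a294 := aux_base3 tw79 rfl b294
theorem n294 : Sound.{u} (cP4r 1 2) s294 0 :=
  (x294.k4 c294_0 :)
theorem x295 : AuxS.{u} (cP4r 1 2) s295 0 a295 := aux_base3 tw79 rfl b295
theorem n295 : Sound.{u} (cP4r 1 2) s295 0 :=
  (x295.k4 c295_0 :)
theorem x296 : AuxS.{u} (cP4r 1 2) s296 0 a296 := aux_base3 tw79 rfl b296
theorem n296 : Sound.{u} (cP4r 1 2) s296 0 :=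
  (x296.k4 c296_0 :)
theorem x297 : AuxS.{u} (cP4r 1 2) s297 0 a297 := aux_base3 tw79 rfl b297
theorem n297 : Sound.{u} (cP4r 1 2) s297 0 :=
  (x297.k4 c297_0 :)
theorem x298 : AuxS.{u} (cP4r 1 2) s298 0 a298 := aux_base3 tw79 rfl b298
theorem n298 : Sound.{u} (cP4r 1 2) s298 0 :=
  (x298.k4 c298_0 :)
theorem x299 : AuxS.{u} (cP4r 1 2) s299 0 a299 := aux_base3 tw79 rfl b299
theorem n299 : Sound.{u} (cP4r 1 2) s299 0 :=
  (x299.k4 c299_0 :)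
theorem x300 : AuxS.{u} (cP4r 1 2) s300 0 a300 := aux_base3 tw79 rfl b300
theorem n300 : Sound.{u} (cP4r 1 2) s300 0 :=
  (x300.k4 c300_0 :)
theorem x301 : AuxS.{u} (cP4r 1 2) s301 0 a301 := aux_base3 tw79 rfl b301
theorem n301 : Sound.{u} (cP4r 1 2) s301 0 :=
  (x301.k4 c301_0 :)
theorem x302 : AuxS.{u} (cP4r 1 2) s302 0 a302 := aux_base3 tw79 rfl b302
theorem n302 : Sound.{u} (cP4r 1 2) s302 0 :=
  (x302.k4 c302_0 :)
theorem x303 : AuxS.{u} (cP4r 1 2) s303 0 a303 := aux_base3 tw79 rfl b303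
theorem n303 : Sound.{u} (cP4r 1 2) s303 0 :=
  (x303.k4 c303_0 :)
theorem x304 : AuxS.{u} (cP4r 1 2) s304 0 a304 := aux_base3 tw79 rfl b304
theorem n304 : Sound.{u} (cP4r 1 2) s304 0 :=
  (x304.k4 c304_0 :)
theorem x305 : AuxS.{u} (cP4r 1 2) s305 0 a305 := aux_base3 tw79 rfl b305
theorem n305 : Sound.{u} (cP4r 1 2) s305 0 :=
  (x305.k4 c305_0 :)
theorem x306 : AuxS.{u} (cP4r 1 2) s306 0 a306 := aux_base3 tw79 rfl b306
theorem n306 : Sound.{u} (cP4r 1 2) s306 0 :=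
  (x306.k4 c306_0 :)
theorem x307 : AuxS.{u} (cP4r 1 2) s307 0 a307 := aux_base3 tw79 rfl b307
theorem n307 : Sound.{u} (cP4r 1 2) s307 0 :=
  (x307.k4 c307_0 :)
theorem x308 : AuxS.{u} (cP4r 1 2) s308 0 a308 := aux_base3 tw79 rfl b308
theorem n308 : Sound.{u} (cP4r 1 2) s308 0 :=
  (x308.k4 c308_0 :)
theorem x309 : AuxS.{u} (cP4r 1 2) s309 0 a309 := aux_base3 tw79 rfl b309
theorem n309 : Sound.{u} (cP4r 1 2) s309 0 :=
  (x309.k4 c309_0 :)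
theorem x310 : AuxS.{u} (cP4r 1 2) s310 0 a310 := aux_base3 tw79 rfl b310
theorem n310 : Sound.{u} (cP4r 1 2) s310 0 :=
  (x310.k4 c310_0 :)
theorem x311 : AuxS.{u} (cP4r 1 2) s311 0 a311 := aux_base3 tw79 rfl b311
theorem n311 : Sound.{u} (cP4r 1 2) s311 0 :=
  (x311.k4 c311_0 :)
theorem x312 : AuxS.{u} (cP4r 1 2) s312 0 a312 := aux_base3 tw79 rfl b312
theorem n312 : Sound.{u} (cP4r 1 2) s312 0 :=
  (x312.k4 c312_0 :)
theorem x313 : AuxS.{u} (cP4r 1 2) s313 0 a313 := aux_base3 tw79 rfl b313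
theorem n313 : Sound.{u} (cP4r 1 2) s313 0 :=
  (x313.k4 c313_0 :)
theorem x314 : AuxS.{u} (cP4r 1 2) s314 0 a314 := aux_base3 tw79 rfl b314
theorem x314_1 : AuxS.{u} (cP4r 1 2) s314 0 a314_1 := x314
theorem x314_2 : AuxS.{u} (cP4r 1 2) s314 0 a314_2 := x314_1
theorem x314_3 : AuxS.{u} (cP4r 1 2) s314 0 a314_3 := x314_2
theorem n314 : Sound.{u} (cP4r 1 2) s314 0 :=
  (x314_3.jump c314_0 c314_1 n117 :)
theorem x315 : AuxS.{u} (cP4r 1 2) s315 0 a315 := aux_base3 tw79 rfl b315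
theorem n315 : Sound.{u} (cP4r 1 2) s315 0 :=
  (x315.k4 c315_0 :)
theorem x316 : AuxS.{u} (cP4r 1 2) s316 0 a316 := aux_base3 tw79 rfl b316
theorem n316 : Sound.{u} (cP4r 1 2) s316 0 :=
  (x316.k4 c316_0 :)
theorem x317 : AuxS.{u} (cP4r 1 2) s317 0 a317 := aux_base3 tw79 rfl b317
theorem n317 : Sound.{u} (cP4r 1 2) s317 0 :=
  (x317.k4 c317_0 :)
theorem x318 : AuxS.{u} (cP4r 1 2) s318 0 a318 := aux_base3 tw79 rfl b318
theorem n318 : Sound.{u} (cP4r 1 2) s318 0 :=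
  (x318.k4 c318_0 :)
theorem x319 : AuxS.{u} (cP4r 1 2) s319 0 a319 := aux_base3 tw79 rfl b319
theorem n319 : Sound.{u} (cP4r 1 2) s319 0 :=
  (x319.k4 c319_0 :)
theorem x320 : AuxS.{u} (cP4r 1 2) s320 0 a320 := aux_base3 tw79 rfl b320
theorem n320 : Sound.{u} (cP4r 1 2) s320 0 :=
  (x320.k4 c320_0 :)
theorem x321 : AuxS.{u} (cP4r 1 2) s321 0 a321 := aux_base3 tw79 rfl b321
theorem n321 : Sound.{u} (cP4r 1 2) s321 0 :=
  (x321.k4 c321_0 :)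
theorem x322 : AuxS.{u} (cP4r 1 2) s322 0 a322 := aux_base3 tw79 rfl b322
theorem n322 : Sound.{u} (cP4r 1 2) s322 0 :=
  (x322.k4 c322_0 :)
theorem x323 : AuxS.{u} (cP4r 1 2) s323 0 a323 := aux_base3 tw79 rfl b323
theorem n323 : Sound.{u} (cP4r 1 2) s323 0 :=
  (x323.k4 c323_0 :)
theorem x324 : AuxS.{u} (cP4r 1 2) s324 0 a324 := aux_base3 tw79 rfl b324
theorem n324 : Sound.{u} (cP4r 1 2) s324 0 :=
  (x324.k4 c324_0 :)
theorem x325 : AuxS.{u} (cP4r 1 2) s325 0 a325 := aux_base3 tw79 rfl b325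
theorem n325 : Sound.{u} (cP4r 1 2) s325 0 :=
  (x325.k4 c325_0 :)
theorem x326 : AuxS.{u} (cP4r 1 2) s326 0 a326 := aux_base3 tw79 rfl b326
theorem n326 : Sound.{u} (cP4r 1 2) s326 0 :=
  (x326.k4 c326_0 :)
theorem x327 : AuxS.{u} (cP4r 1 2) s327 0 a327 := aux_base3 tw79 rfl b327
theorem n327 : Sound.{u} (cP4r 1 2) s327 0 :=
  (x327.k4 c327_0 :)
theorem x328 : AuxS.{u} (cP4r 1 2) s328 0 a328 := aux_base3 tw79 rfl b328
theorem n328 : Sound.{u} (cP4r 1 2) s328 0 :=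
  (x328.k4 c328_0 :)
theorem x329 : AuxS.{u} (cP4r 1 2) s329 0 a329 := aux_base3 tw79 rfl b329
theorem n329 : Sound.{u} (cP4r 1 2) s329 0 :=
  (x329.k4 c329_0 :)
theorem x330 : AuxS.{u} (cP4r 1 2) s330 0 a330 := aux_base3 tw79 rfl b330
theorem n330 : Sound.{u} (cP4r 1 2) s330 0 :=
  (x330.k4 c330_0 :)
theorem x331 : AuxS.{u} (cP4r 1 2) s331 0 a331 := aux_base3 tw79 rfl b331
theorem n331 : Sound.{u} (cP4r 1 2) s331 0 :=
  (x331.k4 c331_0 :)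
theorem x332 : AuxS.{u} (cP4r 1 2) s332 0 a332 := aux_base3 tw79 rfl b332
theorem n332 : Sound.{u} (cP4r 1 2) s332 0 :=
  (x332.k4 c332_0 :)
theorem x333 : AuxS.{u} (cP4r 1 2) s333 0 a333 := aux_base3 tw79 rfl b333
theorem n333 : Sound.{u} (cP4r 1 2) s333 0 :=
  (x333.k4 c333_0 :)
theorem x334 : AuxS.{u} (cP4r 1 2) s334 0 a334 := aux_base3 tw79 rfl b334
theorem n334 : Sound.{u} (cP4r 1 2) s334 0 :=
  (x334.k4 c334_0 :)
theorem x335 : AuxS.{u} (cP4r 1 2) s335 0 a335 := aux_base3 tw79 rfl b335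
theorem n335 : Sound.{u} (cP4r 1 2) s335 0 :=
  (x335.k4 c335_0 :)
theorem x336 : AuxS.{u} (cP4r 1 2) s336 0 a336 := aux_base3 tw79 rfl b336
theorem n336 : Sound.{u} (cP4r 1 2) s336 0 :=
  (x336.k4 c336_0 :)
theorem x337 : AuxS.{u} (cP4r 1 2) s337 0 a337 := aux_base3 tw79 rfl b337
theorem n337 : Sound.{u} (cP4r 1 2) s337 0 :=
  (x337.k4 c337_0 :)
theorem x338 : AuxS.{u} (cP4r 1 2) s338 0 a338 := aux_base3 tw79 rfl b338
theorem n338 : Sound.{u} (cP4r 1 2) s338 0 :=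
  (x338.k4 c338_0 :)
theorem x339 : AuxS.{u} (cP4r 1 2) s339 0 a339 := aux_base3 tw79 rfl b339
theorem n339 : Sound.{u} (cP4r 1 2) s339 0 :=
  (x339.k4 c339_0 :)
theorem x340 : AuxS.{u} (cP4r 1 2) s340 0 a340 := aux_base3 tw79 rfl b340
theorem n340 : Sound.{u} (cP4r 1 2) s340 0 :=
  (x340.k4 c340_0 :)
theorem x341 : AuxS.{u} (cP4r 1 2) s341 0 a341 := aux_base3 tw79 rfl b341
theorem n341 : Sound.{u} (cP4r 1 2) s341 0 :=
  (x341.k4 c341_0 :)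
theorem x342 : AuxS.{u} (cP4r 1 2) s342 0 a342 := aux_base3 tw79 rfl b342
theorem n342 : Sound.{u} (cP4r 1 2) s342 0 :=
  (x342.k4 c342_0 :)
theorem x343 : AuxS.{u} (cP4r 1 2) s343 0 a343 := aux_base3 tw79 rfl b343
theorem n343 : Sound.{u} (cP4r 1 2) s343 0 :=
  (x343.k4 c343_0 :)
theorem x344 : AuxS.{u} (cP4r 1 2) s344 0 a344 := aux_base3 tw79 rfl b344
theorem n344 : Sound.{u} (cP4r 1 2) s344 0 :=
  (x344.k4 c344_0 :)
theorem x345 : AuxS.{u} (cP4r 1 2) s345 0 a345 := aux_base3 tw79 rfl b345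
theorem n345 : Sound.{u} (cP4r 1 2) s345 0 :=
  (x345.k4 c345_0 :)
theorem x346 : AuxS.{u} (cP4r 1 2) s346 0 a346 := aux_base3 tw79 rfl b346
theorem n346 : Sound.{u} (cP4r 1 2) s346 0 :=
  (x346.k4 c346_0 :)
theorem x347 : AuxS.{u} (cP4r 1 2) s347 0 a347 := aux_base3 tw79 rfl b347
theorem n347 : Sound.{u} (cP4r 1 2) s347 0 :=
  (x347.k4 c347_0 :)
theorem x348 : AuxS.{u} (cP4r 1 2) s348 0 a348 := aux_base3 tw79 rfl b348
theorem n348 : Sound.{u} (cP4r 1 2) s348 0 :=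
  (x348.k4 c348_0 :)
theorem x349 : AuxS.{u} (cP4r 1 2) s349 0 a349 := aux_base3 tw79 rfl b349
theorem n349 : Sound.{u} (cP4r 1 2) s349 0 :=
  (x349.k4 c349_0 :)
theorem x350 : AuxS.{u} (cP4r 1 2) s350 0 a350 := aux_base3 tw79 rfl b350
theorem n350 : Sound.{u} (cP4r 1 2) s350 0 :=
  (x350.k4 c350_0 :)
theorem x351 : AuxS.{u} (cP4r 1 2) s351 0 a351 := aux_base3 tw79 rfl b351
theorem n351 : Sound.{u} (cP4r 1 2) s351 0 :=
  (x351.k4 c351_0 :)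
theorem x352 : AuxS.{u} (cP4r 1 2) s352 0 a352 := aux_base3 tw79 rfl b352
theorem n352 : Sound.{u} (cP4r 1 2) s352 0 :=
  (x352.k4 c352_0 :)
theorem x353 : AuxS.{u} (cP4r 1 2) s353 0 a353 := aux_base3 tw79 rfl b353
theorem n353 : Sound.{u} (cP4r 1 2) s353 0 :=
  (x353.k4 c353_0 :)
theorem x354 : AuxS.{u} (cP4r 1 2) s354 0 a354 := aux_base3 tw79 rfl b354
theorem x354_1 : AuxS.{u} (cP4r 1 2) s354 0 a354_1 := x354
theorem x354_2 : AuxS.{u} (cP4r 1 2) s354 0 a354_2 := x354_1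
theorem x354_3 : AuxS.{u} (cP4r 1 2) s354 0 a354_3 := x354_2
theorem n354 : Sound.{u} (cP4r 1 2) s354 0 :=
  (x354_3.jump c354_0 c354_1 n117 :)
theorem x355 : AuxS.{u} (cP4r 1 2) s355 0 a355 := aux_base3 tw79 rfl b355
theorem n355 : Sound.{u} (cP4r 1 2) s355 0 :=
  (x355.k4 c355_0 :)
theorem x356 : AuxS.{u} (cP4r 1 2) s356 0 a356 := aux_base3 tw79 rfl b356
theorem n356 : Sound.{u} (cP4r 1 2) s356 0 :=
  (x356.k4 c356_0 :)
theorem x357 : AuxS.{u} (cP4r 1 2) s357 0 a357 := aux_base3 tw79 rfl b357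
theorem n357 : Sound.{u} (cP4r 1 2) s357 0 :=
  (x357.k4 c357_0 :)
theorem x358 : AuxS.{u} (cP4r 1 2) s358 0 a358 := aux_base3 tw79 rfl b358
theorem n358 : Sound.{u} (cP4r 1 2) s358 0 :=
  (x358.k4 c358_0 :)
theorem x359 : AuxS.{u} (cP4r 1 2) s359 0 a359 := aux_base3 tw79 rfl b359
theorem n359 : Sound.{u} (cP4r 1 2) s359 0 :=
  (x359.k4 c359_0 :)
theorem x360 : AuxS.{u} (cP4r 1 2) s360 0 a360 := aux_base3 tw79 rfl b360
theorem n360 : Sound.{u} (cP4r 1 2) s360 0 :=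
  (x360.k4 c360_0 :)
theorem x361 : AuxS.{u} (cP4r 1 2) s361 0 a361 := aux_base3 tw79 rfl b361
theorem n361 : Sound.{u} (cP4r 1 2) s361 0 :=
  (x361.k4 c361_0 :)
theorem x362 : AuxS.{u} (cP4r 1 2) s362 0 a362 := aux_base3 tw79 rfl b362
theorem n362 : Sound.{u} (cP4r 1 2) s362 0 :=
  (x362.k4 c362_0 :)
theorem x363 : AuxS.{u} (cP4r 1 2) s363 0 a363 := aux_base3 tw79 rfl b363
theorem n363 : Sound.{u} (cP4r 1 2) s363 0 :=
  (x363.k4 c363_0 :)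
theorem x364 : AuxS.{u} (cP4r 1 2) s364 0 a364 := aux_base3 tw79 rfl b364
theorem n364 : Sound.{u} (cP4r 1 2) s364 0 :=
  (x364.k4 c364_0 :)
theorem x365 : AuxS.{u} (cP4r 1 2) s365 0 a365 := aux_base3 tw79 rfl b365
theorem n365 : Sound.{u} (cP4r 1 2) s365 0 :=
  (x365.k4 c365_0 :)
theorem x366 : AuxS.{u} (cP4r 1 2) s366 0 a366 := aux_base3 tw79 rfl b366
theorem n366 : Sound.{u} (cP4r 1 2) s366 0 :=
  (x366.k4 c366_0 :)
theorem x367 : AuxS.{u} (cP4r 1 2) s367 0 a367 := aux_base3 tw79 rfl b367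
theorem n367 : Sound.{u} (cP4r 1 2) s367 0 :=
  (x367.k4 c367_0 :)
theorem x368 : AuxS.{u} (cP4r 1 2) s368 0 a368 := aux_base3 tw79 rfl b368
theorem n368 : Sound.{u} (cP4r 1 2) s368 0 :=
  (x368.k4 c368_0 :)
theorem x369 : AuxS.{u} (cP4r 1 2) s369 0 a369 := aux_base3 tw79 rfl b369
theorem n369 : Sound.{u} (cP4r 1 2) s369 0 :=
  (x369.k4 c369_0 :)
theorem x370 : AuxS.{u} (cP4r 1 2) s370 0 a370 := aux_base3 tw79 rfl b370
theorem n370 : Sound.{u} (cP4r 1 2) s370 0 :=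
  (x370.k4 c370_0 :)
theorem x371 : AuxS.{u} (cP4r 1 2) s371 0 a371 := aux_base3 tw79 rfl b371
theorem n371 : Sound.{u} (cP4r 1 2) s371 0 :=
  (x371.k4 c371_0 :)
theorem x372 : AuxS.{u} (cP4r 1 2) s372 0 a372 := aux_base3 tw79 rfl b372
theorem n372 : Sound.{u} (cP4r 1 2) s372 0 :=
  (x372.k4 c372_0 :)
theorem x113 : AuxS.{u} (cP4r 1 2) s113 0 a113 := aux_base3 tw79 rfl b113
theorem x113_1 : AuxS.{u} (cP4r 1 2) s113 0 a113_1 := x113
theorem x113_2 : AuxS.{u} (cP4r 1 2) s113 0 a113_2 := x113_1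
theorem x113_3 : AuxS.{u} (cP4r 1 2) s113 0 a113_3 := x113_2
theorem n113 : Sound.{u} (cP4r 1 2) s113 0 :=
  (x113_3.fr GamS.nil (AllS.cons n117 (AllS.cons n118 (AllS.cons n119 (AllS.cons n120 (AllS.cons n121 (AllS.cons n122 (AllS.cons n123 (AllS.cons n124 (AllS.cons n125 (AllS.cons n126 (AllS.cons n127 (AllS.cons n128 (AllS.cons n129 (AllS.cons n130 (AllS.cons n131 (AllS.cons n132 (AllS.cons n133 (AllS.cons n134 (AllS.cons n135 (AllS.cons n136 (AllS.cons n137 (AllS.cons n138 (AllS.cons n139 (AllS.cons n140 (AllS.cons n141 (AllS.cons n142 (AllS.cons n143 (AllS.cons n144 (AllS.cons n145 (AllS.cons n146 (AllS.cons n147 (AllS.cons n148 (AllS.cons n149 (AllS.cons n150 (AllS.cons n151 (AllS.cons n152 (AllS.cons n153 (AllS.cons n154 (AllS.cons n155 (AllS.cons n156 (AllS.cons n157 (AllS.cons n158 (AllS.cons n159 (AllS.cons n160 (AllS.cons n161 (AllS.cons n162 (AllS.cons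 n163 (AllS.cons n164 (AllS.cons n165 (AllS.cons n166 (AllS.cons n167 (AllS.cons n168 (AllS.cons n169 (AllS.cons n170 (AllS.cons n171 (AllS.cons n172 (AllS.cons n173 (AllS.cons n174 (AllS.cons n175 (AllS.cons n176 (AllS.cons n177 (AllS.cons n178 (AllS.cons n179 (AllS.cons n180 (AllS.cons n181 (AllS.cons n182 (AllS.cons n183 (AllS.cons n184 (AllS.cons n185 (AllS.cons n186 (AllS.cons n187 (AllS.cons n188 (AllS.cons n189 (AllS.cons n190 (AllS.cons n191 (AllS.cons n192 (AllS.cons n193 (AllS.cons n194 (AllS.cons n195 (AllS.cons n196 (AllS.cons n197 (AllS.cons n198 (AllS.cons n199 (AllS.cons n200 (AllS.cons n201 (AllS.cons n202 (AllS.cons n203 (AllS.cons n204 (AllS.cons n205 (AllS.cons n206 (AllS.cons n207 (AllS.cons n208 (AllS.cons n209 (AllS.cons n210 (AllS.cons n211 (AllS.cons n212 (AllS.cons n213 (AllS.cons n214 (AllS.cons n215 (AllS.cons n216 (AllS.cons n217 (AllS.cons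 n218 (AllS.cons n219 (AllS.cons n220 (AllS.cons n221 (AllS.cons n222 (AllS.cons n223 (AllS.cons n224 (AllS.cons n225 (AllS.cons n226 (AllS.cons n227 (AllS.cons n228 (AllS.cons n229 (AllS.cons n230 (AllS.cons n231 (AllS.cons n232 (AllS.cons n233 (AllS.cons n234 (AllS.cons n235 (AllS.cons n236 (AllS.cons n237 (AllS.cons n238 (AllS.cons n239 (AllS.cons n240 (AllS.cons n241 (AllS.cons n242 (AllS.cons n243 (AllS.cons n244 (AllS.cons n245 (AllS.cons n246 (AllS.cons n247 (AllS.cons n248 (AllS.cons n249 (AllS.cons n250 (AllS.cons n251 (AllS.cons n252 (AllS.cons n253 (AllS.cons n254 (AllS.cons n255 (AllS.cons n256 (AllS.cons n257 (AllS.cons n258 (AllS.cons n259 (AllS.cons n260 (AllS.cons n261 (AllS.cons n262 (AllS.cons n263 (AllS.cons n264 (AllS.cons n265 (AllS.cons n266 (AllS.cons n267 (AllS.cons n268 (AllS.cons n269 (AllS.cons n270 (AllS.cons n271 (AllS.cons n272 (AllS.cons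 n273 (AllS.cons n274 (AllS.cons n275 (AllS.cons n276 (AllS.cons n277 (AllS.cons n278 (AllS.cons n279 (AllS.cons n280 (AllS.cons n281 (AllS.cons n282 (AllS.cons n283 (AllS.cons n284 (AllS.cons n285 (AllS.cons n286 (AllS.cons n287 (AllS.cons n288 (AllS.cons n289 (AllS.cons n290 (AllS.cons n291 (AllS.cons n292 (AllS.cons n293 (AllS.cons n294 (AllS.cons n295 (AllS.cons n296 (AllS.cons n297 (AllS.cons n298 (AllS.cons n299 (AllS.cons n300 (AllS.cons n301 (AllS.cons n302 (AllS.cons n303 (AllS.cons n304 (AllS.cons n305 (AllS.cons n306 (AllS.cons n307 (AllS.cons n308 (AllS.cons n309 (AllS.cons n310 (AllS.cons n311 (AllS.cons n312 (AllS.cons n313 (AllS.cons n314 (AllS.cons n315 (AllS.cons n316 (AllS.cons n317 (AllS.cons n318 (AllS.cons n319 (AllS.cons n320 (AllS.cons n321 (AllS.cons n322 (AllS.cons n323 (AllS.cons n324 (AllS.cons n325 (AllS.cons n326 (AllS.cons n327 (AllS.cons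 n328 (AllS.cons n329 (AllS.cons n330 (AllS.cons n331 (AllS.cons n332 (AllS.cons n333 (AllS.cons n334 (AllS.cons n335 (AllS.cons n336 (AllS.cons n337 (AllS.cons n338 (AllS.cons n339 (AllS.cons n340 (AllS.cons n341 (AllS.cons n342 (AllS.cons n343 (AllS.cons n344 (AllS.cons n345 (AllS.cons n346 (AllS.cons n347 (AllS.cons n348 (AllS.cons n349 (AllS.cons n350 (AllS.cons n351 (AllS.cons n352 (AllS.cons n353 (AllS.cons n354 (AllS.cons n355 (AllS.cons n356 (AllS.cons n357 (AllS.cons n358 (AllS.cons n359 (AllS.cons n360 (AllS.cons n361 (AllS.cons n362 (AllS.cons n363 (AllS.cons n364 (AllS.cons n365 (AllS.cons n366 (AllS.cons n367 (AllS.cons n368 (AllS.cons n369 (AllS.cons n370 (AllS.cons n371 (AllS.cons n372 AllS.nil))))))))))))))))))))))))))))))))))))))))))))))))))))))))))))))))))))))))))))))))))))))))))))))))))))))))))))))))))))))))))))))))))))))))))))))))))))))))))))))))))))))))))))))))))))))))))))))))))))))))))))))))))))))))))))))))))))))))))))))))))))))))))))))))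 c113_0 :)
theorem x114 : AuxS.{u} (cP4r 1 2) s114 0 a114 := aux_base3 tw79 rfl b114
theorem x114_1 : AuxS.{u} (cP4r 1 2) s114 0 a114_1 := (AuxS.up x114 c114_1 :)
theorem x114_2 : AuxS.{u} (cP4r 1 2) s114 0 a114_2 := x114_1
theorem n114 : Sound.{u} (cP4r 1 2) s114 0 :=
  (x114_2.k7 c114_0 :)
theorem x115 : AuxS.{u} (cP4r 1 2) s115 0 a115 := aux_base3 tw79 rfl b115
theorem x115_1 : AuxS.{u} (cP4r 1 2) s115 0 a115_1 := x115
theorem x115_2 : AuxS.{u} (cP4r 1 2) s115 0 a115_2 := x115_1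
theorem x115_3 : AuxS.{u} (cP4r 1 2) s115 0 a115_3 := x115_2
theorem n115 : Sound.{u} (cP4r 1 2) s115 0 :=
  (x115_3.jump c115_0 c115_1 n113 :)
theorem x116 : AuxS.{u} (cP4r 1 2) s116 0 a116 := aux_base3 tw79 rfl b116
theorem x116_1 : AuxS.{u} (cP4r 1 2) s116 0 a116_1 := (AuxS.up x116 c116_1 :)
theorem x116_2 : AuxS.{u} (cP4r 1 2) s116 0 a116_2 := x116_1
theorem n116 : Sound.{u} (cP4r 1 2) s116 0 :=
  (x116_2.k7 c116_0 :)
theorem x112 : AuxS.{u} (cP4r 1 2) s112 0 a112 := aux_base3 tw79 rfl b112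
theorem x112_1 : AuxS.{u} (cP4r 1 2) s112 0 a112_1 := x112
theorem x112_2 : AuxS.{u} (cP4r 1 2) s112 0 a112_2 := x112_1
theorem x112_3 : AuxS.{u} (cP4r 1 2) s112 0 a112_3 := x112_2
theorem n112 : Sound.{u} (cP4r 1 2) s112 0 :=
  (x112_3.rho (AllS.cons n113 (AllS.cons n114 (AllS.cons n115 (AllS.cons n116 AllS.nil)))) c112_0 :)
theorem x96 : AuxS.{u} (cP4r 1 2) s96 0 a96 := aux_base3 tw63 rfl b96
theorem x96_1 : AuxS.{u} (cP4r 1 2) s96 0 a96_1 := x96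
theorem x96_2 : AuxS.{u} (cP4r 1 2) s96 0 a96_2 := x96_1
theorem x96_3 : AuxS.{u} (cP4r 1 2) s96 0 a96_3 := x96_2
theorem n96 : Sound.{u} (cP4r 1 2) s96 0 :=
  (x96_3.fr2 (AuxS.gam x96_3 c96_0) (AllS.cons n112 AllS.nil) c96_1 :)
theorem x97 : AuxS.{u} (cP4r 1 2) s97 0 a97 := aux_base3 tw64 rfl b97
theorem x97_1 : AuxS.{u} (cP4r 1 2) s97 0 a97_1 := x97
theorem x97_2 : AuxS.{u} (cP4r 1 2) s97 0 a97_2 := x97_1
theorem n97 : Sound.{u} (cP4r 1 2) s97 0 :=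
  (x97_2.fr2 GamS.nil AllS.nil c97_0 :)
theorem x98 : AuxS.{u} (cP4r 1 2) s98 0 a98 := aux_base3 tw65 rfl b98
theorem x98_1 : AuxS.{u} (cP4r 1 2) s98 0 a98_1 := x98
theorem x98_2 : AuxS.{u} (cP4r 1 2) s98 0 a98_2 := x98_1
theorem n98 : Sound.{u} (cP4r 1 2) s98 0 :=
  (x98_2.fr2 GamS.nil AllS.nil c98_0 :)
theorem x99 : AuxS.{u} (cP4r 1 2) s99 0 a99 := aux_base3 tw66 rfl b99
theorem x99_1 : AuxS.{u} (cP4r 1 2) s99 0 a99_1 := x99
theorem x99_2 : AuxS.{u} (cP4r 1 2) s99 0 a99_2 := x99_1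
theorem n99 : Sound.{u} (cP4r 1 2) s99 0 :=
  (x99_2.fr2 GamS.nil AllS.nil c99_0 :)
theorem x100 : AuxS.{u} (cP4r 1 2) s100 0 a100 := aux_base3 tw67 rfl b100
theorem x100_1 : AuxS.{u} (cP4r 1 2) s100 0 a100_1 := x100
theorem x100_2 : AuxS.{u} (cP4r 1 2) s100 0 a100_2 := x100_1
theorem x100_3 : AuxS.{u} (cP4r 1 2) s100 0 a100_3 := x100_2
theorem n100 : Sound.{u} (cP4r 1 2) s100 0 :=
  (x100_3.fr2 GamS.nil AllS.nil c100_0 :)
theorem x402 : AuxS.{u} (cP4r 1 2) s402 0 a402 := aux_base3 tw108 rfl b402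
theorem x402_1 : AuxS.{u} (cP4r 1 2) s402 0 a402_1 := (AuxS.up x402 c402_1 :)
theorem x402_2 : AuxS.{u} (cP4r 1 2) s402 0 a402_2 := x402_1
theorem n402 : Sound.{u} (cP4r 1 2) s402 0 :=
  (x402_2.k7 c402_0 :)
theorem x403 : AuxS.{u} (cP4r 1 2) s403 0 a403 := aux_base3 tw108 rfl b403
theorem x403_1 : AuxS.{u} (cP4r 1 2) s403 0 a403_1 := (AuxS.up x403 c403_1 :)
theorem x403_2 : AuxS.{u} (cP4r 1 2) s403 0 a403_2 := x403_1
theorem n403 : Sound.{u} (cP4r 1 2) s403 0 :=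
  (x403_2.k7 c403_0 :)
theorem x404 : AuxS.{u} (cP4r 1 2) s404 0 a404 := aux_base3 tw108 rfl b404
theorem x404_1 : AuxS.{u} (cP4r 1 2) s404 0 a404_1 := (AuxS.up x404 c404_1 :)
theorem x404_2 : AuxS.{u} (cP4r 1 2) s404 0 a404_2 := x404_1
theorem n404 : Sound.{u} (cP4r 1 2) s404 0 :=
  (x404_2.k7 c404_0 :)
theorem x405 : AuxS.{u} (cP4r 1 2) s405 0 a405 := aux_base3 tw108 rfl b405
theorem x405_1 : AuxS.{u} (cP4r 1 2) s405 0 a405_1 := (AuxS.up x405 c405_1 :)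
theorem x405_2 : AuxS.{u} (cP4r 1 2) s405 0 a405_2 := x405_1
theorem n405 : Sound.{u} (cP4r 1 2) s405 0 :=
  (x405_2.k7 c405_0 :)
theorem x401 : AuxS.{u} (cP4r 1 2) s401 0 a401 := aux_base3 tw108 rfl b401
theorem x401_1 : AuxS.{u} (cP4r 1 2) s401 0 a401_1 := x401
theorem x401_2 : AuxS.{u} (cP4r 1 2) s401 0 a401_2 := x401_1
theorem x401_3 : AuxS.{u} (cP4r 1 2) s401 0 a401_3 := x401_2
theorem n401 : Sound.{u} (cP4r 1 2) s401 0 :=
  (x401_3.rho (AllS.cons n402 (AllS.cons n403 (AllS.cons n404 (AllS.cons n405 AllS.nil)))) c401_0 :)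
theorem x101 : AuxS.{u} (cP4r 1 2) s101 0 a101 := aux_base3 tw68 rfl b101
theorem x101_1 : AuxS.{u} (cP4r 1 2) s101 0 a101_1 := x101
theorem x101_2 : AuxS.{u} (cP4r 1 2) s101 0 a101_2 := x101_1
theorem x101_3 : AuxS.{u} (cP4r 1 2) s101 0 a101_3 := x101_2
theorem n101 : Sound.{u} (cP4r 1 2) s101 0 :=
  (x101_3.fr2 (AuxS.gam x101_3 c101_0) (AllS.cons n401 AllS.nil) c101_1 :)
theorem x102 : AuxS.{u} (cP4r 1 2) s102 0 a102 := aux_base3 tw69 rfl b102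
theorem x102_1 : AuxS.{u} (cP4r 1 2) s102 0 a102_1 := x102
theorem x102_2 : AuxS.{u} (cP4r 1 2) s102 0 a102_2 := x102_1
theorem n102 : Sound.{u} (cP4r 1 2) s102 0 :=
  (x102_2.fr2 GamS.nil AllS.nil c102_0 :)
theorem x103 : AuxS.{u} (cP4r 1 2) s103 0 a103 := aux_base3 tw70 rfl b103
theorem x103_1 : AuxS.{u} (cP4r 1 2) s103 0 a103_1 := x103
theorem x103_2 : AuxS.{u} (cP4r 1 2) s103 0 a103_2 := x103_1
theorem n103 : Sound.{u} (cP4r 1 2) s103 0 :=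
  (x103_2.fr2 GamS.nil AllS.nil c103_0 :)
theorem x104 : AuxS.{u} (cP4r 1 2) s104 0 a104 := aux_base3 tw71 rfl b104
theorem x104_1 : AuxS.{u} (cP4r 1 2) s104 0 a104_1 := x104
theorem x104_2 : AuxS.{u} (cP4r 1 2) s104 0 a104_2 := x104_1
theorem x104_3 : AuxS.{u} (cP4r 1 2) s104 0 a104_3 := x104_2
theorem n104 : Sound.{u} (cP4r 1 2) s104 0 :=
  (x104_3.fr2 GamS.nil AllS.nil c104_0 :)
theorem x105 : AuxS.{u} (cP4r 1 2) s105 0 a105 := aux_base3 tw72 rfl b105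
theorem x105_1 : AuxS.{u} (cP4r 1 2) s105 0 a105_1 := x105
theorem x105_2 : AuxS.{u} (cP4r 1 2) s105 0 a105_2 := x105_1
theorem n105 : Sound.{u} (cP4r 1 2) s105 0 :=
  (x105_2.fr2 GamS.nil AllS.nil c105_0 :)
theorem x106 : AuxS.{u} (cP4r 1 2) s106 0 a106 := aux_base3 tw73 rfl b106
theorem x106_1 : AuxS.{u} (cP4r 1 2) s106 0 a106_1 := x106
theorem x106_2 : AuxS.{u} (cP4r 1 2) s106 0 a106_2 := x106_1
theorem x106_3 : AuxS.{u} (cP4r 1 2) s106 0 a106_3 := x106_2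
theorem n106 : Sound.{u} (cP4r 1 2) s106 0 :=
  (x106_3.fr2 GamS.nil AllS.nil c106_0 :)
theorem x107 : AuxS.{u} (cP4r 1 2) s107 0 a107 := aux_base3 tw74 rfl b107
theorem x107_1 : AuxS.{u} (cP4r 1 2) s107 0 a107_1 := x107
theorem x107_2 : AuxS.{u} (cP4r 1 2) s107 0 a107_2 := x107_1
theorem n107 : Sound.{u} (cP4r 1 2) s107 0 :=
  (x107_2.fr2 GamS.nil AllS.nil c107_0 :)
theorem x108 : AuxS.{u} (cP4r 1 2) s108 0 a108 := aux_base3 tw75 rfl b108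
theorem x108_1 : AuxS.{u} (cP4r 1 2) s108 0 a108_1 := x108
theorem x108_2 : AuxS.{u} (cP4r 1 2) s108 0 a108_2 := x108_1
theorem x108_3 : AuxS.{u} (cP4r 1 2) s108 0 a108_3 := x108_2
theorem n108 : Sound.{u} (cP4r 1 2) s108 0 :=
  (x108_3.fr2 GamS.nil AllS.nil c108_0 :)
theorem x109 : AuxS.{u} (cP4r 1 2) s109 0 a109 := aux_base3 tw76 rfl b109
theorem x109_1 : AuxS.{u} (cP4r 1 2) s109 0 a109_1 := x109
theorem x109_2 : AuxS.{u} (cP4r 1 2) s109 0 a109_2 := x109_1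
theorem n109 : Sound.{u} (cP4r 1 2) s109 0 :=
  (x109_2.fr2 GamS.nil AllS.nil c109_0 :)
theorem x110 : AuxS.{u} (cP4r 1 2) s110 0 a110 := aux_base3 tw77 rfl b110
theorem x110_1 : AuxS.{u} (cP4r 1 2) s110 0 a110_1 := x110
theorem x110_2 : AuxS.{u} (cP4r 1 2) s110 0 a110_2 := x110_1
theorem n110 : Sound.{u} (cP4r 1 2) s110 0 :=
  (x110_2.fr2 GamS.nil AllS.nil c110_0 :)
theorem x111 : AuxS.{u} (cP4r 1 2) s111 0 a111 := aux_base3 tw78 rfl b111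
theorem x111_1 : AuxS.{u} (cP4r 1 2) s111 0 a111_1 := x111
theorem x111_2 : AuxS.{u} (cP4r 1 2) s111 0 a111_2 := x111_1
theorem x111_3 : AuxS.{u} (cP4r 1 2) s111 0 a111_3 := x111_2
theorem n111 : Sound.{u} (cP4r 1 2) s111 0 :=
  (x111_3.fr2 GamS.nil AllS.nil c111_0 :)
theorem x64 : AuxS.{u} (cP4r 1 2) s64 0 a64 := aux_base3 tw45 rfl b64
theorem x64_1 : AuxS.{u} (cP4r 1 2) s64 0 a64_1 := x64
theorem x64_2 : AuxS.{u} (cP4r 1 2) s64 0 a64_2 := x64_1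
theorem n64 : Sound.{u} (cP4r 1 2) s64 0 :=
  (x64_2.fr2 GamS.nil (AllS.cons n96 (AllS.cons n97 (AllS.cons n98 (AllS.cons n99 (AllS.cons n100 (AllS.cons n101 (AllS.cons n102 (AllS.cons n103 (AllS.cons n104 (AllS.cons n105 (AllS.cons n106 (AllS.cons n107 (AllS.cons n108 (AllS.cons n109 (AllS.cons n110 (AllS.cons n111 AllS.nil)))))))))))))))) c64_0 :)
theorem x65 : AuxS.{u} (cP4r 1 2) s65 0 a65 := aux_base3 tw45 rfl b65
theorem n65 : Sound.{u} (cP4r 1 2) s65 0 :=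
  (x65.k4 c65_0 :)
theorem x66 : AuxS.{u} (cP4r 1 2) s66 0 a66 := aux_base3 tw45 rfl b66
theorem n66 : Sound.{u} (cP4r 1 2) s66 0 :=
  (x66.k4 c66_0 :)
theorem x67 : AuxS.{u} (cP4r 1 2) s67 0 a67 := aux_base3 tw45 rfl b67
theorem n67 : Sound.{u} (cP4r 1 2) s67 0 :=
  (x67.k4 c67_0 :)
theorem x68 : AuxS.{u} (cP4r 1 2) s68 0 a68 := aux_base3 tw45 rfl b68
theorem n68 : Sound.{u} (cP4r 1 2) s68 0 :=
  (x68.k4 c68_0 :)
theorem x69 : AuxS.{u} (cP4r 1 2) s69 0 a69 := aux_base3 tw45 rfl b69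
theorem n69 : Sound.{u} (cP4r 1 2) s69 0 :=
  (x69.k4 c69_0 :)
theorem x70 : AuxS.{u} (cP4r 1 2) s70 0 a70 := aux_base3 tw45 rfl b70
theorem n70 : Sound.{u} (cP4r 1 2) s70 0 :=
  (x70.k4 c70_0 :)
theorem x71 : AuxS.{u} (cP4r 1 2) s71 0 a71 := aux_base3 tw45 rfl b71
theorem n71 : Sound.{u} (cP4r 1 2) s71 0 :=
  (x71.k4 c71_0 :)
theorem x72 : AuxS.{u} (cP4r 1 2) s72 0 a72 := aux_base3 tw45 rfl b72
theorem n72 : Sound.{u} (cP4r 1 2) s72 0 :=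
  (x72.k4 c72_0 :)
theorem x73 : AuxS.{u} (cP4r 1 2) s73 0 a73 := aux_base3 tw45 rfl b73
theorem n73 : Sound.{u} (cP4r 1 2) s73 0 :=
  (x73.k4 c73_0 :)
theorem x74 : AuxS.{u} (cP4r 1 2) s74 0 a74 := aux_base3 tw45 rfl b74
theorem n74 : Sound.{u} (cP4r 1 2) s74 0 :=
  (x74.k4 c74_0 :)
theorem x75 : AuxS.{u} (cP4r 1 2) s75 0 a75 := aux_base3 tw45 rfl b75
theorem n75 : Sound.{u} (cP4r 1 2) s75 0 :=
  (x75.k4 c75_0 :)
theorem x76 : AuxS.{u} (cP4r 1 2) s76 0 a76 := aux_base3 tw45 rfl b76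
theorem n76 : Sound.{u} (cP4r 1 2) s76 0 :=
  (x76.k4 c76_0 :)
theorem x77 : AuxS.{u} (cP4r 1 2) s77 0 a77 := aux_base3 tw45 rfl b77
theorem n77 : Sound.{u} (cP4r 1 2) s77 0 :=
  (x77.k4 c77_0 :)
theorem x78 : AuxS.{u} (cP4r 1 2) s78 0 a78 := aux_base3 tw45 rfl b78
theorem n78 : Sound.{u} (cP4r 1 2) s78 0 :=
  (x78.k4 c78_0 :)
theorem x79 : AuxS.{u} (cP4r 1 2) s79 0 a79 := aux_base3 tw45 rfl b79
theorem n79 : Sound.{u} (cP4r 1 2) s79 0 :=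
  (x79.k4 c79_0 :)
theorem x80 : AuxS.{u} (cP4r 1 2) s80 0 a80 := aux_base3 tw45 rfl b80
theorem n80 : Sound.{u} (cP4r 1 2) s80 0 :=
  (x80.k4 c80_0 :)
theorem x81 : AuxS.{u} (cP4r 1 2) s81 0 a81 := aux_base3 tw45 rfl b81
theorem n81 : Sound.{u} (cP4r 1 2) s81 0 :=
  (x81.k4 c81_0 :)
theorem x82 : AuxS.{u} (cP4r 1 2) s82 0 a82 := aux_base3 tw45 rfl b82
theorem n82 : Sound.{u} (cP4r 1 2) s82 0 :=
  (x82.k4 c82_0 :)
theorem x83 : AuxS.{u} (cP4r 1 2) s83 0 a83 := aux_base3 tw45 rfl b83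
theorem n83 : Sound.{u} (cP4r 1 2) s83 0 :=
  (x83.k4 c83_0 :)
theorem x84 : AuxS.{u} (cP4r 1 2) s84 0 a84 := aux_base3 tw45 rfl b84
theorem n84 : Sound.{u} (cP4r 1 2) s84 0 :=
  (x84.k4 c84_0 :)
theorem x85 : AuxS.{u} (cP4r 1 2) s85 0 a85 := aux_base3 tw45 rfl b85
theorem n85 : Sound.{u} (cP4r 1 2) s85 0 :=
  (x85.k4 c85_0 :)
theorem x86 : AuxS.{u} (cP4r 1 2) s86 0 a86 := aux_base3 tw45 rfl b86
theorem n86 : Sound.{u} (cP4r 1 2) s86 0 :=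
  (x86.k4 c86_0 :)
theorem x87 : AuxS.{u} (cP4r 1 2) s87 0 a87 := aux_base3 tw45 rfl b87
theorem n87 : Sound.{u} (cP4r 1 2) s87 0 :=
  (x87.k4 c87_0 :)
theorem x88 : AuxS.{u} (cP4r 1 2) s88 0 a88 := aux_base3 tw45 rfl b88
theorem n88 : Sound.{u} (cP4r 1 2) s88 0 :=
  (x88.k4 c88_0 :)
theorem x89 : AuxS.{u} (cP4r 1 2) s89 0 a89 := aux_base3 tw45 rfl b89
theorem n89 : Sound.{u} (cP4r 1 2) s89 0 :=
  (x89.k4 c89_0 :)
theorem x90 : AuxS.{u} (cP4r 1 2) s90 0 a90 := aux_base3 tw45 rfl b90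
theorem n90 : Sound.{u} (cP4r 1 2) s90 0 :=
  (x90.k4 c90_0 :)
theorem x91 : AuxS.{u} (cP4r 1 2) s91 0 a91 := aux_base3 tw45 rfl b91
theorem n91 : Sound.{u} (cP4r 1 2) s91 0 :=
  (x91.k4 c91_0 :)
theorem x92 : AuxS.{u} (cP4r 1 2) s92 0 a92 := aux_base3 tw45 rfl b92
theorem n92 : Sound.{u} (cP4r 1 2) s92 0 :=
  (x92.k4 c92_0 :)
theorem x93 : AuxS.{u} (cP4r 1 2) s93 0 a93 := aux_base3 tw45 rfl b93
theorem n93 : Sound.{u} (cP4r 1 2) s93 0 :=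
  (x93.k4 c93_0 :)
theorem x94 : AuxS.{u} (cP4r 1 2) s94 0 a94 := aux_base3 tw45 rfl b94
theorem n94 : Sound.{u} (cP4r 1 2) s94 0 :=
  (x94.k4 c94_0 :)
theorem x95 : AuxS.{u} (cP4r 1 2) s95 0 a95 := aux_base3 tw45 rfl b95
theorem n95 : Sound.{u} (cP4r 1 2) s95 0 :=
  (x95.k4 c95_0 :)
theorem x46 : AuxS.{u} (cP4r 1 2) s46 0 a46 := aux_base3 tw45 rfl b46
theorem x46_1 : AuxS.{u} (cP4r 1 2) s46 0 a46_1 := x46
theorem x46_2 : AuxS.{u} (cP4r 1 2) s46 0 a46_2 := x46_1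
theorem x46_3 : AuxS.{u} (cP4r 1 2) s46 0 a46_3 := x46_2
theorem n46 : Sound.{u} (cP4r 1 2) s46 0 :=
  (x46_3.fr (AuxS.gam x46_3 c46_0) (AllS.cons n64 (AllS.cons n65 (AllS.cons n66 (AllS.cons n67 (AllS.cons n68 (AllS.cons n69 (AllS.cons n70 (AllS.cons n71 (AllS.cons n72 (AllS.cons n73 (AllS.cons n74 (AllS.cons n75 (AllS.cons n76 (AllS.cons n77 (AllS.cons n78 (AllS.cons n79 (AllS.cons n80 (AllS.cons n81 (AllS.cons n82 (AllS.cons n83 (AllS.cons n84 (AllS.cons n85 (AllS.cons n86 (AllS.cons n87 (AllS.cons n88 (AllS.cons n89 (AllS.cons n90 (AllS.cons n91 (AllS.cons n92 (AllS.cons n93 (AllS.cons n94 (AllS.cons n95 AllS.nil)))))))))))))))))))))))))))))))) c46_1 :)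
theorem x47 : AuxS.{u} (cP4r 1 2) s47 0 a47 := aux_base3 tw46 rfl b47
theorem x47_1 : AuxS.{u} (cP4r 1 2) s47 0 a47_1 := x47
theorem x47_2 : AuxS.{u} (cP4r 1 2) s47 0 a47_2 := x47_1
theorem x47_3 : AuxS.{u} (cP4r 1 2) s47 0 a47_3 := x47_2
theorem n47 : Sound.{u} (cP4r 1 2) s47 0 :=
  (x47_3.fr GamS.nil AllS.nil c47_0 :)
theorem x48 : AuxS.{u} (cP4r 1 2) s48 0 a48 := aux_base3 tw47 rfl b48
theorem x48_1 : AuxS.{u} (cP4r 1 2) s48 0 a48_1 := x48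
theorem x48_2 : AuxS.{u} (cP4r 1 2) s48 0 a48_2 := x48_1
theorem x48_3 : AuxS.{u} (cP4r 1 2) s48 0 a48_3 := x48_2
theorem n48 : Sound.{u} (cP4r 1 2) s48 0 :=
  (x48_3.fr GamS.nil AllS.nil c48_0 :)
theorem x49 : AuxS.{u} (cP4r 1 2) s49 0 a49 := aux_base3 tw48 rfl b49
theorem x49_1 : AuxS.{u} (cP4r 1 2) s49 0 a49_1 := x49
theorem x49_2 : AuxS.{u} (cP4r 1 2) s49 0 a49_2 := x49_1
theorem x49_3 : AuxS.{u} (cP4r 1 2) s49 0 a49_3 := x49_2
theorem n49 : Sound.{u} (cP4r 1 2) s49 0 :=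
  (x49_3.fr GamS.nil AllS.nil c49_0 :)
theorem x50 : AuxS.{u} (cP4r 1 2) s50 0 a50 := aux_base3 tw49 rfl b50
theorem x50_1 : AuxS.{u} (cP4r 1 2) s50 0 a50_1 := x50
theorem x50_2 : AuxS.{u} (cP4r 1 2) s50 0 a50_2 := x50_1
theorem x50_3 : AuxS.{u} (cP4r 1 2) s50 0 a50_3 := x50_2
theorem n50 : Sound.{u} (cP4r 1 2) s50 0 :=
  (x50_3.fr GamS.nil AllS.nil c50_0 :)
theorem x51 : AuxS.{u} (cP4r 1 2) s51 0 a51 := aux_base3 tw50 rfl b51
theorem x51_1 : AuxS.{u} (cP4r 1 2) s51 0 a51_1 := x51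
theorem x51_2 : AuxS.{u} (cP4r 1 2) s51 0 a51_2 := x51_1
theorem x51_3 : AuxS.{u} (cP4r 1 2) s51 0 a51_3 := x51_2
theorem n51 : Sound.{u} (cP4r 1 2) s51 0 :=
  (x51_3.fr GamS.nil AllS.nil c51_0 :)
theorem x52 : AuxS.{u} (cP4r 1 2) s52 0 a52 := aux_base3 tw51 rfl b52
theorem x52_1 : AuxS.{u} (cP4r 1 2) s52 0 a52_1 := x52
theorem x52_2 : AuxS.{u} (cP4r 1 2) s52 0 a52_2 := x52_1
theorem x52_3 : AuxS.{u} (cP4r 1 2) s52 0 a52_3 := x52_2
theorem n52 : Sound.{u} (cP4r 1 2) s52 0 :=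
  (x52_3.fr GamS.nil AllS.nil c52_0 :)
theorem x53 : AuxS.{u} (cP4r 1 2) s53 0 a53 := aux_base3 tw52 rfl b53
theorem x53_1 : AuxS.{u} (cP4r 1 2) s53 0 a53_1 := x53
theorem x53_2 : AuxS.{u} (cP4r 1 2) s53 0 a53_2 := x53_1
theorem x53_3 : AuxS.{u} (cP4r 1 2) s53 0 a53_3 := x53_2
theorem n53 : Sound.{u} (cP4r 1 2) s53 0 :=
  (x53_3.fr GamS.nil AllS.nil c53_0 :)
theorem x54 : AuxS.{u} (cP4r 1 2) s54 0 a54 := aux_base3 tw53 rfl b54
theorem x54_1 : AuxS.{u} (cP4r 1 2) s54 0 a54_1 := x54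
theorem x54_2 : AuxS.{u} (cP4r 1 2) s54 0 a54_2 := x54_1
theorem x54_3 : AuxS.{u} (cP4r 1 2) s54 0 a54_3 := x54_2
theorem x54_4 : AuxS.{u} (cP4r 1 2) s54 0 a54_4 := x54_3
theorem n54 : Sound.{u} (cP4r 1 2) s54 0 :=
  (x54_4.fr GamS.nil AllS.nil c54_0 :)
theorem x55 : AuxS.{u} (cP4r 1 2) s55 0 a55 := aux_base3 tw54 rfl b55
theorem x55_1 : AuxS.{u} (cP4r 1 2) s55 0 a55_1 := x55
theorem x55_2 : AuxS.{u} (cP4r 1 2) s55 0 a55_2 := x55_1
theorem x55_3 : AuxS.{u} (cP4r 1 2) s55 0 a55_3 := x55_2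
theorem x55_4 : AuxS.{u} (cP4r 1 2) s55 0 a55_4 := x55_3
theorem n55 : Sound.{u} (cP4r 1 2) s55 0 :=
  (x55_4.fr GamS.nil AllS.nil c55_0 :)
theorem x56 : AuxS.{u} (cP4r 1 2) s56 0 a56 := aux_base3 tw55 rfl b56
theorem x56_1 : AuxS.{u} (cP4r 1 2) s56 0 a56_1 := x56
theorem x56_2 : AuxS.{u} (cP4r 1 2) s56 0 a56_2 := x56_1
theorem x56_3 : AuxS.{u} (cP4r 1 2) s56 0 a56_3 := x56_2
theorem x56_4 : AuxS.{u} (cP4r 1 2) s56 0 a56_4 := x56_3
theorem n56 : Sound.{u} (cP4r 1 2) s56 0 :=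
  (x56_4.fr GamS.nil AllS.nil c56_0 :)
theorem x57 : AuxS.{u} (cP4r 1 2) s57 0 a57 := aux_base3 tw56 rfl b57
theorem x57_1 : AuxS.{u} (cP4r 1 2) s57 0 a57_1 := x57
theorem x57_2 : AuxS.{u} (cP4r 1 2) s57 0 a57_2 := x57_1
theorem x57_3 : AuxS.{u} (cP4r 1 2) s57 0 a57_3 := x57_2
theorem x57_4 : AuxS.{u} (cP4r 1 2) s57 0 a57_4 := x57_3
theorem n57 : Sound.{u} (cP4r 1 2) s57 0 :=
  (x57_4.fr GamS.nil AllS.nil c57_0 :)
theorem x58 : AuxS.{u} (cP4r 1 2) s58 0 a58 := aux_base3 tw57 rfl b58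
theorem x58_1 : AuxS.{u} (cP4r 1 2) s58 0 a58_1 := x58
theorem x58_2 : AuxS.{u} (cP4r 1 2) s58 0 a58_2 := x58_1
theorem x58_3 : AuxS.{u} (cP4r 1 2) s58 0 a58_3 := x58_2
theorem x58_4 : AuxS.{u} (cP4r 1 2) s58 0 a58_4 := x58_3
theorem n58 : Sound.{u} (cP4r 1 2) s58 0 :=
  (x58_4.fr GamS.nil AllS.nil c58_0 :)
theorem x59 : AuxS.{u} (cP4r 1 2) s59 0 a59 := aux_base3 tw58 rfl b59
theorem x59_1 : AuxS.{u} (cP4r 1 2) s59 0 a59_1 := x59
theorem x59_2 : AuxS.{u} (cP4r 1 2) s59 0 a59_2 := x59_1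
theorem x59_3 : AuxS.{u} (cP4r 1 2) s59 0 a59_3 := x59_2
theorem x59_4 : AuxS.{u} (cP4r 1 2) s59 0 a59_4 := x59_3
theorem n59 : Sound.{u} (cP4r 1 2) s59 0 :=
  (x59_4.fr GamS.nil AllS.nil c59_0 :)
theorem x60 : AuxS.{u} (cP4r 1 2) s60 0 a60 := aux_base3 tw59 rfl b60
theorem x60_1 : AuxS.{u} (cP4r 1 2) s60 0 a60_1 := x60
theorem x60_2 : AuxS.{u} (cP4r 1 2) s60 0 a60_2 := x60_1
theorem x60_3 : AuxS.{u} (cP4r 1 2) s60 0 a60_3 := x60_2
theorem x60_4 : AuxS.{u} (cP4r 1 2) s60 0 a60_4 := x60_3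
theorem n60 : Sound.{u} (cP4r 1 2) s60 0 :=
  (x60_4.fr GamS.nil AllS.nil c60_0 :)
theorem x61 : AuxS.{u} (cP4r 1 2) s61 0 a61 := aux_base3 tw60 rfl b61
theorem x61_1 : AuxS.{u} (cP4r 1 2) s61 0 a61_1 := x61
theorem x61_2 : AuxS.{u} (cP4r 1 2) s61 0 a61_2 := x61_1
theorem x61_3 : AuxS.{u} (cP4r 1 2) s61 0 a61_3 := x61_2
theorem x61_4 : AuxS.{u} (cP4r 1 2) s61 0 a61_4 := x61_3
theorem n61 : Sound.{u} (cP4r 1 2) s61 0 :=
  (x61_4.fr GamS.nil AllS.nil c61_0 :)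
theorem x62 : AuxS.{u} (cP4r 1 2) s62 0 a62 := aux_base3 tw61 rfl b62
theorem n62 : Sound.{u} (cP4r 1 2) s62 0 :=
  (x62.k3 c62_0 :)
theorem x63 : AuxS.{u} (cP4r 1 2) s63 0 a63 := aux_base3 tw62 rfl b63
theorem n63 : Sound.{u} (cP4r 1 2) s63 0 :=
  (x63.k3 c63_0 :)
theorem x45 : AuxS.{u} (cP4r 1 2) s45 0 a45 := aux_base3 tw33 rfl b45
theorem x45_1 : AuxS.{u} (cP4r 1 2) s45 0 a45_1 := (AuxS.up x45 c45_6 :)
theorem x45_2 : AuxS.{u} (cP4r 1 2) s45 0 a45_2 := (AuxS.up2 x45_1 c45_7 :)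
theorem x45_3 : AuxS.{u} (cP4r 1 2) s45 0 a45_3 := (AuxS.up x45_2 c45_8 :)
theorem p45_0_1 : Phs s45 a45_3 (List.map Prod.fst g45_0) [s46, s47, s48, s49, s50, s51, s52, s53, s54, s55, s56, s57, s58, s59, s60, s61, s62, s63] ct45_0 v45_0 5 w45_0_1 := (Phs.fin c45_1)
theorem p45_0_3 : Phs s45 a45_3 (List.map Prod.fst g45_0) [s46, s47, s48, s49, s50, s51, s52, s53, s54, s55, s56, s57, s58, s59, s60, s61, s62, s63] ct45_0 v45_0 4 w45_0_3 := (Phs.stp c45_2 p45_0_1)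
theorem p45_0_5 : Phs s45 a45_3 (List.map Prod.fst g45_0) [s46, s47, s48, s49, s50, s51, s52, s53, s54, s55, s56, s57, s58, s59, s60, s61, s62, s63] ct45_0 v45_0 1 w45_0_5 := (Phs.stp c45_3 p45_0_3)
theorem n45 : Sound.{u} (cP4r 1 2) s45 0 :=
  (x45_3.ext2 (fun h => absurd h (by decide)) (AuxS.gam x45_3 c45_0) (AllS.cons n46 (AllS.cons n47 (AllS.cons n48 (AllS.cons n49 (AllS.cons n50 (AllS.cons n51 (AllS.cons n52 (AllS.cons n53 (AllS.cons n54 (AllS.cons n55 (AllS.cons n56 (AllS.cons n57 (AllS.cons n58 (AllS.cons n59 (AllS.cons n60 (AllS.cons n61 (AllS.cons n62 (AllS.cons n63 AllS.nil)))))))))))))))))) c45_5 (Phs.stp c45_4 p45_0_5) (Phs.fin (ct := ct45_0) rfl) :)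
theorem x43 : AuxS.{u} (cP4r 1 2) s43 0 a43 := aux_base3 tw43 rfl b43
theorem x43_1 : AuxS.{u} (cP4r 1 2) s43 0 a43_1 := x43
theorem x43_2 : AuxS.{u} (cP4r 1 2) s43 0 a43_2 := x43_1
theorem n43 : Sound.{u} (cP4r 1 2) s43 0 :=
  (x43_2.jump c43_0 c43_1 n45 :)
theorem x44 : AuxS.{u} (cP4r 1 2) s44 0 a44 := aux_base3 tw44 rfl b44
theorem x44_1 : AuxS.{u} (cP4r 1 2) s44 0 a44_1 := (AuxS.up x44 c44_1 :)
theorem n44 : Sound.{u} (cP4r 1 2) s44 0 :=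
  (x44_1.k1 c44_0 :)
theorem x33 : AuxS.{u} (cP4r 1 2) s33 0 a33 := aux_base3 tw33 rfl b33
theorem x33_1 : AuxS.{u} (cP4r 1 2) s33 0 a33_1 := x33
theorem x33_2 : AuxS.{u} (cP4r 1 2) s33 0 a33_2 := x33_1
theorem p33_0_1 : Phs s33 a33_2 (List.map Prod.fst g33_0) [s43, s44] ct33_0 v33_0 5 w33_0_1 := (Phs.fin c33_1)
theorem n33 : Sound.{u} (cP4r 1 2) s33 0 :=
  (x33_2.ext2 (fun h => absurd h (by decide)) (AuxS.gam x33_2 c33_0) (AllS.cons n43 (AllS.cons n44 AllS.nil)) c33_3 (Phs.fin (ct := ct33_0) rfl) (Phs.stp c33_2 p33_0_1) :)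
theorem x409 : AuxS.{u} (cP4r 1 2) s409 0 a409 := aux_base3 tw111 rfl b409
theorem x409_1 : AuxS.{u} (cP4r 1 2) s409 0 a409_1 := x409
theorem x409_2 : AuxS.{u} (cP4r 1 2) s409 0 a409_2 := x409_1
theorem n409 : Sound.{u} (cP4r 1 2) s409 0 :=
  (x409_2.fr GamS.nil AllS.nil c409_0 :)
theorem x410 : AuxS.{u} (cP4r 1 2) s410 0 a410 := aux_base3 tw112 rfl b410
theorem x410_1 : AuxS.{u} (cP4r 1 2) s410 0 a410_1 := x410
theorem x410_2 : AuxS.{u} (cP4r 1 2) s410 0 a410_2 := x410_1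
theorem n410 : Sound.{u} (cP4r 1 2) s410 0 :=
  (x410_2.fr GamS.nil AllS.nil c410_0 :)
theorem x411 : AuxS.{u} (cP4r 1 2) s411 0 a411 := aux_base3 tw113 rfl b411
theorem x411_1 : AuxS.{u} (cP4r 1 2) s411 0 a411_1 := x411
theorem x411_2 : AuxS.{u} (cP4r 1 2) s411 0 a411_2 := x411_1
theorem n411 : Sound.{u} (cP4r 1 2) s411 0 :=
  (x411_2.fr GamS.nil AllS.nil c411_0 :)
theorem x412 : AuxS.{u} (cP4r 1 2) s412 0 a412 := aux_base3 tw114 rfl b412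
theorem x412_1 : AuxS.{u} (cP4r 1 2) s412 0 a412_1 := x412
theorem x412_2 : AuxS.{u} (cP4r 1 2) s412 0 a412_2 := x412_1
theorem n412 : Sound.{u} (cP4r 1 2) s412 0 :=
  (x412_2.fr GamS.nil AllS.nil c412_0 :)
theorem x413 : AuxS.{u} (cP4r 1 2) s413 0 a413 := aux_base3 tw115 rfl b413
theorem x413_1 : AuxS.{u} (cP4r 1 2) s413 0 a413_1 := x413
theorem x413_2 : AuxS.{u} (cP4r 1 2) s413 0 a413_2 := x413_1
theorem n413 : Sound.{u} (cP4r 1 2) s413 0 :=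
  (x413_2.fr GamS.nil AllS.nil c413_0 :)
theorem x414 : AuxS.{u} (cP4r 1 2) s414 0 a414 := aux_base3 tw116 rfl b414
theorem x414_1 : AuxS.{u} (cP4r 1 2) s414 0 a414_1 := x414
theorem x414_2 : AuxS.{u} (cP4r 1 2) s414 0 a414_2 := x414_1
theorem n414 : Sound.{u} (cP4r 1 2) s414 0 :=
  (x414_2.fr GamS.nil AllS.nil c414_0 :)
theorem x415 : AuxS.{u} (cP4r 1 2) s415 0 a415 := aux_base3 tw117 rfl b415
theorem x415_1 : AuxS.{u} (cP4r 1 2) s415 0 a415_1 := x415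
theorem x415_2 : AuxS.{u} (cP4r 1 2) s415 0 a415_2 := x415_1
theorem n415 : Sound.{u} (cP4r 1 2) s415 0 :=
  (x415_2.fr GamS.nil AllS.nil c415_0 :)
theorem x416 : AuxS.{u} (cP4r 1 2) s416 0 a416 := aux_base3 tw118 rfl b416
theorem x416_1 : AuxS.{u} (cP4r 1 2) s416 0 a416_1 := x416
theorem x416_2 : AuxS.{u} (cP4r 1 2) s416 0 a416_2 := x416_1
theorem n416 : Sound.{u} (cP4r 1 2) s416 0 :=
  (x416_2.fr GamS.nil AllS.nil c416_0 :)
theorem x417 : AuxS.{u} (cP4r 1 2) s417 0 a417 := aux_base3 tw119 rfl b417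
theorem x417_1 : AuxS.{u} (cP4r 1 2) s417 0 a417_1 := x417
theorem x417_2 : AuxS.{u} (cP4r 1 2) s417 0 a417_2 := x417_1
theorem n417 : Sound.{u} (cP4r 1 2) s417 0 :=
  (x417_2.fr GamS.nil AllS.nil c417_0 :)
theorem x418 : AuxS.{u} (cP4r 1 2) s418 0 a418 := aux_base3 tw120 rfl b418
theorem x418_1 : AuxS.{u} (cP4r 1 2) s418 0 a418_1 := x418
theorem x418_2 : AuxS.{u} (cP4r 1 2) s418 0 a418_2 := x418_1
theorem n418 : Sound.{u} (cP4r 1 2) s418 0 :=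
  (x418_2.fr GamS.nil AllS.nil c418_0 :)
theorem x419 : AuxS.{u} (cP4r 1 2) s419 0 a419 := aux_base3 tw121 rfl b419
theorem x419_1 : AuxS.{u} (cP4r 1 2) s419 0 a419_1 := x419
theorem x419_2 : AuxS.{u} (cP4r 1 2) s419 0 a419_2 := x419_1
theorem n419 : Sound.{u} (cP4r 1 2) s419 0 :=
  (x419_2.fr GamS.nil AllS.nil c419_0 :)
theorem x420 : AuxS.{u} (cP4r 1 2) s420 0 a420 := aux_base3 tw122 rfl b420
theorem x420_1 : AuxS.{u} (cP4r 1 2) s420 0 a420_1 := x420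
theorem x420_2 : AuxS.{u} (cP4r 1 2) s420 0 a420_2 := x420_1
theorem n420 : Sound.{u} (cP4r 1 2) s420 0 :=
  (x420_2.fr GamS.nil AllS.nil c420_0 :)
theorem x421 : AuxS.{u} (cP4r 1 2) s421 0 a421 := aux_base3 tw123 rfl b421
theorem x421_1 : AuxS.{u} (cP4r 1 2) s421 0 a421_1 := x421
theorem x421_2 : AuxS.{u} (cP4r 1 2) s421 0 a421_2 := x421_1
theorem n421 : Sound.{u} (cP4r 1 2) s421 0 :=
  (x421_2.fr GamS.nil AllS.nil c421_0 :)
theorem x422 : AuxS.{u} (cP4r 1 2) s422 0 a422 := aux_base3 tw124 rfl b422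
theorem x422_1 : AuxS.{u} (cP4r 1 2) s422 0 a422_1 := x422
theorem x422_2 : AuxS.{u} (cP4r 1 2) s422 0 a422_2 := x422_1
theorem n422 : Sound.{u} (cP4r 1 2) s422 0 :=
  (x422_2.fr GamS.nil AllS.nil c422_0 :)
theorem x423 : AuxS.{u} (cP4r 1 2) s423 0 a423 := aux_base3 tw125 rfl b423
theorem x423_1 : AuxS.{u} (cP4r 1 2) s423 0 a423_1 := x423
theorem x423_2 : AuxS.{u} (cP4r 1 2) s423 0 a423_2 := x423_1
theorem n423 : Sound.{u} (cP4r 1 2) s423 0 :=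
  (x423_2.fr GamS.nil AllS.nil c423_0 :)
theorem x424 : AuxS.{u} (cP4r 1 2) s424 0 a424 := aux_base3 tw126 rfl b424
theorem x424_1 : AuxS.{u} (cP4r 1 2) s424 0 a424_1 := x424
theorem x424_2 : AuxS.{u} (cP4r 1 2) s424 0 a424_2 := x424_1
theorem n424 : Sound.{u} (cP4r 1 2) s424 0 :=
  (x424_2.fr GamS.nil AllS.nil c424_0 :)
theorem x425 : AuxS.{u} (cP4r 1 2) s425 0 a425 := aux_base3 tw127 rfl b425
theorem n425 : Sound.{u} (cP4r 1 2) s425 0 :=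
  (x425.k3 c425_0 :)
theorem x426 : AuxS.{u} (cP4r 1 2) s426 0 a426 := aux_base3 tw128 rfl b426
theorem n426 : Sound.{u} (cP4r 1 2) s426 0 :=
  (x426.k3 c426_0 :)
theorem x408 : AuxS.{u} (cP4r 1 2) s408 0 a408 := aux_base3 tw34 rfl b408
theorem x408_1 : AuxS.{u} (cP4r 1 2) s408 0 a408_1 := (AuxS.up x408 c408_6 :)
theorem x408_2 : AuxS.{u} (cP4r 1 2) s408 0 a408_2 := (AuxS.up2 x408_1 c408_7 :)
theorem x408_3 : AuxS.{u} (cP4r 1 2) s408 0 a408_3 := (AuxS.up x408_2 c408_8 :)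
theorem p408_0_1 : Phs s408 a408_3 (List.map Prod.fst g408_0) [s409, s410, s411, s412, s413, s414, s415, s416, s417, s418, s419, s420, s421, s422, s423, s424, s425, s426] ct408_0 v408_0 5 w408_0_1 := (Phs.fin c408_1)
theorem p408_0_3 : Phs s408 a408_3 (List.map Prod.fst g408_0) [s409, s410, s411, s412, s413, s414, s415, s416, s417, s418, s419, s420, s421, s422, s423, s424, s425, s426] ct408_0 v408_0 4 w408_0_3 := (Phs.stp c408_2 p408_0_1)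
theorem p408_0_5 : Phs s408 a408_3 (List.map Prod.fst g408_0) [s409, s410, s411, s412, s413, s414, s415, s416, s417, s418, s419, s420, s421, s422, s423, s424, s425, s426] ct408_0 v408_0 1 w408_0_5 := (Phs.stp c408_3 p408_0_3)
theorem n408 : Sound.{u} (cP4r 1 2) s408 0 :=
  (x408_3.ext2 (fun h => absurd h (by decide)) (AuxS.gam x408_3 c408_0) (AllS.cons n409 (AllS.cons n410 (AllS.cons n411 (AllS.cons n412 (AllS.cons n413 (AllS.cons n414 (AllS.cons n415 (AllS.cons n416 (AllS.cons n417 (AllS.cons n418 (AllS.cons n419 (AllS.cons n420 (AllS.cons n421 (AllS.cons n422 (AllS.cons n423 (AllS.cons n424 (AllS.cons n425 (AllS.cons n426 AllS.nil)))))))))))))))))) c408_5 (Phs.stp c408_4 p408_0_5) (Phs.fin (ct := ct408_0) rfl) :)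
theorem x406 : AuxS.{u} (cP4r 1 2) s406 0 a406 := aux_base3 tw109 rfl b406
theorem x406_1 : AuxS.{u} (cP4r 1 2) s406 0 a406_1 := x406
theorem x406_2 : AuxS.{u} (cP4r 1 2) s406 0 a406_2 := x406_1
theorem n406 : Sound.{u} (cP4r 1 2) s406 0 :=
  (x406_2.jump c406_0 c406_1 n408 :)
theorem x407 : AuxS.{u} (cP4r 1 2) s407 0 a407 := aux_base3 tw110 rfl b407
theorem x407_1 : AuxS.{u} (cP4r 1 2) s407 0 a407_1 := (AuxS.up x407 c407_1 :)
theorem n407 : Sound.{u} (cP4r 1 2) s407 0 :=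
  (x407_1.k1 c407_0 :)
theorem x34 : AuxS.{u} (cP4r 1 2) s34 0 a34 := aux_base3 tw34 rfl b34
theorem x34_1 : AuxS.{u} (cP4r 1 2) s34 0 a34_1 := x34
theorem x34_2 : AuxS.{u} (cP4r 1 2) s34 0 a34_2 := x34_1
theorem p34_0_1 : Phs s34 a34_2 (List.map Prod.fst g34_0) [s406, s407] ct34_0 v34_0 5 w34_0_1 := (Phs.fin c34_1)
theorem n34 : Sound.{u} (cP4r 1 2) s34 0 :=
  (x34_2.ext2 (fun h => absurd h (by decide)) (AuxS.gam x34_2 c34_0) (AllS.cons n406 (AllS.cons n407 AllS.nil)) c34_3 (Phs.fin (ct := ct34_0) rfl) (Phs.stp c34_2 p34_0_1) :)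
theorem x35 : AuxS.{u} (cP4r 1 2) s35 0 a35 := aux_base3 tw35 rfl b35
theorem x35_1 : AuxS.{u} (cP4r 1 2) s35 0 a35_1 := x35
theorem x35_2 : AuxS.{u} (cP4r 1 2) s35 0 a35_2 := x35_1
theorem p35_0_1 : Phs s35 a35_2 [] [] ct35_0 v35_0 5 w35_0_1 := (Phs.fin c35_0)
theorem n35 : Sound.{u} (cP4r 1 2) s35 0 :=
  (x35_2.ext2 (fun h => absurd h (by decide)) GamS.nil AllS.nil c35_2 (Phs.fin (ct := ct35_0) rfl) (Phs.stp c35_1 p35_0_1) :)
theorem x36 : AuxS.{u} (cP4r 1 2) s36 0 a36 := aux_base3 tw36 rfl b36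
theorem x36_1 : AuxS.{u} (cP4r 1 2) s36 0 a36_1 := x36
theorem x36_2 : AuxS.{u} (cP4r 1 2) s36 0 a36_2 := x36_1
theorem p36_0_1 : Phs s36 a36_2 [] [] ct36_0 v36_0 5 w36_0_1 := (Phs.fin c36_0)
theorem n36 : Sound.{u} (cP4r 1 2) s36 0 :=
  (x36_2.ext2 (fun h => absurd h (by decide)) GamS.nil AllS.nil c36_2 (Phs.fin (ct := ct36_0) rfl) (Phs.stp c36_1 p36_0_1) :)
theorem x37 : AuxS.{u} (cP4r 1 2) s37 0 a37 := aux_base3 tw37 rfl b37
theorem x37_1 : AuxS.{u} (cP4r 1 2) s37 0 a37_1 := x37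
theorem x37_2 : AuxS.{u} (cP4r 1 2) s37 0 a37_2 := x37_1
theorem p37_0_1 : Phs s37 a37_2 [] [] ct37_0 v37_0 5 w37_0_1 := (Phs.fin c37_0)
theorem n37 : Sound.{u} (cP4r 1 2) s37 0 :=
  (x37_2.ext2 (fun h => absurd h (by decide)) GamS.nil AllS.nil c37_2 (Phs.fin (ct := ct37_0) rfl) (Phs.stp c37_1 p37_0_1) :)
theorem x38 : AuxS.{u} (cP4r 1 2) s38 0 a38 := aux_base3 tw38 rfl b38
theorem x38_1 : AuxS.{u} (cP4r 1 2) s38 0 a38_1 := x38
theorem x38_2 : AuxS.{u} (cP4r 1 2) s38 0 a38_2 := x38_1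
theorem p38_0_1 : Phs s38 a38_2 [] [] ct38_0 v38_0 5 w38_0_1 := (Phs.fin c38_0)
theorem n38 : Sound.{u} (cP4r 1 2) s38 0 :=
  (x38_2.ext2 (fun h => absurd h (by decide)) GamS.nil AllS.nil c38_2 (Phs.fin (ct := ct38_0) rfl) (Phs.stp c38_1 p38_0_1) :)
theorem x448 : AuxS.{u} (cP4r 1 2) s448 0 a448 := aux_base3 tw131 rfl b448
theorem n448 : Sound.{u} (cP4r 1 2) s448 0 :=
  (x448.k4 c448_0 :)
theorem x449 : AuxS.{u} (cP4r 1 2) s449 0 a449 := aux_base3 tw131 rfl b449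
theorem n449 : Sound.{u} (cP4r 1 2) s449 0 :=
  (x449.k4 c449_0 :)
theorem x450 : AuxS.{u} (cP4r 1 2) s450 0 a450 := aux_base3 tw131 rfl b450
theorem n450 : Sound.{u} (cP4r 1 2) s450 0 :=
  (x450.k4 c450_0 :)
theorem x451 : AuxS.{u} (cP4r 1 2) s451 0 a451 := aux_base3 tw131 rfl b451
theorem n451 : Sound.{u} (cP4r 1 2) s451 0 :=
  (x451.k4 c451_0 :)
theorem x452 : AuxS.{u} (cP4r 1 2) s452 0 a452 := aux_base3 tw131 rfl b452
theorem n452 : Sound.{u} (cP4r 1 2) s452 0 :=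
  (x452.k4 c452_0 :)
theorem x453 : AuxS.{u} (cP4r 1 2) s453 0 a453 := aux_base3 tw131 rfl b453
theorem n453 : Sound.{u} (cP4r 1 2) s453 0 :=
  (x453.k4 c453_0 :)
theorem x454 : AuxS.{u} (cP4r 1 2) s454 0 a454 := aux_base3 tw131 rfl b454
theorem n454 : Sound.{u} (cP4r 1 2) s454 0 :=
  (x454.k4 c454_0 :)
theorem x455 : AuxS.{u} (cP4r 1 2) s455 0 a455 := aux_base3 tw131 rfl b455
theorem n455 : Sound.{u} (cP4r 1 2) s455 0 :=
  (x455.k4 c455_0 :)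
theorem x456 : AuxS.{u} (cP4r 1 2) s456 0 a456 := aux_base3 tw131 rfl b456
theorem n456 : Sound.{u} (cP4r 1 2) s456 0 :=
  (x456.k4 c456_0 :)
theorem x457 : AuxS.{u} (cP4r 1 2) s457 0 a457 := aux_base3 tw131 rfl b457
theorem n457 : Sound.{u} (cP4r 1 2) s457 0 :=
  (x457.k4 c457_0 :)
theorem x458 : AuxS.{u} (cP4r 1 2) s458 0 a458 := aux_base3 tw131 rfl b458
theorem n458 : Sound.{u} (cP4r 1 2) s458 0 :=
  (x458.k4 c458_0 :)
theorem x459 : AuxS.{u} (cP4r 1 2) s459 0 a459 := aux_base3 tw131 rfl b459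
theorem n459 : Sound.{u} (cP4r 1 2) s459 0 :=
  (x459.k4 c459_0 :)
theorem x460 : AuxS.{u} (cP4r 1 2) s460 0 a460 := aux_base3 tw131 rfl b460
theorem n460 : Sound.{u} (cP4r 1 2) s460 0 :=
  (x460.k4 c460_0 :)
theorem x461 : AuxS.{u} (cP4r 1 2) s461 0 a461 := aux_base3 tw131 rfl b461
theorem n461 : Sound.{u} (cP4r 1 2) s461 0 :=
  (x461.k4 c461_0 :)
theorem x462 : AuxS.{u} (cP4r 1 2) s462 0 a462 := aux_base3 tw131 rfl b462
theorem n462 : Sound.{u} (cP4r 1 2) s462 0 :=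
  (x462.k4 c462_0 :)
theorem x463 : AuxS.{u} (cP4r 1 2) s463 0 a463 := aux_base3 tw131 rfl b463
theorem n463 : Sound.{u} (cP4r 1 2) s463 0 :=
  (x463.k4 c463_0 :)
theorem x464 : AuxS.{u} (cP4r 1 2) s464 0 a464 := aux_base3 tw131 rfl b464
theorem n464 : Sound.{u} (cP4r 1 2) s464 0 :=
  (x464.k4 c464_0 :)
theorem x480 : AuxS.{u} (cP4r 1 2) s480 0 a480 := aux_base3 tw149 rfl b480
theorem n480 : Sound.{u} (cP4r 1 2) s480 0 :=
  (x480.k4 c480_0 :)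
theorem x483 : AuxS.{u} (cP4r 1 2) s483 0 a483 := aux_base3 tw152 rfl b483
theorem x483_1 : AuxS.{u} (cP4r 1 2) s483 0 a483_1 := (AuxS.up x483 c483_1 :)
theorem n483 : Sound.{u} (cP4r 1 2) s483 0 :=
  (x483_1.k7 c483_0 :)
theorem x487 : AuxS.{u} (cP4r 1 2) s487 0 a487 := aux_base3 tw152 rfl b487
theorem n487 : Sound.{u} (cP4r 1 2) s487 0 :=
  (x487.k4 c487_0 :)
theorem x495 : AuxS.{u} (cP4r 1 2) s495 0 a495 := aux_base3 tw153 rfl b495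
theorem x495_1 : AuxS.{u} (cP4r 1 2) s495 0 a495_1 := (AuxS.up x495 c495_22 :)
theorem x495_2 : AuxS.{u} (cP4r 1 2) s495 0 a495_2 := (AuxS.up2 x495_1 c495_23 :)
theorem x495_3 : AuxS.{u} (cP4r 1 2) s495 0 a495_3 := (AuxS.up x495_2 c495_24 :)
theorem x495_L161_1 : AuxS.{u} (cP4r 1 2) s495 (161 + 2) a495_L161_1 := (AuxS.hp (x495_3.lam 161) c495_2 :)
theorem x495_L161_2 : AuxS.{u} (cP4r 1 2) s495 (161 + 2) a495_L161_2 := (AuxS.nf x495_L161_1 c495_3 :)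
theorem x495_L225_1 : AuxS.{u} (cP4r 1 2) s495 (225 + 2) a495_L225_1 := (AuxS.hp (x495_3.lam 225) c495_5 :)
theorem x495_L225_2 : AuxS.{u} (cP4r 1 2) s495 (225 + 2) a495_L225_2 := (AuxS.ne x495_L225_1 c495_6 :)
theorem x495_L225_3 : AuxS.{u} (cP4r 1 2) s495 (225 + 2) a495_L225_3 := (AuxS.nf x495_L225_2 c495_7 :)
theorem x495_L673_1 : AuxS.{u} (cP4r 1 2) s495 (673 + 2) a495_L673_1 := (AuxS.hp (x495_3.lam 673) c495_9 :)
theorem x495_L673_2 : AuxS.{u} (cP4r 1 2) s495 (673 + 2) a495_L673_2 := (AuxS.ne x495_L673_1 c495_10 :)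
theorem x495_L673_3 : AuxS.{u} (cP4r 1 2) s495 (673 + 2) a495_L673_3 := (AuxS.nf x495_L673_2 c495_11 :)
theorem x495_L673_4 : AuxS.{u} (cP4r 1 2) s495 (673 + 2) a495_L673_4 := (AuxS.hp x495_L673_3 c495_12 :)
theorem x495_L737_1 : AuxS.{u} (cP4r 1 2) s495 (737 + 2) a495_L737_1 := (AuxS.hp (x495_3.lam 737) c495_14 :)
theorem x495_L737_2 : AuxS.{u} (cP4r 1 2) s495 (737 + 2) a495_L737_2 := (AuxS.ne x495_L737_1 c495_15 :)
theorem x495_L737_3 : AuxS.{u} (cP4r 1 2) s495 (737 + 2) a495_L737_3 := (AuxS.nf x495_L737_2 c495_16 :)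
theorem x495_L737_4 : AuxS.{u} (cP4r 1 2) s495 (737 + 2) a495_L737_4 := (AuxS.hp x495_L737_3 c495_17 :)
theorem x495_L737_5 : AuxS.{u} (cP4r 1 2) s495 (737 + 2) a495_L737_5 := (AuxS.nf x495_L737_4 c495_18 :)
theorem x495_L737_6 : AuxS.{u} (cP4r 1 2) s495 (737 + 2) a495_L737_6 := (AuxS.hp x495_L737_5 c495_19 :)
theorem n495 : Sound.{u} (cP4r 1 2) s495 0 :=
  (x495_3.spl c495_0 (AllM.cons ((x495_3.lam 0).tp c495_1 :) (AllM.cons (x495_L161_2.k5 c495_4 :) (AllM.cons (x495_L225_3.k5 c495_8 :) (AllM.cons (x495_L673_4.tp c495_13 :) (AllM.cons (x495_L737_6.tp c495_20 :) AllM.nil))))) ((x495_3.weaken 1).ext2 (fun _ => rfl) GamS.nil AllS.nil c495_21 (Phs.fin (ct := ct495_21) rfl) (Phs.fin (ct := ct495_21) rfl)) :)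
theorem x496 : AuxS.{u} (cP4r 1 2) s496 0 a496 := aux_base3 tw154 rfl b496
theorem x496_1 : AuxS.{u} (cP4r 1 2) s496 0 a496_1 := (AuxS.up x496 c496_23 :)
theorem x496_2 : AuxS.{u} (cP4r 1 2) s496 0 a496_2 := (AuxS.up2 x496_1 c496_24 :)
theorem x496_3 : AuxS.{u} (cP4r 1 2) s496 0 a496_3 := (AuxS.up x496_2 c496_25 :)
theorem x496_L161_1 : AuxS.{u} (cP4r 1 2) s496 (161 + 2) a496_L161_1 := (AuxS.hp (x496_3.lam 161) c496_2 :)
theorem x496_L161_2 : AuxS.{u} (cP4r 1 2) s496 (161 + 2) a496_L161_2 := (AuxS.ne x496_L161_1 c496_3 :)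
theorem x496_L161_3 : AuxS.{u} (cP4r 1 2) s496 (161 + 2) a496_L161_3 := (AuxS.nf x496_L161_2 c496_4 :)
theorem x496_L161_4 : AuxS.{u} (cP4r 1 2) s496 (161 + 2) a496_L161_4 := (AuxS.hp x496_L161_3 c496_5 :)
theorem x496_L225_1 : AuxS.{u} (cP4r 1 2) s496 (225 + 2) a496_L225_1 := (AuxS.hp (x496_3.lam 225) c496_7 :)
theorem x496_L225_2 : AuxS.{u} (cP4r 1 2) s496 (225 + 2) a496_L225_2 := (AuxS.ne x496_L225_1 c496_8 :)
theorem x496_L225_3 : AuxS.{u} (cP4r 1 2) s496 (225 + 2) a496_L225_3 := (AuxS.nf x496_L225_2 c496_9 :)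
theorem x496_L225_4 : AuxS.{u} (cP4r 1 2) s496 (225 + 2) a496_L225_4 := (AuxS.hp x496_L225_3 c496_10 :)
theorem x496_L673_1 : AuxS.{u} (cP4r 1 2) s496 (673 + 2) a496_L673_1 := (AuxS.hp (x496_3.lam 673) c496_12 :)
theorem x496_L673_2 : AuxS.{u} (cP4r 1 2) s496 (673 + 2) a496_L673_2 := (AuxS.ne x496_L673_1 c496_13 :)
theorem x496_L673_3 : AuxS.{u} (cP4r 1 2) s496 (673 + 2) a496_L673_3 := (AuxS.nf x496_L673_2 c496_14 :)
theorem x496_L673_4 : AuxS.{u} (cP4r 1 2) s496 (673 + 2) a496_L673_4 := (AuxS.hp x496_L673_3 c496_15 :)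
theorem x496_L737_1 : AuxS.{u} (cP4r 1 2) s496 (737 + 2) a496_L737_1 := (AuxS.hp (x496_3.lam 737) c496_17 :)
theorem x496_L737_2 : AuxS.{u} (cP4r 1 2) s496 (737 + 2) a496_L737_2 := (AuxS.ne x496_L737_1 c496_18 :)
theorem x496_L737_3 : AuxS.{u} (cP4r 1 2) s496 (737 + 2) a496_L737_3 := (AuxS.nf x496_L737_2 c496_19 :)
theorem x496_L737_4 : AuxS.{u} (cP4r 1 2) s496 (737 + 2) a496_L737_4 := (AuxS.hp x496_L737_3 c496_20 :)
theorem n496 : Sound.{u} (cP4r 1 2) s496 0 :=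
  (x496_3.spl c496_0 (AllM.cons ((x496_3.lam 0).tp c496_1 :) (AllM.cons (x496_L161_4.tp c496_6 :) (AllM.cons (x496_L225_4.tp c496_11 :) (AllM.cons (x496_L673_4.tp c496_16 :) (AllM.cons (x496_L737_4.tp c496_21 :) AllM.nil))))) ((x496_3.weaken 1).ext2 (fun _ => rfl) GamS.nil AllS.nil c496_22 (Phs.fin (ct := ct496_22) rfl) (Phs.fin (ct := ct496_22) rfl)) :)
theorem x497 : AuxS.{u} (cP4r 1 2) s497 0 a497 := aux_base3 tw155 rfl b497
theorem x497_1 : AuxS.{u} (cP4r 1 2) s497 0 a497_1 := (AuxS.up x497 c497_22 :)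
theorem x497_2 : AuxS.{u} (cP4r 1 2) s497 0 a497_2 := (AuxS.up2 x497_1 c497_23 :)
theorem x497_3 : AuxS.{u} (cP4r 1 2) s497 0 a497_3 := (AuxS.up x497_2 c497_24 :)
theorem x497_L161_1 : AuxS.{u} (cP4r 1 2) s497 (161 + 2) a497_L161_1 := (AuxS.hp (x497_3.lam 161) c497_2 :)
theorem x497_L161_2 : AuxS.{u} (cP4r 1 2) s497 (161 + 2) a497_L161_2 := (AuxS.nf x497_L161_1 c497_3 :)
theorem x497_L225_1 : AuxS.{u} (cP4r 1 2) s497 (225 + 2) a497_L225_1 := (AuxS.hp (x497_3.lam 225) c497_5 :)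
theorem x497_L225_2 : AuxS.{u} (cP4r 1 2) s497 (225 + 2) a497_L225_2 := (AuxS.ne x497_L225_1 c497_6 :)
theorem x497_L225_3 : AuxS.{u} (cP4r 1 2) s497 (225 + 2) a497_L225_3 := (AuxS.nf x497_L225_2 c497_7 :)
theorem x497_L673_1 : AuxS.{u} (cP4r 1 2) s497 (673 + 2) a497_L673_1 := (AuxS.hp (x497_3.lam 673) c497_9 :)
theorem x497_L673_2 : AuxS.{u} (cP4r 1 2) s497 (673 + 2) a497_L673_2 := (AuxS.ne x497_L673_1 c497_10 :)
theorem x497_L673_3 : AuxS.{u} (cP4r 1 2) s497 (673 + 2) a497_L673_3 := (AuxS.nf x497_L673_2 c497_11 :)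
theorem x497_L673_4 : AuxS.{u} (cP4r 1 2) s497 (673 + 2) a497_L673_4 := (AuxS.hp x497_L673_3 c497_12 :)
theorem x497_L737_1 : AuxS.{u} (cP4r 1 2) s497 (737 + 2) a497_L737_1 := (AuxS.hp (x497_3.lam 737) c497_14 :)
theorem x497_L737_2 : AuxS.{u} (cP4r 1 2) s497 (737 + 2) a497_L737_2 := (AuxS.ne x497_L737_1 c497_15 :)
theorem x497_L737_3 : AuxS.{u} (cP4r 1 2) s497 (737 + 2) a497_L737_3 := (AuxS.nf x497_L737_2 c497_16 :)
theorem x497_L737_4 : AuxS.{u} (cP4r 1 2) s497 (737 + 2) a497_L737_4 := (AuxS.hp x497_L737_3 c497_17 :)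
theorem x497_L737_5 : AuxS.{u} (cP4r 1 2) s497 (737 + 2) a497_L737_5 := (AuxS.nf x497_L737_4 c497_18 :)
theorem x497_L737_6 : AuxS.{u} (cP4r 1 2) s497 (737 + 2) a497_L737_6 := (AuxS.hp x497_L737_5 c497_19 :)
theorem n497 : Sound.{u} (cP4r 1 2) s497 0 :=
  (x497_3.spl c497_0 (AllM.cons ((x497_3.lam 0).tp c497_1 :) (AllM.cons (x497_L161_2.k5 c497_4 :) (AllM.cons (x497_L225_3.k5 c497_8 :) (AllM.cons (x497_L673_4.tp c497_13 :) (AllM.cons (x497_L737_6.tp c497_20 :) AllM.nil))))) ((x497_3.weaken 1).ext2 (fun _ => rfl) GamS.nil AllS.nil c497_21 (Phs.fin (ct := ct497_21) rfl) (Phs.fin (ct := ct497_21) rfl)) :)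
theorem x498 : AuxS.{u} (cP4r 1 2) s498 0 a498 := aux_base3 tw156 rfl b498
theorem x498_1 : AuxS.{u} (cP4r 1 2) s498 0 a498_1 := (AuxS.up x498 c498_23 :)
theorem x498_2 : AuxS.{u} (cP4r 1 2) s498 0 a498_2 := (AuxS.up2 x498_1 c498_24 :)
theorem x498_3 : AuxS.{u} (cP4r 1 2) s498 0 a498_3 := (AuxS.up x498_2 c498_25 :)
theorem x498_L161_1 : AuxS.{u} (cP4r 1 2) s498 (161 + 2) a498_L161_1 := (AuxS.hp (x498_3.lam 161) c498_2 :)
theorem x498_L161_2 : AuxS.{u} (cP4r 1 2) s498 (161 + 2) a498_L161_2 := (AuxS.ne x498_L161_1 c498_3 :)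
theorem x498_L161_3 : AuxS.{u} (cP4r 1 2) s498 (161 + 2) a498_L161_3 := (AuxS.nf x498_L161_2 c498_4 :)
theorem x498_L161_4 : AuxS.{u} (cP4r 1 2) s498 (161 + 2) a498_L161_4 := (AuxS.hp x498_L161_3 c498_5 :)
theorem x498_L225_1 : AuxS.{u} (cP4r 1 2) s498 (225 + 2) a498_L225_1 := (AuxS.hp (x498_3.lam 225) c498_7 :)
theorem x498_L225_2 : AuxS.{u} (cP4r 1 2) s498 (225 + 2) a498_L225_2 := (AuxS.ne x498_L225_1 c498_8 :)
theorem x498_L225_3 : AuxS.{u} (cP4r 1 2) s498 (225 + 2) a498_L225_3 := (AuxS.nf x498_L225_2 c498_9 :)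
theorem x498_L225_4 : AuxS.{u} (cP4r 1 2) s498 (225 + 2) a498_L225_4 := (AuxS.hp x498_L225_3 c498_10 :)
theorem x498_L673_1 : AuxS.{u} (cP4r 1 2) s498 (673 + 2) a498_L673_1 := (AuxS.hp (x498_3.lam 673) c498_12 :)
theorem x498_L673_2 : AuxS.{u} (cP4r 1 2) s498 (673 + 2) a498_L673_2 := (AuxS.ne x498_L673_1 c498_13 :)
theorem x498_L673_3 : AuxS.{u} (cP4r 1 2) s498 (673 + 2) a498_L673_3 := (AuxS.nf x498_L673_2 c498_14 :)
theorem x498_L673_4 : AuxS.{u} (cP4r 1 2) s498 (673 + 2) a498_L673_4 := (AuxS.hp x498_L673_3 c498_15 :)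
theorem x498_L737_1 : AuxS.{u} (cP4r 1 2) s498 (737 + 2) a498_L737_1 := (AuxS.hp (x498_3.lam 737) c498_17 :)
theorem x498_L737_2 : AuxS.{u} (cP4r 1 2) s498 (737 + 2) a498_L737_2 := (AuxS.ne x498_L737_1 c498_18 :)
theorem x498_L737_3 : AuxS.{u} (cP4r 1 2) s498 (737 + 2) a498_L737_3 := (AuxS.nf x498_L737_2 c498_19 :)
theorem x498_L737_4 : AuxS.{u} (cP4r 1 2) s498 (737 + 2) a498_L737_4 := (AuxS.hp x498_L737_3 c498_20 :)
theorem n498 : Sound.{u} (cP4r 1 2) s498 0 :=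
  (x498_3.spl c498_0 (AllM.cons ((x498_3.lam 0).tp c498_1 :) (AllM.cons (x498_L161_4.tp c498_6 :) (AllM.cons (x498_L225_4.tp c498_11 :) (AllM.cons (x498_L673_4.tp c498_16 :) (AllM.cons (x498_L737_4.tp c498_21 :) AllM.nil))))) ((x498_3.weaken 1).ext2 (fun _ => rfl) GamS.nil AllS.nil c498_22 (Phs.fin (ct := ct498_22) rfl) (Phs.fin (ct := ct498_22) rfl)) :)
theorem x499 : AuxS.{u} (cP4r 1 2) s499 0 a499 := aux_base3 tw157 rfl b499
theorem n499 : Sound.{u} (cP4r 1 2) s499 0 :=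
  (x499.k4 c499_0 :)
theorem x500 : AuxS.{u} (cP4r 1 2) s500 0 a500 := aux_base3 tw158 rfl b500
theorem n500 : Sound.{u} (cP4r 1 2) s500 0 :=
  (x500.k4 c500_0 :)
theorem x511 : AuxS.{u} (cP4r 1 2) s511 0 a511 := aux_base3 tw159 rfl b511
theorem n511 : Sound.{u} (cP4r 1 2) s511 0 :=
  (x511.k4 c511_0 :)
theorem x512 : AuxS.{u} (cP4r 1 2) s512 0 a512 := aux_base3 tw159 rfl b512
theorem n512 : Sound.{u} (cP4r 1 2) s512 0 :=
  (x512.k4 c512_0 :)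
theorem x513 : AuxS.{u} (cP4r 1 2) s513 0 a513 := aux_base3 tw159 rfl b513
theorem x513_1 : AuxS.{u} (cP4r 1 2) s513 0 a513_1 := (AuxS.up x513 c513_14 :)
theorem x513_2 : AuxS.{u} (cP4r 1 2) s513 0 a513_2 := (AuxS.up x513_1 c513_15 :)
theorem x513_L673_1 : AuxS.{u} (cP4r 1 2) s513 (673 + 2) a513_L673_1 := (AuxS.hp (x513_2.lam 673) c513_2 :)
theorem x513_L673_2 : AuxS.{u} (cP4r 1 2) s513 (673 + 2) a513_L673_2 := (AuxS.ne x513_L673_1 c513_3 :)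
theorem x513_L673_3 : AuxS.{u} (cP4r 1 2) s513 (673 + 2) a513_L673_3 := (AuxS.nf x513_L673_2 c513_4 :)
theorem x513_L673_4 : AuxS.{u} (cP4r 1 2) s513 (673 + 2) a513_L673_4 := (AuxS.hp x513_L673_3 c513_5 :)
theorem x513_L737_1 : AuxS.{u} (cP4r 1 2) s513 (737 + 2) a513_L737_1 := (AuxS.hp (x513_2.lam 737) c513_7 :)
theorem x513_L737_2 : AuxS.{u} (cP4r 1 2) s513 (737 + 2) a513_L737_2 := (AuxS.ne x513_L737_1 c513_8 :)
theorem x513_L737_3 : AuxS.{u} (cP4r 1 2) s513 (737 + 2) a513_L737_3 := (AuxS.nf x513_L737_2 c513_9 :)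
theorem x513_L737_4 : AuxS.{u} (cP4r 1 2) s513 (737 + 2) a513_L737_4 := (AuxS.hp x513_L737_3 c513_10 :)
theorem x513_L737_5 : AuxS.{u} (cP4r 1 2) s513 (737 + 2) a513_L737_5 := (AuxS.nf x513_L737_4 c513_11 :)
theorem n513 : Sound.{u} (cP4r 1 2) s513 0 :=
  (x513_2.spl c513_0 (AllM.cons ((x513_2.lam 0).tp c513_1 :) (AllM.cons (x513_L673_4.tp c513_6 :) (AllM.cons (x513_L737_5.k5 c513_12 :) AllM.nil))) ((x513_2.weaken 1).ext2 (fun _ => rfl) GamS.nil AllS.nil c513_13 (Phs.fin (ct := ct513_13) rfl) (Phs.fin (ct := ct513_13) rfl)) :)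
theorem x514 : AuxS.{u} (cP4r 1 2) s514 0 a514 := aux_base3 tw159 rfl b514
theorem n514 : Sound.{u} (cP4r 1 2) s514 0 :=
  (x514.k4 c514_0 :)
theorem x501 : AuxS.{u} (cP4r 1 2) s501 0 a501 := aux_base3 tw159 rfl b501
theorem x501_1 : AuxS.{u} (cP4r 1 2) s501 0 a501_1 := x501
theorem x501_2 : AuxS.{u} (cP4r 1 2) s501 0 a501_2 := x501_1
theorem x501_3 : AuxS.{u} (cP4r 1 2) s501 0 a501_3 := x501_2
theorem n501 : Sound.{u} (cP4r 1 2) s501 0 :=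
  (x501_3.fr (AuxS.gam x501_3 c501_0) (AllS.cons n511 (AllS.cons n512 (AllS.cons n513 (AllS.cons n514 AllS.nil)))) c501_1 :)
theorem x502 : AuxS.{u} (cP4r 1 2) s502 0 a502 := aux_base3 tw160 rfl b502
theorem x502_1 : AuxS.{u} (cP4r 1 2) s502 0 a502_1 := x502
theorem x502_2 : AuxS.{u} (cP4r 1 2) s502 0 a502_2 := x502_1
theorem x502_3 : AuxS.{u} (cP4r 1 2) s502 0 a502_3 := x502_2
theorem n502 : Sound.{u} (cP4r 1 2) s502 0 :=
  (x502_3.fr GamS.nil AllS.nil c502_0 :)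
theorem x503 : AuxS.{u} (cP4r 1 2) s503 0 a503 := aux_base3 tw161 rfl b503
theorem n503 : Sound.{u} (cP4r 1 2) s503 0 :=
  (x503.k4 c503_0 :)
theorem x504 : AuxS.{u} (cP4r 1 2) s504 0 a504 := aux_base3 tw162 rfl b504
theorem n504 : Sound.{u} (cP4r 1 2) s504 0 :=
  (x504.k4 c504_0 :)
theorem x515 : AuxS.{u} (cP4r 1 2) s515 0 a515 := aux_base3 tw163 rfl b515
theorem x515_1 : AuxS.{u} (cP4r 1 2) s515 0 a515_1 := (AuxS.up x515 c515_13 :)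
theorem x515_2 : AuxS.{u} (cP4r 1 2) s515 0 a515_2 := (AuxS.up x515_1 c515_14 :)
theorem x515_L225_1 : AuxS.{u} (cP4r 1 2) s515 (225 + 2) a515_L225_1 := (AuxS.hp (x515_2.lam 225) c515_2 :)
theorem x515_L225_2 : AuxS.{u} (cP4r 1 2) s515 (225 + 2) a515_L225_2 := (AuxS.ne x515_L225_1 c515_3 :)
theorem x515_L225_3 : AuxS.{u} (cP4r 1 2) s515 (225 + 2) a515_L225_3 := (AuxS.nf x515_L225_2 c515_4 :)
theorem x515_L225_4 : AuxS.{u} (cP4r 1 2) s515 (225 + 2) a515_L225_4 := (AuxS.hp x515_L225_3 c515_5 :)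
theorem x515_L673_1 : AuxS.{u} (cP4r 1 2) s515 (673 + 2) a515_L673_1 := (AuxS.hp (x515_2.lam 673) c515_7 :)
theorem x515_L673_2 : AuxS.{u} (cP4r 1 2) s515 (673 + 2) a515_L673_2 := (AuxS.ne x515_L673_1 c515_8 :)
theorem x515_L673_3 : AuxS.{u} (cP4r 1 2) s515 (673 + 2) a515_L673_3 := (AuxS.nf x515_L673_2 c515_9 :)
theorem x515_L673_4 : AuxS.{u} (cP4r 1 2) s515 (673 + 2) a515_L673_4 := (AuxS.hp x515_L673_3 c515_10 :)
theorem n515 : Sound.{u} (cP4r 1 2) s515 0 :=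
  (x515_2.spl c515_0 (AllM.cons ((x515_2.lam 0).tp c515_1 :) (AllM.cons (x515_L225_4.tp c515_6 :) (AllM.cons (x515_L673_4.tp c515_11 :) AllM.nil))) ((x515_2.weaken 1).ext2 (fun _ => rfl) GamS.nil AllS.nil c515_12 (Phs.fin (ct := ct515_12) rfl) (Phs.fin (ct := ct515_12) rfl)) :)
theorem x516 : AuxS.{u} (cP4r 1 2) s516 0 a516 := aux_base3 tw163 rfl b516
theorem n516 : Sound.{u} (cP4r 1 2) s516 0 :=
  (x516.k4 c516_0 :)
theorem x517 : AuxS.{u} (cP4r 1 2) s517 0 a517 := aux_base3 tw163 rfl b517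
theorem n517 : Sound.{u} (cP4r 1 2) s517 0 :=
  (x517.k4 c517_0 :)
theorem x518 : AuxS.{u} (cP4r 1 2) s518 0 a518 := aux_base3 tw163 rfl b518
theorem n518 : Sound.{u} (cP4r 1 2) s518 0 :=
  (x518.k4 c518_0 :)
theorem x505 : AuxS.{u} (cP4r 1 2) s505 0 a505 := aux_base3 tw163 rfl b505
theorem x505_1 : AuxS.{u} (cP4r 1 2) s505 0 a505_1 := x505
theorem x505_2 : AuxS.{u} (cP4r 1 2) s505 0 a505_2 := x505_1
theorem x505_3 : AuxS.{u} (cP4r 1 2) s505 0 a505_3 := x505_2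
theorem n505 : Sound.{u} (cP4r 1 2) s505 0 :=
  (x505_3.fr (AuxS.gam x505_3 c505_0) (AllS.cons n515 (AllS.cons n516 (AllS.cons n517 (AllS.cons n518 AllS.nil)))) c505_1 :)
theorem x506 : AuxS.{u} (cP4r 1 2) s506 0 a506 := aux_base3 tw164 rfl b506
theorem x506_1 : AuxS.{u} (cP4r 1 2) s506 0 a506_1 := x506
theorem x506_2 : AuxS.{u} (cP4r 1 2) s506 0 a506_2 := x506_1
theorem x506_3 : AuxS.{u} (cP4r 1 2) s506 0 a506_3 := x506_2
theorem n506 : Sound.{u} (cP4r 1 2) s506 0 :=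
  (x506_3.fr GamS.nil AllS.nil c506_0 :)
theorem x507 : AuxS.{u} (cP4r 1 2) s507 0 a507 := aux_base3 tw165 rfl b507
theorem x507_1 : AuxS.{u} (cP4r 1 2) s507 0 a507_1 := (AuxS.up x507 c507_20 :)
theorem x507_2 : AuxS.{u} (cP4r 1 2) s507 0 a507_2 := (AuxS.up2 x507_1 c507_21 :)
theorem x507_3 : AuxS.{u} (cP4r 1 2) s507 0 a507_3 := (AuxS.up x507_2 c507_22 :)
theorem x507_L161_1 : AuxS.{u} (cP4r 1 2) s507 (161 + 2) a507_L161_1 := (AuxS.hp (x507_3.lam 161) c507_2 :)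
theorem x507_L161_2 : AuxS.{u} (cP4r 1 2) s507 (161 + 2) a507_L161_2 := (AuxS.ne x507_L161_1 c507_3 :)
theorem x507_L161_3 : AuxS.{u} (cP4r 1 2) s507 (161 + 2) a507_L161_3 := (AuxS.nf x507_L161_2 c507_4 :)
theorem x507_L161_4 : AuxS.{u} (cP4r 1 2) s507 (161 + 2) a507_L161_4 := (AuxS.hp x507_L161_3 c507_5 :)
theorem x507_L225_1 : AuxS.{u} (cP4r 1 2) s507 (225 + 2) a507_L225_1 := (AuxS.hp (x507_3.lam 225) c507_7 :)
theorem x507_L225_2 : AuxS.{u} (cP4r 1 2) s507 (225 + 2) a507_L225_2 := (AuxS.ne x507_L225_1 c507_8 :)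
theorem x507_L225_3 : AuxS.{u} (cP4r 1 2) s507 (225 + 2) a507_L225_3 := (AuxS.nf x507_L225_2 c507_9 :)
theorem x507_L225_4 : AuxS.{u} (cP4r 1 2) s507 (225 + 2) a507_L225_4 := (AuxS.hp x507_L225_3 c507_10 :)
theorem x507_L673_1 : AuxS.{u} (cP4r 1 2) s507 (673 + 2) a507_L673_1 := (AuxS.hp (x507_3.lam 673) c507_12 :)
theorem x507_L673_2 : AuxS.{u} (cP4r 1 2) s507 (673 + 2) a507_L673_2 := (AuxS.ne x507_L673_1 c507_13 :)
theorem x507_L673_3 : AuxS.{u} (cP4r 1 2) s507 (673 + 2) a507_L673_3 := (AuxS.nf x507_L673_2 c507_14 :)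
theorem x507_L673_4 : AuxS.{u} (cP4r 1 2) s507 (673 + 2) a507_L673_4 := (AuxS.hp x507_L673_3 c507_15 :)
theorem x507_L737_1 : AuxS.{u} (cP4r 1 2) s507 (737 + 2) a507_L737_1 := (AuxS.hp (x507_3.lam 737) c507_17 :)
theorem n507 : Sound.{u} (cP4r 1 2) s507 0 :=
  (x507_3.spl c507_0 (AllM.cons ((x507_3.lam 0).tp c507_1 :) (AllM.cons (x507_L161_4.tp c507_6 :) (AllM.cons (x507_L225_4.tp c507_11 :) (AllM.cons (x507_L673_4.tp c507_16 :) (AllM.cons (x507_L737_1.tp c507_18 :) AllM.nil))))) ((x507_3.weaken 1).ext2 (fun _ => rfl) GamS.nil AllS.nil c507_19 (Phs.fin (ct := ct507_19) rfl) (Phs.fin (ct := ct507_19) rfl)) :)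
theorem x508 : AuxS.{u} (cP4r 1 2) s508 0 a508 := aux_base3 tw166 rfl b508
theorem x508_1 : AuxS.{u} (cP4r 1 2) s508 0 a508_1 := (AuxS.up x508 c508_20 :)
theorem x508_2 : AuxS.{u} (cP4r 1 2) s508 0 a508_2 := (AuxS.up2 x508_1 c508_21 :)
theorem x508_3 : AuxS.{u} (cP4r 1 2) s508 0 a508_3 := (AuxS.up x508_2 c508_22 :)
theorem x508_L161_1 : AuxS.{u} (cP4r 1 2) s508 (161 + 2) a508_L161_1 := (AuxS.hp (x508_3.lam 161) c508_2 :)
theorem x508_L161_2 : AuxS.{u} (cP4r 1 2) s508 (161 + 2) a508_L161_2 := (AuxS.nf x508_L161_1 c508_3 :)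
theorem x508_L225_1 : AuxS.{u} (cP4r 1 2) s508 (225 + 2) a508_L225_1 := (AuxS.hp (x508_3.lam 225) c508_5 :)
theorem x508_L225_2 : AuxS.{u} (cP4r 1 2) s508 (225 + 2) a508_L225_2 := (AuxS.ne x508_L225_1 c508_6 :)
theorem x508_L225_3 : AuxS.{u} (cP4r 1 2) s508 (225 + 2) a508_L225_3 := (AuxS.nf x508_L225_2 c508_7 :)
theorem x508_L225_4 : AuxS.{u} (cP4r 1 2) s508 (225 + 2) a508_L225_4 := (AuxS.hp x508_L225_3 c508_8 :)
theorem x508_L225_5 : AuxS.{u} (cP4r 1 2) s508 (225 + 2) a508_L225_5 := (AuxS.nf x508_L225_4 c508_9 :)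
theorem x508_L225_6 : AuxS.{u} (cP4r 1 2) s508 (225 + 2) a508_L225_6 := (AuxS.hp x508_L225_5 c508_10 :)
theorem x508_L673_1 : AuxS.{u} (cP4r 1 2) s508 (673 + 2) a508_L673_1 := (AuxS.hp (x508_3.lam 673) c508_12 :)
theorem x508_L673_2 : AuxS.{u} (cP4r 1 2) s508 (673 + 2) a508_L673_2 := (AuxS.ne x508_L673_1 c508_13 :)
theorem x508_L673_3 : AuxS.{u} (cP4r 1 2) s508 (673 + 2) a508_L673_3 := (AuxS.nf x508_L673_2 c508_14 :)
theorem x508_L673_4 : AuxS.{u} (cP4r 1 2) s508 (673 + 2) a508_L673_4 := (AuxS.hp x508_L673_3 c508_15 :)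
theorem x508_L737_1 : AuxS.{u} (cP4r 1 2) s508 (737 + 2) a508_L737_1 := (AuxS.hp (x508_3.lam 737) c508_17 :)
theorem n508 : Sound.{u} (cP4r 1 2) s508 0 :=
  (x508_3.spl c508_0 (AllM.cons ((x508_3.lam 0).tp c508_1 :) (AllM.cons (x508_L161_2.k5 c508_4 :) (AllM.cons (x508_L225_6.tp c508_11 :) (AllM.cons (x508_L673_4.tp c508_16 :) (AllM.cons (x508_L737_1.tp c508_18 :) AllM.nil))))) ((x508_3.weaken 1).ext2 (fun _ => rfl) GamS.nil AllS.nil c508_19 (Phs.fin (ct := ct508_19) rfl) (Phs.fin (ct := ct508_19) rfl)) :)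
theorem x509 : AuxS.{u} (cP4r 1 2) s509 0 a509 := aux_base3 tw167 rfl b509
theorem x509_1 : AuxS.{u} (cP4r 1 2) s509 0 a509_1 := (AuxS.up x509 c509_20 :)
theorem x509_2 : AuxS.{u} (cP4r 1 2) s509 0 a509_2 := (AuxS.up2 x509_1 c509_21 :)
theorem x509_3 : AuxS.{u} (cP4r 1 2) s509 0 a509_3 := (AuxS.up x509_2 c509_22 :)
theorem x509_L161_1 : AuxS.{u} (cP4r 1 2) s509 (161 + 2) a509_L161_1 := (AuxS.hp (x509_3.lam 161) c509_2 :)
theorem x509_L161_2 : AuxS.{u} (cP4r 1 2) s509 (161 + 2) a509_L161_2 := (AuxS.nf x509_L161_1 c509_3 :)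
theorem x509_L225_1 : AuxS.{u} (cP4r 1 2) s509 (225 + 2) a509_L225_1 := (AuxS.hp (x509_3.lam 225) c509_5 :)
theorem x509_L225_2 : AuxS.{u} (cP4r 1 2) s509 (225 + 2) a509_L225_2 := (AuxS.ne x509_L225_1 c509_6 :)
theorem x509_L225_3 : AuxS.{u} (cP4r 1 2) s509 (225 + 2) a509_L225_3 := (AuxS.nf x509_L225_2 c509_7 :)
theorem x509_L225_4 : AuxS.{u} (cP4r 1 2) s509 (225 + 2) a509_L225_4 := (AuxS.hp x509_L225_3 c509_8 :)
theorem x509_L225_5 : AuxS.{u} (cP4r 1 2) s509 (225 + 2) a509_L225_5 := (AuxS.nf x509_L225_4 c509_9 :)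
theorem x509_L225_6 : AuxS.{u} (cP4r 1 2) s509 (225 + 2) a509_L225_6 := (AuxS.hp x509_L225_5 c509_10 :)
theorem x509_L673_1 : AuxS.{u} (cP4r 1 2) s509 (673 + 2) a509_L673_1 := (AuxS.hp (x509_3.lam 673) c509_12 :)
theorem x509_L673_2 : AuxS.{u} (cP4r 1 2) s509 (673 + 2) a509_L673_2 := (AuxS.ne x509_L673_1 c509_13 :)
theorem x509_L673_3 : AuxS.{u} (cP4r 1 2) s509 (673 + 2) a509_L673_3 := (AuxS.nf x509_L673_2 c509_14 :)
theorem x509_L673_4 : AuxS.{u} (cP4r 1 2) s509 (673 + 2) a509_L673_4 := (AuxS.hp x509_L673_3 c509_15 :)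
theorem x509_L737_1 : AuxS.{u} (cP4r 1 2) s509 (737 + 2) a509_L737_1 := (AuxS.hp (x509_3.lam 737) c509_17 :)
theorem n509 : Sound.{u} (cP4r 1 2) s509 0 :=
  (x509_3.spl c509_0 (AllM.cons ((x509_3.lam 0).tp c509_1 :) (AllM.cons (x509_L161_2.k5 c509_4 :) (AllM.cons (x509_L225_6.tp c509_11 :) (AllM.cons (x509_L673_4.tp c509_16 :) (AllM.cons (x509_L737_1.tp c509_18 :) AllM.nil))))) ((x509_3.weaken 1).ext2 (fun _ => rfl) GamS.nil AllS.nil c509_19 (Phs.fin (ct := ct509_19) rfl) (Phs.fin (ct := ct509_19) rfl)) :)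
theorem x510 : AuxS.{u} (cP4r 1 2) s510 0 a510 := aux_base3 tw168 rfl b510
theorem x510_1 : AuxS.{u} (cP4r 1 2) s510 0 a510_1 := (AuxS.up x510 c510_20 :)
theorem x510_2 : AuxS.{u} (cP4r 1 2) s510 0 a510_2 := (AuxS.up2 x510_1 c510_21 :)
theorem x510_3 : AuxS.{u} (cP4r 1 2) s510 0 a510_3 := (AuxS.up x510_2 c510_22 :)
theorem x510_L161_1 : AuxS.{u} (cP4r 1 2) s510 (161 + 2) a510_L161_1 := (AuxS.hp (x510_3.lam 161) c510_2 :)
theorem x510_L161_2 : AuxS.{u} (cP4r 1 2) s510 (161 + 2) a510_L161_2 := (AuxS.ne x510_L161_1 c510_3 :)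
theorem x510_L161_3 : AuxS.{u} (cP4r 1 2) s510 (161 + 2) a510_L161_3 := (AuxS.nf x510_L161_2 c510_4 :)
theorem x510_L161_4 : AuxS.{u} (cP4r 1 2) s510 (161 + 2) a510_L161_4 := (AuxS.hp x510_L161_3 c510_5 :)
theorem x510_L225_1 : AuxS.{u} (cP4r 1 2) s510 (225 + 2) a510_L225_1 := (AuxS.hp (x510_3.lam 225) c510_7 :)
theorem x510_L225_2 : AuxS.{u} (cP4r 1 2) s510 (225 + 2) a510_L225_2 := (AuxS.ne x510_L225_1 c510_8 :)
theorem x510_L225_3 : AuxS.{u} (cP4r 1 2) s510 (225 + 2) a510_L225_3 := (AuxS.nf x510_L225_2 c510_9 :)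
theorem x510_L225_4 : AuxS.{u} (cP4r 1 2) s510 (225 + 2) a510_L225_4 := (AuxS.hp x510_L225_3 c510_10 :)
theorem x510_L673_1 : AuxS.{u} (cP4r 1 2) s510 (673 + 2) a510_L673_1 := (AuxS.hp (x510_3.lam 673) c510_12 :)
theorem x510_L673_2 : AuxS.{u} (cP4r 1 2) s510 (673 + 2) a510_L673_2 := (AuxS.ne x510_L673_1 c510_13 :)
theorem x510_L673_3 : AuxS.{u} (cP4r 1 2) s510 (673 + 2) a510_L673_3 := (AuxS.nf x510_L673_2 c510_14 :)
theorem x510_L673_4 : AuxS.{u} (cP4r 1 2) s510 (673 + 2) a510_L673_4 := (AuxS.hp x510_L673_3 c510_15 :)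
theorem x510_L737_1 : AuxS.{u} (cP4r 1 2) s510 (737 + 2) a510_L737_1 := (AuxS.hp (x510_3.lam 737) c510_17 :)
theorem n510 : Sound.{u} (cP4r 1 2) s510 0 :=
  (x510_3.spl c510_0 (AllM.cons ((x510_3.lam 0).tp c510_1 :) (AllM.cons (x510_L161_4.tp c510_6 :) (AllM.cons (x510_L225_4.tp c510_11 :) (AllM.cons (x510_L673_4.tp c510_16 :) (AllM.cons (x510_L737_1.tp c510_18 :) AllM.nil))))) ((x510_3.weaken 1).ext2 (fun _ => rfl) GamS.nil AllS.nil c510_19 (Phs.fin (ct := ct510_19) rfl) (Phs.fin (ct := ct510_19) rfl)) :)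
theorem x491 : AuxS.{u} (cP4r 1 2) s491 0 a491 := aux_base3 tw152 rfl b491
theorem x491_1 : AuxS.{u} (cP4r 1 2) s491 0 a491_1 := (AuxS.up x491 c491_8 :)
theorem x491_2 : AuxS.{u} (cP4r 1 2) s491 0 a491_2 := (AuxS.up2 x491_1 c491_9 :)
theorem x491_3 : AuxS.{u} (cP4r 1 2) s491 0 a491_3 := (AuxS.up x491_2 c491_10 :)
theorem p491_1_1 : Phs s491 a491_3 [] [s495, s496, s497, s498, s499, s500, s501, s502, s503, s504, s505, s506, s507, s508, s509, s510] ct491_1 v491_1 7 w491_1_1 := (Phs.fin c491_1)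
theorem p491_1_3 : Phs s491 a491_3 [] [s495, s496, s497, s498, s499, s500, s501, s502, s503, s504, s505, s506, s507, s508, s509, s510] ct491_1 v491_1 5 w491_1_3 := (Phs.stp c491_2 p491_1_1)
theorem p491_1_5 : Phs s491 a491_3 [] [s495, s496, s497, s498, s499, s500, s501, s502, s503, s504, s505, s506, s507, s508, s509, s510] ct491_1 v491_1 4 w491_1_5 := (Phs.stp c491_3 p491_1_3)
theorem p491_1_7 : Phs s491 a491_3 [] [s495, s496, s497, s498, s499, s500, s501, s502, s503, s504, s505, s506, s507, s508, s509, s510] ct491_1 v491_1 2 w491_1_7 := (Phs.stp c491_4 p491_1_5)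
theorem p491_1_9 : Phs s491 a491_3 [] [s495, s496, s497, s498, s499, s500, s501, s502, s503, s504, s505, s506, s507, s508, s509, s510] ct491_1 v491_1 1 w491_1_9 := (Phs.stp c491_5 p491_1_7)
theorem n491 : Sound.{u} (cP4r 1 2) s491 0 :=
  (x491_3.par c491_0 ((x491_3.weaken 1).ext2 (fun _ => rfl) GamS.nil (AllS.cons n495 (AllS.cons n496 (AllS.cons n497 (AllS.cons n498 (AllS.cons n499 (AllS.cons n500 (AllS.cons n501 (AllS.cons n502 (AllS.cons n503 (AllS.cons n504 (AllS.cons n505 (AllS.cons n506 (AllS.cons n507 (AllS.cons n508 (AllS.cons n509 (AllS.cons n510 AllS.nil)))))))))))))))) c491_7 (Phs.stp c491_6 p491_1_9) (Phs.fin (ct := ct491_1) rfl)) :)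
theorem x492 : AuxS.{u} (cP4r 1 2) s492 0 a492 := aux_base3 tw152 rfl b492
theorem n492 : Sound.{u} (cP4r 1 2) s492 0 :=
  (x492.k4 c492_0 :)
theorem x493 : AuxS.{u} (cP4r 1 2) s493 0 a493 := aux_base3 tw152 rfl b493
theorem n493 : Sound.{u} (cP4r 1 2) s493 0 :=
  (x493.k4 c493_0 :)
theorem x494 : AuxS.{u} (cP4r 1 2) s494 0 a494 := aux_base3 tw152 rfl b494
theorem x494_1 : AuxS.{u} (cP4r 1 2) s494 0 a494_1 := x494
theorem x494_2 : AuxS.{u} (cP4r 1 2) s494 0 a494_2 := x494_1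
theorem x494_3 : AuxS.{u} (cP4r 1 2) s494 0 a494_3 := x494_2
theorem n494 : Sound.{u} (cP4r 1 2) s494 0 :=
  (x494_3.jump c494_0 c494_1 n491 :)
theorem x488 : AuxS.{u} (cP4r 1 2) s488 0 a488 := aux_base3 tw152 rfl b488
theorem x488_1 : AuxS.{u} (cP4r 1 2) s488 0 a488_1 := x488
theorem x488_2 : AuxS.{u} (cP4r 1 2) s488 0 a488_2 := x488_1
theorem x488_3 : AuxS.{u} (cP4r 1 2) s488 0 a488_3 := x488_2
theorem n488 : Sound.{u} (cP4r 1 2) s488 0 :=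
  (x488_3.fr GamS.nil (AllS.cons n491 (AllS.cons n492 (AllS.cons n493 (AllS.cons n494 AllS.nil)))) c488_0 :)
theorem x519 : AuxS.{u} (cP4r 1 2) s519 0 a519 := aux_base3 tw152 rfl b519
theorem x519_1 : AuxS.{u} (cP4r 1 2) s519 0 a519_1 := x519
theorem x519_2 : AuxS.{u} (cP4r 1 2) s519 0 a519_2 := x519_1
theorem x519_3 : AuxS.{u} (cP4r 1 2) s519 0 a519_3 := x519_2
theorem n519 : Sound.{u} (cP4r 1 2) s519 0 :=
  (x519_3.jump c519_0 c519_1 n488 :)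
theorem x520 : AuxS.{u} (cP4r 1 2) s520 0 a520 := aux_base3 tw152 rfl b520
theorem n520 : Sound.{u} (cP4r 1 2) s520 0 :=
  (x520.k4 c520_0 :)
theorem x521 : AuxS.{u} (cP4r 1 2) s521 0 a521 := aux_base3 tw152 rfl b521
theorem n521 : Sound.{u} (cP4r 1 2) s521 0 :=
  (x521.k4 c521_0 :)
theorem x523 : AuxS.{u} (cP4r 1 2) s523 0 a523 := aux_base3 tw169 rfl b523
theorem x523_1 : AuxS.{u} (cP4r 1 2) s523 0 a523_1 := (AuxS.up x523 c523_22 :)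
theorem x523_2 : AuxS.{u} (cP4r 1 2) s523 0 a523_2 := (AuxS.up2 x523_1 c523_23 :)
theorem x523_3 : AuxS.{u} (cP4r 1 2) s523 0 a523_3 := (AuxS.up x523_2 c523_24 :)
theorem x523_L161_1 : AuxS.{u} (cP4r 1 2) s523 (161 + 2) a523_L161_1 := (AuxS.hp (x523_3.lam 161) c523_2 :)
theorem x523_L161_2 : AuxS.{u} (cP4r 1 2) s523 (161 + 2) a523_L161_2 := (AuxS.nf x523_L161_1 c523_3 :)
theorem x523_L225_1 : AuxS.{u} (cP4r 1 2) s523 (225 + 2) a523_L225_1 := (AuxS.hp (x523_3.lam 225) c523_5 :)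
theorem x523_L225_2 : AuxS.{u} (cP4r 1 2) s523 (225 + 2) a523_L225_2 := (AuxS.ne x523_L225_1 c523_6 :)
theorem x523_L225_3 : AuxS.{u} (cP4r 1 2) s523 (225 + 2) a523_L225_3 := (AuxS.nf x523_L225_2 c523_7 :)
theorem x523_L673_1 : AuxS.{u} (cP4r 1 2) s523 (673 + 2) a523_L673_1 := (AuxS.hp (x523_3.lam 673) c523_9 :)
theorem x523_L673_2 : AuxS.{u} (cP4r 1 2) s523 (673 + 2) a523_L673_2 := (AuxS.ne x523_L673_1 c523_10 :)
theorem x523_L673_3 : AuxS.{u} (cP4r 1 2) s523 (673 + 2) a523_L673_3 := (AuxS.nf x523_L673_2 c523_11 :)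
theorem x523_L673_4 : AuxS.{u} (cP4r 1 2) s523 (673 + 2) a523_L673_4 := (AuxS.hp x523_L673_3 c523_12 :)
theorem x523_L737_1 : AuxS.{u} (cP4r 1 2) s523 (737 + 2) a523_L737_1 := (AuxS.hp (x523_3.lam 737) c523_14 :)
theorem x523_L737_2 : AuxS.{u} (cP4r 1 2) s523 (737 + 2) a523_L737_2 := (AuxS.ne x523_L737_1 c523_15 :)
theorem x523_L737_3 : AuxS.{u} (cP4r 1 2) s523 (737 + 2) a523_L737_3 := (AuxS.nf x523_L737_2 c523_16 :)
theorem x523_L737_4 : AuxS.{u} (cP4r 1 2) s523 (737 + 2) a523_L737_4 := (AuxS.hp x523_L737_3 c523_17 :)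
theorem x523_L737_5 : AuxS.{u} (cP4r 1 2) s523 (737 + 2) a523_L737_5 := (AuxS.nf x523_L737_4 c523_18 :)
theorem x523_L737_6 : AuxS.{u} (cP4r 1 2) s523 (737 + 2) a523_L737_6 := (AuxS.hp x523_L737_5 c523_19 :)
theorem n523 : Sound.{u} (cP4r 1 2) s523 0 :=
  (x523_3.spl c523_0 (AllM.cons ((x523_3.lam 0).tp c523_1 :) (AllM.cons (x523_L161_2.k5 c523_4 :) (AllM.cons (x523_L225_3.k5 c523_8 :) (AllM.cons (x523_L673_4.tp c523_13 :) (AllM.cons (x523_L737_6.tp c523_20 :) AllM.nil))))) ((x523_3.weaken 1).ext2 (fun _ => rfl) GamS.nil AllS.nil c523_21 (Phs.fin (ct := ct523_21) rfl) (Phs.fin (ct := ct523_21) rfl)) :)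
theorem x524 : AuxS.{u} (cP4r 1 2) s524 0 a524 := aux_base3 tw170 rfl b524
theorem x524_1 : AuxS.{u} (cP4r 1 2) s524 0 a524_1 := (AuxS.up x524 c524_23 :)
theorem x524_2 : AuxS.{u} (cP4r 1 2) s524 0 a524_2 := (AuxS.up2 x524_1 c524_24 :)
theorem x524_3 : AuxS.{u} (cP4r 1 2) s524 0 a524_3 := (AuxS.up x524_2 c524_25 :)
theorem x524_L161_1 : AuxS.{u} (cP4r 1 2) s524 (161 + 2) a524_L161_1 := (AuxS.hp (x524_3.lam 161) c524_2 :)
theorem x524_L161_2 : AuxS.{u} (cP4r 1 2) s524 (161 + 2) a524_L161_2 := (AuxS.ne x524_L161_1 c524_3 :)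
theorem x524_L161_3 : AuxS.{u} (cP4r 1 2) s524 (161 + 2) a524_L161_3 := (AuxS.nf x524_L161_2 c524_4 :)
theorem x524_L161_4 : AuxS.{u} (cP4r 1 2) s524 (161 + 2) a524_L161_4 := (AuxS.hp x524_L161_3 c524_5 :)
theorem x524_L225_1 : AuxS.{u} (cP4r 1 2) s524 (225 + 2) a524_L225_1 := (AuxS.hp (x524_3.lam 225) c524_7 :)
theorem x524_L225_2 : AuxS.{u} (cP4r 1 2) s524 (225 + 2) a524_L225_2 := (AuxS.ne x524_L225_1 c524_8 :)
theorem x524_L225_3 : AuxS.{u} (cP4r 1 2) s524 (225 + 2) a524_L225_3 := (AuxS.nf x524_L225_2 c524_9 :)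
theorem x524_L225_4 : AuxS.{u} (cP4r 1 2) s524 (225 + 2) a524_L225_4 := (AuxS.hp x524_L225_3 c524_10 :)
theorem x524_L673_1 : AuxS.{u} (cP4r 1 2) s524 (673 + 2) a524_L673_1 := (AuxS.hp (x524_3.lam 673) c524_12 :)
theorem x524_L673_2 : AuxS.{u} (cP4r 1 2) s524 (673 + 2) a524_L673_2 := (AuxS.ne x524_L673_1 c524_13 :)
theorem x524_L673_3 : AuxS.{u} (cP4r 1 2) s524 (673 + 2) a524_L673_3 := (AuxS.nf x524_L673_2 c524_14 :)
theorem x524_L673_4 : AuxS.{u} (cP4r 1 2) s524 (673 + 2) a524_L673_4 := (AuxS.hp x524_L673_3 c524_15 :)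
theorem x524_L737_1 : AuxS.{u} (cP4r 1 2) s524 (737 + 2) a524_L737_1 := (AuxS.hp (x524_3.lam 737) c524_17 :)
theorem x524_L737_2 : AuxS.{u} (cP4r 1 2) s524 (737 + 2) a524_L737_2 := (AuxS.ne x524_L737_1 c524_18 :)
theorem x524_L737_3 : AuxS.{u} (cP4r 1 2) s524 (737 + 2) a524_L737_3 := (AuxS.nf x524_L737_2 c524_19 :)
theorem x524_L737_4 : AuxS.{u} (cP4r 1 2) s524 (737 + 2) a524_L737_4 := (AuxS.hp x524_L737_3 c524_20 :)
theorem n524 : Sound.{u} (cP4r 1 2) s524 0 :=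
  (x524_3.spl c524_0 (AllM.cons ((x524_3.lam 0).tp c524_1 :) (AllM.cons (x524_L161_4.tp c524_6 :) (AllM.cons (x524_L225_4.tp c524_11 :) (AllM.cons (x524_L673_4.tp c524_16 :) (AllM.cons (x524_L737_4.tp c524_21 :) AllM.nil))))) ((x524_3.weaken 1).ext2 (fun _ => rfl) GamS.nil AllS.nil c524_22 (Phs.fin (ct := ct524_22) rfl) (Phs.fin (ct := ct524_22) rfl)) :)
theorem x525 : AuxS.{u} (cP4r 1 2) s525 0 a525 := aux_base3 tw171 rfl b525
theorem x525_1 : AuxS.{u} (cP4r 1 2) s525 0 a525_1 := (AuxS.up x525 c525_22 :)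
theorem x525_2 : AuxS.{u} (cP4r 1 2) s525 0 a525_2 := (AuxS.up2 x525_1 c525_23 :)
theorem x525_3 : AuxS.{u} (cP4r 1 2) s525 0 a525_3 := (AuxS.up x525_2 c525_24 :)
theorem x525_L161_1 : AuxS.{u} (cP4r 1 2) s525 (161 + 2) a525_L161_1 := (AuxS.hp (x525_3.lam 161) c525_2 :)
theorem x525_L161_2 : AuxS.{u} (cP4r 1 2) s525 (161 + 2) a525_L161_2 := (AuxS.nf x525_L161_1 c525_3 :)
theorem x525_L225_1 : AuxS.{u} (cP4r 1 2) s525 (225 + 2) a525_L225_1 := (AuxS.hp (x525_3.lam 225) c525_5 :)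
theorem x525_L225_2 : AuxS.{u} (cP4r 1 2) s525 (225 + 2) a525_L225_2 := (AuxS.ne x525_L225_1 c525_6 :)
theorem x525_L225_3 : AuxS.{u} (cP4r 1 2) s525 (225 + 2) a525_L225_3 := (AuxS.nf x525_L225_2 c525_7 :)
theorem x525_L673_1 : AuxS.{u} (cP4r 1 2) s525 (673 + 2) a525_L673_1 := (AuxS.hp (x525_3.lam 673) c525_9 :)
theorem x525_L673_2 : AuxS.{u} (cP4r 1 2) s525 (673 + 2) a525_L673_2 := (AuxS.ne x525_L673_1 c525_10 :)
theorem x525_L673_3 : AuxS.{u} (cP4r 1 2) s525 (673 + 2) a525_L673_3 := (AuxS.nf x525_L673_2 c525_11 :)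
theorem x525_L673_4 : AuxS.{u} (cP4r 1 2) s525 (673 + 2) a525_L673_4 := (AuxS.hp x525_L673_3 c525_12 :)
theorem x525_L737_1 : AuxS.{u} (cP4r 1 2) s525 (737 + 2) a525_L737_1 := (AuxS.hp (x525_3.lam 737) c525_14 :)
theorem x525_L737_2 : AuxS.{u} (cP4r 1 2) s525 (737 + 2) a525_L737_2 := (AuxS.ne x525_L737_1 c525_15 :)
theorem x525_L737_3 : AuxS.{u} (cP4r 1 2) s525 (737 + 2) a525_L737_3 := (AuxS.nf x525_L737_2 c525_16 :)
theorem x525_L737_4 : AuxS.{u} (cP4r 1 2) s525 (737 + 2) a525_L737_4 := (AuxS.hp x525_L737_3 c525_17 :)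
theorem x525_L737_5 : AuxS.{u} (cP4r 1 2) s525 (737 + 2) a525_L737_5 := (AuxS.nf x525_L737_4 c525_18 :)
theorem x525_L737_6 : AuxS.{u} (cP4r 1 2) s525 (737 + 2) a525_L737_6 := (AuxS.hp x525_L737_5 c525_19 :)
theorem n525 : Sound.{u} (cP4r 1 2) s525 0 :=
  (x525_3.spl c525_0 (AllM.cons ((x525_3.lam 0).tp c525_1 :) (AllM.cons (x525_L161_2.k5 c525_4 :) (AllM.cons (x525_L225_3.k5 c525_8 :) (AllM.cons (x525_L673_4.tp c525_13 :) (AllM.cons (x525_L737_6.tp c525_20 :) AllM.nil))))) ((x525_3.weaken 1).ext2 (fun _ => rfl) GamS.nil AllS.nil c525_21 (Phs.fin (ct := ct525_21) rfl) (Phs.fin (ct := ct525_21) rfl)) :)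
theorem x526 : AuxS.{u} (cP4r 1 2) s526 0 a526 := aux_base3 tw172 rfl b526
theorem x526_1 : AuxS.{u} (cP4r 1 2) s526 0 a526_1 := (AuxS.up x526 c526_23 :)
theorem x526_2 : AuxS.{u} (cP4r 1 2) s526 0 a526_2 := (AuxS.up2 x526_1 c526_24 :)
theorem x526_3 : AuxS.{u} (cP4r 1 2) s526 0 a526_3 := (AuxS.up x526_2 c526_25 :)
theorem x526_L161_1 : AuxS.{u} (cP4r 1 2) s526 (161 + 2) a526_L161_1 := (AuxS.hp (x526_3.lam 161) c526_2 :)
theorem x526_L161_2 : AuxS.{u} (cP4r 1 2) s526 (161 + 2) a526_L161_2 := (AuxS.ne x526_L161_1 c526_3 :)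
theorem x526_L161_3 : AuxS.{u} (cP4r 1 2) s526 (161 + 2) a526_L161_3 := (AuxS.nf x526_L161_2 c526_4 :)
theorem x526_L161_4 : AuxS.{u} (cP4r 1 2) s526 (161 + 2) a526_L161_4 := (AuxS.hp x526_L161_3 c526_5 :)
theorem x526_L225_1 : AuxS.{u} (cP4r 1 2) s526 (225 + 2) a526_L225_1 := (AuxS.hp (x526_3.lam 225) c526_7 :)
theorem x526_L225_2 : AuxS.{u} (cP4r 1 2) s526 (225 + 2) a526_L225_2 := (AuxS.ne x526_L225_1 c526_8 :)
theorem x526_L225_3 : AuxS.{u} (cP4r 1 2) s526 (225 + 2) a526_L225_3 := (AuxS.nf x526_L225_2 c526_9 :)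
theorem x526_L225_4 : AuxS.{u} (cP4r 1 2) s526 (225 + 2) a526_L225_4 := (AuxS.hp x526_L225_3 c526_10 :)
theorem x526_L673_1 : AuxS.{u} (cP4r 1 2) s526 (673 + 2) a526_L673_1 := (AuxS.hp (x526_3.lam 673) c526_12 :)
theorem x526_L673_2 : AuxS.{u} (cP4r 1 2) s526 (673 + 2) a526_L673_2 := (AuxS.ne x526_L673_1 c526_13 :)
theorem x526_L673_3 : AuxS.{u} (cP4r 1 2) s526 (673 + 2) a526_L673_3 := (AuxS.nf x526_L673_2 c526_14 :)
theorem x526_L673_4 : AuxS.{u} (cP4r 1 2) s526 (673 + 2) a526_L673_4 := (AuxS.hp x526_L673_3 c526_15 :)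
theorem x526_L737_1 : AuxS.{u} (cP4r 1 2) s526 (737 + 2) a526_L737_1 := (AuxS.hp (x526_3.lam 737) c526_17 :)
theorem x526_L737_2 : AuxS.{u} (cP4r 1 2) s526 (737 + 2) a526_L737_2 := (AuxS.ne x526_L737_1 c526_18 :)
theorem x526_L737_3 : AuxS.{u} (cP4r 1 2) s526 (737 + 2) a526_L737_3 := (AuxS.nf x526_L737_2 c526_19 :)
theorem x526_L737_4 : AuxS.{u} (cP4r 1 2) s526 (737 + 2) a526_L737_4 := (AuxS.hp x526_L737_3 c526_20 :)
theorem n526 : Sound.{u} (cP4r 1 2) s526 0 :=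
  (x526_3.spl c526_0 (AllM.cons ((x526_3.lam 0).tp c526_1 :) (AllM.cons (x526_L161_4.tp c526_6 :) (AllM.cons (x526_L225_4.tp c526_11 :) (AllM.cons (x526_L673_4.tp c526_16 :) (AllM.cons (x526_L737_4.tp c526_21 :) AllM.nil))))) ((x526_3.weaken 1).ext2 (fun _ => rfl) GamS.nil AllS.nil c526_22 (Phs.fin (ct := ct526_22) rfl) (Phs.fin (ct := ct526_22) rfl)) :)
theorem x527 : AuxS.{u} (cP4r 1 2) s527 0 a527 := aux_base3 tw173 rfl b527
theorem n527 : Sound.{u} (cP4r 1 2) s527 0 :=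
  (x527.k4 c527_0 :)
theorem x528 : AuxS.{u} (cP4r 1 2) s528 0 a528 := aux_base3 tw174 rfl b528
theorem n528 : Sound.{u} (cP4r 1 2) s528 0 :=
  (x528.k4 c528_0 :)
theorem x539 : AuxS.{u} (cP4r 1 2) s539 0 a539 := aux_base3 tw175 rfl b539
theorem n539 : Sound.{u} (cP4r 1 2) s539 0 :=
  (x539.k4 c539_0 :)
theorem x540 : AuxS.{u} (cP4r 1 2) s540 0 a540 := aux_base3 tw175 rfl b540
theorem n540 : Sound.{u} (cP4r 1 2) s540 0 :=
  (x540.k4 c540_0 :)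
theorem x541 : AuxS.{u} (cP4r 1 2) s541 0 a541 := aux_base3 tw175 rfl b541
theorem x541_1 : AuxS.{u} (cP4r 1 2) s541 0 a541_1 := (AuxS.up x541 c541_14 :)
theorem x541_2 : AuxS.{u} (cP4r 1 2) s541 0 a541_2 := (AuxS.up x541_1 c541_15 :)
theorem x541_L673_1 : AuxS.{u} (cP4r 1 2) s541 (673 + 2) a541_L673_1 := (AuxS.hp (x541_2.lam 673) c541_2 :)
theorem x541_L673_2 : AuxS.{u} (cP4r 1 2) s541 (673 + 2) a541_L673_2 := (AuxS.ne x541_L673_1 c541_3 :)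
theorem x541_L673_3 : AuxS.{u} (cP4r 1 2) s541 (673 + 2) a541_L673_3 := (AuxS.nf x541_L673_2 c541_4 :)
theorem x541_L673_4 : AuxS.{u} (cP4r 1 2) s541 (673 + 2) a541_L673_4 := (AuxS.hp x541_L673_3 c541_5 :)
theorem x541_L737_1 : AuxS.{u} (cP4r 1 2) s541 (737 + 2) a541_L737_1 := (AuxS.hp (x541_2.lam 737) c541_7 :)
theorem x541_L737_2 : AuxS.{u} (cP4r 1 2) s541 (737 + 2) a541_L737_2 := (AuxS.ne x541_L737_1 c541_8 :)
theorem x541_L737_3 : AuxS.{u} (cP4r 1 2) s541 (737 + 2) a541_L737_3 := (AuxS.nf x541_L737_2 c541_9 :)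
theorem x541_L737_4 : AuxS.{u} (cP4r 1 2) s541 (737 + 2) a541_L737_4 := (AuxS.hp x541_L737_3 c541_10 :)
theorem x541_L737_5 : AuxS.{u} (cP4r 1 2) s541 (737 + 2) a541_L737_5 := (AuxS.nf x541_L737_4 c541_11 :)
theorem n541 : Sound.{u} (cP4r 1 2) s541 0 :=
  (x541_2.spl c541_0 (AllM.cons ((x541_2.lam 0).tp c541_1 :) (AllM.cons (x541_L673_4.tp c541_6 :) (AllM.cons (x541_L737_5.k5 c541_12 :) AllM.nil))) ((x541_2.weaken 1).ext2 (fun _ => rfl) GamS.nil AllS.nil c541_13 (Phs.fin (ct := ct541_13) rfl) (Phs.fin (ct := ct541_13) rfl)) :)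
theorem x542 : AuxS.{u} (cP4r 1 2) s542 0 a542 := aux_base3 tw175 rfl b542
theorem n542 : Sound.{u} (cP4r 1 2) s542 0 :=
  (x542.k4 c542_0 :)
theorem x529 : AuxS.{u} (cP4r 1 2) s529 0 a529 := aux_base3 tw175 rfl b529
theorem x529_1 : AuxS.{u} (cP4r 1 2) s529 0 a529_1 := x529
theorem x529_2 : AuxS.{u} (cP4r 1 2) s529 0 a529_2 := x529_1
theorem x529_3 : AuxS.{u} (cP4r 1 2) s529 0 a529_3 := x529_2
theorem n529 : Sound.{u} (cP4r 1 2) s529 0 :=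
  (x529_3.fr (AuxS.gam x529_3 c529_0) (AllS.cons n539 (AllS.cons n540 (AllS.cons n541 (AllS.cons n542 AllS.nil)))) c529_1 :)
theorem x530 : AuxS.{u} (cP4r 1 2) s530 0 a530 := aux_base3 tw176 rfl b530
theorem x530_1 : AuxS.{u} (cP4r 1 2) s530 0 a530_1 := x530
theorem x530_2 : AuxS.{u} (cP4r 1 2) s530 0 a530_2 := x530_1
theorem x530_3 : AuxS.{u} (cP4r 1 2) s530 0 a530_3 := x530_2
theorem n530 : Sound.{u} (cP4r 1 2) s530 0 :=
  (x530_3.fr GamS.nil AllS.nil c530_0 :)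
theorem x531 : AuxS.{u} (cP4r 1 2) s531 0 a531 := aux_base3 tw177 rfl b531
theorem n531 : Sound.{u} (cP4r 1 2) s531 0 :=
  (x531.k4 c531_0 :)
theorem x532 : AuxS.{u} (cP4r 1 2) s532 0 a532 := aux_base3 tw178 rfl b532
theorem n532 : Sound.{u} (cP4r 1 2) s532 0 :=
  (x532.k4 c532_0 :)
theorem x543 : AuxS.{u} (cP4r 1 2) s543 0 a543 := aux_base3 tw179 rfl b543
theorem x543_1 : AuxS.{u} (cP4r 1 2) s543 0 a543_1 := (AuxS.up x543 c543_13 :)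
theorem x543_2 : AuxS.{u} (cP4r 1 2) s543 0 a543_2 := (AuxS.up x543_1 c543_14 :)
theorem x543_L225_1 : AuxS.{u} (cP4r 1 2) s543 (225 + 2) a543_L225_1 := (AuxS.hp (x543_2.lam 225) c543_2 :)
theorem x543_L225_2 : AuxS.{u} (cP4r 1 2) s543 (225 + 2) a543_L225_2 := (AuxS.ne x543_L225_1 c543_3 :)
theorem x543_L225_3 : AuxS.{u} (cP4r 1 2) s543 (225 + 2) a543_L225_3 := (AuxS.nf x543_L225_2 c543_4 :)
theorem x543_L225_4 : AuxS.{u} (cP4r 1 2) s543 (225 + 2) a543_L225_4 := (AuxS.hp x543_L225_3 c543_5 :)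
theorem x543_L673_1 : AuxS.{u} (cP4r 1 2) s543 (673 + 2) a543_L673_1 := (AuxS.hp (x543_2.lam 673) c543_7 :)
theorem x543_L673_2 : AuxS.{u} (cP4r 1 2) s543 (673 + 2) a543_L673_2 := (AuxS.ne x543_L673_1 c543_8 :)
theorem x543_L673_3 : AuxS.{u} (cP4r 1 2) s543 (673 + 2) a543_L673_3 := (AuxS.nf x543_L673_2 c543_9 :)
theorem x543_L673_4 : AuxS.{u} (cP4r 1 2) s543 (673 + 2) a543_L673_4 := (AuxS.hp x543_L673_3 c543_10 :)
theorem n543 : Sound.{u} (cP4r 1 2) s543 0 :=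
  (x543_2.spl c543_0 (AllM.cons ((x543_2.lam 0).tp c543_1 :) (AllM.cons (x543_L225_4.tp c543_6 :) (AllM.cons (x543_L673_4.tp c543_11 :) AllM.nil))) ((x543_2.weaken 1).ext2 (fun _ => rfl) GamS.nil AllS.nil c543_12 (Phs.fin (ct := ct543_12) rfl) (Phs.fin (ct := ct543_12) rfl)) :)
theorem x544 : AuxS.{u} (cP4r 1 2) s544 0 a544 := aux_base3 tw179 rfl b544
theorem n544 : Sound.{u} (cP4r 1 2) s544 0 :=
  (x544.k4 c544_0 :)
theorem x545 : AuxS.{u} (cP4r 1 2) s545 0 a545 := aux_base3 tw179 rfl b545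
theorem n545 : Sound.{u} (cP4r 1 2) s545 0 :=
  (x545.k4 c545_0 :)
theorem x546 : AuxS.{u} (cP4r 1 2) s546 0 a546 := aux_base3 tw179 rfl b546
theorem n546 : Sound.{u} (cP4r 1 2) s546 0 :=
  (x546.k4 c546_0 :)
theorem x533 : AuxS.{u} (cP4r 1 2) s533 0 a533 := aux_base3 tw179 rfl b533
theorem x533_1 : AuxS.{u} (cP4r 1 2) s533 0 a533_1 := x533
theorem x533_2 : AuxS.{u} (cP4r 1 2) s533 0 a533_2 := x533_1
theorem x533_3 : AuxS.{u} (cP4r 1 2) s533 0 a533_3 := x533_2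
theorem n533 : Sound.{u} (cP4r 1 2) s533 0 :=
  (x533_3.fr (AuxS.gam x533_3 c533_0) (AllS.cons n543 (AllS.cons n544 (AllS.cons n545 (AllS.cons n546 AllS.nil)))) c533_1 :)
theorem x534 : AuxS.{u} (cP4r 1 2) s534 0 a534 := aux_base3 tw180 rfl b534
theorem x534_1 : AuxS.{u} (cP4r 1 2) s534 0 a534_1 := x534
theorem x534_2 : AuxS.{u} (cP4r 1 2) s534 0 a534_2 := x534_1
theorem x534_3 : AuxS.{u} (cP4r 1 2) s534 0 a534_3 := x534_2
theorem n534 : Sound.{u} (cP4r 1 2) s534 0 :=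
  (x534_3.fr GamS.nil AllS.nil c534_0 :)
theorem x535 : AuxS.{u} (cP4r 1 2) s535 0 a535 := aux_base3 tw181 rfl b535
theorem x535_1 : AuxS.{u} (cP4r 1 2) s535 0 a535_1 := (AuxS.up x535 c535_20 :)
theorem x535_2 : AuxS.{u} (cP4r 1 2) s535 0 a535_2 := (AuxS.up2 x535_1 c535_21 :)
theorem x535_3 : AuxS.{u} (cP4r 1 2) s535 0 a535_3 := (AuxS.up x535_2 c535_22 :)
theorem x535_L161_1 : AuxS.{u} (cP4r 1 2) s535 (161 + 2) a535_L161_1 := (AuxS.hp (x535_3.lam 161) c535_2 :)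
theorem x535_L161_2 : AuxS.{u} (cP4r 1 2) s535 (161 + 2) a535_L161_2 := (AuxS.ne x535_L161_1 c535_3 :)
theorem x535_L161_3 : AuxS.{u} (cP4r 1 2) s535 (161 + 2) a535_L161_3 := (AuxS.nf x535_L161_2 c535_4 :)
theorem x535_L161_4 : AuxS.{u} (cP4r 1 2) s535 (161 + 2) a535_L161_4 := (AuxS.hp x535_L161_3 c535_5 :)
theorem x535_L225_1 : AuxS.{u} (cP4r 1 2) s535 (225 + 2) a535_L225_1 := (AuxS.hp (x535_3.lam 225) c535_7 :)
theorem x535_L225_2 : AuxS.{u} (cP4r 1 2) s535 (225 + 2) a535_L225_2 := (AuxS.ne x535_L225_1 c535_8 :)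
theorem x535_L225_3 : AuxS.{u} (cP4r 1 2) s535 (225 + 2) a535_L225_3 := (AuxS.nf x535_L225_2 c535_9 :)
theorem x535_L225_4 : AuxS.{u} (cP4r 1 2) s535 (225 + 2) a535_L225_4 := (AuxS.hp x535_L225_3 c535_10 :)
theorem x535_L673_1 : AuxS.{u} (cP4r 1 2) s535 (673 + 2) a535_L673_1 := (AuxS.hp (x535_3.lam 673) c535_12 :)
theorem x535_L673_2 : AuxS.{u} (cP4r 1 2) s535 (673 + 2) a535_L673_2 := (AuxS.ne x535_L673_1 c535_13 :)
theorem x535_L673_3 : AuxS.{u} (cP4r 1 2) s535 (673 + 2) a535_L673_3 := (AuxS.nf x535_L673_2 c535_14 :)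
theorem x535_L673_4 : AuxS.{u} (cP4r 1 2) s535 (673 + 2) a535_L673_4 := (AuxS.hp x535_L673_3 c535_15 :)
theorem x535_L737_1 : AuxS.{u} (cP4r 1 2) s535 (737 + 2) a535_L737_1 := (AuxS.hp (x535_3.lam 737) c535_17 :)
theorem n535 : Sound.{u} (cP4r 1 2) s535 0 :=
  (x535_3.spl c535_0 (AllM.cons ((x535_3.lam 0).tp c535_1 :) (AllM.cons (x535_L161_4.tp c535_6 :) (AllM.cons (x535_L225_4.tp c535_11 :) (AllM.cons (x535_L673_4.tp c535_16 :) (AllM.cons (x535_L737_1.tp c535_18 :) AllM.nil))))) ((x535_3.weaken 1).ext2 (fun _ => rfl) GamS.nil AllS.nil c535_19 (Phs.fin (ct := ct535_19) rfl) (Phs.fin (ct := ct535_19) rfl)) :)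
theorem x536 : AuxS.{u} (cP4r 1 2) s536 0 a536 := aux_base3 tw182 rfl b536
theorem x536_1 : AuxS.{u} (cP4r 1 2) s536 0 a536_1 := (AuxS.up x536 c536_20 :)
theorem x536_2 : AuxS.{u} (cP4r 1 2) s536 0 a536_2 := (AuxS.up2 x536_1 c536_21 :)
theorem x536_3 : AuxS.{u} (cP4r 1 2) s536 0 a536_3 := (AuxS.up x536_2 c536_22 :)
theorem x536_L161_1 : AuxS.{u} (cP4r 1 2) s536 (161 + 2) a536_L161_1 := (AuxS.hp (x536_3.lam 161) c536_2 :)
theorem x536_L161_2 : AuxS.{u} (cP4r 1 2) s536 (161 + 2) a536_L161_2 := (AuxS.nf x536_L161_1 c536_3 :)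
theorem x536_L225_1 : AuxS.{u} (cP4r 1 2) s536 (225 + 2) a536_L225_1 := (AuxS.hp (x536_3.lam 225) c536_5 :)
theorem x536_L225_2 : AuxS.{u} (cP4r 1 2) s536 (225 + 2) a536_L225_2 := (AuxS.ne x536_L225_1 c536_6 :)
theorem x536_L225_3 : AuxS.{u} (cP4r 1 2) s536 (225 + 2) a536_L225_3 := (AuxS.nf x536_L225_2 c536_7 :)
theorem x536_L225_4 : AuxS.{u} (cP4r 1 2) s536 (225 + 2) a536_L225_4 := (AuxS.hp x536_L225_3 c536_8 :)
theorem x536_L225_5 : AuxS.{u} (cP4r 1 2) s536 (225 + 2) a536_L225_5 := (AuxS.nf x536_L225_4 c536_9 :)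
theorem x536_L225_6 : AuxS.{u} (cP4r 1 2) s536 (225 + 2) a536_L225_6 := (AuxS.hp x536_L225_5 c536_10 :)
theorem x536_L673_1 : AuxS.{u} (cP4r 1 2) s536 (673 + 2) a536_L673_1 := (AuxS.hp (x536_3.lam 673) c536_12 :)
theorem x536_L673_2 : AuxS.{u} (cP4r 1 2) s536 (673 + 2) a536_L673_2 := (AuxS.ne x536_L673_1 c536_13 :)
theorem x536_L673_3 : AuxS.{u} (cP4r 1 2) s536 (673 + 2) a536_L673_3 := (AuxS.nf x536_L673_2 c536_14 :)
theorem x536_L673_4 : AuxS.{u} (cP4r 1 2) s536 (673 + 2) a536_L673_4 := (AuxS.hp x536_L673_3 c536_15 :)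
theorem x536_L737_1 : AuxS.{u} (cP4r 1 2) s536 (737 + 2) a536_L737_1 := (AuxS.hp (x536_3.lam 737) c536_17 :)
theorem n536 : Sound.{u} (cP4r 1 2) s536 0 :=
  (x536_3.spl c536_0 (AllM.cons ((x536_3.lam 0).tp c536_1 :) (AllM.cons (x536_L161_2.k5 c536_4 :) (AllM.cons (x536_L225_6.tp c536_11 :) (AllM.cons (x536_L673_4.tp c536_16 :) (AllM.cons (x536_L737_1.tp c536_18 :) AllM.nil))))) ((x536_3.weaken 1).ext2 (fun _ => rfl) GamS.nil AllS.nil c536_19 (Phs.fin (ct := ct536_19) rfl) (Phs.fin (ct := ct536_19) rfl)) :)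
theorem x537 : AuxS.{u} (cP4r 1 2) s537 0 a537 := aux_base3 tw183 rfl b537
theorem x537_1 : AuxS.{u} (cP4r 1 2) s537 0 a537_1 := (AuxS.up x537 c537_20 :)
theorem x537_2 : AuxS.{u} (cP4r 1 2) s537 0 a537_2 := (AuxS.up2 x537_1 c537_21 :)
theorem x537_3 : AuxS.{u} (cP4r 1 2) s537 0 a537_3 := (AuxS.up x537_2 c537_22 :)
theorem x537_L161_1 : AuxS.{u} (cP4r 1 2) s537 (161 + 2) a537_L161_1 := (AuxS.hp (x537_3.lam 161) c537_2 :)
theorem x537_L161_2 : AuxS.{u} (cP4r 1 2) s537 (161 + 2) a537_L161_2 := (AuxS.nf x537_L161_1 c537_3 :)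
theorem x537_L225_1 : AuxS.{u} (cP4r 1 2) s537 (225 + 2) a537_L225_1 := (AuxS.hp (x537_3.lam 225) c537_5 :)
theorem x537_L225_2 : AuxS.{u} (cP4r 1 2) s537 (225 + 2) a537_L225_2 := (AuxS.ne x537_L225_1 c537_6 :)
theorem x537_L225_3 : AuxS.{u} (cP4r 1 2) s537 (225 + 2) a537_L225_3 := (AuxS.nf x537_L225_2 c537_7 :)
theorem x537_L225_4 : AuxS.{u} (cP4r 1 2) s537 (225 + 2) a537_L225_4 := (AuxS.hp x537_L225_3 c537_8 :)
theorem x537_L225_5 : AuxS.{u} (cP4r 1 2) s537 (225 + 2) a537_L225_5 := (AuxS.nf x537_L225_4 c537_9 :)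
theorem x537_L225_6 : AuxS.{u} (cP4r 1 2) s537 (225 + 2) a537_L225_6 := (AuxS.hp x537_L225_5 c537_10 :)
theorem x537_L673_1 : AuxS.{u} (cP4r 1 2) s537 (673 + 2) a537_L673_1 := (AuxS.hp (x537_3.lam 673) c537_12 :)
theorem x537_L673_2 : AuxS.{u} (cP4r 1 2) s537 (673 + 2) a537_L673_2 := (AuxS.ne x537_L673_1 c537_13 :)
theorem x537_L673_3 : AuxS.{u} (cP4r 1 2) s537 (673 + 2) a537_L673_3 := (AuxS.nf x537_L673_2 c537_14 :)
theorem x537_L673_4 : AuxS.{u} (cP4r 1 2) s537 (673 + 2) a537_L673_4 := (AuxS.hp x537_L673_3 c537_15 :)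
theorem x537_L737_1 : AuxS.{u} (cP4r 1 2) s537 (737 + 2) a537_L737_1 := (AuxS.hp (x537_3.lam 737) c537_17 :)
theorem n537 : Sound.{u} (cP4r 1 2) s537 0 :=
  (x537_3.spl c537_0 (AllM.cons ((x537_3.lam 0).tp c537_1 :) (AllM.cons (x537_L161_2.k5 c537_4 :) (AllM.cons (x537_L225_6.tp c537_11 :) (AllM.cons (x537_L673_4.tp c537_16 :) (AllM.cons (x537_L737_1.tp c537_18 :) AllM.nil))))) ((x537_3.weaken 1).ext2 (fun _ => rfl) GamS.nil AllS.nil c537_19 (Phs.fin (ct := ct537_19) rfl) (Phs.fin (ct := ct537_19) rfl)) :)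
theorem x538 : AuxS.{u} (cP4r 1 2) s538 0 a538 := aux_base3 tw184 rfl b538
theorem x538_1 : AuxS.{u} (cP4r 1 2) s538 0 a538_1 := (AuxS.up x538 c538_20 :)
theorem x538_2 : AuxS.{u} (cP4r 1 2) s538 0 a538_2 := (AuxS.up2 x538_1 c538_21 :)
theorem x538_3 : AuxS.{u} (cP4r 1 2) s538 0 a538_3 := (AuxS.up x538_2 c538_22 :)
theorem x538_L161_1 : AuxS.{u} (cP4r 1 2) s538 (161 + 2) a538_L161_1 := (AuxS.hp (x538_3.lam 161) c538_2 :)
theorem x538_L161_2 : AuxS.{u} (cP4r 1 2) s538 (161 + 2) a538_L161_2 := (AuxS.ne x538_L161_1 c538_3 :)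
theorem x538_L161_3 : AuxS.{u} (cP4r 1 2) s538 (161 + 2) a538_L161_3 := (AuxS.nf x538_L161_2 c538_4 :)
theorem x538_L161_4 : AuxS.{u} (cP4r 1 2) s538 (161 + 2) a538_L161_4 := (AuxS.hp x538_L161_3 c538_5 :)
theorem x538_L225_1 : AuxS.{u} (cP4r 1 2) s538 (225 + 2) a538_L225_1 := (AuxS.hp (x538_3.lam 225) c538_7 :)
theorem x538_L225_2 : AuxS.{u} (cP4r 1 2) s538 (225 + 2) a538_L225_2 := (AuxS.ne x538_L225_1 c538_8 :)
theorem x538_L225_3 : AuxS.{u} (cP4r 1 2) s538 (225 + 2) a538_L225_3 := (AuxS.nf x538_L225_2 c538_9 :)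
theorem x538_L225_4 : AuxS.{u} (cP4r 1 2) s538 (225 + 2) a538_L225_4 := (AuxS.hp x538_L225_3 c538_10 :)
theorem x538_L673_1 : AuxS.{u} (cP4r 1 2) s538 (673 + 2) a538_L673_1 := (AuxS.hp (x538_3.lam 673) c538_12 :)
theorem x538_L673_2 : AuxS.{u} (cP4r 1 2) s538 (673 + 2) a538_L673_2 := (AuxS.ne x538_L673_1 c538_13 :)
theorem x538_L673_3 : AuxS.{u} (cP4r 1 2) s538 (673 + 2) a538_L673_3 := (AuxS.nf x538_L673_2 c538_14 :)
theorem x538_L673_4 : AuxS.{u} (cP4r 1 2) s538 (673 + 2) a538_L673_4 := (AuxS.hp x538_L673_3 c538_15 :)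
theorem x538_L737_1 : AuxS.{u} (cP4r 1 2) s538 (737 + 2) a538_L737_1 := (AuxS.hp (x538_3.lam 737) c538_17 :)
theorem n538 : Sound.{u} (cP4r 1 2) s538 0 :=
  (x538_3.spl c538_0 (AllM.cons ((x538_3.lam 0).tp c538_1 :) (AllM.cons (x538_L161_4.tp c538_6 :) (AllM.cons (x538_L225_4.tp c538_11 :) (AllM.cons (x538_L673_4.tp c538_16 :) (AllM.cons (x538_L737_1.tp c538_18 :) AllM.nil))))) ((x538_3.weaken 1).ext2 (fun _ => rfl) GamS.nil AllS.nil c538_19 (Phs.fin (ct := ct538_19) rfl) (Phs.fin (ct := ct538_19) rfl)) :)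
theorem x522 : AuxS.{u} (cP4r 1 2) s522 0 a522 := aux_base3 tw152 rfl b522
theorem x522_1 : AuxS.{u} (cP4r 1 2) s522 0 a522_1 := (AuxS.up x522 c522_8 :)
theorem x522_2 : AuxS.{u} (cP4r 1 2) s522 0 a522_2 := (AuxS.up2 x522_1 c522_9 :)
theorem x522_3 : AuxS.{u} (cP4r 1 2) s522 0 a522_3 := (AuxS.up x522_2 c522_10 :)
theorem p522_1_1 : Phs s522 a522_3 [] [s523, s524, s525, s526, s527, s528, s529, s530, s531, s532, s533, s534, s535, s536, s537, s538] ct522_1 v522_1 7 w522_1_1 := (Phs.fin c522_1)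
theorem p522_1_3 : Phs s522 a522_3 [] [s523, s524, s525, s526, s527, s528, s529, s530, s531, s532, s533, s534, s535, s536, s537, s538] ct522_1 v522_1 5 w522_1_3 := (Phs.stp c522_2 p522_1_1)
theorem p522_1_5 : Phs s522 a522_3 [] [s523, s524, s525, s526, s527, s528, s529, s530, s531, s532, s533, s534, s535, s536, s537, s538] ct522_1 v522_1 4 w522_1_5 := (Phs.stp c522_3 p522_1_3)
theorem p522_1_7 : Phs s522 a522_3 [] [s523, s524, s525, s526, s527, s528, s529, s530, s531, s532, s533, s534, s535, s536, s537, s538] ct522_1 v522_1 2 w522_1_7 := (Phs.stp c522_4 p522_1_5)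
theorem p522_1_9 : Phs s522 a522_3 [] [s523, s524, s525, s526, s527, s528, s529, s530, s531, s532, s533, s534, s535, s536, s537, s538] ct522_1 v522_1 1 w522_1_9 := (Phs.stp c522_5 p522_1_7)
theorem n522 : Sound.{u} (cP4r 1 2) s522 0 :=
  (x522_3.par c522_0 ((x522_3.weaken 1).ext2 (fun _ => rfl) GamS.nil (AllS.cons n523 (AllS.cons n524 (AllS.cons n525 (AllS.cons n526 (AllS.cons n527 (AllS.cons n528 (AllS.cons n529 (AllS.cons n530 (AllS.cons n531 (AllS.cons n532 (AllS.cons n533 (AllS.cons n534 (AllS.cons n535 (AllS.cons n536 (AllS.cons n537 (AllS.cons n538 AllS.nil)))))))))))))))) c522_7 (Phs.stp c522_6 p522_1_9) (Phs.fin (ct := ct522_1) rfl)) :)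
theorem x489 : AuxS.{u} (cP4r 1 2) s489 0 a489 := aux_base3 tw152 rfl b489
theorem x489_1 : AuxS.{u} (cP4r 1 2) s489 0 a489_1 := x489
theorem x489_2 : AuxS.{u} (cP4r 1 2) s489 0 a489_2 := x489_1
theorem x489_3 : AuxS.{u} (cP4r 1 2) s489 0 a489_3 := x489_2
theorem n489 : Sound.{u} (cP4r 1 2) s489 0 :=
  (x489_3.fr GamS.nil (AllS.cons n519 (AllS.cons n520 (AllS.cons n521 (AllS.cons n522 AllS.nil)))) c489_0 :)
theorem x490 : AuxS.{u} (cP4r 1 2) s490 0 a490 := aux_base3 tw152 rfl b490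
theorem n490 : Sound.{u} (cP4r 1 2) s490 0 :=
  (x490.k4 c490_0 :)
theorem x484 : AuxS.{u} (cP4r 1 2) s484 0 a484 := aux_base3 tw152 rfl b484
theorem x484_1 : AuxS.{u} (cP4r 1 2) s484 0 a484_1 := x484
theorem x484_2 : AuxS.{u} (cP4r 1 2) s484 0 a484_2 := x484_1
theorem x484_3 : AuxS.{u} (cP4r 1 2) s484 0 a484_3 := x484_2
theorem n484 : Sound.{u} (cP4r 1 2) s484 0 :=
  (x484_3.fr GamS.nil (AllS.cons n487 (AllS.cons n488 (AllS.cons n489 (AllS.cons n490 AllS.nil)))) c484_0 :)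
theorem x485 : AuxS.{u} (cP4r 1 2) s485 0 a485 := aux_base3 tw152 rfl b485
theorem x485_1 : AuxS.{u} (cP4r 1 2) s485 0 a485_1 := (AuxS.up x485 c485_1 :)
theorem n485 : Sound.{u} (cP4r 1 2) s485 0 :=
  (x485_1.k7 c485_0 :)
theorem x486 : AuxS.{u} (cP4r 1 2) s486 0 a486 := aux_base3 tw152 rfl b486
theorem x486_1 : AuxS.{u} (cP4r 1 2) s486 0 a486_1 := x486
theorem x486_2 : AuxS.{u} (cP4r 1 2) s486 0 a486_2 := x486_1
theorem x486_3 : AuxS.{u} (cP4r 1 2) s486 0 a486_3 := x486_2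
theorem n486 : Sound.{u} (cP4r 1 2) s486 0 :=
  (x486_3.jump c486_0 c486_1 n484 :)
theorem x482 : AuxS.{u} (cP4r 1 2) s482 0 a482 := aux_base3 tw152 rfl b482
theorem x482_1 : AuxS.{u} (cP4r 1 2) s482 0 a482_1 := x482
theorem x482_2 : AuxS.{u} (cP4r 1 2) s482 0 a482_2 := x482_1
theorem x482_3 : AuxS.{u} (cP4r 1 2) s482 0 a482_3 := x482_2
theorem x482_4 : AuxS.{u} (cP4r 1 2) s482 0 a482_4 := x482_3
theorem n482 : Sound.{u} (cP4r 1 2) s482 0 :=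
  (x482_4.rho (AllS.cons n483 (AllS.cons n484 (AllS.cons n485 (AllS.cons n486 AllS.nil)))) c482_0 :)
theorem x481 : AuxS.{u} (cP4r 1 2) s481 0 a481 := aux_base3 tw150 rfl b481
theorem x481_1 : AuxS.{u} (cP4r 1 2) s481 0 a481_1 := x481
theorem x481_2 : AuxS.{u} (cP4r 1 2) s481 0 a481_2 := x481_1
theorem x481_3 : AuxS.{u} (cP4r 1 2) s481 0 a481_3 := x481_2
theorem x481_4 : AuxS.{u} (cP4r 1 2) s481 0 a481_4 := x481_3
theorem n481 : Sound.{u} (cP4r 1 2) s481 0 :=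
  (x481_4.jump2 c481_0 c481_1 n482 :)
theorem x465 : AuxS.{u} (cP4r 1 2) s465 0 a465 := aux_base3 tw131 rfl b465
theorem x465_1 : AuxS.{u} (cP4r 1 2) s465 0 a465_1 := x465
theorem n465 : Sound.{u} (cP4r 1 2) s465 0 :=
  (x465_1.fr2 GamS.nil (AllS.cons n480 (AllS.cons n481 AllS.nil)) c465_0 :)
theorem x466 : AuxS.{u} (cP4r 1 2) s466 0 a466 := aux_base3 tw131 rfl b466
theorem n466 : Sound.{u} (cP4r 1 2) s466 0 :=
  (x466.k4 c466_0 :)
theorem x467 : AuxS.{u} (cP4r 1 2) s467 0 a467 := aux_base3 tw131 rfl b467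
theorem n467 : Sound.{u} (cP4r 1 2) s467 0 :=
  (x467.k4 c467_0 :)
theorem x468 : AuxS.{u} (cP4r 1 2) s468 0 a468 := aux_base3 tw131 rfl b468
theorem n468 : Sound.{u} (cP4r 1 2) s468 0 :=
  (x468.k4 c468_0 :)
theorem x469 : AuxS.{u} (cP4r 1 2) s469 0 a469 := aux_base3 tw131 rfl b469
theorem n469 : Sound.{u} (cP4r 1 2) s469 0 :=
  (x469.k4 c469_0 :)
theorem x470 : AuxS.{u} (cP4r 1 2) s470 0 a470 := aux_base3 tw131 rfl b470
theorem n470 : Sound.{u} (cP4r 1 2) s470 0 :=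
  (x470.k4 c470_0 :)
theorem x471 : AuxS.{u} (cP4r 1 2) s471 0 a471 := aux_base3 tw131 rfl b471
theorem n471 : Sound.{u} (cP4r 1 2) s471 0 :=
  (x471.k4 c471_0 :)
theorem x472 : AuxS.{u} (cP4r 1 2) s472 0 a472 := aux_base3 tw131 rfl b472
theorem n472 : Sound.{u} (cP4r 1 2) s472 0 :=
  (x472.k4 c472_0 :)
theorem x473 : AuxS.{u} (cP4r 1 2) s473 0 a473 := aux_base3 tw131 rfl b473
theorem n473 : Sound.{u} (cP4r 1 2) s473 0 :=
  (x473.k4 c473_0 :)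
theorem x474 : AuxS.{u} (cP4r 1 2) s474 0 a474 := aux_base3 tw131 rfl b474
theorem n474 : Sound.{u} (cP4r 1 2) s474 0 :=
  (x474.k4 c474_0 :)
theorem x475 : AuxS.{u} (cP4r 1 2) s475 0 a475 := aux_base3 tw131 rfl b475
theorem n475 : Sound.{u} (cP4r 1 2) s475 0 :=
  (x475.k4 c475_0 :)
theorem x476 : AuxS.{u} (cP4r 1 2) s476 0 a476 := aux_base3 tw131 rfl b476
theorem n476 : Sound.{u} (cP4r 1 2) s476 0 :=
  (x476.k4 c476_0 :)
theorem x477 : AuxS.{u} (cP4r 1 2) s477 0 a477 := aux_base3 tw131 rfl b477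
theorem n477 : Sound.{u} (cP4r 1 2) s477 0 :=
  (x477.k4 c477_0 :)
theorem x478 : AuxS.{u} (cP4r 1 2) s478 0 a478 := aux_base3 tw131 rfl b478
theorem n478 : Sound.{u} (cP4r 1 2) s478 0 :=
  (x478.k4 c478_0 :)
theorem x479 : AuxS.{u} (cP4r 1 2) s479 0 a479 := aux_base3 tw131 rfl b479
theorem n479 : Sound.{u} (cP4r 1 2) s479 0 :=
  (x479.k4 c479_0 :)
theorem x430 : AuxS.{u} (cP4r 1 2) s430 0 a430 := aux_base3 tw131 rfl b430
theorem x430_1 : AuxS.{u} (cP4r 1 2) s430 0 a430_1 := x430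
theorem n430 : Sound.{u} (cP4r 1 2) s430 0 :=
  (x430_1.fr (AuxS.gam x430_1 c430_0) (AllS.cons n448 (AllS.cons n449 (AllS.cons n450 (AllS.cons n451 (AllS.cons n452 (AllS.cons n453 (AllS.cons n454 (AllS.cons n455 (AllS.cons n456 (AllS.cons n457 (AllS.cons n458 (AllS.cons n459 (AllS.cons n460 (AllS.cons n461 (AllS.cons n462 (AllS.cons n463 (AllS.cons n464 (AllS.cons n465 (AllS.cons n466 (AllS.cons n467 (AllS.cons n468 (AllS.cons n469 (AllS.cons n470 (AllS.cons n471 (AllS.cons n472 (AllS.cons n473 (AllS.cons n474 (AllS.cons n475 (AllS.cons n476 (AllS.cons n477 (AllS.cons n478 (AllS.cons n479 AllS.nil)))))))))))))))))))))))))))))))) c430_1 :)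
theorem x431 : AuxS.{u} (cP4r 1 2) s431 0 a431 := aux_base3 tw132 rfl b431
theorem x431_1 : AuxS.{u} (cP4r 1 2) s431 0 a431_1 := x431
theorem n431 : Sound.{u} (cP4r 1 2) s431 0 :=
  (x431_1.fr GamS.nil AllS.nil c431_0 :)
theorem x432 : AuxS.{u} (cP4r 1 2) s432 0 a432 := aux_base3 tw133 rfl b432
theorem x432_1 : AuxS.{u} (cP4r 1 2) s432 0 a432_1 := x432
theorem n432 : Sound.{u} (cP4r 1 2) s432 0 :=
  (x432_1.fr GamS.nil AllS.nil c432_0 :)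
theorem x433 : AuxS.{u} (cP4r 1 2) s433 0 a433 := aux_base3 tw134 rfl b433
theorem x433_1 : AuxS.{u} (cP4r 1 2) s433 0 a433_1 := x433
theorem n433 : Sound.{u} (cP4r 1 2) s433 0 :=
  (x433_1.fr GamS.nil AllS.nil c433_0 :)
theorem x434 : AuxS.{u} (cP4r 1 2) s434 0 a434 := aux_base3 tw135 rfl b434
theorem x434_1 : AuxS.{u} (cP4r 1 2) s434 0 a434_1 := x434
theorem n434 : Sound.{u} (cP4r 1 2) s434 0 :=
  (x434_1.fr GamS.nil AllS.nil c434_0 :)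
theorem x435 : AuxS.{u} (cP4r 1 2) s435 0 a435 := aux_base3 tw136 rfl b435
theorem x435_1 : AuxS.{u} (cP4r 1 2) s435 0 a435_1 := x435
theorem n435 : Sound.{u} (cP4r 1 2) s435 0 :=
  (x435_1.fr GamS.nil AllS.nil c435_0 :)
theorem x436 : AuxS.{u} (cP4r 1 2) s436 0 a436 := aux_base3 tw137 rfl b436
theorem x436_1 : AuxS.{u} (cP4r 1 2) s436 0 a436_1 := x436
theorem n436 : Sound.{u} (cP4r 1 2) s436 0 :=
  (x436_1.fr GamS.nil AllS.nil c436_0 :)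
theorem x437 : AuxS.{u} (cP4r 1 2) s437 0 a437 := aux_base3 tw138 rfl b437
theorem x437_1 : AuxS.{u} (cP4r 1 2) s437 0 a437_1 := x437
theorem n437 : Sound.{u} (cP4r 1 2) s437 0 :=
  (x437_1.fr GamS.nil AllS.nil c437_0 :)
theorem x438 : AuxS.{u} (cP4r 1 2) s438 0 a438 := aux_base3 tw139 rfl b438
theorem n438 : Sound.{u} (cP4r 1 2) s438 0 :=
  (x438.k4 c438_0 :)
theorem x439 : AuxS.{u} (cP4r 1 2) s439 0 a439 := aux_base3 tw140 rfl b439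
theorem n439 : Sound.{u} (cP4r 1 2) s439 0 :=
  (x439.k4 c439_0 :)
theorem x440 : AuxS.{u} (cP4r 1 2) s440 0 a440 := aux_base3 tw141 rfl b440
theorem n440 : Sound.{u} (cP4r 1 2) s440 0 :=
  (x440.k4 c440_0 :)
theorem x441 : AuxS.{u} (cP4r 1 2) s441 0 a441 := aux_base3 tw142 rfl b441
theorem n441 : Sound.{u} (cP4r 1 2) s441 0 :=
  (x441.k4 c441_0 :)
theorem x442 : AuxS.{u} (cP4r 1 2) s442 0 a442 := aux_base3 tw143 rfl b442
theorem n442 : Sound.{u} (cP4r 1 2) s442 0 :=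
  (x442.k4 c442_0 :)
theorem x443 : AuxS.{u} (cP4r 1 2) s443 0 a443 := aux_base3 tw144 rfl b443
theorem n443 : Sound.{u} (cP4r 1 2) s443 0 :=
  (x443.k4 c443_0 :)
theorem x444 : AuxS.{u} (cP4r 1 2) s444 0 a444 := aux_base3 tw145 rfl b444
theorem n444 : Sound.{u} (cP4r 1 2) s444 0 :=
  (x444.k4 c444_0 :)
theorem x445 : AuxS.{u} (cP4r 1 2) s445 0 a445 := aux_base3 tw146 rfl b445
theorem n445 : Sound.{u} (cP4r 1 2) s445 0 :=
  (x445.k4 c445_0 :)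
theorem x446 : AuxS.{u} (cP4r 1 2) s446 0 a446 := aux_base3 tw147 rfl b446
theorem n446 : Sound.{u} (cP4r 1 2) s446 0 :=
  (x446.k3 c446_0 :)
theorem x447 : AuxS.{u} (cP4r 1 2) s447 0 a447 := aux_base3 tw148 rfl b447
theorem n447 : Sound.{u} (cP4r 1 2) s447 0 :=
  (x447.k3 c447_0 :)
theorem x429 : AuxS.{u} (cP4r 1 2) s429 0 a429 := aux_base3 tw39 rfl b429
theorem x429_1 : AuxS.{u} (cP4r 1 2) s429 0 a429_1 := (AuxS.up x429 c429_6 :)
theorem x429_2 : AuxS.{u} (cP4r 1 2) s429 0 a429_2 := (AuxS.up2 x429_1 c429_7 :)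
theorem p429_0_1 : Phs s429 a429_2 (List.map Prod.fst g429_0) [s430, s431, s432, s433, s434, s435, s436, s437, s438, s439, s440, s441, s442, s443, s444, s445, s446, s447] ct429_0 v429_0 5 w429_0_1 := (Phs.fin c429_1)
theorem p429_0_3 : Phs s429 a429_2 (List.map Prod.fst g429_0) [s430, s431, s432, s433, s434, s435, s436, s437, s438, s439, s440, s441, s442, s443, s444, s445, s446, s447] ct429_0 v429_0 4 w429_0_3 := (Phs.stp c429_2 p429_0_1)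
theorem p429_0_5 : Phs s429 a429_2 (List.map Prod.fst g429_0) [s430, s431, s432, s433, s434, s435, s436, s437, s438, s439, s440, s441, s442, s443, s444, s445, s446, s447] ct429_0 v429_0 1 w429_0_5 := (Phs.stp c429_3 p429_0_3)
theorem n429 : Sound.{u} (cP4r 1 2) s429 0 :=
  (x429_2.ext2 (fun h => absurd h (by decide)) (AuxS.gam x429_2 c429_0) (AllS.cons n430 (AllS.cons n431 (AllS.cons n432 (AllS.cons n433 (AllS.cons n434 (AllS.cons n435 (AllS.cons n436 (AllS.cons n437 (AllS.cons n438 (AllS.cons n439 (AllS.cons n440 (AllS.cons n441 (AllS.cons n442 (AllS.cons n443 (AllS.cons n444 (AllS.cons n445 (AllS.cons n446 (AllS.cons n447 AllS.nil)))))))))))))))))) c429_5 (Phs.stp c429_4 p429_0_5) (Phs.fin (ct := ct429_0) rfl) :)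
theorem x427 : AuxS.{u} (cP4r 1 2) s427 0 a427 := aux_base3 tw129 rfl b427
theorem x427_1 : AuxS.{u} (cP4r 1 2) s427 0 a427_1 := x427
theorem n427 : Sound.{u} (cP4r 1 2) s427 0 :=
  (x427_1.jump c427_0 c427_1 n429 :)
theorem x428 : AuxS.{u} (cP4r 1 2) s428 0 a428 := aux_base3 tw130 rfl b428
theorem x428_1 : AuxS.{u} (cP4r 1 2) s428 0 a428_1 := (AuxS.up x428 c428_1 :)
theorem n428 : Sound.{u} (cP4r 1 2) s428 0 :=
  (x428_1.k1 c428_0 :)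
theorem x39 : AuxS.{u} (cP4r 1 2) s39 0 a39 := aux_base3 tw39 rfl b39
theorem x39_1 : AuxS.{u} (cP4r 1 2) s39 0 a39_1 := x39
theorem x39_2 : AuxS.{u} (cP4r 1 2) s39 0 a39_2 := x39_1
theorem p39_0_1 : Phs s39 a39_2 (List.map Prod.fst g39_0) [s427, s428] ct39_0 v39_0 5 w39_0_1 := (Phs.fin c39_1)
theorem n39 : Sound.{u} (cP4r 1 2) s39 0 :=
  (x39_2.ext2 (fun h => absurd h (by decide)) (AuxS.gam x39_2 c39_0) (AllS.cons n427 (AllS.cons n428 AllS.nil)) c39_3 (Phs.fin (ct := ct39_0) rfl) (Phs.stp c39_2 p39_0_1) :)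
theorem x550 : AuxS.{u} (cP4r 1 2) s550 0 a550 := aux_base3 tw187 rfl b550
theorem x550_1 : AuxS.{u} (cP4r 1 2) s550 0 a550_1 := x550
theorem x550_2 : AuxS.{u} (cP4r 1 2) s550 0 a550_2 := x550_1
theorem n550 : Sound.{u} (cP4r 1 2) s550 0 :=
  (x550_2.fr GamS.nil AllS.nil c550_0 :)
theorem x551 : AuxS.{u} (cP4r 1 2) s551 0 a551 := aux_base3 tw188 rfl b551
theorem x551_1 : AuxS.{u} (cP4r 1 2) s551 0 a551_1 := x551
theorem x551_2 : AuxS.{u} (cP4r 1 2) s551 0 a551_2 := x551_1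
theorem n551 : Sound.{u} (cP4r 1 2) s551 0 :=
  (x551_2.fr GamS.nil AllS.nil c551_0 :)
theorem x552 : AuxS.{u} (cP4r 1 2) s552 0 a552 := aux_base3 tw189 rfl b552
theorem x552_1 : AuxS.{u} (cP4r 1 2) s552 0 a552_1 := x552
theorem x552_2 : AuxS.{u} (cP4r 1 2) s552 0 a552_2 := x552_1
theorem n552 : Sound.{u} (cP4r 1 2) s552 0 :=
  (x552_2.fr GamS.nil AllS.nil c552_0 :)
theorem x553 : AuxS.{u} (cP4r 1 2) s553 0 a553 := aux_base3 tw190 rfl b553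
theorem x553_1 : AuxS.{u} (cP4r 1 2) s553 0 a553_1 := x553
theorem x553_2 : AuxS.{u} (cP4r 1 2) s553 0 a553_2 := x553_1
theorem n553 : Sound.{u} (cP4r 1 2) s553 0 :=
  (x553_2.fr GamS.nil AllS.nil c553_0 :)
theorem x554 : AuxS.{u} (cP4r 1 2) s554 0 a554 := aux_base3 tw191 rfl b554
theorem x554_1 : AuxS.{u} (cP4r 1 2) s554 0 a554_1 := x554
theorem x554_2 : AuxS.{u} (cP4r 1 2) s554 0 a554_2 := x554_1
theorem n554 : Sound.{u} (cP4r 1 2) s554 0 :=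
  (x554_2.fr GamS.nil AllS.nil c554_0 :)
theorem x555 : AuxS.{u} (cP4r 1 2) s555 0 a555 := aux_base3 tw192 rfl b555
theorem x555_1 : AuxS.{u} (cP4r 1 2) s555 0 a555_1 := x555
theorem x555_2 : AuxS.{u} (cP4r 1 2) s555 0 a555_2 := x555_1
theorem n555 : Sound.{u} (cP4r 1 2) s555 0 :=
  (x555_2.fr GamS.nil AllS.nil c555_0 :)
theorem x556 : AuxS.{u} (cP4r 1 2) s556 0 a556 := aux_base3 tw193 rfl b556
theorem x556_1 : AuxS.{u} (cP4r 1 2) s556 0 a556_1 := x556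
theorem x556_2 : AuxS.{u} (cP4r 1 2) s556 0 a556_2 := x556_1
theorem n556 : Sound.{u} (cP4r 1 2) s556 0 :=
  (x556_2.fr GamS.nil AllS.nil c556_0 :)
theorem x557 : AuxS.{u} (cP4r 1 2) s557 0 a557 := aux_base3 tw194 rfl b557
theorem x557_1 : AuxS.{u} (cP4r 1 2) s557 0 a557_1 := x557
theorem x557_2 : AuxS.{u} (cP4r 1 2) s557 0 a557_2 := x557_1
theorem n557 : Sound.{u} (cP4r 1 2) s557 0 :=
  (x557_2.fr GamS.nil AllS.nil c557_0 :)
theorem x558 : AuxS.{u} (cP4r 1 2) s558 0 a558 := aux_base3 tw195 rfl b558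
theorem n558 : Sound.{u} (cP4r 1 2) s558 0 :=
  (x558.k4 c558_0 :)
theorem x559 : AuxS.{u} (cP4r 1 2) s559 0 a559 := aux_base3 tw196 rfl b559
theorem n559 : Sound.{u} (cP4r 1 2) s559 0 :=
  (x559.k4 c559_0 :)
theorem x560 : AuxS.{u} (cP4r 1 2) s560 0 a560 := aux_base3 tw197 rfl b560
theorem n560 : Sound.{u} (cP4r 1 2) s560 0 :=
  (x560.k4 c560_0 :)
theorem x561 : AuxS.{u} (cP4r 1 2) s561 0 a561 := aux_base3 tw198 rfl b561
theorem n561 : Sound.{u} (cP4r 1 2) s561 0 :=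
  (x561.k4 c561_0 :)
theorem x562 : AuxS.{u} (cP4r 1 2) s562 0 a562 := aux_base3 tw199 rfl b562
theorem n562 : Sound.{u} (cP4r 1 2) s562 0 :=
  (x562.k4 c562_0 :)
theorem x563 : AuxS.{u} (cP4r 1 2) s563 0 a563 := aux_base3 tw200 rfl b563
theorem n563 : Sound.{u} (cP4r 1 2) s563 0 :=
  (x563.k4 c563_0 :)
theorem x564 : AuxS.{u} (cP4r 1 2) s564 0 a564 := aux_base3 tw201 rfl b564
theorem n564 : Sound.{u} (cP4r 1 2) s564 0 :=
  (x564.k4 c564_0 :)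
theorem x565 : AuxS.{u} (cP4r 1 2) s565 0 a565 := aux_base3 tw202 rfl b565
theorem n565 : Sound.{u} (cP4r 1 2) s565 0 :=
  (x565.k4 c565_0 :)
theorem x566 : AuxS.{u} (cP4r 1 2) s566 0 a566 := aux_base3 tw203 rfl b566
theorem n566 : Sound.{u} (cP4r 1 2) s566 0 :=
  (x566.k3 c566_0 :)
theorem x567 : AuxS.{u} (cP4r 1 2) s567 0 a567 := aux_base3 tw204 rfl b567
theorem n567 : Sound.{u} (cP4r 1 2) s567 0 :=
  (x567.k3 c567_0 :)
theorem x549 : AuxS.{u} (cP4r 1 2) s549 0 a549 := aux_base3 tw40 rfl b549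
theorem x549_1 : AuxS.{u} (cP4r 1 2) s549 0 a549_1 := (AuxS.up x549 c549_6 :)
theorem x549_2 : AuxS.{u} (cP4r 1 2) s549 0 a549_2 := (AuxS.up2 x549_1 c549_7 :)
theorem x549_3 : AuxS.{u} (cP4r 1 2) s549 0 a549_3 := x549_2
theorem p549_0_1 : Phs s549 a549_3 (List.map Prod.fst g549_0) [s550, s551, s552, s553, s554, s555, s556, s557, s558, s559, s560, s561, s562, s563, s564, s565, s566, s567] ct549_0 v549_0 5 w549_0_1 := (Phs.fin c549_1)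
theorem p549_0_3 : Phs s549 a549_3 (List.map Prod.fst g549_0) [s550, s551, s552, s553, s554, s555, s556, s557, s558, s559, s560, s561, s562, s563, s564, s565, s566, s567] ct549_0 v549_0 4 w549_0_3 := (Phs.stp c549_2 p549_0_1)
theorem p549_0_5 : Phs s549 a549_3 (List.map Prod.fst g549_0) [s550, s551, s552, s553, s554, s555, s556, s557, s558, s559, s560, s561, s562, s563, s564, s565, s566, s567] ct549_0 v549_0 1 w549_0_5 := (Phs.stp c549_3 p549_0_3)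
theorem n549 : Sound.{u} (cP4r 1 2) s549 0 :=
  (x549_3.ext2 (fun h => absurd h (by decide)) (AuxS.gam x549_3 c549_0) (AllS.cons n550 (AllS.cons n551 (AllS.cons n552 (AllS.cons n553 (AllS.cons n554 (AllS.cons n555 (AllS.cons n556 (AllS.cons n557 (AllS.cons n558 (AllS.cons n559 (AllS.cons n560 (AllS.cons n561 (AllS.cons n562 (AllS.cons n563 (AllS.cons n564 (AllS.cons n565 (AllS.cons n566 (AllS.cons n567 AllS.nil)))))))))))))))))) c549_5 (Phs.stp c549_4 p549_0_5) (Phs.fin (ct := ct549_0) rfl) :)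
theorem x547 : AuxS.{u} (cP4r 1 2) s547 0 a547 := aux_base3 tw185 rfl b547
theorem x547_1 : AuxS.{u} (cP4r 1 2) s547 0 a547_1 := x547
theorem x547_2 : AuxS.{u} (cP4r 1 2) s547 0 a547_2 := x547_1
theorem n547 : Sound.{u} (cP4r 1 2) s547 0 :=
  (x547_2.jump c547_0 c547_1 n549 :)
theorem x548 : AuxS.{u} (cP4r 1 2) s548 0 a548 := aux_base3 tw186 rfl b548
theorem x548_1 : AuxS.{u} (cP4r 1 2) s548 0 a548_1 := (AuxS.up x548 c548_1 :)
theorem n548 : Sound.{u} (cP4r 1 2) s548 0 :=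
  (x548_1.k1 c548_0 :)
theorem x40 : AuxS.{u} (cP4r 1 2) s40 0 a40 := aux_base3 tw40 rfl b40
theorem x40_1 : AuxS.{u} (cP4r 1 2) s40 0 a40_1 := x40
theorem x40_2 : AuxS.{u} (cP4r 1 2) s40 0 a40_2 := x40_1
theorem p40_0_1 : Phs s40 a40_2 (List.map Prod.fst g40_0) [s547, s548] ct40_0 v40_0 5 w40_0_1 := (Phs.fin c40_1)
theorem n40 : Sound.{u} (cP4r 1 2) s40 0 :=
  (x40_2.ext2 (fun h => absurd h (by decide)) (AuxS.gam x40_2 c40_0) (AllS.cons n547 (AllS.cons n548 AllS.nil)) c40_3 (Phs.fin (ct := ct40_0) rfl) (Phs.stp c40_2 p40_0_1) :)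
theorem x41 : AuxS.{u} (cP4r 1 2) s41 0 a41 := aux_base3 tw41 rfl b41
theorem n41 : Sound.{u} (cP4r 1 2) s41 0 :=
  (x41.k3 c41_0 :)
theorem x42 : AuxS.{u} (cP4r 1 2) s42 0 a42 := aux_base3 tw42 rfl b42
theorem n42 : Sound.{u} (cP4r 1 2) s42 0 :=
  (x42.k3 c42_0 :)
theorem x1 : AuxS.{u} (cP4r 1 2) s1 0 a1 := aux_base3 tw1 rfl b1
theorem x1_1 : AuxS.{u} (cP4r 1 2) s1 0 a1_1 := (AuxS.up x1 c1_4 :)
theorem p1_0_1 : Phs s1 a1_1 [] [s33, s34, s35, s36, s37, s38, s39, s40, s41, s42] ct1_0 v1_0 4 w1_0_1 := (Phs.fin c1_0)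
theorem p1_0_3 : Phs s1 a1_1 [] [s33, s34, s35, s36, s37, s38, s39, s40, s41, s42] ct1_0 v1_0 1 w1_0_3 := (Phs.stp c1_1 p1_0_1)
theorem n1 : Sound.{u} (cP4r 1 2) s1 0 :=
  (x1_1.ext2 (fun h => absurd h (by decide)) GamS.nil (AllS.cons n33 (AllS.cons n34 (AllS.cons n35 (AllS.cons n36 (AllS.cons n37 (AllS.cons n38 (AllS.cons n39 (AllS.cons n40 (AllS.cons n41 (AllS.cons n42 AllS.nil)))))))))) c1_3 (Phs.stp c1_2 p1_0_3) (Phs.fin (ct := ct1_0) rfl) :)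
theorem x2 : AuxS.{u} (cP4r 1 2) s2 0 a2 := aux_base3 tw2 rfl b2
theorem x2_1 : AuxS.{u} (cP4r 1 2) s2 0 a2_1 := (AuxS.up x2 c2_1 :)
theorem n2 : Sound.{u} (cP4r 1 2) s2 0 :=
  (x2_1.k1 c2_0 :)
theorem x3 : AuxS.{u} (cP4r 1 2) s3 0 a3 := aux_base3 tw3 rfl b3
theorem n3 : Sound.{u} (cP4r 1 2) s3 0 :=
  (x3.k2 c3_0 :)
theorem x4 : AuxS.{u} (cP4r 1 2) s4 0 a4 := aux_base3 tw4 rfl b4
theorem n4 : Sound.{u} (cP4r 1 2) s4 0 :=
  (x4.k2 c4_0 :)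
theorem x5 : AuxS.{u} (cP4r 1 2) s5 0 a5 := aux_base3 tw5 rfl b5
theorem n5 : Sound.{u} (cP4r 1 2) s5 0 :=
  (x5.k2 c5_0 :)
theorem x6 : AuxS.{u} (cP4r 1 2) s6 0 a6 := aux_base3 tw6 rfl b6
theorem n6 : Sound.{u} (cP4r 1 2) s6 0 :=
  (x6.k2 c6_0 :)
theorem x568 : AuxS.{u} (cP4r 1 2) s568 0 a568 := aux_base3 tw205 rfl b568
theorem x568_1 : AuxS.{u} (cP4r 1 2) s568 0 a568_1 := (AuxS.up x568 c568_1 :)
theorem x568_2p : AuxS.{u} (cP4r 1 2) s568 0 a568_2p := (AuxS.up x568_1 c568_2 :)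
theorem x568_2 : AuxS.{u} (cP4r 1 2) s568 0 a568_2 := (AuxS.up2 x568_2p c568_3 :)
theorem n568 : Sound.{u} (cP4r 1 2) s568 0 :=
  (x568_2.k7 c568_0 :)
theorem x569 : AuxS.{u} (cP4r 1 2) s569 0 a569 := aux_base3 tw206 rfl b569
theorem x569_1 : AuxS.{u} (cP4r 1 2) s569 0 a569_1 := (AuxS.up x569 c569_1 :)
theorem n569 : Sound.{u} (cP4r 1 2) s569 0 :=
  (x569_1.k1 c569_0 :)
theorem x570 : AuxS.{u} (cP4r 1 2) s570 0 a570 := aux_base3 tw207 rfl b570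
theorem x570_1 : AuxS.{u} (cP4r 1 2) s570 0 a570_1 := (AuxS.up x570 c570_1 :)
theorem n570 : Sound.{u} (cP4r 1 2) s570 0 :=
  (x570_1.k1 c570_0 :)
theorem x571 : AuxS.{u} (cP4r 1 2) s571 0 a571 := aux_base3 tw208 rfl b571
theorem x571_1 : AuxS.{u} (cP4r 1 2) s571 0 a571_1 := (AuxS.up x571 c571_1 :)
theorem n571 : Sound.{u} (cP4r 1 2) s571 0 :=
  (x571_1.k1 c571_0 :)
theorem x572 : AuxS.{u} (cP4r 1 2) s572 0 a572 := aux_base3 tw209 rfl b572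
theorem x572_1 : AuxS.{u} (cP4r 1 2) s572 0 a572_1 := (AuxS.up x572 c572_1 :)
theorem n572 : Sound.{u} (cP4r 1 2) s572 0 :=
  (x572_1.k1 c572_0 :)
theorem x573 : AuxS.{u} (cP4r 1 2) s573 0 a573 := aux_base3 tw210 rfl b573
theorem x573_1 : AuxS.{u} (cP4r 1 2) s573 0 a573_1 := (AuxS.up x573 c573_1 :)
theorem n573 : Sound.{u} (cP4r 1 2) s573 0 :=
  (x573_1.k1 c573_0 :)
theorem x574 : AuxS.{u} (cP4r 1 2) s574 0 a574 := aux_base3 tw211 rfl b574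
theorem x574_1 : AuxS.{u} (cP4r 1 2) s574 0 a574_1 := (AuxS.up x574 c574_1 :)
theorem x574_2p : AuxS.{u} (cP4r 1 2) s574 0 a574_2p := (AuxS.up x574_1 c574_2 :)
theorem x574_2 : AuxS.{u} (cP4r 1 2) s574 0 a574_2 := (AuxS.up2 x574_2p c574_3 :)
theorem n574 : Sound.{u} (cP4r 1 2) s574 0 :=
  (x574_2.k7 c574_0 :)
theorem x575 : AuxS.{u} (cP4r 1 2) s575 0 a575 := aux_base3 tw212 rfl b575
theorem x575_1 : AuxS.{u} (cP4r 1 2) s575 0 a575_1 := (AuxS.up x575 c575_1 :)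
theorem n575 : Sound.{u} (cP4r 1 2) s575 0 :=
  (x575_1.k1 c575_0 :)
theorem x7 : AuxS.{u} (cP4r 1 2) s7 0 a7 := aux_base3 tw7 rfl b7
theorem x7_1 : AuxS.{u} (cP4r 1 2) s7 0 a7_1 := (AuxS.up x7 c7_4 :)
theorem p7_0_1 : Phs s7 a7_1 [] [s568, s569, s570, s571, s572, s573, s574, s575] ct7_0 v7_0 4 w7_0_1 := (Phs.fin c7_0)
theorem p7_0_3 : Phs s7 a7_1 [] [s568, s569, s570, s571, s572, s573, s574, s575] ct7_0 v7_0 1 w7_0_3 := (Phs.stp c7_1 p7_0_1)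
theorem n7 : Sound.{u} (cP4r 1 2) s7 0 :=
  (x7_1.ext2 (fun h => absurd h (by decide)) GamS.nil (AllS.cons n568 (AllS.cons n569 (AllS.cons n570 (AllS.cons n571 (AllS.cons n572 (AllS.cons n573 (AllS.cons n574 (AllS.cons n575 AllS.nil)))))))) c7_3 (Phs.stp c7_2 p7_0_3) (Phs.fin (ct := ct7_0) rfl) :)
theorem x576 : AuxS.{u} (cP4r 1 2) s576 0 a576 := aux_base3 tw213 rfl b576
theorem x576_1 : AuxS.{u} (cP4r 1 2) s576 0 a576_1 := (AuxS.up x576 c576_1 :)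
theorem n576 : Sound.{u} (cP4r 1 2) s576 0 :=
  (x576_1.k1 c576_0 :)
theorem x577 : AuxS.{u} (cP4r 1 2) s577 0 a577 := aux_base3 tw214 rfl b577
theorem x577_1 : AuxS.{u} (cP4r 1 2) s577 0 a577_1 := (AuxS.up x577 c577_1 :)
theorem n577 : Sound.{u} (cP4r 1 2) s577 0 :=
  (x577_1.k1 c577_0 :)
theorem x586 : AuxS.{u} (cP4r 1 2) s586 0 a586 := aux_base3 tw221 rfl b586
theorem x586_1 : AuxS.{u} (cP4r 1 2) s586 0 a586_1 := (AuxS.up x586 c586_1 :)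
theorem x586_2 : AuxS.{u} (cP4r 1 2) s586 0 a586_2 := (AuxS.up2 x586_1 c586_2 :)
theorem n586 : Sound.{u} (cP4r 1 2) s586 0 :=
  (x586_2.k7 c586_0 :)
theorem x587 : AuxS.{u} (cP4r 1 2) s587 0 a587 := aux_base3 tw221 rfl b587
theorem x587_1 : AuxS.{u} (cP4r 1 2) s587 0 a587_1 := (AuxS.up x587 c587_1 :)
theorem x587_2 : AuxS.{u} (cP4r 1 2) s587 0 a587_2 := (AuxS.up2 x587_1 c587_2 :)
theorem n587 : Sound.{u} (cP4r 1 2) s587 0 :=
  (x587_2.k7 c587_0 :)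
theorem x588 : AuxS.{u} (cP4r 1 2) s588 0 a588 := aux_base3 tw221 rfl b588
theorem x588_1 : AuxS.{u} (cP4r 1 2) s588 0 a588_1 := (AuxS.up x588 c588_1 :)
theorem x588_2 : AuxS.{u} (cP4r 1 2) s588 0 a588_2 := (AuxS.up2 x588_1 c588_2 :)
theorem n588 : Sound.{u} (cP4r 1 2) s588 0 :=
  (x588_2.k7 c588_0 :)
theorem x589 : AuxS.{u} (cP4r 1 2) s589 0 a589 := aux_base3 tw221 rfl b589
theorem x589_1 : AuxS.{u} (cP4r 1 2) s589 0 a589_1 := (AuxS.up x589 c589_1 :)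
theorem x589_2 : AuxS.{u} (cP4r 1 2) s589 0 a589_2 := (AuxS.up2 x589_1 c589_2 :)
theorem n589 : Sound.{u} (cP4r 1 2) s589 0 :=
  (x589_2.k7 c589_0 :)
theorem x584 : AuxS.{u} (cP4r 1 2) s584 0 a584 := aux_base3 tw221 rfl b584
theorem x584_1 : AuxS.{u} (cP4r 1 2) s584 0 a584_1 := x584
theorem x584_2 : AuxS.{u} (cP4r 1 2) s584 0 a584_2 := x584_1
theorem n584 : Sound.{u} (cP4r 1 2) s584 0 :=
  (x584_2.rho (AllS.cons n586 (AllS.cons n587 (AllS.cons n588 (AllS.cons n589 AllS.nil)))) c584_0 :)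
theorem x585 : AuxS.{u} (cP4r 1 2) s585 0 a585 := aux_base3 tw222 rfl b585
theorem x585_1 : AuxS.{u} (cP4r 1 2) s585 0 a585_1 := (AuxS.up x585 c585_1 :)
theorem n585 : Sound.{u} (cP4r 1 2) s585 0 :=
  (x585_1.k1 c585_0 :)
theorem x578 : AuxS.{u} (cP4r 1 2) s578 0 a578 := aux_base3 tw215 rfl b578
theorem x578_1 : AuxS.{u} (cP4r 1 2) s578 0 a578_1 := x578
theorem x578_2 : AuxS.{u} (cP4r 1 2) s578 0 a578_2 := x578_1
theorem p578_0_1 : Phs s578 a578_2 (List.map Prod.fst g578_0) [s584, s585] ct578_0 v578_0 5 w578_0_1 := (Phs.fin c578_1)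
theorem n578 : Sound.{u} (cP4r 1 2) s578 0 :=
  (x578_2.ext2 (fun h => absurd h (by decide)) (AuxS.gam x578_2 c578_0) (AllS.cons n584 (AllS.cons n585 AllS.nil)) c578_3 (Phs.fin (ct := ct578_0) rfl) (Phs.stp c578_2 p578_0_1) :)
theorem x579 : AuxS.{u} (cP4r 1 2) s579 0 a579 := aux_base3 tw216 rfl b579
theorem x579_1 : AuxS.{u} (cP4r 1 2) s579 0 a579_1 := (AuxS.up x579 c579_1 :)
theorem n579 : Sound.{u} (cP4r 1 2) s579 0 :=
  (x579_1.k1 c579_0 :)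
theorem x592 : AuxS.{u} (cP4r 1 2) s592 0 a592 := aux_base3 tw217 rfl b592
theorem x592_1 : AuxS.{u} (cP4r 1 2) s592 0 a592_1 := (AuxS.up x592 c592_4 :)
theorem x592_2 : AuxS.{u} (cP4r 1 2) s592 0 a592_2 := (AuxS.up2 x592_1 c592_5 :)
theorem x592_3 : AuxS.{u} (cP4r 1 2) s592 0 a592_3 := x592_2
theorem x592_4 : AuxS.{u} (cP4r 1 2) s592 0 a592_4 := x592_3
theorem x592_5 : AuxS.{u} (cP4r 1 2) s592 0 a592_5 := x592_4
theorem x592_6 : AuxS.{u} (cP4r 1 2) s592 0 a592_6 := x592_5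
theorem p592_0_1 : Phs s592 a592_6 [] [] ct592_0 v592_0 4 w592_0_1 := (Phs.fin c592_0)
theorem p592_0_3 : Phs s592 a592_6 [] [] ct592_0 v592_0 1 w592_0_3 := (Phs.stp c592_1 p592_0_1)
theorem n592 : Sound.{u} (cP4r 1 2) s592 0 :=
  (x592_6.ext2 (fun h => absurd h (by decide)) GamS.nil AllS.nil c592_3 (Phs.stp c592_2 p592_0_3) (Phs.fin (ct := ct592_0) rfl) :)
theorem x590 : AuxS.{u} (cP4r 1 2) s590 0 a590 := aux_base3 tw223 rfl b590
theorem x590_1 : AuxS.{u} (cP4r 1 2) s590 0 a590_1 := x590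
theorem x590_2 : AuxS.{u} (cP4r 1 2) s590 0 a590_2 := x590_1
theorem x590_3 : AuxS.{u} (cP4r 1 2) s590 0 a590_3 := x590_2
theorem n590 : Sound.{u} (cP4r 1 2) s590 0 :=
  (x590_3.jump c590_0 c590_1 n592 :)
theorem x591 : AuxS.{u} (cP4r 1 2) s591 0 a591 := aux_base3 tw224 rfl b591
theorem x591_1 : AuxS.{u} (cP4r 1 2) s591 0 a591_1 := (AuxS.up x591 c591_1 :)
theorem n591 : Sound.{u} (cP4r 1 2) s591 0 :=
  (x591_1.k1 c591_0 :)
theorem x580 : AuxS.{u} (cP4r 1 2) s580 0 a580 := aux_base3 tw217 rfl b580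
theorem x580_1 : AuxS.{u} (cP4r 1 2) s580 0 a580_1 := x580
theorem x580_2 : AuxS.{u} (cP4r 1 2) s580 0 a580_2 := x580_1
theorem x580_3 : AuxS.{u} (cP4r 1 2) s580 0 a580_3 := x580_2
theorem x580_4 : AuxS.{u} (cP4r 1 2) s580 0 a580_4 := x580_3
theorem p580_0_1 : Phs s580 a580_4 (List.map Prod.fst g580_0) [s590, s591] ct580_0 v580_0 5 w580_0_1 := (Phs.fin c580_1)
theorem n580 : Sound.{u} (cP4r 1 2) s580 0 :=
  (x580_4.ext2 (fun h => absurd h (by decide)) (AuxS.gam x580_4 c580_0) (AllS.cons n590 (AllS.cons n591 AllS.nil)) c580_3 (Phs.fin (ct := ct580_0) rfl) (Phs.stp c580_2 p580_0_1) :)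
theorem x581 : AuxS.{u} (cP4r 1 2) s581 0 a581 := aux_base3 tw218 rfl b581
theorem x581_1 : AuxS.{u} (cP4r 1 2) s581 0 a581_1 := (AuxS.up x581 c581_1 :)
theorem n581 : Sound.{u} (cP4r 1 2) s581 0 :=
  (x581_1.k1 c581_0 :)
theorem x582 : AuxS.{u} (cP4r 1 2) s582 0 a582 := aux_base3 tw219 rfl b582
theorem x582_1 : AuxS.{u} (cP4r 1 2) s582 0 a582_1 := (AuxS.up x582 c582_1 :)
theorem n582 : Sound.{u} (cP4r 1 2) s582 0 :=
  (x582_1.k1 c582_0 :)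
theorem x583 : AuxS.{u} (cP4r 1 2) s583 0 a583 := aux_base3 tw220 rfl b583
theorem x583_1 : AuxS.{u} (cP4r 1 2) s583 0 a583_1 := (AuxS.up x583 c583_1 :)
theorem n583 : Sound.{u} (cP4r 1 2) s583 0 :=
  (x583_1.k1 c583_0 :)
theorem x8 : AuxS.{u} (cP4r 1 2) s8 0 a8 := aux_base3 tw8 rfl b8
theorem x8_1 : AuxS.{u} (cP4r 1 2) s8 0 a8_1 := (AuxS.up x8 c8_4 :)
theorem p8_0_1 : Phs s8 a8_1 [] [s576, s577, s578, s579, s580, s581, s582, s583] ct8_0 v8_0 4 w8_0_1 := (Phs.fin c8_0)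
theorem p8_0_3 : Phs s8 a8_1 [] [s576, s577, s578, s579, s580, s581, s582, s583] ct8_0 v8_0 1 w8_0_3 := (Phs.stp c8_1 p8_0_1)
theorem n8 : Sound.{u} (cP4r 1 2) s8 0 :=
  (x8_1.ext2 (fun h => absurd h (by decide)) GamS.nil (AllS.cons n576 (AllS.cons n577 (AllS.cons n578 (AllS.cons n579 (AllS.cons n580 (AllS.cons n581 (AllS.cons n582 (AllS.cons n583 AllS.nil)))))))) c8_3 (Phs.stp c8_2 p8_0_3) (Phs.fin (ct := ct8_0) rfl) :)
theorem x9 : AuxS.{u} (cP4r 1 2) s9 0 a9 := aux_base3 tw9 rfl b9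
theorem x9_1 : AuxS.{u} (cP4r 1 2) s9 0 a9_1 := (AuxS.up x9 c9_1 :)
theorem n9 : Sound.{u} (cP4r 1 2) s9 0 :=
  (x9_1.k7 c9_0 :)
theorem x10 : AuxS.{u} (cP4r 1 2) s10 0 a10 := aux_base3 tw10 rfl b10
theorem x10_1 : AuxS.{u} (cP4r 1 2) s10 0 a10_1 := (AuxS.up x10 c10_1 :)
theorem n10 : Sound.{u} (cP4r 1 2) s10 0 :=
  (x10_1.k1 c10_0 :)
theorem x11 : AuxS.{u} (cP4r 1 2) s11 0 a11 := aux_base3 tw11 rfl b11
theorem n11 : Sound.{u} (cP4r 1 2) s11 0 :=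
  (x11.k3 c11_0 :)
theorem x12 : AuxS.{u} (cP4r 1 2) s12 0 a12 := aux_base3 tw12 rfl b12
theorem n12 : Sound.{u} (cP4r 1 2) s12 0 :=
  (x12.k3 c12_0 :)
theorem x13 : AuxS.{u} (cP4r 1 2) s13 0 a13 := aux_base3 tw13 rfl b13
theorem n13 : Sound.{u} (cP4r 1 2) s13 0 :=
  (x13.k3 c13_0 :)
theorem x14 : AuxS.{u} (cP4r 1 2) s14 0 a14 := aux_base3 tw14 rfl b14
theorem n14 : Sound.{u} (cP4r 1 2) s14 0 :=
  (x14.k3 c14_0 :)
theorem x15 : AuxS.{u} (cP4r 1 2) s15 0 a15 := aux_base3 tw15 rfl b15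
theorem n15 : Sound.{u} (cP4r 1 2) s15 0 :=
  (x15.k3 c15_0 :)
theorem x16 : AuxS.{u} (cP4r 1 2) s16 0 a16 := aux_base3 tw16 rfl b16
theorem n16 : Sound.{u} (cP4r 1 2) s16 0 :=
  (x16.k3 c16_0 :)
theorem x671 : AuxS.{u} (cP4r 1 2) s671 0 a671 := aux_base3 tw269 rfl b671
theorem x671_1 : AuxS.{u} (cP4r 1 2) s671 0 a671_1 := x671
theorem x671_2 : AuxS.{u} (cP4r 1 2) s671 0 a671_2 := x671_1
theorem x671_3 : AuxS.{u} (cP4r 1 2) s671 0 a671_3 := x671_2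
theorem n671 : Sound.{u} (cP4r 1 2) s671 0 :=
  (x671_3.jump c671_0 c671_1 n113 :)
theorem x672 : AuxS.{u} (cP4r 1 2) s672 0 a672 := aux_base3 tw269 rfl b672
theorem x672_1 : AuxS.{u} (cP4r 1 2) s672 0 a672_1 := (AuxS.up x672 c672_1 :)
theorem x672_2 : AuxS.{u} (cP4r 1 2) s672 0 a672_2 := x672_1
theorem n672 : Sound.{u} (cP4r 1 2) s672 0 :=
  (x672_2.k7 c672_0 :)
theorem x673 : AuxS.{u} (cP4r 1 2) s673 0 a673 := aux_base3 tw269 rfl b673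
theorem x673_1 : AuxS.{u} (cP4r 1 2) s673 0 a673_1 := x673
theorem x673_2 : AuxS.{u} (cP4r 1 2) s673 0 a673_2 := x673_1
theorem x673_3 : AuxS.{u} (cP4r 1 2) s673 0 a673_3 := x673_2
theorem n673 : Sound.{u} (cP4r 1 2) s673 0 :=
  (x673_3.jump c673_0 c673_1 n113 :)
theorem x674 : AuxS.{u} (cP4r 1 2) s674 0 a674 := aux_base3 tw269 rfl b674
theorem x674_1 : AuxS.{u} (cP4r 1 2) s674 0 a674_1 := (AuxS.up x674 c674_1 :)
theorem x674_2 : AuxS.{u} (cP4r 1 2) s674 0 a674_2 := x674_1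
theorem n674 : Sound.{u} (cP4r 1 2) s674 0 :=
  (x674_2.k7 c674_0 :)
theorem x670 : AuxS.{u} (cP4r 1 2) s670 0 a670 := aux_base3 tw269 rfl b670
theorem x670_1 : AuxS.{u} (cP4r 1 2) s670 0 a670_1 := x670
theorem x670_2 : AuxS.{u} (cP4r 1 2) s670 0 a670_2 := x670_1
theorem x670_3 : AuxS.{u} (cP4r 1 2) s670 0 a670_3 := x670_2
theorem n670 : Sound.{u} (cP4r 1 2) s670 0 :=
  (x670_3.rho (AllS.cons n671 (AllS.cons n672 (AllS.cons n673 (AllS.cons n674 AllS.nil)))) c670_0 :)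
theorem x654 : AuxS.{u} (cP4r 1 2) s654 0 a654 := aux_base3 tw253 rfl b654
theorem x654_1 : AuxS.{u} (cP4r 1 2) s654 0 a654_1 := x654
theorem x654_2 : AuxS.{u} (cP4r 1 2) s654 0 a654_2 := x654_1
theorem x654_3 : AuxS.{u} (cP4r 1 2) s654 0 a654_3 := x654_2
theorem n654 : Sound.{u} (cP4r 1 2) s654 0 :=
  (x654_3.fr2 (AuxS.gam x654_3 c654_0) (AllS.cons n670 AllS.nil) c654_1 :)
theorem x655 : AuxS.{u} (cP4r 1 2) s655 0 a655 := aux_base3 tw254 rfl b655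
theorem x655_1 : AuxS.{u} (cP4r 1 2) s655 0 a655_1 := x655
theorem x655_2 : AuxS.{u} (cP4r 1 2) s655 0 a655_2 := x655_1
theorem n655 : Sound.{u} (cP4r 1 2) s655 0 :=
  (x655_2.fr2 GamS.nil AllS.nil c655_0 :)
theorem x656 : AuxS.{u} (cP4r 1 2) s656 0 a656 := aux_base3 tw255 rfl b656
theorem x656_1 : AuxS.{u} (cP4r 1 2) s656 0 a656_1 := x656
theorem x656_2 : AuxS.{u} (cP4r 1 2) s656 0 a656_2 := x656_1
theorem n656 : Sound.{u} (cP4r 1 2) s656 0 :=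
  (x656_2.fr2 GamS.nil AllS.nil c656_0 :)
theorem x657 : AuxS.{u} (cP4r 1 2) s657 0 a657 := aux_base3 tw256 rfl b657
theorem x657_1 : AuxS.{u} (cP4r 1 2) s657 0 a657_1 := x657
theorem x657_2 : AuxS.{u} (cP4r 1 2) s657 0 a657_2 := x657_1
theorem n657 : Sound.{u} (cP4r 1 2) s657 0 :=
  (x657_2.fr2 GamS.nil AllS.nil c657_0 :)
theorem x658 : AuxS.{u} (cP4r 1 2) s658 0 a658 := aux_base3 tw257 rfl b658
theorem x658_1 : AuxS.{u} (cP4r 1 2) s658 0 a658_1 := x658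
theorem x658_2 : AuxS.{u} (cP4r 1 2) s658 0 a658_2 := x658_1
theorem x658_3 : AuxS.{u} (cP4r 1 2) s658 0 a658_3 := x658_2
theorem n658 : Sound.{u} (cP4r 1 2) s658 0 :=
  (x658_3.fr2 GamS.nil AllS.nil c658_0 :)
theorem x676 : AuxS.{u} (cP4r 1 2) s676 0 a676 := aux_base3 tw270 rfl b676
theorem x676_1 : AuxS.{u} (cP4r 1 2) s676 0 a676_1 := (AuxS.up x676 c676_1 :)
theorem x676_2 : AuxS.{u} (cP4r 1 2) s676 0 a676_2 := x676_1
theorem n676 : Sound.{u} (cP4r 1 2) s676 0 :=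
  (x676_2.k7 c676_0 :)
theorem x677 : AuxS.{u} (cP4r 1 2) s677 0 a677 := aux_base3 tw270 rfl b677
theorem x677_1 : AuxS.{u} (cP4r 1 2) s677 0 a677_1 := (AuxS.up x677 c677_1 :)
theorem x677_2 : AuxS.{u} (cP4r 1 2) s677 0 a677_2 := x677_1
theorem n677 : Sound.{u} (cP4r 1 2) s677 0 :=
  (x677_2.k7 c677_0 :)
theorem x678 : AuxS.{u} (cP4r 1 2) s678 0 a678 := aux_base3 tw270 rfl b678
theorem x678_1 : AuxS.{u} (cP4r 1 2) s678 0 a678_1 := (AuxS.up x678 c678_1 :)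
theorem x678_2 : AuxS.{u} (cP4r 1 2) s678 0 a678_2 := x678_1
theorem n678 : Sound.{u} (cP4r 1 2) s678 0 :=
  (x678_2.k7 c678_0 :)
theorem x679 : AuxS.{u} (cP4r 1 2) s679 0 a679 := aux_base3 tw270 rfl b679
theorem x679_1 : AuxS.{u} (cP4r 1 2) s679 0 a679_1 := (AuxS.up x679 c679_1 :)
theorem x679_2 : AuxS.{u} (cP4r 1 2) s679 0 a679_2 := x679_1
theorem n679 : Sound.{u} (cP4r 1 2) s679 0 :=
  (x679_2.k7 c679_0 :)
theorem x675 : AuxS.{u} (cP4r 1 2) s675 0 a675 := aux_base3 tw270 rfl b675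
theorem x675_1 : AuxS.{u} (cP4r 1 2) s675 0 a675_1 := x675
theorem x675_2 : AuxS.{u} (cP4r 1 2) s675 0 a675_2 := x675_1
theorem x675_3 : AuxS.{u} (cP4r 1 2) s675 0 a675_3 := x675_2
theorem n675 : Sound.{u} (cP4r 1 2) s675 0 :=
  (x675_3.rho (AllS.cons n676 (AllS.cons n677 (AllS.cons n678 (AllS.cons n679 AllS.nil)))) c675_0 :)
theorem x659 : AuxS.{u} (cP4r 1 2) s659 0 a659 := aux_base3 tw258 rfl b659
theorem x659_1 : AuxS.{u} (cP4r 1 2) s659 0 a659_1 := x659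
theorem x659_2 : AuxS.{u} (cP4r 1 2) s659 0 a659_2 := x659_1
theorem x659_3 : AuxS.{u} (cP4r 1 2) s659 0 a659_3 := x659_2
theorem n659 : Sound.{u} (cP4r 1 2) s659 0 :=
  (x659_3.fr2 (AuxS.gam x659_3 c659_0) (AllS.cons n675 AllS.nil) c659_1 :)
theorem x660 : AuxS.{u} (cP4r 1 2) s660 0 a660 := aux_base3 tw259 rfl b660
theorem x660_1 : AuxS.{u} (cP4r 1 2) s660 0 a660_1 := x660
theorem x660_2 : AuxS.{u} (cP4r 1 2) s660 0 a660_2 := x660_1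
theorem n660 : Sound.{u} (cP4r 1 2) s660 0 :=
  (x660_2.fr2 GamS.nil AllS.nil c660_0 :)
theorem x661 : AuxS.{u} (cP4r 1 2) s661 0 a661 := aux_base3 tw260 rfl b661
theorem x661_1 : AuxS.{u} (cP4r 1 2) s661 0 a661_1 := x661
theorem x661_2 : AuxS.{u} (cP4r 1 2) s661 0 a661_2 := x661_1
theorem n661 : Sound.{u} (cP4r 1 2) s661 0 :=
  (x661_2.fr2 GamS.nil AllS.nil c661_0 :)
theorem x662 : AuxS.{u} (cP4r 1 2) s662 0 a662 := aux_base3 tw261 rfl b662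
theorem x662_1 : AuxS.{u} (cP4r 1 2) s662 0 a662_1 := x662
theorem x662_2 : AuxS.{u} (cP4r 1 2) s662 0 a662_2 := x662_1
theorem x662_3 : AuxS.{u} (cP4r 1 2) s662 0 a662_3 := x662_2
theorem n662 : Sound.{u} (cP4r 1 2) s662 0 :=
  (x662_3.fr2 GamS.nil AllS.nil c662_0 :)
theorem x663 : AuxS.{u} (cP4r 1 2) s663 0 a663 := aux_base3 tw262 rfl b663
theorem x663_1 : AuxS.{u} (cP4r 1 2) s663 0 a663_1 := x663
theorem x663_2 : AuxS.{u} (cP4r 1 2) s663 0 a663_2 := x663_1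
theorem n663 : Sound.{u} (cP4r 1 2) s663 0 :=
  (x663_2.fr2 GamS.nil AllS.nil c663_0 :)
theorem x664 : AuxS.{u} (cP4r 1 2) s664 0 a664 := aux_base3 tw263 rfl b664
theorem x664_1 : AuxS.{u} (cP4r 1 2) s664 0 a664_1 := x664
theorem x664_2 : AuxS.{u} (cP4r 1 2) s664 0 a664_2 := x664_1
theorem x664_3 : AuxS.{u} (cP4r 1 2) s664 0 a664_3 := x664_2
theorem n664 : Sound.{u} (cP4r 1 2) s664 0 :=
  (x664_3.fr2 GamS.nil AllS.nil c664_0 :)
theorem x665 : AuxS.{u} (cP4r 1 2) s665 0 a665 := aux_base3 tw264 rfl b665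
theorem x665_1 : AuxS.{u} (cP4r 1 2) s665 0 a665_1 := x665
theorem x665_2 : AuxS.{u} (cP4r 1 2) s665 0 a665_2 := x665_1
theorem n665 : Sound.{u} (cP4r 1 2) s665 0 :=
  (x665_2.fr2 GamS.nil AllS.nil c665_0 :)
theorem x666 : AuxS.{u} (cP4r 1 2) s666 0 a666 := aux_base3 tw265 rfl b666
theorem x666_1 : AuxS.{u} (cP4r 1 2) s666 0 a666_1 := x666
theorem x666_2 : AuxS.{u} (cP4r 1 2) s666 0 a666_2 := x666_1
theorem x666_3 : AuxS.{u} (cP4r 1 2) s666 0 a666_3 := x666_2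
theorem n666 : Sound.{u} (cP4r 1 2) s666 0 :=
  (x666_3.fr2 GamS.nil AllS.nil c666_0 :)
theorem x667 : AuxS.{u} (cP4r 1 2) s667 0 a667 := aux_base3 tw266 rfl b667
theorem x667_1 : AuxS.{u} (cP4r 1 2) s667 0 a667_1 := x667
theorem x667_2 : AuxS.{u} (cP4r 1 2) s667 0 a667_2 := x667_1
theorem n667 : Sound.{u} (cP4r 1 2) s667 0 :=
  (x667_2.fr2 GamS.nil AllS.nil c667_0 :)
theorem x668 : AuxS.{u} (cP4r 1 2) s668 0 a668 := aux_base3 tw267 rfl b668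
theorem x668_1 : AuxS.{u} (cP4r 1 2) s668 0 a668_1 := x668
theorem x668_2 : AuxS.{u} (cP4r 1 2) s668 0 a668_2 := x668_1
theorem n668 : Sound.{u} (cP4r 1 2) s668 0 :=
  (x668_2.fr2 GamS.nil AllS.nil c668_0 :)
theorem x669 : AuxS.{u} (cP4r 1 2) s669 0 a669 := aux_base3 tw268 rfl b669
theorem x669_1 : AuxS.{u} (cP4r 1 2) s669 0 a669_1 := x669
theorem x669_2 : AuxS.{u} (cP4r 1 2) s669 0 a669_2 := x669_1
theorem x669_3 : AuxS.{u} (cP4r 1 2) s669 0 a669_3 := x669_2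
theorem n669 : Sound.{u} (cP4r 1 2) s669 0 :=
  (x669_3.fr2 GamS.nil AllS.nil c669_0 :)
theorem x622 : AuxS.{u} (cP4r 1 2) s622 0 a622 := aux_base3 tw235 rfl b622
theorem x622_1 : AuxS.{u} (cP4r 1 2) s622 0 a622_1 := x622
theorem x622_2 : AuxS.{u} (cP4r 1 2) s622 0 a622_2 := x622_1
theorem n622 : Sound.{u} (cP4r 1 2) s622 0 :=
  (x622_2.fr2 GamS.nil (AllS.cons n654 (AllS.cons n655 (AllS.cons n656 (AllS.cons n657 (AllS.cons n658 (AllS.cons n659 (AllS.cons n660 (AllS.cons n661 (AllS.cons n662 (AllS.cons n663 (AllS.cons n664 (AllS.cons n665 (AllS.cons n666 (AllS.cons n667 (AllS.cons n668 (AllS.cons n669 AllS.nil)))))))))))))))) c622_0 :)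
theorem x623 : AuxS.{u} (cP4r 1 2) s623 0 a623 := aux_base3 tw235 rfl b623
theorem n623 : Sound.{u} (cP4r 1 2) s623 0 :=
  (x623.k4 c623_0 :)
theorem x624 : AuxS.{u} (cP4r 1 2) s624 0 a624 := aux_base3 tw235 rfl b624
theorem n624 : Sound.{u} (cP4r 1 2) s624 0 :=
  (x624.k4 c624_0 :)
theorem x625 : AuxS.{u} (cP4r 1 2) s625 0 a625 := aux_base3 tw235 rfl b625
theorem n625 : Sound.{u} (cP4r 1 2) s625 0 :=
  (x625.k4 c625_0 :)
theorem x626 : AuxS.{u} (cP4r 1 2) s626 0 a626 := aux_base3 tw235 rfl b626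
theorem n626 : Sound.{u} (cP4r 1 2) s626 0 :=
  (x626.k4 c626_0 :)
theorem x627 : AuxS.{u} (cP4r 1 2) s627 0 a627 := aux_base3 tw235 rfl b627
theorem n627 : Sound.{u} (cP4r 1 2) s627 0 :=
  (x627.k4 c627_0 :)
theorem x628 : AuxS.{u} (cP4r 1 2) s628 0 a628 := aux_base3 tw235 rfl b628
theorem n628 : Sound.{u} (cP4r 1 2) s628 0 :=
  (x628.k4 c628_0 :)
theorem x629 : AuxS.{u} (cP4r 1 2) s629 0 a629 := aux_base3 tw235 rfl b629
theorem n629 : Sound.{u} (cP4r 1 2) s629 0 :=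
  (x629.k4 c629_0 :)
theorem x630 : AuxS.{u} (cP4r 1 2) s630 0 a630 := aux_base3 tw235 rfl b630
theorem n630 : Sound.{u} (cP4r 1 2) s630 0 :=
  (x630.k4 c630_0 :)
theorem x631 : AuxS.{u} (cP4r 1 2) s631 0 a631 := aux_base3 tw235 rfl b631
theorem n631 : Sound.{u} (cP4r 1 2) s631 0 :=
  (x631.k4 c631_0 :)
theorem x632 : AuxS.{u} (cP4r 1 2) s632 0 a632 := aux_base3 tw235 rfl b632
theorem n632 : Sound.{u} (cP4r 1 2) s632 0 :=
  (x632.k4 c632_0 :)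
theorem x633 : AuxS.{u} (cP4r 1 2) s633 0 a633 := aux_base3 tw235 rfl b633
theorem n633 : Sound.{u} (cP4r 1 2) s633 0 :=
  (x633.k4 c633_0 :)
theorem x634 : AuxS.{u} (cP4r 1 2) s634 0 a634 := aux_base3 tw235 rfl b634
theorem n634 : Sound.{u} (cP4r 1 2) s634 0 :=
  (x634.k4 c634_0 :)
theorem x635 : AuxS.{u} (cP4r 1 2) s635 0 a635 := aux_base3 tw235 rfl b635
theorem n635 : Sound.{u} (cP4r 1 2) s635 0 :=
  (x635.k4 c635_0 :)
theorem x636 : AuxS.{u} (cP4r 1 2) s636 0 a636 := aux_base3 tw235 rfl b636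
theorem n636 : Sound.{u} (cP4r 1 2) s636 0 :=
  (x636.k4 c636_0 :)
theorem x637 : AuxS.{u} (cP4r 1 2) s637 0 a637 := aux_base3 tw235 rfl b637
theorem n637 : Sound.{u} (cP4r 1 2) s637 0 :=
  (x637.k4 c637_0 :)
theorem x638 : AuxS.{u} (cP4r 1 2) s638 0 a638 := aux_base3 tw235 rfl b638
theorem n638 : Sound.{u} (cP4r 1 2) s638 0 :=
  (x638.k4 c638_0 :)
theorem x639 : AuxS.{u} (cP4r 1 2) s639 0 a639 := aux_base3 tw235 rfl b639
theorem n639 : Sound.{u} (cP4r 1 2) s639 0 :=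
  (x639.k4 c639_0 :)
theorem x640 : AuxS.{u} (cP4r 1 2) s640 0 a640 := aux_base3 tw235 rfl b640
theorem n640 : Sound.{u} (cP4r 1 2) s640 0 :=
  (x640.k4 c640_0 :)
theorem x641 : AuxS.{u} (cP4r 1 2) s641 0 a641 := aux_base3 tw235 rfl b641
theorem n641 : Sound.{u} (cP4r 1 2) s641 0 :=
  (x641.k4 c641_0 :)
theorem x642 : AuxS.{u} (cP4r 1 2) s642 0 a642 := aux_base3 tw235 rfl b642
theorem n642 : Sound.{u} (cP4r 1 2) s642 0 :=
  (x642.k4 c642_0 :)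
theorem x643 : AuxS.{u} (cP4r 1 2) s643 0 a643 := aux_base3 tw235 rfl b643
theorem n643 : Sound.{u} (cP4r 1 2) s643 0 :=
  (x643.k4 c643_0 :)
theorem x644 : AuxS.{u} (cP4r 1 2) s644 0 a644 := aux_base3 tw235 rfl b644
theorem n644 : Sound.{u} (cP4r 1 2) s644 0 :=
  (x644.k4 c644_0 :)
theorem x645 : AuxS.{u} (cP4r 1 2) s645 0 a645 := aux_base3 tw235 rfl b645
theorem n645 : Sound.{u} (cP4r 1 2) s645 0 :=
  (x645.k4 c645_0 :)
theorem x646 : AuxS.{u} (cP4r 1 2) s646 0 a646 := aux_base3 tw235 rfl b646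
theorem n646 : Sound.{u} (cP4r 1 2) s646 0 :=
  (x646.k4 c646_0 :)
theorem x647 : AuxS.{u} (cP4r 1 2) s647 0 a647 := aux_base3 tw235 rfl b647
theorem n647 : Sound.{u} (cP4r 1 2) s647 0 :=
  (x647.k4 c647_0 :)
theorem x648 : AuxS.{u} (cP4r 1 2) s648 0 a648 := aux_base3 tw235 rfl b648
theorem n648 : Sound.{u} (cP4r 1 2) s648 0 :=
  (x648.k4 c648_0 :)
theorem x649 : AuxS.{u} (cP4r 1 2) s649 0 a649 := aux_base3 tw235 rfl b649
theorem n649 : Sound.{u} (cP4r 1 2) s649 0 :=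
  (x649.k4 c649_0 :)
theorem x650 : AuxS.{u} (cP4r 1 2) s650 0 a650 := aux_base3 tw235 rfl b650
theorem n650 : Sound.{u} (cP4r 1 2) s650 0 :=
  (x650.k4 c650_0 :)
theorem x651 : AuxS.{u} (cP4r 1 2) s651 0 a651 := aux_base3 tw235 rfl b651
theorem n651 : Sound.{u} (cP4r 1 2) s651 0 :=
  (x651.k4 c651_0 :)
theorem x652 : AuxS.{u} (cP4r 1 2) s652 0 a652 := aux_base3 tw235 rfl b652
theorem n652 : Sound.{u} (cP4r 1 2) s652 0 :=
  (x652.k4 c652_0 :)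
theorem x653 : AuxS.{u} (cP4r 1 2) s653 0 a653 := aux_base3 tw235 rfl b653
theorem n653 : Sound.{u} (cP4r 1 2) s653 0 :=
  (x653.k4 c653_0 :)
theorem x604 : AuxS.{u} (cP4r 1 2) s604 0 a604 := aux_base3 tw235 rfl b604
theorem x604_1 : AuxS.{u} (cP4r 1 2) s604 0 a604_1 := x604
theorem x604_2 : AuxS.{u} (cP4r 1 2) s604 0 a604_2 := x604_1
theorem x604_3 : AuxS.{u} (cP4r 1 2) s604 0 a604_3 := x604_2
theorem n604 : Sound.{u} (cP4r 1 2) s604 0 :=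
  (x604_3.fr (AuxS.gam x604_3 c604_0) (AllS.cons n622 (AllS.cons n623 (AllS.cons n624 (AllS.cons n625 (AllS.cons n626 (AllS.cons n627 (AllS.cons n628 (AllS.cons n629 (AllS.cons n630 (AllS.cons n631 (AllS.cons n632 (AllS.cons n633 (AllS.cons n634 (AllS.cons n635 (AllS.cons n636 (AllS.cons n637 (AllS.cons n638 (AllS.cons n639 (AllS.cons n640 (AllS.cons n641 (AllS.cons n642 (AllS.cons n643 (AllS.cons n644 (AllS.cons n645 (AllS.cons n646 (AllS.cons n647 (AllS.cons n648 (AllS.cons n649 (AllS.cons n650 (AllS.cons n651 (AllS.cons n652 (AllS.cons n653 AllS.nil)))))))))))))))))))))))))))))))) c604_1 :)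
theorem x605 : AuxS.{u} (cP4r 1 2) s605 0 a605 := aux_base3 tw236 rfl b605
theorem x605_1 : AuxS.{u} (cP4r 1 2) s605 0 a605_1 := x605
theorem x605_2 : AuxS.{u} (cP4r 1 2) s605 0 a605_2 := x605_1
theorem x605_3 : AuxS.{u} (cP4r 1 2) s605 0 a605_3 := x605_2
theorem n605 : Sound.{u} (cP4r 1 2) s605 0 :=
  (x605_3.fr GamS.nil AllS.nil c605_0 :)
theorem x606 : AuxS.{u} (cP4r 1 2) s606 0 a606 := aux_base3 tw237 rfl b606
theorem x606_1 : AuxS.{u} (cP4r 1 2) s606 0 a606_1 := x606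
theorem x606_2 : AuxS.{u} (cP4r 1 2) s606 0 a606_2 := x606_1
theorem x606_3 : AuxS.{u} (cP4r 1 2) s606 0 a606_3 := x606_2
theorem n606 : Sound.{u} (cP4r 1 2) s606 0 :=
  (x606_3.fr GamS.nil AllS.nil c606_0 :)
theorem x607 : AuxS.{u} (cP4r 1 2) s607 0 a607 := aux_base3 tw238 rfl b607
theorem x607_1 : AuxS.{u} (cP4r 1 2) s607 0 a607_1 := x607
theorem x607_2 : AuxS.{u} (cP4r 1 2) s607 0 a607_2 := x607_1
theorem x607_3 : AuxS.{u} (cP4r 1 2) s607 0 a607_3 := x607_2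
theorem n607 : Sound.{u} (cP4r 1 2) s607 0 :=
  (x607_3.fr GamS.nil AllS.nil c607_0 :)
theorem x608 : AuxS.{u} (cP4r 1 2) s608 0 a608 := aux_base3 tw239 rfl b608
theorem x608_1 : AuxS.{u} (cP4r 1 2) s608 0 a608_1 := x608
theorem x608_2 : AuxS.{u} (cP4r 1 2) s608 0 a608_2 := x608_1
theorem x608_3 : AuxS.{u} (cP4r 1 2) s608 0 a608_3 := x608_2
theorem x608_4 : AuxS.{u} (cP4r 1 2) s608 0 a608_4 := x608_3
theorem n608 : Sound.{u} (cP4r 1 2) s608 0 :=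
  (x608_4.fr GamS.nil AllS.nil c608_0 :)
theorem x609 : AuxS.{u} (cP4r 1 2) s609 0 a609 := aux_base3 tw240 rfl b609
theorem x609_1 : AuxS.{u} (cP4r 1 2) s609 0 a609_1 := x609
theorem x609_2 : AuxS.{u} (cP4r 1 2) s609 0 a609_2 := x609_1
theorem x609_3 : AuxS.{u} (cP4r 1 2) s609 0 a609_3 := x609_2
theorem x609_4 : AuxS.{u} (cP4r 1 2) s609 0 a609_4 := x609_3
theorem n609 : Sound.{u} (cP4r 1 2) s609 0 :=
  (x609_4.fr GamS.nil AllS.nil c609_0 :)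
theorem x610 : AuxS.{u} (cP4r 1 2) s610 0 a610 := aux_base3 tw241 rfl b610
theorem x610_1 : AuxS.{u} (cP4r 1 2) s610 0 a610_1 := x610
theorem x610_2 : AuxS.{u} (cP4r 1 2) s610 0 a610_2 := x610_1
theorem x610_3 : AuxS.{u} (cP4r 1 2) s610 0 a610_3 := x610_2
theorem x610_4 : AuxS.{u} (cP4r 1 2) s610 0 a610_4 := x610_3
theorem n610 : Sound.{u} (cP4r 1 2) s610 0 :=
  (x610_4.fr GamS.nil AllS.nil c610_0 :)
theorem x611 : AuxS.{u} (cP4r 1 2) s611 0 a611 := aux_base3 tw242 rfl b611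
theorem x611_1 : AuxS.{u} (cP4r 1 2) s611 0 a611_1 := x611
theorem x611_2 : AuxS.{u} (cP4r 1 2) s611 0 a611_2 := x611_1
theorem x611_3 : AuxS.{u} (cP4r 1 2) s611 0 a611_3 := x611_2
theorem x611_4 : AuxS.{u} (cP4r 1 2) s611 0 a611_4 := x611_3
theorem n611 : Sound.{u} (cP4r 1 2) s611 0 :=
  (x611_4.fr GamS.nil AllS.nil c611_0 :)
theorem x612 : AuxS.{u} (cP4r 1 2) s612 0 a612 := aux_base3 tw243 rfl b612
theorem x612_1 : AuxS.{u} (cP4r 1 2) s612 0 a612_1 := x612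
theorem x612_2 : AuxS.{u} (cP4r 1 2) s612 0 a612_2 := x612_1
theorem x612_3 : AuxS.{u} (cP4r 1 2) s612 0 a612_3 := x612_2
theorem n612 : Sound.{u} (cP4r 1 2) s612 0 :=
  (x612_3.fr GamS.nil AllS.nil c612_0 :)
theorem x613 : AuxS.{u} (cP4r 1 2) s613 0 a613 := aux_base3 tw244 rfl b613
theorem x613_1 : AuxS.{u} (cP4r 1 2) s613 0 a613_1 := x613
theorem x613_2 : AuxS.{u} (cP4r 1 2) s613 0 a613_2 := x613_1
theorem x613_3 : AuxS.{u} (cP4r 1 2) s613 0 a613_3 := x613_2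
theorem n613 : Sound.{u} (cP4r 1 2) s613 0 :=
  (x613_3.fr GamS.nil AllS.nil c613_0 :)
theorem x614 : AuxS.{u} (cP4r 1 2) s614 0 a614 := aux_base3 tw245 rfl b614
theorem x614_1 : AuxS.{u} (cP4r 1 2) s614 0 a614_1 := x614
theorem x614_2 : AuxS.{u} (cP4r 1 2) s614 0 a614_2 := x614_1
theorem x614_3 : AuxS.{u} (cP4r 1 2) s614 0 a614_3 := x614_2
theorem n614 : Sound.{u} (cP4r 1 2) s614 0 :=
  (x614_3.fr GamS.nil AllS.nil c614_0 :)
theorem x615 : AuxS.{u} (cP4r 1 2) s615 0 a615 := aux_base3 tw246 rfl b615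
theorem x615_1 : AuxS.{u} (cP4r 1 2) s615 0 a615_1 := x615
theorem x615_2 : AuxS.{u} (cP4r 1 2) s615 0 a615_2 := x615_1
theorem x615_3 : AuxS.{u} (cP4r 1 2) s615 0 a615_3 := x615_2
theorem n615 : Sound.{u} (cP4r 1 2) s615 0 :=
  (x615_3.fr GamS.nil AllS.nil c615_0 :)
theorem x616 : AuxS.{u} (cP4r 1 2) s616 0 a616 := aux_base3 tw247 rfl b616
theorem x616_1 : AuxS.{u} (cP4r 1 2) s616 0 a616_1 := x616
theorem x616_2 : AuxS.{u} (cP4r 1 2) s616 0 a616_2 := x616_1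
theorem x616_3 : AuxS.{u} (cP4r 1 2) s616 0 a616_3 := x616_2
theorem x616_4 : AuxS.{u} (cP4r 1 2) s616 0 a616_4 := x616_3
theorem n616 : Sound.{u} (cP4r 1 2) s616 0 :=
  (x616_4.fr GamS.nil AllS.nil c616_0 :)
theorem x617 : AuxS.{u} (cP4r 1 2) s617 0 a617 := aux_base3 tw248 rfl b617
theorem x617_1 : AuxS.{u} (cP4r 1 2) s617 0 a617_1 := x617
theorem x617_2 : AuxS.{u} (cP4r 1 2) s617 0 a617_2 := x617_1
theorem x617_3 : AuxS.{u} (cP4r 1 2) s617 0 a617_3 := x617_2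
theorem x617_4 : AuxS.{u} (cP4r 1 2) s617 0 a617_4 := x617_3
theorem n617 : Sound.{u} (cP4r 1 2) s617 0 :=
  (x617_4.fr GamS.nil AllS.nil c617_0 :)
theorem x618 : AuxS.{u} (cP4r 1 2) s618 0 a618 := aux_base3 tw249 rfl b618
theorem x618_1 : AuxS.{u} (cP4r 1 2) s618 0 a618_1 := x618
theorem x618_2 : AuxS.{u} (cP4r 1 2) s618 0 a618_2 := x618_1
theorem x618_3 : AuxS.{u} (cP4r 1 2) s618 0 a618_3 := x618_2
theorem x618_4 : AuxS.{u} (cP4r 1 2) s618 0 a618_4 := x618_3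
theorem n618 : Sound.{u} (cP4r 1 2) s618 0 :=
  (x618_4.fr GamS.nil AllS.nil c618_0 :)
theorem x619 : AuxS.{u} (cP4r 1 2) s619 0 a619 := aux_base3 tw250 rfl b619
theorem x619_1 : AuxS.{u} (cP4r 1 2) s619 0 a619_1 := x619
theorem x619_2 : AuxS.{u} (cP4r 1 2) s619 0 a619_2 := x619_1
theorem x619_3 : AuxS.{u} (cP4r 1 2) s619 0 a619_3 := x619_2
theorem x619_4 : AuxS.{u} (cP4r 1 2) s619 0 a619_4 := x619_3
theorem n619 : Sound.{u} (cP4r 1 2) s619 0 :=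
  (x619_4.fr GamS.nil AllS.nil c619_0 :)
theorem x620 : AuxS.{u} (cP4r 1 2) s620 0 a620 := aux_base3 tw251 rfl b620
theorem n620 : Sound.{u} (cP4r 1 2) s620 0 :=
  (x620.k3 c620_0 :)
theorem x621 : AuxS.{u} (cP4r 1 2) s621 0 a621 := aux_base3 tw252 rfl b621
theorem n621 : Sound.{u} (cP4r 1 2) s621 0 :=
  (x621.k3 c621_0 :)
theorem x603 : AuxS.{u} (cP4r 1 2) s603 0 a603 := aux_base3 tw225 rfl b603
theorem x603_1 : AuxS.{u} (cP4r 1 2) s603 0 a603_1 := (AuxS.up x603 c603_6 :)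
theorem x603_2 : AuxS.{u} (cP4r 1 2) s603 0 a603_2 := (AuxS.up2 x603_1 c603_7 :)
theorem x603_3 : AuxS.{u} (cP4r 1 2) s603 0 a603_3 := (AuxS.up x603_2 c603_8 :)
theorem p603_0_1 : Phs s603 a603_3 (List.map Prod.fst g603_0) [s604, s605, s606, s607, s608, s609, s610, s611, s612, s613, s614, s615, s616, s617, s618, s619, s620, s621] ct603_0 v603_0 5 w603_0_1 := (Phs.fin c603_1)
theorem p603_0_3 : Phs s603 a603_3 (List.map Prod.fst g603_0) [s604, s605, s606, s607, s608, s609, s610, s611, s612, s613, s614, s615, s616, s617, s618, s619, s620, s621] ct603_0 v603_0 4 w603_0_3 := (Phs.stp c603_2 p603_0_1)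
theorem p603_0_5 : Phs s603 a603_3 (List.map Prod.fst g603_0) [s604, s605, s606, s607, s608, s609, s610, s611, s612, s613, s614, s615, s616, s617, s618, s619, s620, s621] ct603_0 v603_0 1 w603_0_5 := (Phs.stp c603_3 p603_0_3)
theorem n603 : Sound.{u} (cP4r 1 2) s603 0 :=
  (x603_3.ext2 (fun h => absurd h (by decide)) (AuxS.gam x603_3 c603_0) (AllS.cons n604 (AllS.cons n605 (AllS.cons n606 (AllS.cons n607 (AllS.cons n608 (AllS.cons n609 (AllS.cons n610 (AllS.cons n611 (AllS.cons n612 (AllS.cons n613 (AllS.cons n614 (AllS.cons n615 (AllS.cons n616 (AllS.cons n617 (AllS.cons n618 (AllS.cons n619 (AllS.cons n620 (AllS.cons n621 AllS.nil)))))))))))))))))) c603_5 (Phs.stp c603_4 p603_0_5) (Phs.fin (ct := ct603_0) rfl) :)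
theorem x601 : AuxS.{u} (cP4r 1 2) s601 0 a601 := aux_base3 tw233 rfl b601
theorem x601_1 : AuxS.{u} (cP4r 1 2) s601 0 a601_1 := x601
theorem x601_2 : AuxS.{u} (cP4r 1 2) s601 0 a601_2 := x601_1
theorem n601 : Sound.{u} (cP4r 1 2) s601 0 :=
  (x601_2.jump c601_0 c601_1 n603 :)
theorem x602 : AuxS.{u} (cP4r 1 2) s602 0 a602 := aux_base3 tw234 rfl b602
theorem x602_1 : AuxS.{u} (cP4r 1 2) s602 0 a602_1 := (AuxS.up x602 c602_1 :)
theorem n602 : Sound.{u} (cP4r 1 2) s602 0 :=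
  (x602_1.k1 c602_0 :)
theorem x593 : AuxS.{u} (cP4r 1 2) s593 0 a593 := aux_base3 tw225 rfl b593
theorem x593_1 : AuxS.{u} (cP4r 1 2) s593 0 a593_1 := x593
theorem x593_2 : AuxS.{u} (cP4r 1 2) s593 0 a593_2 := x593_1
theorem p593_0_1 : Phs s593 a593_2 (List.map Prod.fst g593_0) [s601, s602] ct593_0 v593_0 5 w593_0_1 := (Phs.fin c593_1)
theorem n593 : Sound.{u} (cP4r 1 2) s593 0 :=
  (x593_2.ext2 (fun h => absurd h (by decide)) (AuxS.gam x593_2 c593_0) (AllS.cons n601 (AllS.cons n602 AllS.nil)) c593_3 (Phs.fin (ct := ct593_0) rfl) (Phs.stp c593_2 p593_0_1) :)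
theorem x594 : AuxS.{u} (cP4r 1 2) s594 0 a594 := aux_base3 tw226 rfl b594
theorem x594_1 : AuxS.{u} (cP4r 1 2) s594 0 a594_1 := x594
theorem x594_2 : AuxS.{u} (cP4r 1 2) s594 0 a594_2 := x594_1
theorem n594 : Sound.{u} (cP4r 1 2) s594 0 :=
  (x594_2.ext2 (fun h => absurd h (by decide)) GamS.nil AllS.nil c594_1 (Phs.fin (ct := ct594_0) rfl) (Phs.fin c594_0) :)
theorem x595 : AuxS.{u} (cP4r 1 2) s595 0 a595 := aux_base3 tw227 rfl b595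
theorem x595_1 : AuxS.{u} (cP4r 1 2) s595 0 a595_1 := (AuxS.up x595 c595_1 :)
theorem n595 : Sound.{u} (cP4r 1 2) s595 0 :=
  (x595_1.k1 c595_0 :)
theorem x596 : AuxS.{u} (cP4r 1 2) s596 0 a596 := aux_base3 tw228 rfl b596
theorem x596_1 : AuxS.{u} (cP4r 1 2) s596 0 a596_1 := (AuxS.up x596 c596_1 :)
theorem n596 : Sound.{u} (cP4r 1 2) s596 0 :=
  (x596_1.k1 c596_0 :)
theorem x597 : AuxS.{u} (cP4r 1 2) s597 0 a597 := aux_base3 tw229 rfl b597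
theorem x597_1 : AuxS.{u} (cP4r 1 2) s597 0 a597_1 := x597
theorem x597_2 : AuxS.{u} (cP4r 1 2) s597 0 a597_2 := x597_1
theorem n597 : Sound.{u} (cP4r 1 2) s597 0 :=
  (x597_2.ext2 (fun h => absurd h (by decide)) GamS.nil AllS.nil c597_1 (Phs.fin (ct := ct597_0) rfl) (Phs.fin c597_0) :)
theorem x701 : AuxS.{u} (cP4r 1 2) s701 0 a701 := aux_base3 tw273 rfl b701
theorem n701 : Sound.{u} (cP4r 1 2) s701 0 :=
  (x701.k4 c701_0 :)
theorem x702 : AuxS.{u} (cP4r 1 2) s702 0 a702 := aux_base3 tw273 rfl b702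
theorem n702 : Sound.{u} (cP4r 1 2) s702 0 :=
  (x702.k4 c702_0 :)
theorem x703 : AuxS.{u} (cP4r 1 2) s703 0 a703 := aux_base3 tw273 rfl b703
theorem n703 : Sound.{u} (cP4r 1 2) s703 0 :=
  (x703.k4 c703_0 :)
theorem x704 : AuxS.{u} (cP4r 1 2) s704 0 a704 := aux_base3 tw273 rfl b704
theorem n704 : Sound.{u} (cP4r 1 2) s704 0 :=
  (x704.k4 c704_0 :)
theorem x705 : AuxS.{u} (cP4r 1 2) s705 0 a705 := aux_base3 tw273 rfl b705
theorem n705 : Sound.{u} (cP4r 1 2) s705 0 :=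
  (x705.k4 c705_0 :)
theorem x706 : AuxS.{u} (cP4r 1 2) s706 0 a706 := aux_base3 tw273 rfl b706
theorem n706 : Sound.{u} (cP4r 1 2) s706 0 :=
  (x706.k4 c706_0 :)
theorem x707 : AuxS.{u} (cP4r 1 2) s707 0 a707 := aux_base3 tw273 rfl b707
theorem n707 : Sound.{u} (cP4r 1 2) s707 0 :=
  (x707.k4 c707_0 :)
theorem x708 : AuxS.{u} (cP4r 1 2) s708 0 a708 := aux_base3 tw273 rfl b708
theorem n708 : Sound.{u} (cP4r 1 2) s708 0 :=
  (x708.k4 c708_0 :)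
theorem x736 : AuxS.{u} (cP4r 1 2) s736 0 a736 := aux_base3 tw294 rfl b736
theorem x736_1 : AuxS.{u} (cP4r 1 2) s736 0 a736_1 := x736
theorem x736_2 : AuxS.{u} (cP4r 1 2) s736 0 a736_2 := x736_1
theorem x736_3 : AuxS.{u} (cP4r 1 2) s736 0 a736_3 := x736_2
theorem n736 : Sound.{u} (cP4r 1 2) s736 0 :=
  (x736_3.jump c736_0 c736_1 n484 :)
theorem x737 : AuxS.{u} (cP4r 1 2) s737 0 a737 := aux_base3 tw294 rfl b737
theorem x737_1 : AuxS.{u} (cP4r 1 2) s737 0 a737_1 := (AuxS.up x737 c737_1 :)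
theorem n737 : Sound.{u} (cP4r 1 2) s737 0 :=
  (x737_1.k7 c737_0 :)
theorem x738 : AuxS.{u} (cP4r 1 2) s738 0 a738 := aux_base3 tw294 rfl b738
theorem x738_1 : AuxS.{u} (cP4r 1 2) s738 0 a738_1 := x738
theorem x738_2 : AuxS.{u} (cP4r 1 2) s738 0 a738_2 := x738_1
theorem x738_3 : AuxS.{u} (cP4r 1 2) s738 0 a738_3 := x738_2
theorem n738 : Sound.{u} (cP4r 1 2) s738 0 :=
  (x738_3.jump c738_0 c738_1 n484 :)
theorem x739 : AuxS.{u} (cP4r 1 2) s739 0 a739 := aux_base3 tw294 rfl b739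
theorem x739_1 : AuxS.{u} (cP4r 1 2) s739 0 a739_1 := (AuxS.up x739 c739_1 :)
theorem n739 : Sound.{u} (cP4r 1 2) s739 0 :=
  (x739_1.k7 c739_0 :)
theorem x735 : AuxS.{u} (cP4r 1 2) s735 0 a735 := aux_base3 tw294 rfl b735
theorem x735_1 : AuxS.{u} (cP4r 1 2) s735 0 a735_1 := x735
theorem x735_2 : AuxS.{u} (cP4r 1 2) s735 0 a735_2 := x735_1
theorem x735_3 : AuxS.{u} (cP4r 1 2) s735 0 a735_3 := x735_2
theorem x735_4 : AuxS.{u} (cP4r 1 2) s735 0 a735_4 := x735_3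
theorem n735 : Sound.{u} (cP4r 1 2) s735 0 :=
  (x735_4.rho (AllS.cons n736 (AllS.cons n737 (AllS.cons n738 (AllS.cons n739 AllS.nil)))) c735_0 :)
theorem x733 : AuxS.{u} (cP4r 1 2) s733 0 a733 := aux_base3 tw291 rfl b733
theorem x733_1 : AuxS.{u} (cP4r 1 2) s733 0 a733_1 := x733
theorem x733_2 : AuxS.{u} (cP4r 1 2) s733 0 a733_2 := x733_1
theorem x733_3 : AuxS.{u} (cP4r 1 2) s733 0 a733_3 := x733_2
theorem x733_4 : AuxS.{u} (cP4r 1 2) s733 0 a733_4 := x733_3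
theorem n733 : Sound.{u} (cP4r 1 2) s733 0 :=
  (x733_4.jump2 c733_0 c733_1 n735 :)
theorem x734 : AuxS.{u} (cP4r 1 2) s734 0 a734 := aux_base3 tw292 rfl b734
theorem n734 : Sound.{u} (cP4r 1 2) s734 0 :=
  (x734.k4 c734_0 :)
theorem x709 : AuxS.{u} (cP4r 1 2) s709 0 a709 := aux_base3 tw273 rfl b709
theorem x709_1 : AuxS.{u} (cP4r 1 2) s709 0 a709_1 := x709
theorem n709 : Sound.{u} (cP4r 1 2) s709 0 :=
  (x709_1.fr2 GamS.nil (AllS.cons n733 (AllS.cons n734 AllS.nil)) c709_0 :)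
theorem x710 : AuxS.{u} (cP4r 1 2) s710 0 a710 := aux_base3 tw273 rfl b710
theorem n710 : Sound.{u} (cP4r 1 2) s710 0 :=
  (x710.k4 c710_0 :)
theorem x711 : AuxS.{u} (cP4r 1 2) s711 0 a711 := aux_base3 tw273 rfl b711
theorem n711 : Sound.{u} (cP4r 1 2) s711 0 :=
  (x711.k4 c711_0 :)
theorem x712 : AuxS.{u} (cP4r 1 2) s712 0 a712 := aux_base3 tw273 rfl b712
theorem n712 : Sound.{u} (cP4r 1 2) s712 0 :=
  (x712.k4 c712_0 :)
theorem x713 : AuxS.{u} (cP4r 1 2) s713 0 a713 := aux_base3 tw273 rfl b713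
theorem n713 : Sound.{u} (cP4r 1 2) s713 0 :=
  (x713.k4 c713_0 :)
theorem x714 : AuxS.{u} (cP4r 1 2) s714 0 a714 := aux_base3 tw273 rfl b714
theorem n714 : Sound.{u} (cP4r 1 2) s714 0 :=
  (x714.k4 c714_0 :)
theorem x715 : AuxS.{u} (cP4r 1 2) s715 0 a715 := aux_base3 tw273 rfl b715
theorem n715 : Sound.{u} (cP4r 1 2) s715 0 :=
  (x715.k4 c715_0 :)
theorem x716 : AuxS.{u} (cP4r 1 2) s716 0 a716 := aux_base3 tw273 rfl b716
theorem n716 : Sound.{u} (cP4r 1 2) s716 0 :=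
  (x716.k4 c716_0 :)
theorem x717 : AuxS.{u} (cP4r 1 2) s717 0 a717 := aux_base3 tw273 rfl b717
theorem n717 : Sound.{u} (cP4r 1 2) s717 0 :=
  (x717.k4 c717_0 :)
theorem x718 : AuxS.{u} (cP4r 1 2) s718 0 a718 := aux_base3 tw273 rfl b718
theorem n718 : Sound.{u} (cP4r 1 2) s718 0 :=
  (x718.k4 c718_0 :)
theorem x719 : AuxS.{u} (cP4r 1 2) s719 0 a719 := aux_base3 tw273 rfl b719
theorem n719 : Sound.{u} (cP4r 1 2) s719 0 :=
  (x719.k4 c719_0 :)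
theorem x720 : AuxS.{u} (cP4r 1 2) s720 0 a720 := aux_base3 tw273 rfl b720
theorem n720 : Sound.{u} (cP4r 1 2) s720 0 :=
  (x720.k4 c720_0 :)
theorem x721 : AuxS.{u} (cP4r 1 2) s721 0 a721 := aux_base3 tw273 rfl b721
theorem n721 : Sound.{u} (cP4r 1 2) s721 0 :=
  (x721.k4 c721_0 :)
theorem x722 : AuxS.{u} (cP4r 1 2) s722 0 a722 := aux_base3 tw273 rfl b722
theorem n722 : Sound.{u} (cP4r 1 2) s722 0 :=
  (x722.k4 c722_0 :)
theorem x723 : AuxS.{u} (cP4r 1 2) s723 0 a723 := aux_base3 tw273 rfl b723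
theorem n723 : Sound.{u} (cP4r 1 2) s723 0 :=
  (x723.k4 c723_0 :)
theorem x724 : AuxS.{u} (cP4r 1 2) s724 0 a724 := aux_base3 tw273 rfl b724
theorem n724 : Sound.{u} (cP4r 1 2) s724 0 :=
  (x724.k4 c724_0 :)
theorem x725 : AuxS.{u} (cP4r 1 2) s725 0 a725 := aux_base3 tw273 rfl b725
theorem n725 : Sound.{u} (cP4r 1 2) s725 0 :=
  (x725.k4 c725_0 :)
theorem x726 : AuxS.{u} (cP4r 1 2) s726 0 a726 := aux_base3 tw273 rfl b726
theorem n726 : Sound.{u} (cP4r 1 2) s726 0 :=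
  (x726.k4 c726_0 :)
theorem x727 : AuxS.{u} (cP4r 1 2) s727 0 a727 := aux_base3 tw273 rfl b727
theorem n727 : Sound.{u} (cP4r 1 2) s727 0 :=
  (x727.k4 c727_0 :)
theorem x728 : AuxS.{u} (cP4r 1 2) s728 0 a728 := aux_base3 tw273 rfl b728
theorem n728 : Sound.{u} (cP4r 1 2) s728 0 :=
  (x728.k4 c728_0 :)
theorem x729 : AuxS.{u} (cP4r 1 2) s729 0 a729 := aux_base3 tw273 rfl b729
theorem n729 : Sound.{u} (cP4r 1 2) s729 0 :=
  (x729.k4 c729_0 :)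
theorem x730 : AuxS.{u} (cP4r 1 2) s730 0 a730 := aux_base3 tw273 rfl b730
theorem n730 : Sound.{u} (cP4r 1 2) s730 0 :=
  (x730.k4 c730_0 :)
theorem x731 : AuxS.{u} (cP4r 1 2) s731 0 a731 := aux_base3 tw273 rfl b731
theorem n731 : Sound.{u} (cP4r 1 2) s731 0 :=
  (x731.k4 c731_0 :)
theorem x732 : AuxS.{u} (cP4r 1 2) s732 0 a732 := aux_base3 tw273 rfl b732
theorem n732 : Sound.{u} (cP4r 1 2) s732 0 :=
  (x732.k4 c732_0 :)
theorem x683 : AuxS.{u} (cP4r 1 2) s683 0 a683 := aux_base3 tw273 rfl b683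
theorem x683_1 : AuxS.{u} (cP4r 1 2) s683 0 a683_1 := x683
theorem n683 : Sound.{u} (cP4r 1 2) s683 0 :=
  (x683_1.fr (AuxS.gam x683_1 c683_0) (AllS.cons n701 (AllS.cons n702 (AllS.cons n703 (AllS.cons n704 (AllS.cons n705 (AllS.cons n706 (AllS.cons n707 (AllS.cons n708 (AllS.cons n709 (AllS.cons n710 (AllS.cons n711 (AllS.cons n712 (AllS.cons n713 (AllS.cons n714 (AllS.cons n715 (AllS.cons n716 (AllS.cons n717 (AllS.cons n718 (AllS.cons n719 (AllS.cons n720 (AllS.cons n721 (AllS.cons n722 (AllS.cons n723 (AllS.cons n724 (AllS.cons n725 (AllS.cons n726 (AllS.cons n727 (AllS.cons n728 (AllS.cons n729 (AllS.cons n730 (AllS.cons n731 (AllS.cons n732 AllS.nil)))))))))))))))))))))))))))))))) c683_1 :)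
theorem x684 : AuxS.{u} (cP4r 1 2) s684 0 a684 := aux_base3 tw274 rfl b684
theorem x684_1 : AuxS.{u} (cP4r 1 2) s684 0 a684_1 := x684
theorem n684 : Sound.{u} (cP4r 1 2) s684 0 :=
  (x684_1.fr GamS.nil AllS.nil c684_0 :)
theorem x685 : AuxS.{u} (cP4r 1 2) s685 0 a685 := aux_base3 tw275 rfl b685
theorem x685_1 : AuxS.{u} (cP4r 1 2) s685 0 a685_1 := x685
theorem n685 : Sound.{u} (cP4r 1 2) s685 0 :=
  (x685_1.fr GamS.nil AllS.nil c685_0 :)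
theorem x686 : AuxS.{u} (cP4r 1 2) s686 0 a686 := aux_base3 tw276 rfl b686
theorem x686_1 : AuxS.{u} (cP4r 1 2) s686 0 a686_1 := x686
theorem n686 : Sound.{u} (cP4r 1 2) s686 0 :=
  (x686_1.fr GamS.nil AllS.nil c686_0 :)
theorem x687 : AuxS.{u} (cP4r 1 2) s687 0 a687 := aux_base3 tw277 rfl b687
theorem n687 : Sound.{u} (cP4r 1 2) s687 0 :=
  (x687.k4 c687_0 :)
theorem x688 : AuxS.{u} (cP4r 1 2) s688 0 a688 := aux_base3 tw278 rfl b688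
theorem n688 : Sound.{u} (cP4r 1 2) s688 0 :=
  (x688.k4 c688_0 :)
theorem x689 : AuxS.{u} (cP4r 1 2) s689 0 a689 := aux_base3 tw279 rfl b689
theorem n689 : Sound.{u} (cP4r 1 2) s689 0 :=
  (x689.k4 c689_0 :)
theorem x690 : AuxS.{u} (cP4r 1 2) s690 0 a690 := aux_base3 tw280 rfl b690
theorem n690 : Sound.{u} (cP4r 1 2) s690 0 :=
  (x690.k4 c690_0 :)
theorem x691 : AuxS.{u} (cP4r 1 2) s691 0 a691 := aux_base3 tw281 rfl b691
theorem x691_1 : AuxS.{u} (cP4r 1 2) s691 0 a691_1 := x691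
theorem n691 : Sound.{u} (cP4r 1 2) s691 0 :=
  (x691_1.fr GamS.nil AllS.nil c691_0 :)
theorem x692 : AuxS.{u} (cP4r 1 2) s692 0 a692 := aux_base3 tw282 rfl b692
theorem x692_1 : AuxS.{u} (cP4r 1 2) s692 0 a692_1 := x692
theorem n692 : Sound.{u} (cP4r 1 2) s692 0 :=
  (x692_1.fr GamS.nil AllS.nil c692_0 :)
theorem x693 : AuxS.{u} (cP4r 1 2) s693 0 a693 := aux_base3 tw283 rfl b693
theorem x693_1 : AuxS.{u} (cP4r 1 2) s693 0 a693_1 := x693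
theorem n693 : Sound.{u} (cP4r 1 2) s693 0 :=
  (x693_1.fr GamS.nil AllS.nil c693_0 :)
theorem x694 : AuxS.{u} (cP4r 1 2) s694 0 a694 := aux_base3 tw284 rfl b694
theorem x694_1 : AuxS.{u} (cP4r 1 2) s694 0 a694_1 := x694
theorem n694 : Sound.{u} (cP4r 1 2) s694 0 :=
  (x694_1.fr GamS.nil AllS.nil c694_0 :)
theorem x695 : AuxS.{u} (cP4r 1 2) s695 0 a695 := aux_base3 tw285 rfl b695
theorem n695 : Sound.{u} (cP4r 1 2) s695 0 :=
  (x695.k4 c695_0 :)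
theorem x696 : AuxS.{u} (cP4r 1 2) s696 0 a696 := aux_base3 tw286 rfl b696
theorem n696 : Sound.{u} (cP4r 1 2) s696 0 :=
  (x696.k4 c696_0 :)
theorem x697 : AuxS.{u} (cP4r 1 2) s697 0 a697 := aux_base3 tw287 rfl b697
theorem n697 : Sound.{u} (cP4r 1 2) s697 0 :=
  (x697.k4 c697_0 :)
theorem x698 : AuxS.{u} (cP4r 1 2) s698 0 a698 := aux_base3 tw288 rfl b698
theorem n698 : Sound.{u} (cP4r 1 2) s698 0 :=
  (x698.k4 c698_0 :)
theorem x699 : AuxS.{u} (cP4r 1 2) s699 0 a699 := aux_base3 tw289 rfl b699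
theorem n699 : Sound.{u} (cP4r 1 2) s699 0 :=
  (x699.k3 c699_0 :)
theorem x700 : AuxS.{u} (cP4r 1 2) s700 0 a700 := aux_base3 tw290 rfl b700
theorem n700 : Sound.{u} (cP4r 1 2) s700 0 :=
  (x700.k3 c700_0 :)
theorem x682 : AuxS.{u} (cP4r 1 2) s682 0 a682 := aux_base3 tw230 rfl b682
theorem x682_1 : AuxS.{u} (cP4r 1 2) s682 0 a682_1 := (AuxS.up x682 c682_6 :)
theorem x682_2 : AuxS.{u} (cP4r 1 2) s682 0 a682_2 := (AuxS.up2 x682_1 c682_7 :)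
theorem p682_0_1 : Phs s682 a682_2 (List.map Prod.fst g682_0) [s683, s684, s685, s686, s687, s688, s689, s690, s691, s692, s693, s694, s695, s696, s697, s698, s699, s700] ct682_0 v682_0 5 w682_0_1 := (Phs.fin c682_1)
theorem p682_0_3 : Phs s682 a682_2 (List.map Prod.fst g682_0) [s683, s684, s685, s686, s687, s688, s689, s690, s691, s692, s693, s694, s695, s696, s697, s698, s699, s700] ct682_0 v682_0 4 w682_0_3 := (Phs.stp c682_2 p682_0_1)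
theorem p682_0_5 : Phs s682 a682_2 (List.map Prod.fst g682_0) [s683, s684, s685, s686, s687, s688, s689, s690, s691, s692, s693, s694, s695, s696, s697, s698, s699, s700] ct682_0 v682_0 1 w682_0_5 := (Phs.stp c682_3 p682_0_3)
theorem n682 : Sound.{u} (cP4r 1 2) s682 0 :=
  (x682_2.ext2 (fun h => absurd h (by decide)) (AuxS.gam x682_2 c682_0) (AllS.cons n683 (AllS.cons n684 (AllS.cons n685 (AllS.cons n686 (AllS.cons n687 (AllS.cons n688 (AllS.cons n689 (AllS.cons n690 (AllS.cons n691 (AllS.cons n692 (AllS.cons n693 (AllS.cons n694 (AllS.cons n695 (AllS.cons n696 (AllS.cons n697 (AllS.cons n698 (AllS.cons n699 (AllS.cons n700 AllS.nil)))))))))))))))))) c682_5 (Phs.stp c682_4 p682_0_5) (Phs.fin (ct := ct682_0) rfl) :)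
theorem x680 : AuxS.{u} (cP4r 1 2) s680 0 a680 := aux_base3 tw271 rfl b680
theorem x680_1 : AuxS.{u} (cP4r 1 2) s680 0 a680_1 := x680
theorem n680 : Sound.{u} (cP4r 1 2) s680 0 :=
  (x680_1.jump c680_0 c680_1 n682 :)
theorem x681 : AuxS.{u} (cP4r 1 2) s681 0 a681 := aux_base3 tw272 rfl b681
theorem x681_1 : AuxS.{u} (cP4r 1 2) s681 0 a681_1 := (AuxS.up x681 c681_1 :)
theorem n681 : Sound.{u} (cP4r 1 2) s681 0 :=
  (x681_1.k1 c681_0 :)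
theorem x598 : AuxS.{u} (cP4r 1 2) s598 0 a598 := aux_base3 tw230 rfl b598
theorem x598_1 : AuxS.{u} (cP4r 1 2) s598 0 a598_1 := x598
theorem x598_2 : AuxS.{u} (cP4r 1 2) s598 0 a598_2 := x598_1
theorem p598_0_1 : Phs s598 a598_2 (List.map Prod.fst g598_0) [s680, s681] ct598_0 v598_0 5 w598_0_1 := (Phs.fin c598_1)
theorem n598 : Sound.{u} (cP4r 1 2) s598 0 :=
  (x598_2.ext2 (fun h => absurd h (by decide)) (AuxS.gam x598_2 c598_0) (AllS.cons n680 (AllS.cons n681 AllS.nil)) c598_3 (Phs.fin (ct := ct598_0) rfl) (Phs.stp c598_2 p598_0_1) :)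
theorem x599 : AuxS.{u} (cP4r 1 2) s599 0 a599 := aux_base3 tw231 rfl b599
theorem x599_1 : AuxS.{u} (cP4r 1 2) s599 0 a599_1 := (AuxS.up x599 c599_1 :)
theorem n599 : Sound.{u} (cP4r 1 2) s599 0 :=
  (x599_1.k1 c599_0 :)
theorem x600 : AuxS.{u} (cP4r 1 2) s600 0 a600 := aux_base3 tw232 rfl b600
theorem x600_1 : AuxS.{u} (cP4r 1 2) s600 0 a600_1 := (AuxS.up x600 c600_1 :)
theorem n600 : Sound.{u} (cP4r 1 2) s600 0 :=
  (x600_1.k1 c600_0 :)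
theorem x17 : AuxS.{u} (cP4r 1 2) s17 0 a17 := aux_base3 tw17 rfl b17
theorem x17_1 : AuxS.{u} (cP4r 1 2) s17 0 a17_1 := (AuxS.up x17 c17_4 :)
theorem p17_0_1 : Phs s17 a17_1 [] [s593, s594, s595, s596, s597, s598, s599, s600] ct17_0 v17_0 4 w17_0_1 := (Phs.fin c17_0)
theorem p17_0_3 : Phs s17 a17_1 [] [s593, s594, s595, s596, s597, s598, s599, s600] ct17_0 v17_0 1 w17_0_3 := (Phs.stp c17_1 p17_0_1)
theorem n17 : Sound.{u} (cP4r 1 2) s17 0 :=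
  (x17_1.ext2 (fun h => absurd h (by decide)) GamS.nil (AllS.cons n593 (AllS.cons n594 (AllS.cons n595 (AllS.cons n596 (AllS.cons n597 (AllS.cons n598 (AllS.cons n599 (AllS.cons n600 AllS.nil)))))))) c17_3 (Phs.stp c17_2 p17_0_3) (Phs.fin (ct := ct17_0) rfl) :)
theorem x751 : AuxS.{u} (cP4r 1 2) s751 0 a751 := aux_base3 tw305 rfl b751
theorem x751_1 : AuxS.{u} (cP4r 1 2) s751 0 a751_1 := x751
theorem x751_2 : AuxS.{u} (cP4r 1 2) s751 0 a751_2 := x751_1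
theorem n751 : Sound.{u} (cP4r 1 2) s751 0 :=
  (x751_2.fr GamS.nil AllS.nil c751_0 :)
theorem x752 : AuxS.{u} (cP4r 1 2) s752 0 a752 := aux_base3 tw306 rfl b752
theorem x752_1 : AuxS.{u} (cP4r 1 2) s752 0 a752_1 := x752
theorem x752_2 : AuxS.{u} (cP4r 1 2) s752 0 a752_2 := x752_1
theorem n752 : Sound.{u} (cP4r 1 2) s752 0 :=
  (x752_2.fr GamS.nil AllS.nil c752_0 :)
theorem x753 : AuxS.{u} (cP4r 1 2) s753 0 a753 := aux_base3 tw307 rfl b753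
theorem x753_1 : AuxS.{u} (cP4r 1 2) s753 0 a753_1 := x753
theorem x753_2 : AuxS.{u} (cP4r 1 2) s753 0 a753_2 := x753_1
theorem n753 : Sound.{u} (cP4r 1 2) s753 0 :=
  (x753_2.fr GamS.nil AllS.nil c753_0 :)
theorem x754 : AuxS.{u} (cP4r 1 2) s754 0 a754 := aux_base3 tw308 rfl b754
theorem x754_1 : AuxS.{u} (cP4r 1 2) s754 0 a754_1 := x754
theorem x754_2 : AuxS.{u} (cP4r 1 2) s754 0 a754_2 := x754_1
theorem n754 : Sound.{u} (cP4r 1 2) s754 0 :=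
  (x754_2.fr GamS.nil AllS.nil c754_0 :)
theorem x755 : AuxS.{u} (cP4r 1 2) s755 0 a755 := aux_base3 tw309 rfl b755
theorem x755_1 : AuxS.{u} (cP4r 1 2) s755 0 a755_1 := x755
theorem x755_2 : AuxS.{u} (cP4r 1 2) s755 0 a755_2 := x755_1
theorem n755 : Sound.{u} (cP4r 1 2) s755 0 :=
  (x755_2.fr GamS.nil AllS.nil c755_0 :)
theorem x756 : AuxS.{u} (cP4r 1 2) s756 0 a756 := aux_base3 tw310 rfl b756
theorem x756_1 : AuxS.{u} (cP4r 1 2) s756 0 a756_1 := x756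
theorem x756_2 : AuxS.{u} (cP4r 1 2) s756 0 a756_2 := x756_1
theorem n756 : Sound.{u} (cP4r 1 2) s756 0 :=
  (x756_2.fr GamS.nil AllS.nil c756_0 :)
theorem x757 : AuxS.{u} (cP4r 1 2) s757 0 a757 := aux_base3 tw311 rfl b757
theorem x757_1 : AuxS.{u} (cP4r 1 2) s757 0 a757_1 := x757
theorem x757_2 : AuxS.{u} (cP4r 1 2) s757 0 a757_2 := x757_1
theorem n757 : Sound.{u} (cP4r 1 2) s757 0 :=
  (x757_2.fr GamS.nil AllS.nil c757_0 :)
theorem x758 : AuxS.{u} (cP4r 1 2) s758 0 a758 := aux_base3 tw312 rfl b758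
theorem x758_1 : AuxS.{u} (cP4r 1 2) s758 0 a758_1 := x758
theorem x758_2 : AuxS.{u} (cP4r 1 2) s758 0 a758_2 := x758_1
theorem n758 : Sound.{u} (cP4r 1 2) s758 0 :=
  (x758_2.fr GamS.nil AllS.nil c758_0 :)
theorem x759 : AuxS.{u} (cP4r 1 2) s759 0 a759 := aux_base3 tw313 rfl b759
theorem x759_1 : AuxS.{u} (cP4r 1 2) s759 0 a759_1 := x759
theorem x759_2 : AuxS.{u} (cP4r 1 2) s759 0 a759_2 := x759_1
theorem n759 : Sound.{u} (cP4r 1 2) s759 0 :=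
  (x759_2.fr GamS.nil AllS.nil c759_0 :)
theorem x760 : AuxS.{u} (cP4r 1 2) s760 0 a760 := aux_base3 tw314 rfl b760
theorem x760_1 : AuxS.{u} (cP4r 1 2) s760 0 a760_1 := x760
theorem x760_2 : AuxS.{u} (cP4r 1 2) s760 0 a760_2 := x760_1
theorem n760 : Sound.{u} (cP4r 1 2) s760 0 :=
  (x760_2.fr GamS.nil AllS.nil c760_0 :)
theorem x761 : AuxS.{u} (cP4r 1 2) s761 0 a761 := aux_base3 tw315 rfl b761
theorem x761_1 : AuxS.{u} (cP4r 1 2) s761 0 a761_1 := x761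
theorem x761_2 : AuxS.{u} (cP4r 1 2) s761 0 a761_2 := x761_1
theorem n761 : Sound.{u} (cP4r 1 2) s761 0 :=
  (x761_2.fr GamS.nil AllS.nil c761_0 :)
theorem x762 : AuxS.{u} (cP4r 1 2) s762 0 a762 := aux_base3 tw316 rfl b762
theorem x762_1 : AuxS.{u} (cP4r 1 2) s762 0 a762_1 := x762
theorem x762_2 : AuxS.{u} (cP4r 1 2) s762 0 a762_2 := x762_1
theorem n762 : Sound.{u} (cP4r 1 2) s762 0 :=
  (x762_2.fr GamS.nil AllS.nil c762_0 :)
theorem x763 : AuxS.{u} (cP4r 1 2) s763 0 a763 := aux_base3 tw317 rfl b763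
theorem x763_1 : AuxS.{u} (cP4r 1 2) s763 0 a763_1 := x763
theorem x763_2 : AuxS.{u} (cP4r 1 2) s763 0 a763_2 := x763_1
theorem n763 : Sound.{u} (cP4r 1 2) s763 0 :=
  (x763_2.fr GamS.nil AllS.nil c763_0 :)
theorem x764 : AuxS.{u} (cP4r 1 2) s764 0 a764 := aux_base3 tw318 rfl b764
theorem x764_1 : AuxS.{u} (cP4r 1 2) s764 0 a764_1 := x764
theorem x764_2 : AuxS.{u} (cP4r 1 2) s764 0 a764_2 := x764_1
theorem n764 : Sound.{u} (cP4r 1 2) s764 0 :=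
  (x764_2.fr GamS.nil AllS.nil c764_0 :)
theorem x765 : AuxS.{u} (cP4r 1 2) s765 0 a765 := aux_base3 tw319 rfl b765
theorem x765_1 : AuxS.{u} (cP4r 1 2) s765 0 a765_1 := x765
theorem x765_2 : AuxS.{u} (cP4r 1 2) s765 0 a765_2 := x765_1
theorem n765 : Sound.{u} (cP4r 1 2) s765 0 :=
  (x765_2.fr GamS.nil AllS.nil c765_0 :)
theorem x766 : AuxS.{u} (cP4r 1 2) s766 0 a766 := aux_base3 tw320 rfl b766
theorem x766_1 : AuxS.{u} (cP4r 1 2) s766 0 a766_1 := x766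
theorem x766_2 : AuxS.{u} (cP4r 1 2) s766 0 a766_2 := x766_1
theorem n766 : Sound.{u} (cP4r 1 2) s766 0 :=
  (x766_2.fr GamS.nil AllS.nil c766_0 :)
theorem x767 : AuxS.{u} (cP4r 1 2) s767 0 a767 := aux_base3 tw321 rfl b767
theorem n767 : Sound.{u} (cP4r 1 2) s767 0 :=
  (x767.k3 c767_0 :)
theorem x768 : AuxS.{u} (cP4r 1 2) s768 0 a768 := aux_base3 tw322 rfl b768
theorem n768 : Sound.{u} (cP4r 1 2) s768 0 :=
  (x768.k3 c768_0 :)
theorem x750 : AuxS.{u} (cP4r 1 2) s750 0 a750 := aux_base3 tw295 rfl b750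
theorem x750_1 : AuxS.{u} (cP4r 1 2) s750 0 a750_1 := (AuxS.up x750 c750_6 :)
theorem x750_2 : AuxS.{u} (cP4r 1 2) s750 0 a750_2 := (AuxS.up2 x750_1 c750_7 :)
theorem x750_3 : AuxS.{u} (cP4r 1 2) s750 0 a750_3 := (AuxS.up x750_2 c750_8 :)
theorem p750_0_1 : Phs s750 a750_3 (List.map Prod.fst g750_0) [s751, s752, s753, s754, s755, s756, s757, s758, s759, s760, s761, s762, s763, s764, s765, s766, s767, s768] ct750_0 v750_0 5 w750_0_1 := (Phs.fin c750_1)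
theorem p750_0_3 : Phs s750 a750_3 (List.map Prod.fst g750_0) [s751, s752, s753, s754, s755, s756, s757, s758, s759, s760, s761, s762, s763, s764, s765, s766, s767, s768] ct750_0 v750_0 4 w750_0_3 := (Phs.stp c750_2 p750_0_1)
theorem p750_0_5 : Phs s750 a750_3 (List.map Prod.fst g750_0) [s751, s752, s753, s754, s755, s756, s757, s758, s759, s760, s761, s762, s763, s764, s765, s766, s767, s768] ct750_0 v750_0 1 w750_0_5 := (Phs.stp c750_3 p750_0_3)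
theorem n750 : Sound.{u} (cP4r 1 2) s750 0 :=
  (x750_3.ext2 (fun h => absurd h (by decide)) (AuxS.gam x750_3 c750_0) (AllS.cons n751 (AllS.cons n752 (AllS.cons n753 (AllS.cons n754 (AllS.cons n755 (AllS.cons n756 (AllS.cons n757 (AllS.cons n758 (AllS.cons n759 (AllS.cons n760 (AllS.cons n761 (AllS.cons n762 (AllS.cons n763 (AllS.cons n764 (AllS.cons n765 (AllS.cons n766 (AllS.cons n767 (AllS.cons n768 AllS.nil)))))))))))))))))) c750_5 (Phs.stp c750_4 p750_0_5) (Phs.fin (ct := ct750_0) rfl) :)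
theorem x748 : AuxS.{u} (cP4r 1 2) s748 0 a748 := aux_base3 tw303 rfl b748
theorem x748_1 : AuxS.{u} (cP4r 1 2) s748 0 a748_1 := x748
theorem x748_2 : AuxS.{u} (cP4r 1 2) s748 0 a748_2 := x748_1
theorem n748 : Sound.{u} (cP4r 1 2) s748 0 :=
  (x748_2.jump c748_0 c748_1 n750 :)
theorem x749 : AuxS.{u} (cP4r 1 2) s749 0 a749 := aux_base3 tw304 rfl b749
theorem x749_1 : AuxS.{u} (cP4r 1 2) s749 0 a749_1 := (AuxS.up x749 c749_1 :)
theorem n749 : Sound.{u} (cP4r 1 2) s749 0 :=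
  (x749_1.k1 c749_0 :)
theorem x740 : AuxS.{u} (cP4r 1 2) s740 0 a740 := aux_base3 tw295 rfl b740
theorem x740_1 : AuxS.{u} (cP4r 1 2) s740 0 a740_1 := x740
theorem x740_2 : AuxS.{u} (cP4r 1 2) s740 0 a740_2 := x740_1
theorem p740_0_1 : Phs s740 a740_2 (List.map Prod.fst g740_0) [s748, s749] ct740_0 v740_0 5 w740_0_1 := (Phs.fin c740_1)
theorem n740 : Sound.{u} (cP4r 1 2) s740 0 :=
  (x740_2.ext2 (fun h => absurd h (by decide)) (AuxS.gam x740_2 c740_0) (AllS.cons n748 (AllS.cons n749 AllS.nil)) c740_3 (Phs.fin (ct := ct740_0) rfl) (Phs.stp c740_2 p740_0_1) :)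
theorem x741 : AuxS.{u} (cP4r 1 2) s741 0 a741 := aux_base3 tw296 rfl b741
theorem x741_1 : AuxS.{u} (cP4r 1 2) s741 0 a741_1 := x741
theorem x741_2 : AuxS.{u} (cP4r 1 2) s741 0 a741_2 := x741_1
theorem n741 : Sound.{u} (cP4r 1 2) s741 0 :=
  (x741_2.ext2 (fun h => absurd h (by decide)) GamS.nil AllS.nil c741_1 (Phs.fin (ct := ct741_0) rfl) (Phs.fin c741_0) :)
theorem x742 : AuxS.{u} (cP4r 1 2) s742 0 a742 := aux_base3 tw297 rfl b742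
theorem x742_1 : AuxS.{u} (cP4r 1 2) s742 0 a742_1 := (AuxS.up x742 c742_1 :)
theorem n742 : Sound.{u} (cP4r 1 2) s742 0 :=
  (x742_1.k1 c742_0 :)
theorem x743 : AuxS.{u} (cP4r 1 2) s743 0 a743 := aux_base3 tw298 rfl b743
theorem x743_1 : AuxS.{u} (cP4r 1 2) s743 0 a743_1 := (AuxS.up x743 c743_1 :)
theorem n743 : Sound.{u} (cP4r 1 2) s743 0 :=
  (x743_1.k1 c743_0 :)
theorem x744 : AuxS.{u} (cP4r 1 2) s744 0 a744 := aux_base3 tw299 rfl b744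
theorem x744_1 : AuxS.{u} (cP4r 1 2) s744 0 a744_1 := x744
theorem x744_2 : AuxS.{u} (cP4r 1 2) s744 0 a744_2 := x744_1
theorem n744 : Sound.{u} (cP4r 1 2) s744 0 :=
  (x744_2.ext2 (fun h => absurd h (by decide)) GamS.nil AllS.nil c744_1 (Phs.fin (ct := ct744_0) rfl) (Phs.fin c744_0) :)
theorem x772 : AuxS.{u} (cP4r 1 2) s772 0 a772 := aux_base3 tw325 rfl b772
theorem x772_1 : AuxS.{u} (cP4r 1 2) s772 0 a772_1 := x772
theorem x772_2 : AuxS.{u} (cP4r 1 2) s772 0 a772_2 := x772_1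
theorem n772 : Sound.{u} (cP4r 1 2) s772 0 :=
  (x772_2.fr GamS.nil AllS.nil c772_0 :)
theorem x773 : AuxS.{u} (cP4r 1 2) s773 0 a773 := aux_base3 tw326 rfl b773
theorem x773_1 : AuxS.{u} (cP4r 1 2) s773 0 a773_1 := x773
theorem x773_2 : AuxS.{u} (cP4r 1 2) s773 0 a773_2 := x773_1
theorem n773 : Sound.{u} (cP4r 1 2) s773 0 :=
  (x773_2.fr GamS.nil AllS.nil c773_0 :)
theorem x774 : AuxS.{u} (cP4r 1 2) s774 0 a774 := aux_base3 tw327 rfl b774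
theorem x774_1 : AuxS.{u} (cP4r 1 2) s774 0 a774_1 := x774
theorem x774_2 : AuxS.{u} (cP4r 1 2) s774 0 a774_2 := x774_1
theorem n774 : Sound.{u} (cP4r 1 2) s774 0 :=
  (x774_2.fr GamS.nil AllS.nil c774_0 :)
theorem x775 : AuxS.{u} (cP4r 1 2) s775 0 a775 := aux_base3 tw328 rfl b775
theorem x775_1 : AuxS.{u} (cP4r 1 2) s775 0 a775_1 := x775
theorem x775_2 : AuxS.{u} (cP4r 1 2) s775 0 a775_2 := x775_1
theorem n775 : Sound.{u} (cP4r 1 2) s775 0 :=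
  (x775_2.fr GamS.nil AllS.nil c775_0 :)
theorem x776 : AuxS.{u} (cP4r 1 2) s776 0 a776 := aux_base3 tw329 rfl b776
theorem n776 : Sound.{u} (cP4r 1 2) s776 0 :=
  (x776.k4 c776_0 :)
theorem x777 : AuxS.{u} (cP4r 1 2) s777 0 a777 := aux_base3 tw330 rfl b777
theorem n777 : Sound.{u} (cP4r 1 2) s777 0 :=
  (x777.k4 c777_0 :)
theorem x778 : AuxS.{u} (cP4r 1 2) s778 0 a778 := aux_base3 tw331 rfl b778
theorem n778 : Sound.{u} (cP4r 1 2) s778 0 :=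
  (x778.k4 c778_0 :)
theorem x779 : AuxS.{u} (cP4r 1 2) s779 0 a779 := aux_base3 tw332 rfl b779
theorem n779 : Sound.{u} (cP4r 1 2) s779 0 :=
  (x779.k4 c779_0 :)
theorem x780 : AuxS.{u} (cP4r 1 2) s780 0 a780 := aux_base3 tw333 rfl b780
theorem x780_1 : AuxS.{u} (cP4r 1 2) s780 0 a780_1 := x780
theorem x780_2 : AuxS.{u} (cP4r 1 2) s780 0 a780_2 := x780_1
theorem n780 : Sound.{u} (cP4r 1 2) s780 0 :=
  (x780_2.fr GamS.nil AllS.nil c780_0 :)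
theorem x781 : AuxS.{u} (cP4r 1 2) s781 0 a781 := aux_base3 tw334 rfl b781
theorem x781_1 : AuxS.{u} (cP4r 1 2) s781 0 a781_1 := x781
theorem x781_2 : AuxS.{u} (cP4r 1 2) s781 0 a781_2 := x781_1
theorem n781 : Sound.{u} (cP4r 1 2) s781 0 :=
  (x781_2.fr GamS.nil AllS.nil c781_0 :)
theorem x782 : AuxS.{u} (cP4r 1 2) s782 0 a782 := aux_base3 tw335 rfl b782
theorem x782_1 : AuxS.{u} (cP4r 1 2) s782 0 a782_1 := x782
theorem x782_2 : AuxS.{u} (cP4r 1 2) s782 0 a782_2 := x782_1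
theorem n782 : Sound.{u} (cP4r 1 2) s782 0 :=
  (x782_2.fr GamS.nil AllS.nil c782_0 :)
theorem x783 : AuxS.{u} (cP4r 1 2) s783 0 a783 := aux_base3 tw336 rfl b783
theorem x783_1 : AuxS.{u} (cP4r 1 2) s783 0 a783_1 := x783
theorem x783_2 : AuxS.{u} (cP4r 1 2) s783 0 a783_2 := x783_1
theorem n783 : Sound.{u} (cP4r 1 2) s783 0 :=
  (x783_2.fr GamS.nil AllS.nil c783_0 :)
theorem x784 : AuxS.{u} (cP4r 1 2) s784 0 a784 := aux_base3 tw337 rfl b784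
theorem n784 : Sound.{u} (cP4r 1 2) s784 0 :=
  (x784.k4 c784_0 :)
theorem x785 : AuxS.{u} (cP4r 1 2) s785 0 a785 := aux_base3 tw338 rfl b785
theorem n785 : Sound.{u} (cP4r 1 2) s785 0 :=
  (x785.k4 c785_0 :)
theorem x786 : AuxS.{u} (cP4r 1 2) s786 0 a786 := aux_base3 tw339 rfl b786
theorem n786 : Sound.{u} (cP4r 1 2) s786 0 :=
  (x786.k4 c786_0 :)
theorem x787 : AuxS.{u} (cP4r 1 2) s787 0 a787 := aux_base3 tw340 rfl b787
theorem n787 : Sound.{u} (cP4r 1 2) s787 0 :=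
  (x787.k4 c787_0 :)
theorem x788 : AuxS.{u} (cP4r 1 2) s788 0 a788 := aux_base3 tw341 rfl b788
theorem n788 : Sound.{u} (cP4r 1 2) s788 0 :=
  (x788.k3 c788_0 :)
theorem x789 : AuxS.{u} (cP4r 1 2) s789 0 a789 := aux_base3 tw342 rfl b789
theorem n789 : Sound.{u} (cP4r 1 2) s789 0 :=
  (x789.k3 c789_0 :)
theorem x771 : AuxS.{u} (cP4r 1 2) s771 0 a771 := aux_base3 tw300 rfl b771
theorem x771_1 : AuxS.{u} (cP4r 1 2) s771 0 a771_1 := (AuxS.up x771 c771_6 :)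
theorem x771_2 : AuxS.{u} (cP4r 1 2) s771 0 a771_2 := (AuxS.up2 x771_1 c771_7 :)
theorem x771_3 : AuxS.{u} (cP4r 1 2) s771 0 a771_3 := x771_2
theorem p771_0_1 : Phs s771 a771_3 (List.map Prod.fst g771_0) [s772, s773, s774, s775, s776, s777, s778, s779, s780, s781, s782, s783, s784, s785, s786, s787, s788, s789] ct771_0 v771_0 5 w771_0_1 := (Phs.fin c771_1)
theorem p771_0_3 : Phs s771 a771_3 (List.map Prod.fst g771_0) [s772, s773, s774, s775, s776, s777, s778, s779, s780, s781, s782, s783, s784, s785, s786, s787, s788, s789] ct771_0 v771_0 4 w771_0_3 := (Phs.stp c771_2 p771_0_1)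
theorem p771_0_5 : Phs s771 a771_3 (List.map Prod.fst g771_0) [s772, s773, s774, s775, s776, s777, s778, s779, s780, s781, s782, s783, s784, s785, s786, s787, s788, s789] ct771_0 v771_0 1 w771_0_5 := (Phs.stp c771_3 p771_0_3)
theorem n771 : Sound.{u} (cP4r 1 2) s771 0 :=
  (x771_3.ext2 (fun h => absurd h (by decide)) (AuxS.gam x771_3 c771_0) (AllS.cons n772 (AllS.cons n773 (AllS.cons n774 (AllS.cons n775 (AllS.cons n776 (AllS.cons n777 (AllS.cons n778 (AllS.cons n779 (AllS.cons n780 (AllS.cons n781 (AllS.cons n782 (AllS.cons n783 (AllS.cons n784 (AllS.cons n785 (AllS.cons n786 (AllS.cons n787 (AllS.cons n788 (AllS.cons n789 AllS.nil)))))))))))))))))) c771_5 (Phs.stp c771_4 p771_0_5) (Phs.fin (ct := ct771_0) rfl) :)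
theorem x769 : AuxS.{u} (cP4r 1 2) s769 0 a769 := aux_base3 tw323 rfl b769
theorem x769_1 : AuxS.{u} (cP4r 1 2) s769 0 a769_1 := x769
theorem x769_2 : AuxS.{u} (cP4r 1 2) s769 0 a769_2 := x769_1
theorem n769 : Sound.{u} (cP4r 1 2) s769 0 :=
  (x769_2.jump c769_0 c769_1 n771 :)
theorem x770 : AuxS.{u} (cP4r 1 2) s770 0 a770 := aux_base3 tw324 rfl b770
theorem x770_1 : AuxS.{u} (cP4r 1 2) s770 0 a770_1 := (AuxS.up x770 c770_1 :)
theorem n770 : Sound.{u} (cP4r 1 2) s770 0 :=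
  (x770_1.k1 c770_0 :)
theorem x745 : AuxS.{u} (cP4r 1 2) s745 0 a745 := aux_base3 tw300 rfl b745
theorem x745_1 : AuxS.{u} (cP4r 1 2) s745 0 a745_1 := x745
theorem x745_2 : AuxS.{u} (cP4r 1 2) s745 0 a745_2 := x745_1
theorem p745_0_1 : Phs s745 a745_2 (List.map Prod.fst g745_0) [s769, s770] ct745_0 v745_0 5 w745_0_1 := (Phs.fin c745_1)
theorem n745 : Sound.{u} (cP4r 1 2) s745 0 :=
  (x745_2.ext2 (fun h => absurd h (by decide)) (AuxS.gam x745_2 c745_0) (AllS.cons n769 (AllS.cons n770 AllS.nil)) c745_3 (Phs.fin (ct := ct745_0) rfl) (Phs.stp c745_2 p745_0_1) :)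
theorem x746 : AuxS.{u} (cP4r 1 2) s746 0 a746 := aux_base3 tw301 rfl b746
theorem x746_1 : AuxS.{u} (cP4r 1 2) s746 0 a746_1 := (AuxS.up x746 c746_1 :)
theorem n746 : Sound.{u} (cP4r 1 2) s746 0 :=
  (x746_1.k1 c746_0 :)
theorem x747 : AuxS.{u} (cP4r 1 2) s747 0 a747 := aux_base3 tw302 rfl b747
theorem x747_1 : AuxS.{u} (cP4r 1 2) s747 0 a747_1 := (AuxS.up x747 c747_1 :)
theorem n747 : Sound.{u} (cP4r 1 2) s747 0 :=
  (x747_1.k1 c747_0 :)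
theorem x18 : AuxS.{u} (cP4r 1 2) s18 0 a18 := aux_base3 tw18 rfl b18
theorem x18_1 : AuxS.{u} (cP4r 1 2) s18 0 a18_1 := (AuxS.up x18 c18_4 :)
theorem p18_0_1 : Phs s18 a18_1 [] [s740, s741, s742, s743, s744, s745, s746, s747] ct18_0 v18_0 4 w18_0_1 := (Phs.fin c18_0)
theorem p18_0_3 : Phs s18 a18_1 [] [s740, s741, s742, s743, s744, s745, s746, s747] ct18_0 v18_0 1 w18_0_3 := (Phs.stp c18_1 p18_0_1)
theorem n18 : Sound.{u} (cP4r 1 2) s18 0 :=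
  (x18_1.ext2 (fun h => absurd h (by decide)) GamS.nil (AllS.cons n740 (AllS.cons n741 (AllS.cons n742 (AllS.cons n743 (AllS.cons n744 (AllS.cons n745 (AllS.cons n746 (AllS.cons n747 AllS.nil)))))))) c18_3 (Phs.stp c18_2 p18_0_3) (Phs.fin (ct := ct18_0) rfl) :)
theorem x19 : AuxS.{u} (cP4r 1 2) s19 0 a19 := aux_base3 tw19 rfl b19
theorem n19 : Sound.{u} (cP4r 1 2) s19 0 :=
  (x19.k3 c19_0 :)
theorem x20 : AuxS.{u} (cP4r 1 2) s20 0 a20 := aux_base3 tw20 rfl b20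
theorem n20 : Sound.{u} (cP4r 1 2) s20 0 :=
  (x20.k3 c20_0 :)
theorem x790 : AuxS.{u} (cP4r 1 2) s790 0 a790 := aux_base3 tw343 rfl b790
theorem x790_1 : AuxS.{u} (cP4r 1 2) s790 0 a790_1 := (AuxS.up x790 c790_1 :)
theorem x790_2p : AuxS.{u} (cP4r 1 2) s790 0 a790_2p := (AuxS.up x790_1 c790_2 :)
theorem x790_2 : AuxS.{u} (cP4r 1 2) s790 0 a790_2 := (AuxS.up2 x790_2p c790_3 :)
theorem n790 : Sound.{u} (cP4r 1 2) s790 0 :=
  (x790_2.k7 c790_0 :)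
theorem x791 : AuxS.{u} (cP4r 1 2) s791 0 a791 := aux_base3 tw344 rfl b791
theorem x791_1 : AuxS.{u} (cP4r 1 2) s791 0 a791_1 := (AuxS.up x791 c791_1 :)
theorem n791 : Sound.{u} (cP4r 1 2) s791 0 :=
  (x791_1.k1 c791_0 :)
theorem x792 : AuxS.{u} (cP4r 1 2) s792 0 a792 := aux_base3 tw345 rfl b792
theorem x792_1 : AuxS.{u} (cP4r 1 2) s792 0 a792_1 := (AuxS.up x792 c792_1 :)
theorem n792 : Sound.{u} (cP4r 1 2) s792 0 :=
  (x792_1.k1 c792_0 :)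
theorem x800 : AuxS.{u} (cP4r 1 2) s800 0 a800 := aux_base3 tw346 rfl b800
theorem x800_1 : AuxS.{u} (cP4r 1 2) s800 0 a800_1 := (AuxS.up x800 c800_5 :)
theorem x800_2 : AuxS.{u} (cP4r 1 2) s800 0 a800_2 := (AuxS.up2 x800_1 c800_6 :)
theorem x800_3 : AuxS.{u} (cP4r 1 2) s800 0 a800_3 := x800_2
theorem x800_4 : AuxS.{u} (cP4r 1 2) s800 0 a800_4 := x800_3
theorem x800_5 : AuxS.{u} (cP4r 1 2) s800 0 a800_5 := x800_4
theorem x800_6 : AuxS.{u} (cP4r 1 2) s800 0 a800_6 := x800_5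
theorem p800_0_1 : Phs s800 a800_6 [] [] ct800_0 v800_0 5 w800_0_1 := (Phs.fin c800_0)
theorem p800_0_3 : Phs s800 a800_6 [] [] ct800_0 v800_0 4 w800_0_3 := (Phs.stp c800_1 p800_0_1)
theorem p800_0_5 : Phs s800 a800_6 [] [] ct800_0 v800_0 1 w800_0_5 := (Phs.stp c800_2 p800_0_3)
theorem n800 : Sound.{u} (cP4r 1 2) s800 0 :=
  (x800_6.ext2 (fun h => absurd h (by decide)) GamS.nil AllS.nil c800_4 (Phs.stp c800_3 p800_0_5) (Phs.fin (ct := ct800_0) rfl) :)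
theorem x798 : AuxS.{u} (cP4r 1 2) s798 0 a798 := aux_base3 tw351 rfl b798
theorem x798_1 : AuxS.{u} (cP4r 1 2) s798 0 a798_1 := x798
theorem x798_2 : AuxS.{u} (cP4r 1 2) s798 0 a798_2 := x798_1
theorem x798_3 : AuxS.{u} (cP4r 1 2) s798 0 a798_3 := x798_2
theorem n798 : Sound.{u} (cP4r 1 2) s798 0 :=
  (x798_3.jump c798_0 c798_1 n800 :)
theorem x799 : AuxS.{u} (cP4r 1 2) s799 0 a799 := aux_base3 tw352 rfl b799
theorem x799_1 : AuxS.{u} (cP4r 1 2) s799 0 a799_1 := (AuxS.up x799 c799_1 :)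
theorem n799 : Sound.{u} (cP4r 1 2) s799 0 :=
  (x799_1.k1 c799_0 :)
theorem x793 : AuxS.{u} (cP4r 1 2) s793 0 a793 := aux_base3 tw346 rfl b793
theorem x793_1 : AuxS.{u} (cP4r 1 2) s793 0 a793_1 := x793
theorem x793_2 : AuxS.{u} (cP4r 1 2) s793 0 a793_2 := x793_1
theorem x793_3 : AuxS.{u} (cP4r 1 2) s793 0 a793_3 := x793_2
theorem x793_4 : AuxS.{u} (cP4r 1 2) s793 0 a793_4 := x793_3
theorem p793_0_1 : Phs s793 a793_4 (List.map Prod.fst g793_0) [s798, s799] ct793_0 v793_0 5 w793_0_1 := (Phs.fin c793_1)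
theorem n793 : Sound.{u} (cP4r 1 2) s793 0 :=
  (x793_4.ext2 (fun h => absurd h (by decide)) (AuxS.gam x793_4 c793_0) (AllS.cons n798 (AllS.cons n799 AllS.nil)) c793_3 (Phs.fin (ct := ct793_0) rfl) (Phs.stp c793_2 p793_0_1) :)
theorem x794 : AuxS.{u} (cP4r 1 2) s794 0 a794 := aux_base3 tw347 rfl b794
theorem x794_1 : AuxS.{u} (cP4r 1 2) s794 0 a794_1 := (AuxS.up x794 c794_1 :)
theorem n794 : Sound.{u} (cP4r 1 2) s794 0 :=
  (x794_1.k1 c794_0 :)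
theorem x795 : AuxS.{u} (cP4r 1 2) s795 0 a795 := aux_base3 tw348 rfl b795
theorem x795_1 : AuxS.{u} (cP4r 1 2) s795 0 a795_1 := (AuxS.up x795 c795_1 :)
theorem x795_2p : AuxS.{u} (cP4r 1 2) s795 0 a795_2p := (AuxS.up x795_1 c795_2 :)
theorem x795_2 : AuxS.{u} (cP4r 1 2) s795 0 a795_2 := (AuxS.up2 x795_2p c795_3 :)
theorem n795 : Sound.{u} (cP4r 1 2) s795 0 :=
  (x795_2.k7 c795_0 :)
theorem x803 : AuxS.{u} (cP4r 1 2) s803 0 a803 := aux_base3 tw353 rfl b803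
theorem x803_1 : AuxS.{u} (cP4r 1 2) s803 0 a803_1 := (AuxS.up x803 c803_1 :)
theorem x803_2 : AuxS.{u} (cP4r 1 2) s803 0 a803_2 := (AuxS.up2 x803_1 c803_2 :)
theorem n803 : Sound.{u} (cP4r 1 2) s803 0 :=
  (x803_2.k7 c803_0 :)
theorem x804 : AuxS.{u} (cP4r 1 2) s804 0 a804 := aux_base3 tw353 rfl b804
theorem x804_1 : AuxS.{u} (cP4r 1 2) s804 0 a804_1 := (AuxS.up x804 c804_1 :)
theorem x804_2 : AuxS.{u} (cP4r 1 2) s804 0 a804_2 := (AuxS.up2 x804_1 c804_2 :)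
theorem n804 : Sound.{u} (cP4r 1 2) s804 0 :=
  (x804_2.k7 c804_0 :)
theorem x805 : AuxS.{u} (cP4r 1 2) s805 0 a805 := aux_base3 tw353 rfl b805
theorem x805_1 : AuxS.{u} (cP4r 1 2) s805 0 a805_1 := (AuxS.up x805 c805_1 :)
theorem x805_2 : AuxS.{u} (cP4r 1 2) s805 0 a805_2 := (AuxS.up2 x805_1 c805_2 :)
theorem n805 : Sound.{u} (cP4r 1 2) s805 0 :=
  (x805_2.k7 c805_0 :)
theorem x806 : AuxS.{u} (cP4r 1 2) s806 0 a806 := aux_base3 tw353 rfl b806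
theorem x806_1 : AuxS.{u} (cP4r 1 2) s806 0 a806_1 := (AuxS.up x806 c806_1 :)
theorem x806_2 : AuxS.{u} (cP4r 1 2) s806 0 a806_2 := (AuxS.up2 x806_1 c806_2 :)
theorem n806 : Sound.{u} (cP4r 1 2) s806 0 :=
  (x806_2.k7 c806_0 :)
theorem x801 : AuxS.{u} (cP4r 1 2) s801 0 a801 := aux_base3 tw353 rfl b801
theorem x801_1 : AuxS.{u} (cP4r 1 2) s801 0 a801_1 := x801
theorem x801_2 : AuxS.{u} (cP4r 1 2) s801 0 a801_2 := x801_1
theorem n801 : Sound.{u} (cP4r 1 2) s801 0 :=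
  (x801_2.rho (AllS.cons n803 (AllS.cons n804 (AllS.cons n805 (AllS.cons n806 AllS.nil)))) c801_0 :)
theorem x802 : AuxS.{u} (cP4r 1 2) s802 0 a802 := aux_base3 tw354 rfl b802
theorem x802_1 : AuxS.{u} (cP4r 1 2) s802 0 a802_1 := (AuxS.up x802 c802_1 :)
theorem n802 : Sound.{u} (cP4r 1 2) s802 0 :=
  (x802_1.k1 c802_0 :)
theorem x796 : AuxS.{u} (cP4r 1 2) s796 0 a796 := aux_base3 tw349 rfl b796
theorem x796_1 : AuxS.{u} (cP4r 1 2) s796 0 a796_1 := x796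
theorem x796_2 : AuxS.{u} (cP4r 1 2) s796 0 a796_2 := x796_1
theorem p796_0_1 : Phs s796 a796_2 (List.map Prod.fst g796_0) [s801, s802] ct796_0 v796_0 5 w796_0_1 := (Phs.fin c796_1)
theorem n796 : Sound.{u} (cP4r 1 2) s796 0 :=
  (x796_2.ext2 (fun h => absurd h (by decide)) (AuxS.gam x796_2 c796_0) (AllS.cons n801 (AllS.cons n802 AllS.nil)) c796_3 (Phs.fin (ct := ct796_0) rfl) (Phs.stp c796_2 p796_0_1) :)
theorem x797 : AuxS.{u} (cP4r 1 2) s797 0 a797 := aux_base3 tw350 rfl b797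
theorem x797_1 : AuxS.{u} (cP4r 1 2) s797 0 a797_1 := (AuxS.up x797 c797_1 :)
theorem n797 : Sound.{u} (cP4r 1 2) s797 0 :=
  (x797_1.k1 c797_0 :)
theorem x21 : AuxS.{u} (cP4r 1 2) s21 0 a21 := aux_base3 tw21 rfl b21
theorem x21_1 : AuxS.{u} (cP4r 1 2) s21 0 a21_1 := (AuxS.up x21 c21_4 :)
theorem p21_0_1 : Phs s21 a21_1 [] [s790, s791, s792, s793, s794, s795, s796, s797] ct21_0 v21_0 4 w21_0_1 := (Phs.fin c21_0)
theorem p21_0_3 : Phs s21 a21_1 [] [s790, s791, s792, s793, s794, s795, s796, s797] ct21_0 v21_0 1 w21_0_3 := (Phs.stp c21_1 p21_0_1)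
theorem n21 : Sound.{u} (cP4r 1 2) s21 0 :=
  (x21_1.ext2 (fun h => absurd h (by decide)) GamS.nil (AllS.cons n790 (AllS.cons n791 (AllS.cons n792 (AllS.cons n793 (AllS.cons n794 (AllS.cons n795 (AllS.cons n796 (AllS.cons n797 AllS.nil)))))))) c21_3 (Phs.stp c21_2 p21_0_3) (Phs.fin (ct := ct21_0) rfl) :)
theorem x22 : AuxS.{u} (cP4r 1 2) s22 0 a22 := aux_base3 tw22 rfl b22
theorem x22_1 : AuxS.{u} (cP4r 1 2) s22 0 a22_1 := (AuxS.up x22 c22_1 :)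
theorem n22 : Sound.{u} (cP4r 1 2) s22 0 :=
  (x22_1.k1 c22_0 :)
theorem x23 : AuxS.{u} (cP4r 1 2) s23 0 a23 := aux_base3 tw23 rfl b23
theorem n23 : Sound.{u} (cP4r 1 2) s23 0 :=
  (x23.k3 c23_0 :)
theorem x24 : AuxS.{u} (cP4r 1 2) s24 0 a24 := aux_base3 tw24 rfl b24
theorem n24 : Sound.{u} (cP4r 1 2) s24 0 :=
  (x24.k3 c24_0 :)
theorem x885 : AuxS.{u} (cP4r 1 2) s885 0 a885 := aux_base3 tw399 rfl b885
theorem x885_1 : AuxS.{u} (cP4r 1 2) s885 0 a885_1 := x885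
theorem x885_2 : AuxS.{u} (cP4r 1 2) s885 0 a885_2 := x885_1
theorem x885_3 : AuxS.{u} (cP4r 1 2) s885 0 a885_3 := x885_2
theorem n885 : Sound.{u} (cP4r 1 2) s885 0 :=
  (x885_3.jump c885_0 c885_1 n113 :)
theorem x886 : AuxS.{u} (cP4r 1 2) s886 0 a886 := aux_base3 tw399 rfl b886
theorem x886_1 : AuxS.{u} (cP4r 1 2) s886 0 a886_1 := (AuxS.up x886 c886_1 :)
theorem x886_2 : AuxS.{u} (cP4r 1 2) s886 0 a886_2 := x886_1
theorem n886 : Sound.{u} (cP4r 1 2) s886 0 :=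
  (x886_2.k7 c886_0 :)
theorem x887 : AuxS.{u} (cP4r 1 2) s887 0 a887 := aux_base3 tw399 rfl b887
theorem x887_1 : AuxS.{u} (cP4r 1 2) s887 0 a887_1 := x887
theorem x887_2 : AuxS.{u} (cP4r 1 2) s887 0 a887_2 := x887_1
theorem x887_3 : AuxS.{u} (cP4r 1 2) s887 0 a887_3 := x887_2
theorem n887 : Sound.{u} (cP4r 1 2) s887 0 :=
  (x887_3.jump c887_0 c887_1 n113 :)
theorem x888 : AuxS.{u} (cP4r 1 2) s888 0 a888 := aux_base3 tw399 rfl b888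
theorem x888_1 : AuxS.{u} (cP4r 1 2) s888 0 a888_1 := (AuxS.up x888 c888_1 :)
theorem x888_2 : AuxS.{u} (cP4r 1 2) s888 0 a888_2 := x888_1
theorem n888 : Sound.{u} (cP4r 1 2) s888 0 :=
  (x888_2.k7 c888_0 :)
theorem x884 : AuxS.{u} (cP4r 1 2) s884 0 a884 := aux_base3 tw399 rfl b884
theorem x884_1 : AuxS.{u} (cP4r 1 2) s884 0 a884_1 := x884
theorem x884_2 : AuxS.{u} (cP4r 1 2) s884 0 a884_2 := x884_1
theorem x884_3 : AuxS.{u} (cP4r 1 2) s884 0 a884_3 := x884_2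
theorem n884 : Sound.{u} (cP4r 1 2) s884 0 :=
  (x884_3.rho (AllS.cons n885 (AllS.cons n886 (AllS.cons n887 (AllS.cons n888 AllS.nil)))) c884_0 :)
theorem x868 : AuxS.{u} (cP4r 1 2) s868 0 a868 := aux_base3 tw383 rfl b868
theorem x868_1 : AuxS.{u} (cP4r 1 2) s868 0 a868_1 := x868
theorem x868_2 : AuxS.{u} (cP4r 1 2) s868 0 a868_2 := x868_1
theorem x868_3 : AuxS.{u} (cP4r 1 2) s868 0 a868_3 := x868_2
theorem n868 : Sound.{u} (cP4r 1 2) s868 0 :=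
  (x868_3.fr2 (AuxS.gam x868_3 c868_0) (AllS.cons n884 AllS.nil) c868_1 :)
theorem x869 : AuxS.{u} (cP4r 1 2) s869 0 a869 := aux_base3 tw384 rfl b869
theorem x869_1 : AuxS.{u} (cP4r 1 2) s869 0 a869_1 := x869
theorem x869_2 : AuxS.{u} (cP4r 1 2) s869 0 a869_2 := x869_1
theorem n869 : Sound.{u} (cP4r 1 2) s869 0 :=
  (x869_2.fr2 GamS.nil AllS.nil c869_0 :)
theorem x870 : AuxS.{u} (cP4r 1 2) s870 0 a870 := aux_base3 tw385 rfl b870
theorem x870_1 : AuxS.{u} (cP4r 1 2) s870 0 a870_1 := x870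
theorem x870_2 : AuxS.{u} (cP4r 1 2) s870 0 a870_2 := x870_1
theorem n870 : Sound.{u} (cP4r 1 2) s870 0 :=
  (x870_2.fr2 GamS.nil AllS.nil c870_0 :)
theorem x871 : AuxS.{u} (cP4r 1 2) s871 0 a871 := aux_base3 tw386 rfl b871
theorem x871_1 : AuxS.{u} (cP4r 1 2) s871 0 a871_1 := x871
theorem x871_2 : AuxS.{u} (cP4r 1 2) s871 0 a871_2 := x871_1
theorem n871 : Sound.{u} (cP4r 1 2) s871 0 :=
  (x871_2.fr2 GamS.nil AllS.nil c871_0 :)
theorem x872 : AuxS.{u} (cP4r 1 2) s872 0 a872 := aux_base3 tw387 rfl b872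
theorem x872_1 : AuxS.{u} (cP4r 1 2) s872 0 a872_1 := x872
theorem x872_2 : AuxS.{u} (cP4r 1 2) s872 0 a872_2 := x872_1
theorem x872_3 : AuxS.{u} (cP4r 1 2) s872 0 a872_3 := x872_2
theorem n872 : Sound.{u} (cP4r 1 2) s872 0 :=
  (x872_3.fr2 GamS.nil AllS.nil c872_0 :)
theorem x890 : AuxS.{u} (cP4r 1 2) s890 0 a890 := aux_base3 tw400 rfl b890
theorem x890_1 : AuxS.{u} (cP4r 1 2) s890 0 a890_1 := (AuxS.up x890 c890_1 :)
theorem x890_2 : AuxS.{u} (cP4r 1 2) s890 0 a890_2 := x890_1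
theorem n890 : Sound.{u} (cP4r 1 2) s890 0 :=
  (x890_2.k7 c890_0 :)
theorem x891 : AuxS.{u} (cP4r 1 2) s891 0 a891 := aux_base3 tw400 rfl b891
theorem x891_1 : AuxS.{u} (cP4r 1 2) s891 0 a891_1 := (AuxS.up x891 c891_1 :)
theorem x891_2 : AuxS.{u} (cP4r 1 2) s891 0 a891_2 := x891_1
theorem n891 : Sound.{u} (cP4r 1 2) s891 0 :=
  (x891_2.k7 c891_0 :)
theorem x892 : AuxS.{u} (cP4r 1 2) s892 0 a892 := aux_base3 tw400 rfl b892
theorem x892_1 : AuxS.{u} (cP4r 1 2) s892 0 a892_1 := (AuxS.up x892 c892_1 :)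
theorem x892_2 : AuxS.{u} (cP4r 1 2) s892 0 a892_2 := x892_1
theorem n892 : Sound.{u} (cP4r 1 2) s892 0 :=
  (x892_2.k7 c892_0 :)
theorem x893 : AuxS.{u} (cP4r 1 2) s893 0 a893 := aux_base3 tw400 rfl b893
theorem x893_1 : AuxS.{u} (cP4r 1 2) s893 0 a893_1 := (AuxS.up x893 c893_1 :)
theorem x893_2 : AuxS.{u} (cP4r 1 2) s893 0 a893_2 := x893_1
theorem n893 : Sound.{u} (cP4r 1 2) s893 0 :=
  (x893_2.k7 c893_0 :)
theorem x889 : AuxS.{u} (cP4r 1 2) s889 0 a889 := aux_base3 tw400 rfl b889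
theorem x889_1 : AuxS.{u} (cP4r 1 2) s889 0 a889_1 := x889
theorem x889_2 : AuxS.{u} (cP4r 1 2) s889 0 a889_2 := x889_1
theorem x889_3 : AuxS.{u} (cP4r 1 2) s889 0 a889_3 := x889_2
theorem n889 : Sound.{u} (cP4r 1 2) s889 0 :=
  (x889_3.rho (AllS.cons n890 (AllS.cons n891 (AllS.cons n892 (AllS.cons n893 AllS.nil)))) c889_0 :)
theorem x873 : AuxS.{u} (cP4r 1 2) s873 0 a873 := aux_base3 tw388 rfl b873
theorem x873_1 : AuxS.{u} (cP4r 1 2) s873 0 a873_1 := x873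
theorem x873_2 : AuxS.{u} (cP4r 1 2) s873 0 a873_2 := x873_1
theorem x873_3 : AuxS.{u} (cP4r 1 2) s873 0 a873_3 := x873_2
theorem n873 : Sound.{u} (cP4r 1 2) s873 0 :=
  (x873_3.fr2 (AuxS.gam x873_3 c873_0) (AllS.cons n889 AllS.nil) c873_1 :)
theorem x874 : AuxS.{u} (cP4r 1 2) s874 0 a874 := aux_base3 tw389 rfl b874
theorem x874_1 : AuxS.{u} (cP4r 1 2) s874 0 a874_1 := x874
theorem x874_2 : AuxS.{u} (cP4r 1 2) s874 0 a874_2 := x874_1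
theorem n874 : Sound.{u} (cP4r 1 2) s874 0 :=
  (x874_2.fr2 GamS.nil AllS.nil c874_0 :)
theorem x875 : AuxS.{u} (cP4r 1 2) s875 0 a875 := aux_base3 tw390 rfl b875
theorem x875_1 : AuxS.{u} (cP4r 1 2) s875 0 a875_1 := x875
theorem x875_2 : AuxS.{u} (cP4r 1 2) s875 0 a875_2 := x875_1
theorem n875 : Sound.{u} (cP4r 1 2) s875 0 :=
  (x875_2.fr2 GamS.nil AllS.nil c875_0 :)
theorem x876 : AuxS.{u} (cP4r 1 2) s876 0 a876 := aux_base3 tw391 rfl b876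
theorem x876_1 : AuxS.{u} (cP4r 1 2) s876 0 a876_1 := x876
theorem x876_2 : AuxS.{u} (cP4r 1 2) s876 0 a876_2 := x876_1
theorem x876_3 : AuxS.{u} (cP4r 1 2) s876 0 a876_3 := x876_2
theorem n876 : Sound.{u} (cP4r 1 2) s876 0 :=
  (x876_3.fr2 GamS.nil AllS.nil c876_0 :)
theorem x877 : AuxS.{u} (cP4r 1 2) s877 0 a877 := aux_base3 tw392 rfl b877
theorem x877_1 : AuxS.{u} (cP4r 1 2) s877 0 a877_1 := x877
theorem x877_2 : AuxS.{u} (cP4r 1 2) s877 0 a877_2 := x877_1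
theorem n877 : Sound.{u} (cP4r 1 2) s877 0 :=
  (x877_2.fr2 GamS.nil AllS.nil c877_0 :)
theorem x878 : AuxS.{u} (cP4r 1 2) s878 0 a878 := aux_base3 tw393 rfl b878
theorem x878_1 : AuxS.{u} (cP4r 1 2) s878 0 a878_1 := x878
theorem x878_2 : AuxS.{u} (cP4r 1 2) s878 0 a878_2 := x878_1
theorem x878_3 : AuxS.{u} (cP4r 1 2) s878 0 a878_3 := x878_2
theorem n878 : Sound.{u} (cP4r 1 2) s878 0 :=
  (x878_3.fr2 GamS.nil AllS.nil c878_0 :)
theorem x879 : AuxS.{u} (cP4r 1 2) s879 0 a879 := aux_base3 tw394 rfl b879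
theorem x879_1 : AuxS.{u} (cP4r 1 2) s879 0 a879_1 := x879
theorem x879_2 : AuxS.{u} (cP4r 1 2) s879 0 a879_2 := x879_1
theorem n879 : Sound.{u} (cP4r 1 2) s879 0 :=
  (x879_2.fr2 GamS.nil AllS.nil c879_0 :)
theorem x880 : AuxS.{u} (cP4r 1 2) s880 0 a880 := aux_base3 tw395 rfl b880
theorem x880_1 : AuxS.{u} (cP4r 1 2) s880 0 a880_1 := x880
theorem x880_2 : AuxS.{u} (cP4r 1 2) s880 0 a880_2 := x880_1
theorem x880_3 : AuxS.{u} (cP4r 1 2) s880 0 a880_3 := x880_2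
theorem n880 : Sound.{u} (cP4r 1 2) s880 0 :=
  (x880_3.fr2 GamS.nil AllS.nil c880_0 :)
theorem x881 : AuxS.{u} (cP4r 1 2) s881 0 a881 := aux_base3 tw396 rfl b881
theorem x881_1 : AuxS.{u} (cP4r 1 2) s881 0 a881_1 := x881
theorem x881_2 : AuxS.{u} (cP4r 1 2) s881 0 a881_2 := x881_1
theorem n881 : Sound.{u} (cP4r 1 2) s881 0 :=
  (x881_2.fr2 GamS.nil AllS.nil c881_0 :)
theorem x882 : AuxS.{u} (cP4r 1 2) s882 0 a882 := aux_base3 tw397 rfl b882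
theorem x882_1 : AuxS.{u} (cP4r 1 2) s882 0 a882_1 := x882
theorem x882_2 : AuxS.{u} (cP4r 1 2) s882 0 a882_2 := x882_1
theorem n882 : Sound.{u} (cP4r 1 2) s882 0 :=
  (x882_2.fr2 GamS.nil AllS.nil c882_0 :)
theorem x883 : AuxS.{u} (cP4r 1 2) s883 0 a883 := aux_base3 tw398 rfl b883
theorem x883_1 : AuxS.{u} (cP4r 1 2) s883 0 a883_1 := x883
theorem x883_2 : AuxS.{u} (cP4r 1 2) s883 0 a883_2 := x883_1
theorem x883_3 : AuxS.{u} (cP4r 1 2) s883 0 a883_3 := x883_2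
theorem n883 : Sound.{u} (cP4r 1 2) s883 0 :=
  (x883_3.fr2 GamS.nil AllS.nil c883_0 :)
theorem x836 : AuxS.{u} (cP4r 1 2) s836 0 a836 := aux_base3 tw365 rfl b836
theorem x836_1 : AuxS.{u} (cP4r 1 2) s836 0 a836_1 := x836
theorem x836_2 : AuxS.{u} (cP4r 1 2) s836 0 a836_2 := x836_1
theorem n836 : Sound.{u} (cP4r 1 2) s836 0 :=
  (x836_2.fr2 GamS.nil (AllS.cons n868 (AllS.cons n869 (AllS.cons n870 (AllS.cons n871 (AllS.cons n872 (AllS.cons n873 (AllS.cons n874 (AllS.cons n875 (AllS.cons n876 (AllS.cons n877 (AllS.cons n878 (AllS.cons n879 (AllS.cons n880 (AllS.cons n881 (AllS.cons n882 (AllS.cons n883 AllS.nil)))))))))))))))) c836_0 :)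
theorem x837 : AuxS.{u} (cP4r 1 2) s837 0 a837 := aux_base3 tw365 rfl b837
theorem n837 : Sound.{u} (cP4r 1 2) s837 0 :=
  (x837.k4 c837_0 :)
theorem x838 : AuxS.{u} (cP4r 1 2) s838 0 a838 := aux_base3 tw365 rfl b838
theorem n838 : Sound.{u} (cP4r 1 2) s838 0 :=
  (x838.k4 c838_0 :)
theorem x839 : AuxS.{u} (cP4r 1 2) s839 0 a839 := aux_base3 tw365 rfl b839
theorem n839 : Sound.{u} (cP4r 1 2) s839 0 :=
  (x839.k4 c839_0 :)
theorem x840 : AuxS.{u} (cP4r 1 2) s840 0 a840 := aux_base3 tw365 rfl b840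
theorem n840 : Sound.{u} (cP4r 1 2) s840 0 :=
  (x840.k4 c840_0 :)
theorem x841 : AuxS.{u} (cP4r 1 2) s841 0 a841 := aux_base3 tw365 rfl b841
theorem n841 : Sound.{u} (cP4r 1 2) s841 0 :=
  (x841.k4 c841_0 :)
theorem x842 : AuxS.{u} (cP4r 1 2) s842 0 a842 := aux_base3 tw365 rfl b842
theorem n842 : Sound.{u} (cP4r 1 2) s842 0 :=
  (x842.k4 c842_0 :)
theorem x843 : AuxS.{u} (cP4r 1 2) s843 0 a843 := aux_base3 tw365 rfl b843
theorem n843 : Sound.{u} (cP4r 1 2) s843 0 :=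
  (x843.k4 c843_0 :)
theorem x844 : AuxS.{u} (cP4r 1 2) s844 0 a844 := aux_base3 tw365 rfl b844
theorem n844 : Sound.{u} (cP4r 1 2) s844 0 :=
  (x844.k4 c844_0 :)
theorem x845 : AuxS.{u} (cP4r 1 2) s845 0 a845 := aux_base3 tw365 rfl b845
theorem n845 : Sound.{u} (cP4r 1 2) s845 0 :=
  (x845.k4 c845_0 :)
theorem x846 : AuxS.{u} (cP4r 1 2) s846 0 a846 := aux_base3 tw365 rfl b846
theorem n846 : Sound.{u} (cP4r 1 2) s846 0 :=
  (x846.k4 c846_0 :)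
theorem x847 : AuxS.{u} (cP4r 1 2) s847 0 a847 := aux_base3 tw365 rfl b847
theorem n847 : Sound.{u} (cP4r 1 2) s847 0 :=
  (x847.k4 c847_0 :)
theorem x848 : AuxS.{u} (cP4r 1 2) s848 0 a848 := aux_base3 tw365 rfl b848
theorem n848 : Sound.{u} (cP4r 1 2) s848 0 :=
  (x848.k4 c848_0 :)
theorem x849 : AuxS.{u} (cP4r 1 2) s849 0 a849 := aux_base3 tw365 rfl b849
theorem n849 : Sound.{u} (cP4r 1 2) s849 0 :=
  (x849.k4 c849_0 :)
theorem x850 : AuxS.{u} (cP4r 1 2) s850 0 a850 := aux_base3 tw365 rfl b850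
theorem n850 : Sound.{u} (cP4r 1 2) s850 0 :=
  (x850.k4 c850_0 :)
theorem x851 : AuxS.{u} (cP4r 1 2) s851 0 a851 := aux_base3 tw365 rfl b851
theorem n851 : Sound.{u} (cP4r 1 2) s851 0 :=
  (x851.k4 c851_0 :)
theorem x852 : AuxS.{u} (cP4r 1 2) s852 0 a852 := aux_base3 tw365 rfl b852
theorem n852 : Sound.{u} (cP4r 1 2) s852 0 :=
  (x852.k4 c852_0 :)
theorem x853 : AuxS.{u} (cP4r 1 2) s853 0 a853 := aux_base3 tw365 rfl b853
theorem n853 : Sound.{u} (cP4r 1 2) s853 0 :=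
  (x853.k4 c853_0 :)
theorem x854 : AuxS.{u} (cP4r 1 2) s854 0 a854 := aux_base3 tw365 rfl b854
theorem n854 : Sound.{u} (cP4r 1 2) s854 0 :=
  (x854.k4 c854_0 :)
theorem x855 : AuxS.{u} (cP4r 1 2) s855 0 a855 := aux_base3 tw365 rfl b855
theorem n855 : Sound.{u} (cP4r 1 2) s855 0 :=
  (x855.k4 c855_0 :)
theorem x856 : AuxS.{u} (cP4r 1 2) s856 0 a856 := aux_base3 tw365 rfl b856
theorem n856 : Sound.{u} (cP4r 1 2) s856 0 :=
  (x856.k4 c856_0 :)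
theorem x857 : AuxS.{u} (cP4r 1 2) s857 0 a857 := aux_base3 tw365 rfl b857
theorem n857 : Sound.{u} (cP4r 1 2) s857 0 :=
  (x857.k4 c857_0 :)
theorem x858 : AuxS.{u} (cP4r 1 2) s858 0 a858 := aux_base3 tw365 rfl b858
theorem n858 : Sound.{u} (cP4r 1 2) s858 0 :=
  (x858.k4 c858_0 :)
theorem x859 : AuxS.{u} (cP4r 1 2) s859 0 a859 := aux_base3 tw365 rfl b859
theorem n859 : Sound.{u} (cP4r 1 2) s859 0 :=
  (x859.k4 c859_0 :)
theorem x860 : AuxS.{u} (cP4r 1 2) s860 0 a860 := aux_base3 tw365 rfl b860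
theorem n860 : Sound.{u} (cP4r 1 2) s860 0 :=
  (x860.k4 c860_0 :)
theorem x861 : AuxS.{u} (cP4r 1 2) s861 0 a861 := aux_base3 tw365 rfl b861
theorem n861 : Sound.{u} (cP4r 1 2) s861 0 :=
  (x861.k4 c861_0 :)
theorem x862 : AuxS.{u} (cP4r 1 2) s862 0 a862 := aux_base3 tw365 rfl b862
theorem n862 : Sound.{u} (cP4r 1 2) s862 0 :=
  (x862.k4 c862_0 :)
theorem x863 : AuxS.{u} (cP4r 1 2) s863 0 a863 := aux_base3 tw365 rfl b863
theorem n863 : Sound.{u} (cP4r 1 2) s863 0 :=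
  (x863.k4 c863_0 :)
theorem x864 : AuxS.{u} (cP4r 1 2) s864 0 a864 := aux_base3 tw365 rfl b864
theorem n864 : Sound.{u} (cP4r 1 2) s864 0 :=
  (x864.k4 c864_0 :)
theorem x865 : AuxS.{u} (cP4r 1 2) s865 0 a865 := aux_base3 tw365 rfl b865
theorem n865 : Sound.{u} (cP4r 1 2) s865 0 :=
  (x865.k4 c865_0 :)
theorem x866 : AuxS.{u} (cP4r 1 2) s866 0 a866 := aux_base3 tw365 rfl b866
theorem n866 : Sound.{u} (cP4r 1 2) s866 0 :=
  (x866.k4 c866_0 :)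
theorem x867 : AuxS.{u} (cP4r 1 2) s867 0 a867 := aux_base3 tw365 rfl b867
theorem n867 : Sound.{u} (cP4r 1 2) s867 0 :=
  (x867.k4 c867_0 :)
theorem x818 : AuxS.{u} (cP4r 1 2) s818 0 a818 := aux_base3 tw365 rfl b818
theorem x818_1 : AuxS.{u} (cP4r 1 2) s818 0 a818_1 := x818
theorem x818_2 : AuxS.{u} (cP4r 1 2) s818 0 a818_2 := x818_1
theorem x818_3 : AuxS.{u} (cP4r 1 2) s818 0 a818_3 := x818_2
theorem n818 : Sound.{u} (cP4r 1 2) s818 0 :=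
  (x818_3.fr (AuxS.gam x818_3 c818_0) (AllS.cons n836 (AllS.cons n837 (AllS.cons n838 (AllS.cons n839 (AllS.cons n840 (AllS.cons n841 (AllS.cons n842 (AllS.cons n843 (AllS.cons n844 (AllS.cons n845 (AllS.cons n846 (AllS.cons n847 (AllS.cons n848 (AllS.cons n849 (AllS.cons n850 (AllS.cons n851 (AllS.cons n852 (AllS.cons n853 (AllS.cons n854 (AllS.cons n855 (AllS.cons n856 (AllS.cons n857 (AllS.cons n858 (AllS.cons n859 (AllS.cons n860 (AllS.cons n861 (AllS.cons n862 (AllS.cons n863 (AllS.cons n864 (AllS.cons n865 (AllS.cons n866 (AllS.cons n867 AllS.nil)))))))))))))))))))))))))))))))) c818_1 :)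
theorem x819 : AuxS.{u} (cP4r 1 2) s819 0 a819 := aux_base3 tw366 rfl b819
theorem x819_1 : AuxS.{u} (cP4r 1 2) s819 0 a819_1 := x819
theorem x819_2 : AuxS.{u} (cP4r 1 2) s819 0 a819_2 := x819_1
theorem x819_3 : AuxS.{u} (cP4r 1 2) s819 0 a819_3 := x819_2
theorem n819 : Sound.{u} (cP4r 1 2) s819 0 :=
  (x819_3.fr GamS.nil AllS.nil c819_0 :)
theorem x820 : AuxS.{u} (cP4r 1 2) s820 0 a820 := aux_base3 tw367 rfl b820
theorem x820_1 : AuxS.{u} (cP4r 1 2) s820 0 a820_1 := x820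
theorem x820_2 : AuxS.{u} (cP4r 1 2) s820 0 a820_2 := x820_1
theorem x820_3 : AuxS.{u} (cP4r 1 2) s820 0 a820_3 := x820_2
theorem n820 : Sound.{u} (cP4r 1 2) s820 0 :=
  (x820_3.fr GamS.nil AllS.nil c820_0 :)
theorem x821 : AuxS.{u} (cP4r 1 2) s821 0 a821 := aux_base3 tw368 rfl b821
theorem x821_1 : AuxS.{u} (cP4r 1 2) s821 0 a821_1 := x821
theorem x821_2 : AuxS.{u} (cP4r 1 2) s821 0 a821_2 := x821_1
theorem x821_3 : AuxS.{u} (cP4r 1 2) s821 0 a821_3 := x821_2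
theorem n821 : Sound.{u} (cP4r 1 2) s821 0 :=
  (x821_3.fr GamS.nil AllS.nil c821_0 :)
theorem x822 : AuxS.{u} (cP4r 1 2) s822 0 a822 := aux_base3 tw369 rfl b822
theorem x822_1 : AuxS.{u} (cP4r 1 2) s822 0 a822_1 := x822
theorem x822_2 : AuxS.{u} (cP4r 1 2) s822 0 a822_2 := x822_1
theorem x822_3 : AuxS.{u} (cP4r 1 2) s822 0 a822_3 := x822_2
theorem x822_4 : AuxS.{u} (cP4r 1 2) s822 0 a822_4 := x822_3
theorem n822 : Sound.{u} (cP4r 1 2) s822 0 :=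
  (x822_4.fr GamS.nil AllS.nil c822_0 :)
theorem x823 : AuxS.{u} (cP4r 1 2) s823 0 a823 := aux_base3 tw370 rfl b823
theorem x823_1 : AuxS.{u} (cP4r 1 2) s823 0 a823_1 := x823
theorem x823_2 : AuxS.{u} (cP4r 1 2) s823 0 a823_2 := x823_1
theorem x823_3 : AuxS.{u} (cP4r 1 2) s823 0 a823_3 := x823_2
theorem x823_4 : AuxS.{u} (cP4r 1 2) s823 0 a823_4 := x823_3
theorem n823 : Sound.{u} (cP4r 1 2) s823 0 :=
  (x823_4.fr GamS.nil AllS.nil c823_0 :)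
theorem x824 : AuxS.{u} (cP4r 1 2) s824 0 a824 := aux_base3 tw371 rfl b824
theorem x824_1 : AuxS.{u} (cP4r 1 2) s824 0 a824_1 := x824
theorem x824_2 : AuxS.{u} (cP4r 1 2) s824 0 a824_2 := x824_1
theorem x824_3 : AuxS.{u} (cP4r 1 2) s824 0 a824_3 := x824_2
theorem x824_4 : AuxS.{u} (cP4r 1 2) s824 0 a824_4 := x824_3
theorem n824 : Sound.{u} (cP4r 1 2) s824 0 :=
  (x824_4.fr GamS.nil AllS.nil c824_0 :)
theorem x825 : AuxS.{u} (cP4r 1 2) s825 0 a825 := aux_base3 tw372 rfl b825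
theorem x825_1 : AuxS.{u} (cP4r 1 2) s825 0 a825_1 := x825
theorem x825_2 : AuxS.{u} (cP4r 1 2) s825 0 a825_2 := x825_1
theorem x825_3 : AuxS.{u} (cP4r 1 2) s825 0 a825_3 := x825_2
theorem x825_4 : AuxS.{u} (cP4r 1 2) s825 0 a825_4 := x825_3
theorem n825 : Sound.{u} (cP4r 1 2) s825 0 :=
  (x825_4.fr GamS.nil AllS.nil c825_0 :)
theorem x826 : AuxS.{u} (cP4r 1 2) s826 0 a826 := aux_base3 tw373 rfl b826
theorem x826_1 : AuxS.{u} (cP4r 1 2) s826 0 a826_1 := x826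
theorem x826_2 : AuxS.{u} (cP4r 1 2) s826 0 a826_2 := x826_1
theorem x826_3 : AuxS.{u} (cP4r 1 2) s826 0 a826_3 := x826_2
theorem n826 : Sound.{u} (cP4r 1 2) s826 0 :=
  (x826_3.fr GamS.nil AllS.nil c826_0 :)
theorem x827 : AuxS.{u} (cP4r 1 2) s827 0 a827 := aux_base3 tw374 rfl b827
theorem x827_1 : AuxS.{u} (cP4r 1 2) s827 0 a827_1 := x827
theorem x827_2 : AuxS.{u} (cP4r 1 2) s827 0 a827_2 := x827_1
theorem x827_3 : AuxS.{u} (cP4r 1 2) s827 0 a827_3 := x827_2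
theorem n827 : Sound.{u} (cP4r 1 2) s827 0 :=
  (x827_3.fr GamS.nil AllS.nil c827_0 :)
theorem x828 : AuxS.{u} (cP4r 1 2) s828 0 a828 := aux_base3 tw375 rfl b828
theorem x828_1 : AuxS.{u} (cP4r 1 2) s828 0 a828_1 := x828
theorem x828_2 : AuxS.{u} (cP4r 1 2) s828 0 a828_2 := x828_1
theorem x828_3 : AuxS.{u} (cP4r 1 2) s828 0 a828_3 := x828_2
theorem n828 : Sound.{u} (cP4r 1 2) s828 0 :=
  (x828_3.fr GamS.nil AllS.nil c828_0 :)
theorem x829 : AuxS.{u} (cP4r 1 2) s829 0 a829 := aux_base3 tw376 rfl b829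
theorem x829_1 : AuxS.{u} (cP4r 1 2) s829 0 a829_1 := x829
theorem x829_2 : AuxS.{u} (cP4r 1 2) s829 0 a829_2 := x829_1
theorem x829_3 : AuxS.{u} (cP4r 1 2) s829 0 a829_3 := x829_2
theorem n829 : Sound.{u} (cP4r 1 2) s829 0 :=
  (x829_3.fr GamS.nil AllS.nil c829_0 :)
theorem x830 : AuxS.{u} (cP4r 1 2) s830 0 a830 := aux_base3 tw377 rfl b830
theorem x830_1 : AuxS.{u} (cP4r 1 2) s830 0 a830_1 := x830
theorem x830_2 : AuxS.{u} (cP4r 1 2) s830 0 a830_2 := x830_1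
theorem x830_3 : AuxS.{u} (cP4r 1 2) s830 0 a830_3 := x830_2
theorem x830_4 : AuxS.{u} (cP4r 1 2) s830 0 a830_4 := x830_3
theorem n830 : Sound.{u} (cP4r 1 2) s830 0 :=
  (x830_4.fr GamS.nil AllS.nil c830_0 :)
theorem x831 : AuxS.{u} (cP4r 1 2) s831 0 a831 := aux_base3 tw378 rfl b831
theorem x831_1 : AuxS.{u} (cP4r 1 2) s831 0 a831_1 := x831
theorem x831_2 : AuxS.{u} (cP4r 1 2) s831 0 a831_2 := x831_1
theorem x831_3 : AuxS.{u} (cP4r 1 2) s831 0 a831_3 := x831_2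
theorem x831_4 : AuxS.{u} (cP4r 1 2) s831 0 a831_4 := x831_3
theorem n831 : Sound.{u} (cP4r 1 2) s831 0 :=
  (x831_4.fr GamS.nil AllS.nil c831_0 :)
theorem x832 : AuxS.{u} (cP4r 1 2) s832 0 a832 := aux_base3 tw379 rfl b832
theorem x832_1 : AuxS.{u} (cP4r 1 2) s832 0 a832_1 := x832
theorem x832_2 : AuxS.{u} (cP4r 1 2) s832 0 a832_2 := x832_1
theorem x832_3 : AuxS.{u} (cP4r 1 2) s832 0 a832_3 := x832_2
theorem x832_4 : AuxS.{u} (cP4r 1 2) s832 0 a832_4 := x832_3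
theorem n832 : Sound.{u} (cP4r 1 2) s832 0 :=
  (x832_4.fr GamS.nil AllS.nil c832_0 :)
theorem x833 : AuxS.{u} (cP4r 1 2) s833 0 a833 := aux_base3 tw380 rfl b833
theorem x833_1 : AuxS.{u} (cP4r 1 2) s833 0 a833_1 := x833
theorem x833_2 : AuxS.{u} (cP4r 1 2) s833 0 a833_2 := x833_1
theorem x833_3 : AuxS.{u} (cP4r 1 2) s833 0 a833_3 := x833_2
theorem x833_4 : AuxS.{u} (cP4r 1 2) s833 0 a833_4 := x833_3
theorem n833 : Sound.{u} (cP4r 1 2) s833 0 :=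
  (x833_4.fr GamS.nil AllS.nil c833_0 :)
theorem x834 : AuxS.{u} (cP4r 1 2) s834 0 a834 := aux_base3 tw381 rfl b834
theorem n834 : Sound.{u} (cP4r 1 2) s834 0 :=
  (x834.k3 c834_0 :)
theorem x835 : AuxS.{u} (cP4r 1 2) s835 0 a835 := aux_base3 tw382 rfl b835
theorem n835 : Sound.{u} (cP4r 1 2) s835 0 :=
  (x835.k3 c835_0 :)
theorem x817 : AuxS.{u} (cP4r 1 2) s817 0 a817 := aux_base3 tw355 rfl b817
theorem x817_1 : AuxS.{u} (cP4r 1 2) s817 0 a817_1 := (AuxS.up x817 c817_6 :)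
theorem x817_2 : AuxS.{u} (cP4r 1 2) s817 0 a817_2 := (AuxS.up2 x817_1 c817_7 :)
theorem x817_3 : AuxS.{u} (cP4r 1 2) s817 0 a817_3 := (AuxS.up x817_2 c817_8 :)
theorem p817_0_1 : Phs s817 a817_3 (List.map Prod.fst g817_0) [s818, s819, s820, s821, s822, s823, s824, s825, s826, s827, s828, s829, s830, s831, s832, s833, s834, s835] ct817_0 v817_0 5 w817_0_1 := (Phs.fin c817_1)
theorem p817_0_3 : Phs s817 a817_3 (List.map Prod.fst g817_0) [s818, s819, s820, s821, s822, s823, s824, s825, s826, s827, s828, s829, s830, s831, s832, s833, s834, s835] ct817_0 v817_0 4 w817_0_3 := (Phs.stp c817_2 p817_0_1)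
theorem p817_0_5 : Phs s817 a817_3 (List.map Prod.fst g817_0) [s818, s819, s820, s821, s822, s823, s824, s825, s826, s827, s828, s829, s830, s831, s832, s833, s834, s835] ct817_0 v817_0 1 w817_0_5 := (Phs.stp c817_3 p817_0_3)
theorem n817 : Sound.{u} (cP4r 1 2) s817 0 :=
  (x817_3.ext2 (fun h => absurd h (by decide)) (AuxS.gam x817_3 c817_0) (AllS.cons n818 (AllS.cons n819 (AllS.cons n820 (AllS.cons n821 (AllS.cons n822 (AllS.cons n823 (AllS.cons n824 (AllS.cons n825 (AllS.cons n826 (AllS.cons n827 (AllS.cons n828 (AllS.cons n829 (AllS.cons n830 (AllS.cons n831 (AllS.cons n832 (AllS.cons n833 (AllS.cons n834 (AllS.cons n835 AllS.nil)))))))))))))))))) c817_5 (Phs.stp c817_4 p817_0_5) (Phs.fin (ct := ct817_0) rfl) :)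
theorem x815 : AuxS.{u} (cP4r 1 2) s815 0 a815 := aux_base3 tw363 rfl b815
theorem x815_1 : AuxS.{u} (cP4r 1 2) s815 0 a815_1 := x815
theorem x815_2 : AuxS.{u} (cP4r 1 2) s815 0 a815_2 := x815_1
theorem n815 : Sound.{u} (cP4r 1 2) s815 0 :=
  (x815_2.jump c815_0 c815_1 n817 :)
theorem x816 : AuxS.{u} (cP4r 1 2) s816 0 a816 := aux_base3 tw364 rfl b816
theorem x816_1 : AuxS.{u} (cP4r 1 2) s816 0 a816_1 := (AuxS.up x816 c816_1 :)
theorem n816 : Sound.{u} (cP4r 1 2) s816 0 :=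
  (x816_1.k1 c816_0 :)
theorem x807 : AuxS.{u} (cP4r 1 2) s807 0 a807 := aux_base3 tw355 rfl b807
theorem x807_1 : AuxS.{u} (cP4r 1 2) s807 0 a807_1 := x807
theorem x807_2 : AuxS.{u} (cP4r 1 2) s807 0 a807_2 := x807_1
theorem p807_0_1 : Phs s807 a807_2 (List.map Prod.fst g807_0) [s815, s816] ct807_0 v807_0 5 w807_0_1 := (Phs.fin c807_1)
theorem n807 : Sound.{u} (cP4r 1 2) s807 0 :=
  (x807_2.ext2 (fun h => absurd h (by decide)) (AuxS.gam x807_2 c807_0) (AllS.cons n815 (AllS.cons n816 AllS.nil)) c807_3 (Phs.fin (ct := ct807_0) rfl) (Phs.stp c807_2 p807_0_1) :)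
theorem x808 : AuxS.{u} (cP4r 1 2) s808 0 a808 := aux_base3 tw356 rfl b808
theorem x808_1 : AuxS.{u} (cP4r 1 2) s808 0 a808_1 := x808
theorem x808_2 : AuxS.{u} (cP4r 1 2) s808 0 a808_2 := x808_1
theorem n808 : Sound.{u} (cP4r 1 2) s808 0 :=
  (x808_2.ext2 (fun h => absurd h (by decide)) GamS.nil AllS.nil c808_1 (Phs.fin (ct := ct808_0) rfl) (Phs.fin c808_0) :)
theorem x809 : AuxS.{u} (cP4r 1 2) s809 0 a809 := aux_base3 tw357 rfl b809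
theorem x809_1 : AuxS.{u} (cP4r 1 2) s809 0 a809_1 := (AuxS.up x809 c809_1 :)
theorem n809 : Sound.{u} (cP4r 1 2) s809 0 :=
  (x809_1.k1 c809_0 :)
theorem x810 : AuxS.{u} (cP4r 1 2) s810 0 a810 := aux_base3 tw358 rfl b810
theorem x810_1 : AuxS.{u} (cP4r 1 2) s810 0 a810_1 := (AuxS.up x810 c810_1 :)
theorem n810 : Sound.{u} (cP4r 1 2) s810 0 :=
  (x810_1.k1 c810_0 :)
theorem x811 : AuxS.{u} (cP4r 1 2) s811 0 a811 := aux_base3 tw359 rfl b811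
theorem x811_1 : AuxS.{u} (cP4r 1 2) s811 0 a811_1 := x811
theorem x811_2 : AuxS.{u} (cP4r 1 2) s811 0 a811_2 := x811_1
theorem n811 : Sound.{u} (cP4r 1 2) s811 0 :=
  (x811_2.ext2 (fun h => absurd h (by decide)) GamS.nil AllS.nil c811_1 (Phs.fin (ct := ct811_0) rfl) (Phs.fin c811_0) :)
theorem x915 : AuxS.{u} (cP4r 1 2) s915 0 a915 := aux_base3 tw403 rfl b915
theorem n915 : Sound.{u} (cP4r 1 2) s915 0 :=
  (x915.k4 c915_0 :)
theorem x916 : AuxS.{u} (cP4r 1 2) s916 0 a916 := aux_base3 tw403 rfl b916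
theorem n916 : Sound.{u} (cP4r 1 2) s916 0 :=
  (x916.k4 c916_0 :)
theorem x917 : AuxS.{u} (cP4r 1 2) s917 0 a917 := aux_base3 tw403 rfl b917
theorem n917 : Sound.{u} (cP4r 1 2) s917 0 :=
  (x917.k4 c917_0 :)
theorem x918 : AuxS.{u} (cP4r 1 2) s918 0 a918 := aux_base3 tw403 rfl b918
theorem n918 : Sound.{u} (cP4r 1 2) s918 0 :=
  (x918.k4 c918_0 :)
theorem x919 : AuxS.{u} (cP4r 1 2) s919 0 a919 := aux_base3 tw403 rfl b919
theorem n919 : Sound.{u} (cP4r 1 2) s919 0 :=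
  (x919.k4 c919_0 :)
theorem x950 : AuxS.{u} (cP4r 1 2) s950 0 a950 := aux_base3 tw424 rfl b950
theorem x950_1 : AuxS.{u} (cP4r 1 2) s950 0 a950_1 := x950
theorem x950_2 : AuxS.{u} (cP4r 1 2) s950 0 a950_2 := x950_1
theorem x950_3 : AuxS.{u} (cP4r 1 2) s950 0 a950_3 := x950_2
theorem n950 : Sound.{u} (cP4r 1 2) s950 0 :=
  (x950_3.jump c950_0 c950_1 n484 :)
theorem x951 : AuxS.{u} (cP4r 1 2) s951 0 a951 := aux_base3 tw424 rfl b951
theorem x951_1 : AuxS.{u} (cP4r 1 2) s951 0 a951_1 := (AuxS.up x951 c951_1 :)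
theorem n951 : Sound.{u} (cP4r 1 2) s951 0 :=
  (x951_1.k7 c951_0 :)
theorem x952 : AuxS.{u} (cP4r 1 2) s952 0 a952 := aux_base3 tw424 rfl b952
theorem x952_1 : AuxS.{u} (cP4r 1 2) s952 0 a952_1 := x952
theorem x952_2 : AuxS.{u} (cP4r 1 2) s952 0 a952_2 := x952_1
theorem x952_3 : AuxS.{u} (cP4r 1 2) s952 0 a952_3 := x952_2
theorem n952 : Sound.{u} (cP4r 1 2) s952 0 :=
  (x952_3.jump c952_0 c952_1 n484 :)
theorem x953 : AuxS.{u} (cP4r 1 2) s953 0 a953 := aux_base3 tw424 rfl b953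
theorem x953_1 : AuxS.{u} (cP4r 1 2) s953 0 a953_1 := (AuxS.up x953 c953_1 :)
theorem n953 : Sound.{u} (cP4r 1 2) s953 0 :=
  (x953_1.k7 c953_0 :)
theorem x949 : AuxS.{u} (cP4r 1 2) s949 0 a949 := aux_base3 tw424 rfl b949
theorem x949_1 : AuxS.{u} (cP4r 1 2) s949 0 a949_1 := x949
theorem x949_2 : AuxS.{u} (cP4r 1 2) s949 0 a949_2 := x949_1
theorem x949_3 : AuxS.{u} (cP4r 1 2) s949 0 a949_3 := x949_2
theorem x949_4 : AuxS.{u} (cP4r 1 2) s949 0 a949_4 := x949_3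
theorem n949 : Sound.{u} (cP4r 1 2) s949 0 :=
  (x949_4.rho (AllS.cons n950 (AllS.cons n951 (AllS.cons n952 (AllS.cons n953 AllS.nil)))) c949_0 :)
theorem x947 : AuxS.{u} (cP4r 1 2) s947 0 a947 := aux_base3 tw421 rfl b947
theorem x947_1 : AuxS.{u} (cP4r 1 2) s947 0 a947_1 := x947
theorem x947_2 : AuxS.{u} (cP4r 1 2) s947 0 a947_2 := x947_1
theorem x947_3 : AuxS.{u} (cP4r 1 2) s947 0 a947_3 := x947_2
theorem x947_4 : AuxS.{u} (cP4r 1 2) s947 0 a947_4 := x947_3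
theorem n947 : Sound.{u} (cP4r 1 2) s947 0 :=
  (x947_4.jump2 c947_0 c947_1 n949 :)
theorem x948 : AuxS.{u} (cP4r 1 2) s948 0 a948 := aux_base3 tw422 rfl b948
theorem n948 : Sound.{u} (cP4r 1 2) s948 0 :=
  (x948.k4 c948_0 :)
theorem x920 : AuxS.{u} (cP4r 1 2) s920 0 a920 := aux_base3 tw403 rfl b920
theorem x920_1 : AuxS.{u} (cP4r 1 2) s920 0 a920_1 := x920
theorem n920 : Sound.{u} (cP4r 1 2) s920 0 :=
  (x920_1.fr2 GamS.nil (AllS.cons n947 (AllS.cons n948 AllS.nil)) c920_0 :)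
theorem x921 : AuxS.{u} (cP4r 1 2) s921 0 a921 := aux_base3 tw403 rfl b921
theorem n921 : Sound.{u} (cP4r 1 2) s921 0 :=
  (x921.k4 c921_0 :)
theorem x922 : AuxS.{u} (cP4r 1 2) s922 0 a922 := aux_base3 tw403 rfl b922
theorem n922 : Sound.{u} (cP4r 1 2) s922 0 :=
  (x922.k4 c922_0 :)
theorem x923 : AuxS.{u} (cP4r 1 2) s923 0 a923 := aux_base3 tw403 rfl b923
theorem n923 : Sound.{u} (cP4r 1 2) s923 0 :=
  (x923.k4 c923_0 :)
theorem x924 : AuxS.{u} (cP4r 1 2) s924 0 a924 := aux_base3 tw403 rfl b924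
theorem n924 : Sound.{u} (cP4r 1 2) s924 0 :=
  (x924.k4 c924_0 :)
theorem x925 : AuxS.{u} (cP4r 1 2) s925 0 a925 := aux_base3 tw403 rfl b925
theorem n925 : Sound.{u} (cP4r 1 2) s925 0 :=
  (x925.k4 c925_0 :)
theorem x926 : AuxS.{u} (cP4r 1 2) s926 0 a926 := aux_base3 tw403 rfl b926
theorem n926 : Sound.{u} (cP4r 1 2) s926 0 :=
  (x926.k4 c926_0 :)
theorem x927 : AuxS.{u} (cP4r 1 2) s927 0 a927 := aux_base3 tw403 rfl b927
theorem n927 : Sound.{u} (cP4r 1 2) s927 0 :=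
  (x927.k4 c927_0 :)
theorem x928 : AuxS.{u} (cP4r 1 2) s928 0 a928 := aux_base3 tw403 rfl b928
theorem n928 : Sound.{u} (cP4r 1 2) s928 0 :=
  (x928.k4 c928_0 :)
theorem x929 : AuxS.{u} (cP4r 1 2) s929 0 a929 := aux_base3 tw403 rfl b929
theorem n929 : Sound.{u} (cP4r 1 2) s929 0 :=
  (x929.k4 c929_0 :)
theorem x930 : AuxS.{u} (cP4r 1 2) s930 0 a930 := aux_base3 tw403 rfl b930
theorem n930 : Sound.{u} (cP4r 1 2) s930 0 :=
  (x930.k4 c930_0 :)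
theorem x931 : AuxS.{u} (cP4r 1 2) s931 0 a931 := aux_base3 tw403 rfl b931
theorem n931 : Sound.{u} (cP4r 1 2) s931 0 :=
  (x931.k4 c931_0 :)
theorem x932 : AuxS.{u} (cP4r 1 2) s932 0 a932 := aux_base3 tw403 rfl b932
theorem n932 : Sound.{u} (cP4r 1 2) s932 0 :=
  (x932.k4 c932_0 :)
theorem x933 : AuxS.{u} (cP4r 1 2) s933 0 a933 := aux_base3 tw403 rfl b933
theorem n933 : Sound.{u} (cP4r 1 2) s933 0 :=
  (x933.k4 c933_0 :)
theorem x934 : AuxS.{u} (cP4r 1 2) s934 0 a934 := aux_base3 tw403 rfl b934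
theorem n934 : Sound.{u} (cP4r 1 2) s934 0 :=
  (x934.k4 c934_0 :)
theorem x935 : AuxS.{u} (cP4r 1 2) s935 0 a935 := aux_base3 tw403 rfl b935
theorem n935 : Sound.{u} (cP4r 1 2) s935 0 :=
  (x935.k4 c935_0 :)
theorem x936 : AuxS.{u} (cP4r 1 2) s936 0 a936 := aux_base3 tw403 rfl b936
theorem n936 : Sound.{u} (cP4r 1 2) s936 0 :=
  (x936.k4 c936_0 :)
theorem x937 : AuxS.{u} (cP4r 1 2) s937 0 a937 := aux_base3 tw403 rfl b937
theorem n937 : Sound.{u} (cP4r 1 2) s937 0 :=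
  (x937.k4 c937_0 :)
theorem x938 : AuxS.{u} (cP4r 1 2) s938 0 a938 := aux_base3 tw403 rfl b938
theorem n938 : Sound.{u} (cP4r 1 2) s938 0 :=
  (x938.k4 c938_0 :)
theorem x939 : AuxS.{u} (cP4r 1 2) s939 0 a939 := aux_base3 tw403 rfl b939
theorem n939 : Sound.{u} (cP4r 1 2) s939 0 :=
  (x939.k4 c939_0 :)
theorem x940 : AuxS.{u} (cP4r 1 2) s940 0 a940 := aux_base3 tw403 rfl b940
theorem n940 : Sound.{u} (cP4r 1 2) s940 0 :=
  (x940.k4 c940_0 :)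
theorem x941 : AuxS.{u} (cP4r 1 2) s941 0 a941 := aux_base3 tw403 rfl b941
theorem n941 : Sound.{u} (cP4r 1 2) s941 0 :=
  (x941.k4 c941_0 :)
theorem x942 : AuxS.{u} (cP4r 1 2) s942 0 a942 := aux_base3 tw403 rfl b942
theorem n942 : Sound.{u} (cP4r 1 2) s942 0 :=
  (x942.k4 c942_0 :)
theorem x943 : AuxS.{u} (cP4r 1 2) s943 0 a943 := aux_base3 tw403 rfl b943
theorem n943 : Sound.{u} (cP4r 1 2) s943 0 :=
  (x943.k4 c943_0 :)
theorem x944 : AuxS.{u} (cP4r 1 2) s944 0 a944 := aux_base3 tw403 rfl b944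
theorem n944 : Sound.{u} (cP4r 1 2) s944 0 :=
  (x944.k4 c944_0 :)
theorem x945 : AuxS.{u} (cP4r 1 2) s945 0 a945 := aux_base3 tw403 rfl b945
theorem n945 : Sound.{u} (cP4r 1 2) s945 0 :=
  (x945.k4 c945_0 :)
theorem x946 : AuxS.{u} (cP4r 1 2) s946 0 a946 := aux_base3 tw403 rfl b946
theorem n946 : Sound.{u} (cP4r 1 2) s946 0 :=
  (x946.k4 c946_0 :)
theorem x897 : AuxS.{u} (cP4r 1 2) s897 0 a897 := aux_base3 tw403 rfl b897
theorem x897_1 : AuxS.{u} (cP4r 1 2) s897 0 a897_1 := x897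
theorem n897 : Sound.{u} (cP4r 1 2) s897 0 :=
  (x897_1.fr (AuxS.gam x897_1 c897_0) (AllS.cons n915 (AllS.cons n916 (AllS.cons n917 (AllS.cons n918 (AllS.cons n919 (AllS.cons n920 (AllS.cons n921 (AllS.cons n922 (AllS.cons n923 (AllS.cons n924 (AllS.cons n925 (AllS.cons n926 (AllS.cons n927 (AllS.cons n928 (AllS.cons n929 (AllS.cons n930 (AllS.cons n931 (AllS.cons n932 (AllS.cons n933 (AllS.cons n934 (AllS.cons n935 (AllS.cons n936 (AllS.cons n937 (AllS.cons n938 (AllS.cons n939 (AllS.cons n940 (AllS.cons n941 (AllS.cons n942 (AllS.cons n943 (AllS.cons n944 (AllS.cons n945 (AllS.cons n946 AllS.nil)))))))))))))))))))))))))))))))) c897_1 :)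
theorem x898 : AuxS.{u} (cP4r 1 2) s898 0 a898 := aux_base3 tw404 rfl b898
theorem x898_1 : AuxS.{u} (cP4r 1 2) s898 0 a898_1 := x898
theorem n898 : Sound.{u} (cP4r 1 2) s898 0 :=
  (x898_1.fr GamS.nil AllS.nil c898_0 :)
theorem x899 : AuxS.{u} (cP4r 1 2) s899 0 a899 := aux_base3 tw405 rfl b899
theorem x899_1 : AuxS.{u} (cP4r 1 2) s899 0 a899_1 := x899
theorem n899 : Sound.{u} (cP4r 1 2) s899 0 :=
  (x899_1.fr GamS.nil AllS.nil c899_0 :)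
theorem x900 : AuxS.{u} (cP4r 1 2) s900 0 a900 := aux_base3 tw406 rfl b900
theorem x900_1 : AuxS.{u} (cP4r 1 2) s900 0 a900_1 := x900
theorem n900 : Sound.{u} (cP4r 1 2) s900 0 :=
  (x900_1.fr GamS.nil AllS.nil c900_0 :)
theorem x901 : AuxS.{u} (cP4r 1 2) s901 0 a901 := aux_base3 tw407 rfl b901
theorem n901 : Sound.{u} (cP4r 1 2) s901 0 :=
  (x901.k4 c901_0 :)
theorem x902 : AuxS.{u} (cP4r 1 2) s902 0 a902 := aux_base3 tw408 rfl b902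
theorem n902 : Sound.{u} (cP4r 1 2) s902 0 :=
  (x902.k4 c902_0 :)
theorem x903 : AuxS.{u} (cP4r 1 2) s903 0 a903 := aux_base3 tw409 rfl b903
theorem n903 : Sound.{u} (cP4r 1 2) s903 0 :=
  (x903.k4 c903_0 :)
theorem x904 : AuxS.{u} (cP4r 1 2) s904 0 a904 := aux_base3 tw410 rfl b904
theorem n904 : Sound.{u} (cP4r 1 2) s904 0 :=
  (x904.k4 c904_0 :)
theorem x905 : AuxS.{u} (cP4r 1 2) s905 0 a905 := aux_base3 tw411 rfl b905
theorem x905_1 : AuxS.{u} (cP4r 1 2) s905 0 a905_1 := x905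
theorem n905 : Sound.{u} (cP4r 1 2) s905 0 :=
  (x905_1.fr GamS.nil AllS.nil c905_0 :)
theorem x906 : AuxS.{u} (cP4r 1 2) s906 0 a906 := aux_base3 tw412 rfl b906
theorem x906_1 : AuxS.{u} (cP4r 1 2) s906 0 a906_1 := x906
theorem n906 : Sound.{u} (cP4r 1 2) s906 0 :=
  (x906_1.fr GamS.nil AllS.nil c906_0 :)
theorem x907 : AuxS.{u} (cP4r 1 2) s907 0 a907 := aux_base3 tw413 rfl b907
theorem x907_1 : AuxS.{u} (cP4r 1 2) s907 0 a907_1 := x907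
theorem n907 : Sound.{u} (cP4r 1 2) s907 0 :=
  (x907_1.fr GamS.nil AllS.nil c907_0 :)
theorem x908 : AuxS.{u} (cP4r 1 2) s908 0 a908 := aux_base3 tw414 rfl b908
theorem x908_1 : AuxS.{u} (cP4r 1 2) s908 0 a908_1 := x908
theorem n908 : Sound.{u} (cP4r 1 2) s908 0 :=
  (x908_1.fr GamS.nil AllS.nil c908_0 :)
theorem x909 : AuxS.{u} (cP4r 1 2) s909 0 a909 := aux_base3 tw415 rfl b909
theorem n909 : Sound.{u} (cP4r 1 2) s909 0 :=
  (x909.k4 c909_0 :)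
theorem x910 : AuxS.{u} (cP4r 1 2) s910 0 a910 := aux_base3 tw416 rfl b910
theorem n910 : Sound.{u} (cP4r 1 2) s910 0 :=
  (x910.k4 c910_0 :)
theorem x911 : AuxS.{u} (cP4r 1 2) s911 0 a911 := aux_base3 tw417 rfl b911
theorem n911 : Sound.{u} (cP4r 1 2) s911 0 :=
  (x911.k4 c911_0 :)
theorem x912 : AuxS.{u} (cP4r 1 2) s912 0 a912 := aux_base3 tw418 rfl b912
theorem n912 : Sound.{u} (cP4r 1 2) s912 0 :=
  (x912.k4 c912_0 :)
theorem x913 : AuxS.{u} (cP4r 1 2) s913 0 a913 := aux_base3 tw419 rfl b913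
theorem n913 : Sound.{u} (cP4r 1 2) s913 0 :=
  (x913.k3 c913_0 :)
theorem x914 : AuxS.{u} (cP4r 1 2) s914 0 a914 := aux_base3 tw420 rfl b914
theorem n914 : Sound.{u} (cP4r 1 2) s914 0 :=
  (x914.k3 c914_0 :)
theorem x896 : AuxS.{u} (cP4r 1 2) s896 0 a896 := aux_base3 tw360 rfl b896
theorem x896_1 : AuxS.{u} (cP4r 1 2) s896 0 a896_1 := (AuxS.up x896 c896_6 :)
theorem x896_2 : AuxS.{u} (cP4r 1 2) s896 0 a896_2 := (AuxS.up2 x896_1 c896_7 :)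
theorem p896_0_1 : Phs s896 a896_2 (List.map Prod.fst g896_0) [s897, s898, s899, s900, s901, s902, s903, s904, s905, s906, s907, s908, s909, s910, s911, s912, s913, s914] ct896_0 v896_0 5 w896_0_1 := (Phs.fin c896_1)
theorem p896_0_3 : Phs s896 a896_2 (List.map Prod.fst g896_0) [s897, s898, s899, s900, s901, s902, s903, s904, s905, s906, s907, s908, s909, s910, s911, s912, s913, s914] ct896_0 v896_0 4 w896_0_3 := (Phs.stp c896_2 p896_0_1)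
theorem p896_0_5 : Phs s896 a896_2 (List.map Prod.fst g896_0) [s897, s898, s899, s900, s901, s902, s903, s904, s905, s906, s907, s908, s909, s910, s911, s912, s913, s914] ct896_0 v896_0 1 w896_0_5 := (Phs.stp c896_3 p896_0_3)
theorem n896 : Sound.{u} (cP4r 1 2) s896 0 :=
  (x896_2.ext2 (fun h => absurd h (by decide)) (AuxS.gam x896_2 c896_0) (AllS.cons n897 (AllS.cons n898 (AllS.cons n899 (AllS.cons n900 (AllS.cons n901 (AllS.cons n902 (AllS.cons n903 (AllS.cons n904 (AllS.cons n905 (AllS.cons n906 (AllS.cons n907 (AllS.cons n908 (AllS.cons n909 (AllS.cons n910 (AllS.cons n911 (AllS.cons n912 (AllS.cons n913 (AllS.cons n914 AllS.nil)))))))))))))))))) c896_5 (Phs.stp c896_4 p896_0_5) (Phs.fin (ct := ct896_0) rfl) :)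
theorem x894 : AuxS.{u} (cP4r 1 2) s894 0 a894 := aux_base3 tw401 rfl b894
theorem x894_1 : AuxS.{u} (cP4r 1 2) s894 0 a894_1 := x894
theorem n894 : Sound.{u} (cP4r 1 2) s894 0 :=
  (x894_1.jump c894_0 c894_1 n896 :)
theorem x895 : AuxS.{u} (cP4r 1 2) s895 0 a895 := aux_base3 tw402 rfl b895
theorem x895_1 : AuxS.{u} (cP4r 1 2) s895 0 a895_1 := (AuxS.up x895 c895_1 :)
theorem n895 : Sound.{u} (cP4r 1 2) s895 0 :=
  (x895_1.k1 c895_0 :)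
theorem x812 : AuxS.{u} (cP4r 1 2) s812 0 a812 := aux_base3 tw360 rfl b812
theorem x812_1 : AuxS.{u} (cP4r 1 2) s812 0 a812_1 := x812
theorem x812_2 : AuxS.{u} (cP4r 1 2) s812 0 a812_2 := x812_1
theorem p812_0_1 : Phs s812 a812_2 (List.map Prod.fst g812_0) [s894, s895] ct812_0 v812_0 5 w812_0_1 := (Phs.fin c812_1)
theorem n812 : Sound.{u} (cP4r 1 2) s812 0 :=
  (x812_2.ext2 (fun h => absurd h (by decide)) (AuxS.gam x812_2 c812_0) (AllS.cons n894 (AllS.cons n895 AllS.nil)) c812_3 (Phs.fin (ct := ct812_0) rfl) (Phs.stp c812_2 p812_0_1) :)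
theorem x813 : AuxS.{u} (cP4r 1 2) s813 0 a813 := aux_base3 tw361 rfl b813
theorem x813_1 : AuxS.{u} (cP4r 1 2) s813 0 a813_1 := (AuxS.up x813 c813_1 :)
theorem n813 : Sound.{u} (cP4r 1 2) s813 0 :=
  (x813_1.k1 c813_0 :)
theorem x814 : AuxS.{u} (cP4r 1 2) s814 0 a814 := aux_base3 tw362 rfl b814
theorem x814_1 : AuxS.{u} (cP4r 1 2) s814 0 a814_1 := (AuxS.up x814 c814_1 :)
theorem n814 : Sound.{u} (cP4r 1 2) s814 0 :=
  (x814_1.k1 c814_0 :)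
theorem x25 : AuxS.{u} (cP4r 1 2) s25 0 a25 := aux_base3 tw25 rfl b25
theorem x25_1 : AuxS.{u} (cP4r 1 2) s25 0 a25_1 := (AuxS.up x25 c25_4 :)
theorem p25_0_1 : Phs s25 a25_1 [] [s807, s808, s809, s810, s811, s812, s813, s814] ct25_0 v25_0 4 w25_0_1 := (Phs.fin c25_0)
theorem p25_0_3 : Phs s25 a25_1 [] [s807, s808, s809, s810, s811, s812, s813, s814] ct25_0 v25_0 1 w25_0_3 := (Phs.stp c25_1 p25_0_1)
theorem n25 : Sound.{u} (cP4r 1 2) s25 0 :=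
  (x25_1.ext2 (fun h => absurd h (by decide)) GamS.nil (AllS.cons n807 (AllS.cons n808 (AllS.cons n809 (AllS.cons n810 (AllS.cons n811 (AllS.cons n812 (AllS.cons n813 (AllS.cons n814 AllS.nil)))))))) c25_3 (Phs.stp c25_2 p25_0_3) (Phs.fin (ct := ct25_0) rfl) :)
theorem x965 : AuxS.{u} (cP4r 1 2) s965 0 a965 := aux_base3 tw435 rfl b965
theorem x965_1 : AuxS.{u} (cP4r 1 2) s965 0 a965_1 := x965
theorem x965_2 : AuxS.{u} (cP4r 1 2) s965 0 a965_2 := x965_1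
theorem n965 : Sound.{u} (cP4r 1 2) s965 0 :=
  (x965_2.fr GamS.nil AllS.nil c965_0 :)
theorem x966 : AuxS.{u} (cP4r 1 2) s966 0 a966 := aux_base3 tw436 rfl b966
theorem x966_1 : AuxS.{u} (cP4r 1 2) s966 0 a966_1 := x966
theorem x966_2 : AuxS.{u} (cP4r 1 2) s966 0 a966_2 := x966_1
theorem n966 : Sound.{u} (cP4r 1 2) s966 0 :=
  (x966_2.fr GamS.nil AllS.nil c966_0 :)
theorem x967 : AuxS.{u} (cP4r 1 2) s967 0 a967 := aux_base3 tw437 rfl b967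
theorem x967_1 : AuxS.{u} (cP4r 1 2) s967 0 a967_1 := x967
theorem x967_2 : AuxS.{u} (cP4r 1 2) s967 0 a967_2 := x967_1
theorem n967 : Sound.{u} (cP4r 1 2) s967 0 :=
  (x967_2.fr GamS.nil AllS.nil c967_0 :)
theorem x968 : AuxS.{u} (cP4r 1 2) s968 0 a968 := aux_base3 tw438 rfl b968
theorem x968_1 : AuxS.{u} (cP4r 1 2) s968 0 a968_1 := x968
theorem x968_2 : AuxS.{u} (cP4r 1 2) s968 0 a968_2 := x968_1
theorem n968 : Sound.{u} (cP4r 1 2) s968 0 :=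
  (x968_2.fr GamS.nil AllS.nil c968_0 :)
theorem x969 : AuxS.{u} (cP4r 1 2) s969 0 a969 := aux_base3 tw439 rfl b969
theorem x969_1 : AuxS.{u} (cP4r 1 2) s969 0 a969_1 := x969
theorem x969_2 : AuxS.{u} (cP4r 1 2) s969 0 a969_2 := x969_1
theorem n969 : Sound.{u} (cP4r 1 2) s969 0 :=
  (x969_2.fr GamS.nil AllS.nil c969_0 :)
theorem x970 : AuxS.{u} (cP4r 1 2) s970 0 a970 := aux_base3 tw440 rfl b970
theorem x970_1 : AuxS.{u} (cP4r 1 2) s970 0 a970_1 := x970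
theorem x970_2 : AuxS.{u} (cP4r 1 2) s970 0 a970_2 := x970_1
theorem n970 : Sound.{u} (cP4r 1 2) s970 0 :=
  (x970_2.fr GamS.nil AllS.nil c970_0 :)
theorem x971 : AuxS.{u} (cP4r 1 2) s971 0 a971 := aux_base3 tw441 rfl b971
theorem x971_1 : AuxS.{u} (cP4r 1 2) s971 0 a971_1 := x971
theorem x971_2 : AuxS.{u} (cP4r 1 2) s971 0 a971_2 := x971_1
theorem n971 : Sound.{u} (cP4r 1 2) s971 0 :=
  (x971_2.fr GamS.nil AllS.nil c971_0 :)
theorem x972 : AuxS.{u} (cP4r 1 2) s972 0 a972 := aux_base3 tw442 rfl b972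
theorem x972_1 : AuxS.{u} (cP4r 1 2) s972 0 a972_1 := x972
theorem x972_2 : AuxS.{u} (cP4r 1 2) s972 0 a972_2 := x972_1
theorem n972 : Sound.{u} (cP4r 1 2) s972 0 :=
  (x972_2.fr GamS.nil AllS.nil c972_0 :)
theorem x973 : AuxS.{u} (cP4r 1 2) s973 0 a973 := aux_base3 tw443 rfl b973
theorem x973_1 : AuxS.{u} (cP4r 1 2) s973 0 a973_1 := x973
theorem x973_2 : AuxS.{u} (cP4r 1 2) s973 0 a973_2 := x973_1
theorem n973 : Sound.{u} (cP4r 1 2) s973 0 :=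
  (x973_2.fr GamS.nil AllS.nil c973_0 :)
theorem x974 : AuxS.{u} (cP4r 1 2) s974 0 a974 := aux_base3 tw444 rfl b974
theorem x974_1 : AuxS.{u} (cP4r 1 2) s974 0 a974_1 := x974
theorem x974_2 : AuxS.{u} (cP4r 1 2) s974 0 a974_2 := x974_1
theorem n974 : Sound.{u} (cP4r 1 2) s974 0 :=
  (x974_2.fr GamS.nil AllS.nil c974_0 :)
theorem x975 : AuxS.{u} (cP4r 1 2) s975 0 a975 := aux_base3 tw445 rfl b975
theorem x975_1 : AuxS.{u} (cP4r 1 2) s975 0 a975_1 := x975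
theorem x975_2 : AuxS.{u} (cP4r 1 2) s975 0 a975_2 := x975_1
theorem n975 : Sound.{u} (cP4r 1 2) s975 0 :=
  (x975_2.fr GamS.nil AllS.nil c975_0 :)
theorem x976 : AuxS.{u} (cP4r 1 2) s976 0 a976 := aux_base3 tw446 rfl b976
theorem x976_1 : AuxS.{u} (cP4r 1 2) s976 0 a976_1 := x976
theorem x976_2 : AuxS.{u} (cP4r 1 2) s976 0 a976_2 := x976_1
theorem n976 : Sound.{u} (cP4r 1 2) s976 0 :=
  (x976_2.fr GamS.nil AllS.nil c976_0 :)
theorem x977 : AuxS.{u} (cP4r 1 2) s977 0 a977 := aux_base3 tw447 rfl b977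
theorem x977_1 : AuxS.{u} (cP4r 1 2) s977 0 a977_1 := x977
theorem x977_2 : AuxS.{u} (cP4r 1 2) s977 0 a977_2 := x977_1
theorem n977 : Sound.{u} (cP4r 1 2) s977 0 :=
  (x977_2.fr GamS.nil AllS.nil c977_0 :)
theorem x978 : AuxS.{u} (cP4r 1 2) s978 0 a978 := aux_base3 tw448 rfl b978
theorem x978_1 : AuxS.{u} (cP4r 1 2) s978 0 a978_1 := x978
theorem x978_2 : AuxS.{u} (cP4r 1 2) s978 0 a978_2 := x978_1
theorem n978 : Sound.{u} (cP4r 1 2) s978 0 :=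
  (x978_2.fr GamS.nil AllS.nil c978_0 :)
theorem x979 : AuxS.{u} (cP4r 1 2) s979 0 a979 := aux_base3 tw449 rfl b979
theorem x979_1 : AuxS.{u} (cP4r 1 2) s979 0 a979_1 := x979
theorem x979_2 : AuxS.{u} (cP4r 1 2) s979 0 a979_2 := x979_1
theorem n979 : Sound.{u} (cP4r 1 2) s979 0 :=
  (x979_2.fr GamS.nil AllS.nil c979_0 :)
theorem x980 : AuxS.{u} (cP4r 1 2) s980 0 a980 := aux_base3 tw450 rfl b980
theorem x980_1 : AuxS.{u} (cP4r 1 2) s980 0 a980_1 := x980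
theorem x980_2 : AuxS.{u} (cP4r 1 2) s980 0 a980_2 := x980_1
theorem n980 : Sound.{u} (cP4r 1 2) s980 0 :=
  (x980_2.fr GamS.nil AllS.nil c980_0 :)
theorem x981 : AuxS.{u} (cP4r 1 2) s981 0 a981 := aux_base3 tw451 rfl b981
theorem n981 : Sound.{u} (cP4r 1 2) s981 0 :=
  (x981.k3 c981_0 :)
theorem x982 : AuxS.{u} (cP4r 1 2) s982 0 a982 := aux_base3 tw452 rfl b982
theorem n982 : Sound.{u} (cP4r 1 2) s982 0 :=
  (x982.k3 c982_0 :)
theorem x964 : AuxS.{u} (cP4r 1 2) s964 0 a964 := aux_base3 tw425 rfl b964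
theorem x964_1 : AuxS.{u} (cP4r 1 2) s964 0 a964_1 := (AuxS.up x964 c964_6 :)
theorem x964_2 : AuxS.{u} (cP4r 1 2) s964 0 a964_2 := (AuxS.up2 x964_1 c964_7 :)
theorem x964_3 : AuxS.{u} (cP4r 1 2) s964 0 a964_3 := (AuxS.up x964_2 c964_8 :)
theorem p964_0_1 : Phs s964 a964_3 (List.map Prod.fst g964_0) [s965, s966, s967, s968, s969, s970, s971, s972, s973, s974, s975, s976, s977, s978, s979, s980, s981, s982] ct964_0 v964_0 5 w964_0_1 := (Phs.fin c964_1)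
theorem p964_0_3 : Phs s964 a964_3 (List.map Prod.fst g964_0) [s965, s966, s967, s968, s969, s970, s971, s972, s973, s974, s975, s976, s977, s978, s979, s980, s981, s982] ct964_0 v964_0 4 w964_0_3 := (Phs.stp c964_2 p964_0_1)
theorem p964_0_5 : Phs s964 a964_3 (List.map Prod.fst g964_0) [s965, s966, s967, s968, s969, s970, s971, s972, s973, s974, s975, s976, s977, s978, s979, s980, s981, s982] ct964_0 v964_0 1 w964_0_5 := (Phs.stp c964_3 p964_0_3)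
theorem n964 : Sound.{u} (cP4r 1 2) s964 0 :=
  (x964_3.ext2 (fun h => absurd h (by decide)) (AuxS.gam x964_3 c964_0) (AllS.cons n965 (AllS.cons n966 (AllS.cons n967 (AllS.cons n968 (AllS.cons n969 (AllS.cons n970 (AllS.cons n971 (AllS.cons n972 (AllS.cons n973 (AllS.cons n974 (AllS.cons n975 (AllS.cons n976 (AllS.cons n977 (AllS.cons n978 (AllS.cons n979 (AllS.cons n980 (AllS.cons n981 (AllS.cons n982 AllS.nil)))))))))))))))))) c964_5 (Phs.stp c964_4 p964_0_5) (Phs.fin (ct := ct964_0) rfl) :)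
theorem x962 : AuxS.{u} (cP4r 1 2) s962 0 a962 := aux_base3 tw433 rfl b962
theorem x962_1 : AuxS.{u} (cP4r 1 2) s962 0 a962_1 := x962
theorem x962_2 : AuxS.{u} (cP4r 1 2) s962 0 a962_2 := x962_1
theorem n962 : Sound.{u} (cP4r 1 2) s962 0 :=
  (x962_2.jump c962_0 c962_1 n964 :)
theorem x963 : AuxS.{u} (cP4r 1 2) s963 0 a963 := aux_base3 tw434 rfl b963
theorem x963_1 : AuxS.{u} (cP4r 1 2) s963 0 a963_1 := (AuxS.up x963 c963_1 :)
theorem n963 : Sound.{u} (cP4r 1 2) s963 0 :=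
  (x963_1.k1 c963_0 :)
theorem x954 : AuxS.{u} (cP4r 1 2) s954 0 a954 := aux_base3 tw425 rfl b954
theorem x954_1 : AuxS.{u} (cP4r 1 2) s954 0 a954_1 := x954
theorem x954_2 : AuxS.{u} (cP4r 1 2) s954 0 a954_2 := x954_1
theorem p954_0_1 : Phs s954 a954_2 (List.map Prod.fst g954_0) [s962, s963] ct954_0 v954_0 5 w954_0_1 := (Phs.fin c954_1)
theorem n954 : Sound.{u} (cP4r 1 2) s954 0 :=
  (x954_2.ext2 (fun h => absurd h (by decide)) (AuxS.gam x954_2 c954_0) (AllS.cons n962 (AllS.cons n963 AllS.nil)) c954_3 (Phs.fin (ct := ct954_0) rfl) (Phs.stp c954_2 p954_0_1) :)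
theorem x955 : AuxS.{u} (cP4r 1 2) s955 0 a955 := aux_base3 tw426 rfl b955
theorem x955_1 : AuxS.{u} (cP4r 1 2) s955 0 a955_1 := x955
theorem x955_2 : AuxS.{u} (cP4r 1 2) s955 0 a955_2 := x955_1
theorem n955 : Sound.{u} (cP4r 1 2) s955 0 :=
  (x955_2.ext2 (fun h => absurd h (by decide)) GamS.nil AllS.nil c955_1 (Phs.fin (ct := ct955_0) rfl) (Phs.fin c955_0) :)
theorem x956 : AuxS.{u} (cP4r 1 2) s956 0 a956 := aux_base3 tw427 rfl b956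
theorem x956_1 : AuxS.{u} (cP4r 1 2) s956 0 a956_1 := (AuxS.up x956 c956_1 :)
theorem n956 : Sound.{u} (cP4r 1 2) s956 0 :=
  (x956_1.k1 c956_0 :)
theorem x957 : AuxS.{u} (cP4r 1 2) s957 0 a957 := aux_base3 tw428 rfl b957
theorem x957_1 : AuxS.{u} (cP4r 1 2) s957 0 a957_1 := (AuxS.up x957 c957_1 :)
theorem n957 : Sound.{u} (cP4r 1 2) s957 0 :=
  (x957_1.k1 c957_0 :)
theorem x958 : AuxS.{u} (cP4r 1 2) s958 0 a958 := aux_base3 tw429 rfl b958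
theorem x958_1 : AuxS.{u} (cP4r 1 2) s958 0 a958_1 := x958
theorem x958_2 : AuxS.{u} (cP4r 1 2) s958 0 a958_2 := x958_1
theorem n958 : Sound.{u} (cP4r 1 2) s958 0 :=
  (x958_2.ext2 (fun h => absurd h (by decide)) GamS.nil AllS.nil c958_1 (Phs.fin (ct := ct958_0) rfl) (Phs.fin c958_0) :)
theorem x986 : AuxS.{u} (cP4r 1 2) s986 0 a986 := aux_base3 tw455 rfl b986
theorem x986_1 : AuxS.{u} (cP4r 1 2) s986 0 a986_1 := x986
theorem x986_2 : AuxS.{u} (cP4r 1 2) s986 0 a986_2 := x986_1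
theorem n986 : Sound.{u} (cP4r 1 2) s986 0 :=
  (x986_2.fr GamS.nil AllS.nil c986_0 :)
theorem x987 : AuxS.{u} (cP4r 1 2) s987 0 a987 := aux_base3 tw456 rfl b987
theorem x987_1 : AuxS.{u} (cP4r 1 2) s987 0 a987_1 := x987
theorem x987_2 : AuxS.{u} (cP4r 1 2) s987 0 a987_2 := x987_1
theorem n987 : Sound.{u} (cP4r 1 2) s987 0 :=
  (x987_2.fr GamS.nil AllS.nil c987_0 :)
theorem x988 : AuxS.{u} (cP4r 1 2) s988 0 a988 := aux_base3 tw457 rfl b988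
theorem x988_1 : AuxS.{u} (cP4r 1 2) s988 0 a988_1 := x988
theorem x988_2 : AuxS.{u} (cP4r 1 2) s988 0 a988_2 := x988_1
theorem n988 : Sound.{u} (cP4r 1 2) s988 0 :=
  (x988_2.fr GamS.nil AllS.nil c988_0 :)
theorem x989 : AuxS.{u} (cP4r 1 2) s989 0 a989 := aux_base3 tw458 rfl b989
theorem x989_1 : AuxS.{u} (cP4r 1 2) s989 0 a989_1 := x989
theorem x989_2 : AuxS.{u} (cP4r 1 2) s989 0 a989_2 := x989_1
theorem n989 : Sound.{u} (cP4r 1 2) s989 0 :=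
  (x989_2.fr GamS.nil AllS.nil c989_0 :)
theorem x990 : AuxS.{u} (cP4r 1 2) s990 0 a990 := aux_base3 tw459 rfl b990
theorem n990 : Sound.{u} (cP4r 1 2) s990 0 :=
  (x990.k4 c990_0 :)
theorem x991 : AuxS.{u} (cP4r 1 2) s991 0 a991 := aux_base3 tw460 rfl b991
theorem n991 : Sound.{u} (cP4r 1 2) s991 0 :=
  (x991.k4 c991_0 :)
theorem x992 : AuxS.{u} (cP4r 1 2) s992 0 a992 := aux_base3 tw461 rfl b992
theorem n992 : Sound.{u} (cP4r 1 2) s992 0 :=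
  (x992.k4 c992_0 :)
theorem x993 : AuxS.{u} (cP4r 1 2) s993 0 a993 := aux_base3 tw462 rfl b993
theorem n993 : Sound.{u} (cP4r 1 2) s993 0 :=
  (x993.k4 c993_0 :)
theorem x994 : AuxS.{u} (cP4r 1 2) s994 0 a994 := aux_base3 tw463 rfl b994
theorem x994_1 : AuxS.{u} (cP4r 1 2) s994 0 a994_1 := x994
theorem x994_2 : AuxS.{u} (cP4r 1 2) s994 0 a994_2 := x994_1
theorem n994 : Sound.{u} (cP4r 1 2) s994 0 :=
  (x994_2.fr GamS.nil AllS.nil c994_0 :)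
theorem x995 : AuxS.{u} (cP4r 1 2) s995 0 a995 := aux_base3 tw464 rfl b995
theorem x995_1 : AuxS.{u} (cP4r 1 2) s995 0 a995_1 := x995
theorem x995_2 : AuxS.{u} (cP4r 1 2) s995 0 a995_2 := x995_1
theorem n995 : Sound.{u} (cP4r 1 2) s995 0 :=
  (x995_2.fr GamS.nil AllS.nil c995_0 :)
theorem x996 : AuxS.{u} (cP4r 1 2) s996 0 a996 := aux_base3 tw465 rfl b996
theorem x996_1 : AuxS.{u} (cP4r 1 2) s996 0 a996_1 := x996
theorem x996_2 : AuxS.{u} (cP4r 1 2) s996 0 a996_2 := x996_1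
theorem n996 : Sound.{u} (cP4r 1 2) s996 0 :=
  (x996_2.fr GamS.nil AllS.nil c996_0 :)
theorem x997 : AuxS.{u} (cP4r 1 2) s997 0 a997 := aux_base3 tw466 rfl b997
theorem x997_1 : AuxS.{u} (cP4r 1 2) s997 0 a997_1 := x997
theorem x997_2 : AuxS.{u} (cP4r 1 2) s997 0 a997_2 := x997_1
theorem n997 : Sound.{u} (cP4r 1 2) s997 0 :=
  (x997_2.fr GamS.nil AllS.nil c997_0 :)
theorem x998 : AuxS.{u} (cP4r 1 2) s998 0 a998 := aux_base3 tw467 rfl b998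
theorem n998 : Sound.{u} (cP4r 1 2) s998 0 :=
  (x998.k4 c998_0 :)
theorem x999 : AuxS.{u} (cP4r 1 2) s999 0 a999 := aux_base3 tw468 rfl b999
theorem n999 : Sound.{u} (cP4r 1 2) s999 0 :=
  (x999.k4 c999_0 :)
theorem x1000 : AuxS.{u} (cP4r 1 2) s1000 0 a1000 := aux_base3 tw469 rfl b1000
theorem n1000 : Sound.{u} (cP4r 1 2) s1000 0 :=
  (x1000.k4 c1000_0 :)
theorem x1001 : AuxS.{u} (cP4r 1 2) s1001 0 a1001 := aux_base3 tw470 rfl b1001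
theorem n1001 : Sound.{u} (cP4r 1 2) s1001 0 :=
  (x1001.k4 c1001_0 :)
theorem x1002 : AuxS.{u} (cP4r 1 2) s1002 0 a1002 := aux_base3 tw471 rfl b1002
theorem n1002 : Sound.{u} (cP4r 1 2) s1002 0 :=
  (x1002.k3 c1002_0 :)
theorem x1003 : AuxS.{u} (cP4r 1 2) s1003 0 a1003 := aux_base3 tw472 rfl b1003
theorem n1003 : Sound.{u} (cP4r 1 2) s1003 0 :=
  (x1003.k3 c1003_0 :)
theorem x985 : AuxS.{u} (cP4r 1 2) s985 0 a985 := aux_base3 tw430 rfl b985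
theorem x985_1 : AuxS.{u} (cP4r 1 2) s985 0 a985_1 := (AuxS.up x985 c985_6 :)
theorem x985_2 : AuxS.{u} (cP4r 1 2) s985 0 a985_2 := (AuxS.up2 x985_1 c985_7 :)
theorem x985_3 : AuxS.{u} (cP4r 1 2) s985 0 a985_3 := x985_2
theorem p985_0_1 : Phs s985 a985_3 (List.map Prod.fst g985_0) [s986, s987, s988, s989, s990, s991, s992, s993, s994, s995, s996, s997, s998, s999, s1000, s1001, s1002, s1003] ct985_0 v985_0 5 w985_0_1 := (Phs.fin c985_1)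
theorem p985_0_3 : Phs s985 a985_3 (List.map Prod.fst g985_0) [s986, s987, s988, s989, s990, s991, s992, s993, s994, s995, s996, s997, s998, s999, s1000, s1001, s1002, s1003] ct985_0 v985_0 4 w985_0_3 := (Phs.stp c985_2 p985_0_1)
theorem p985_0_5 : Phs s985 a985_3 (List.map Prod.fst g985_0) [s986, s987, s988, s989, s990, s991, s992, s993, s994, s995, s996, s997, s998, s999, s1000, s1001, s1002, s1003] ct985_0 v985_0 1 w985_0_5 := (Phs.stp c985_3 p985_0_3)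
theorem n985 : Sound.{u} (cP4r 1 2) s985 0 :=
  (x985_3.ext2 (fun h => absurd h (by decide)) (AuxS.gam x985_3 c985_0) (AllS.cons n986 (AllS.cons n987 (AllS.cons n988 (AllS.cons n989 (AllS.cons n990 (AllS.cons n991 (AllS.cons n992 (AllS.cons n993 (AllS.cons n994 (AllS.cons n995 (AllS.cons n996 (AllS.cons n997 (AllS.cons n998 (AllS.cons n999 (AllS.cons n1000 (AllS.cons n1001 (AllS.cons n1002 (AllS.cons n1003 AllS.nil)))))))))))))))))) c985_5 (Phs.stp c985_4 p985_0_5) (Phs.fin (ct := ct985_0) rfl) :)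
theorem x983 : AuxS.{u} (cP4r 1 2) s983 0 a983 := aux_base3 tw453 rfl b983
theorem x983_1 : AuxS.{u} (cP4r 1 2) s983 0 a983_1 := x983
theorem x983_2 : AuxS.{u} (cP4r 1 2) s983 0 a983_2 := x983_1
theorem n983 : Sound.{u} (cP4r 1 2) s983 0 :=
  (x983_2.jump c983_0 c983_1 n985 :)
theorem x984 : AuxS.{u} (cP4r 1 2) s984 0 a984 := aux_base3 tw454 rfl b984
theorem x984_1 : AuxS.{u} (cP4r 1 2) s984 0 a984_1 := (AuxS.up x984 c984_1 :)
theorem n984 : Sound.{u} (cP4r 1 2) s984 0 :=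
  (x984_1.k1 c984_0 :)
theorem x959 : AuxS.{u} (cP4r 1 2) s959 0 a959 := aux_base3 tw430 rfl b959
theorem x959_1 : AuxS.{u} (cP4r 1 2) s959 0 a959_1 := x959
theorem x959_2 : AuxS.{u} (cP4r 1 2) s959 0 a959_2 := x959_1
theorem p959_0_1 : Phs s959 a959_2 (List.map Prod.fst g959_0) [s983, s984] ct959_0 v959_0 5 w959_0_1 := (Phs.fin c959_1)
theorem n959 : Sound.{u} (cP4r 1 2) s959 0 :=
  (x959_2.ext2 (fun h => absurd h (by decide)) (AuxS.gam x959_2 c959_0) (AllS.cons n983 (AllS.cons n984 AllS.nil)) c959_3 (Phs.fin (ct := ct959_0) rfl) (Phs.stp c959_2 p959_0_1) :)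
theorem x960 : AuxS.{u} (cP4r 1 2) s960 0 a960 := aux_base3 tw431 rfl b960
theorem x960_1 : AuxS.{u} (cP4r 1 2) s960 0 a960_1 := (AuxS.up x960 c960_1 :)
theorem n960 : Sound.{u} (cP4r 1 2) s960 0 :=
  (x960_1.k1 c960_0 :)
theorem x961 : AuxS.{u} (cP4r 1 2) s961 0 a961 := aux_base3 tw432 rfl b961
theorem x961_1 : AuxS.{u} (cP4r 1 2) s961 0 a961_1 := (AuxS.up x961 c961_1 :)
theorem n961 : Sound.{u} (cP4r 1 2) s961 0 :=
  (x961_1.k1 c961_0 :)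
theorem x26 : AuxS.{u} (cP4r 1 2) s26 0 a26 := aux_base3 tw26 rfl b26
theorem x26_1 : AuxS.{u} (cP4r 1 2) s26 0 a26_1 := (AuxS.up x26 c26_4 :)
theorem p26_0_1 : Phs s26 a26_1 [] [s954, s955, s956, s957, s958, s959, s960, s961] ct26_0 v26_0 4 w26_0_1 := (Phs.fin c26_0)
theorem p26_0_3 : Phs s26 a26_1 [] [s954, s955, s956, s957, s958, s959, s960, s961] ct26_0 v26_0 1 w26_0_3 := (Phs.stp c26_1 p26_0_1)
theorem n26 : Sound.{u} (cP4r 1 2) s26 0 :=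
  (x26_1.ext2 (fun h => absurd h (by decide)) GamS.nil (AllS.cons n954 (AllS.cons n955 (AllS.cons n956 (AllS.cons n957 (AllS.cons n958 (AllS.cons n959 (AllS.cons n960 (AllS.cons n961 AllS.nil)))))))) c26_3 (Phs.stp c26_2 p26_0_3) (Phs.fin (ct := ct26_0) rfl) :)
theorem x1004 : AuxS.{u} (cP4r 1 2) s1004 0 a1004 := aux_base3 tw473 rfl b1004
theorem x1004_1 : AuxS.{u} (cP4r 1 2) s1004 0 a1004_1 := (AuxS.up x1004 c1004_1 :)
theorem x1004_2p : AuxS.{u} (cP4r 1 2) s1004 0 a1004_2p := (AuxS.up x1004_1 c1004_2 :)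
theorem x1004_2 : AuxS.{u} (cP4r 1 2) s1004 0 a1004_2 := (AuxS.up2 x1004_2p c1004_3 :)
theorem n1004 : Sound.{u} (cP4r 1 2) s1004 0 :=
  (x1004_2.k7 c1004_0 :)
theorem x1005 : AuxS.{u} (cP4r 1 2) s1005 0 a1005 := aux_base3 tw474 rfl b1005
theorem x1005_1 : AuxS.{u} (cP4r 1 2) s1005 0 a1005_1 := (AuxS.up x1005 c1005_1 :)
theorem n1005 : Sound.{u} (cP4r 1 2) s1005 0 :=
  (x1005_1.k1 c1005_0 :)
theorem x1014 : AuxS.{u} (cP4r 1 2) s1014 0 a1014 := aux_base3 tw481 rfl b1014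
theorem x1014_1 : AuxS.{u} (cP4r 1 2) s1014 0 a1014_1 := (AuxS.up x1014 c1014_1 :)
theorem x1014_2 : AuxS.{u} (cP4r 1 2) s1014 0 a1014_2 := (AuxS.up2 x1014_1 c1014_2 :)
theorem n1014 : Sound.{u} (cP4r 1 2) s1014 0 :=
  (x1014_2.k7 c1014_0 :)
theorem x1015 : AuxS.{u} (cP4r 1 2) s1015 0 a1015 := aux_base3 tw481 rfl b1015
theorem x1015_1 : AuxS.{u} (cP4r 1 2) s1015 0 a1015_1 := (AuxS.up x1015 c1015_1 :)
theorem x1015_2 : AuxS.{u} (cP4r 1 2) s1015 0 a1015_2 := (AuxS.up2 x1015_1 c1015_2 :)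
theorem n1015 : Sound.{u} (cP4r 1 2) s1015 0 :=
  (x1015_2.k7 c1015_0 :)
theorem x1016 : AuxS.{u} (cP4r 1 2) s1016 0 a1016 := aux_base3 tw481 rfl b1016
theorem x1016_1 : AuxS.{u} (cP4r 1 2) s1016 0 a1016_1 := (AuxS.up x1016 c1016_1 :)
theorem x1016_2 : AuxS.{u} (cP4r 1 2) s1016 0 a1016_2 := (AuxS.up2 x1016_1 c1016_2 :)
theorem n1016 : Sound.{u} (cP4r 1 2) s1016 0 :=
  (x1016_2.k7 c1016_0 :)
theorem x1017 : AuxS.{u} (cP4r 1 2) s1017 0 a1017 := aux_base3 tw481 rfl b1017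
theorem x1017_1 : AuxS.{u} (cP4r 1 2) s1017 0 a1017_1 := (AuxS.up x1017 c1017_1 :)
theorem x1017_2 : AuxS.{u} (cP4r 1 2) s1017 0 a1017_2 := (AuxS.up2 x1017_1 c1017_2 :)
theorem n1017 : Sound.{u} (cP4r 1 2) s1017 0 :=
  (x1017_2.k7 c1017_0 :)
theorem x1012 : AuxS.{u} (cP4r 1 2) s1012 0 a1012 := aux_base3 tw481 rfl b1012
theorem x1012_1 : AuxS.{u} (cP4r 1 2) s1012 0 a1012_1 := x1012
theorem x1012_2 : AuxS.{u} (cP4r 1 2) s1012 0 a1012_2 := x1012_1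
theorem n1012 : Sound.{u} (cP4r 1 2) s1012 0 :=
  (x1012_2.rho (AllS.cons n1014 (AllS.cons n1015 (AllS.cons n1016 (AllS.cons n1017 AllS.nil)))) c1012_0 :)
theorem x1013 : AuxS.{u} (cP4r 1 2) s1013 0 a1013 := aux_base3 tw482 rfl b1013
theorem x1013_1 : AuxS.{u} (cP4r 1 2) s1013 0 a1013_1 := (AuxS.up x1013 c1013_1 :)
theorem n1013 : Sound.{u} (cP4r 1 2) s1013 0 :=
  (x1013_1.k1 c1013_0 :)
theorem x1006 : AuxS.{u} (cP4r 1 2) s1006 0 a1006 := aux_base3 tw475 rfl b1006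
theorem x1006_1 : AuxS.{u} (cP4r 1 2) s1006 0 a1006_1 := x1006
theorem x1006_2 : AuxS.{u} (cP4r 1 2) s1006 0 a1006_2 := x1006_1
theorem p1006_0_1 : Phs s1006 a1006_2 (List.map Prod.fst g1006_0) [s1012, s1013] ct1006_0 v1006_0 5 w1006_0_1 := (Phs.fin c1006_1)
theorem n1006 : Sound.{u} (cP4r 1 2) s1006 0 :=
  (x1006_2.ext2 (fun h => absurd h (by decide)) (AuxS.gam x1006_2 c1006_0) (AllS.cons n1012 (AllS.cons n1013 AllS.nil)) c1006_3 (Phs.fin (ct := ct1006_0) rfl) (Phs.stp c1006_2 p1006_0_1) :)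
theorem x1007 : AuxS.{u} (cP4r 1 2) s1007 0 a1007 := aux_base3 tw476 rfl b1007
theorem x1007_1 : AuxS.{u} (cP4r 1 2) s1007 0 a1007_1 := (AuxS.up x1007 c1007_1 :)
theorem n1007 : Sound.{u} (cP4r 1 2) s1007 0 :=
  (x1007_1.k1 c1007_0 :)
theorem x1008 : AuxS.{u} (cP4r 1 2) s1008 0 a1008 := aux_base3 tw477 rfl b1008
theorem x1008_1 : AuxS.{u} (cP4r 1 2) s1008 0 a1008_1 := (AuxS.up x1008 c1008_1 :)
theorem n1008 : Sound.{u} (cP4r 1 2) s1008 0 :=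
  (x1008_1.k1 c1008_0 :)
theorem x1009 : AuxS.{u} (cP4r 1 2) s1009 0 a1009 := aux_base3 tw478 rfl b1009
theorem x1009_1 : AuxS.{u} (cP4r 1 2) s1009 0 a1009_1 := (AuxS.up x1009 c1009_1 :)
theorem x1009_2p : AuxS.{u} (cP4r 1 2) s1009 0 a1009_2p := (AuxS.up x1009_1 c1009_2 :)
theorem x1009_2 : AuxS.{u} (cP4r 1 2) s1009 0 a1009_2 := (AuxS.up2 x1009_2p c1009_3 :)
theorem n1009 : Sound.{u} (cP4r 1 2) s1009 0 :=
  (x1009_2.k7 c1009_0 :)
theorem x1010 : AuxS.{u} (cP4r 1 2) s1010 0 a1010 := aux_base3 tw479 rfl b1010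
theorem x1010_1 : AuxS.{u} (cP4r 1 2) s1010 0 a1010_1 := (AuxS.up x1010 c1010_1 :)
theorem n1010 : Sound.{u} (cP4r 1 2) s1010 0 :=
  (x1010_1.k1 c1010_0 :)
theorem x1020 : AuxS.{u} (cP4r 1 2) s1020 0 a1020 := aux_base3 tw480 rfl b1020
theorem x1020_1 : AuxS.{u} (cP4r 1 2) s1020 0 a1020_1 := (AuxS.up x1020 c1020_4 :)
theorem x1020_2 : AuxS.{u} (cP4r 1 2) s1020 0 a1020_2 := (AuxS.up2 x1020_1 c1020_5 :)
theorem x1020_3 : AuxS.{u} (cP4r 1 2) s1020 0 a1020_3 := (AuxS.up x1020_2 c1020_6 :)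
theorem x1020_4 : AuxS.{u} (cP4r 1 2) s1020 0 a1020_4 := x1020_3
theorem x1020_5 : AuxS.{u} (cP4r 1 2) s1020 0 a1020_5 := x1020_4
theorem x1020_6 : AuxS.{u} (cP4r 1 2) s1020 0 a1020_6 := x1020_5
theorem p1020_0_1 : Phs s1020 a1020_6 [] [] ct1020_0 v1020_0 4 w1020_0_1 := (Phs.fin c1020_0)
theorem p1020_0_3 : Phs s1020 a1020_6 [] [] ct1020_0 v1020_0 1 w1020_0_3 := (Phs.stp c1020_1 p1020_0_1)
theorem n1020 : Sound.{u} (cP4r 1 2) s1020 0 :=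
  (x1020_6.ext2 (fun h => absurd h (by decide)) GamS.nil AllS.nil c1020_3 (Phs.stp c1020_2 p1020_0_3) (Phs.fin (ct := ct1020_0) rfl) :)
theorem x1018 : AuxS.{u} (cP4r 1 2) s1018 0 a1018 := aux_base3 tw483 rfl b1018
theorem x1018_1 : AuxS.{u} (cP4r 1 2) s1018 0 a1018_1 := x1018
theorem x1018_2 : AuxS.{u} (cP4r 1 2) s1018 0 a1018_2 := x1018_1
theorem x1018_3 : AuxS.{u} (cP4r 1 2) s1018 0 a1018_3 := x1018_2
theorem n1018 : Sound.{u} (cP4r 1 2) s1018 0 :=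
  (x1018_3.jump c1018_0 c1018_1 n1020 :)
theorem x1019 : AuxS.{u} (cP4r 1 2) s1019 0 a1019 := aux_base3 tw484 rfl b1019
theorem x1019_1 : AuxS.{u} (cP4r 1 2) s1019 0 a1019_1 := (AuxS.up x1019 c1019_1 :)
theorem n1019 : Sound.{u} (cP4r 1 2) s1019 0 :=
  (x1019_1.k1 c1019_0 :)
theorem x1011 : AuxS.{u} (cP4r 1 2) s1011 0 a1011 := aux_base3 tw480 rfl b1011
theorem x1011_1 : AuxS.{u} (cP4r 1 2) s1011 0 a1011_1 := x1011
theorem x1011_2 : AuxS.{u} (cP4r 1 2) s1011 0 a1011_2 := x1011_1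
theorem x1011_3 : AuxS.{u} (cP4r 1 2) s1011 0 a1011_3 := x1011_2
theorem x1011_4 : AuxS.{u} (cP4r 1 2) s1011 0 a1011_4 := x1011_3
theorem p1011_0_1 : Phs s1011 a1011_4 (List.map Prod.fst g1011_0) [s1018, s1019] ct1011_0 v1011_0 5 w1011_0_1 := (Phs.fin c1011_1)
theorem n1011 : Sound.{u} (cP4r 1 2) s1011 0 :=
  (x1011_4.ext2 (fun h => absurd h (by decide)) (AuxS.gam x1011_4 c1011_0) (AllS.cons n1018 (AllS.cons n1019 AllS.nil)) c1011_3 (Phs.fin (ct := ct1011_0) rfl) (Phs.stp c1011_2 p1011_0_1) :)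
theorem x27 : AuxS.{u} (cP4r 1 2) s27 0 a27 := aux_base3 tw27 rfl b27
theorem x27_1 : AuxS.{u} (cP4r 1 2) s27 0 a27_1 := (AuxS.up x27 c27_4 :)
theorem p27_0_1 : Phs s27 a27_1 [] [s1004, s1005, s1006, s1007, s1008, s1009, s1010, s1011] ct27_0 v27_0 4 w27_0_1 := (Phs.fin c27_0)
theorem p27_0_3 : Phs s27 a27_1 [] [s1004, s1005, s1006, s1007, s1008, s1009, s1010, s1011] ct27_0 v27_0 1 w27_0_3 := (Phs.stp c27_1 p27_0_1)
theorem n27 : Sound.{u} (cP4r 1 2) s27 0 :=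
  (x27_1.ext2 (fun h => absurd h (by decide)) GamS.nil (AllS.cons n1004 (AllS.cons n1005 (AllS.cons n1006 (AllS.cons n1007 (AllS.cons n1008 (AllS.cons n1009 (AllS.cons n1010 (AllS.cons n1011 AllS.nil)))))))) c27_3 (Phs.stp c27_2 p27_0_3) (Phs.fin (ct := ct27_0) rfl) :)
theorem x28 : AuxS.{u} (cP4r 1 2) s28 0 a28 := aux_base3 tw28 rfl b28
theorem x28_1 : AuxS.{u} (cP4r 1 2) s28 0 a28_1 := (AuxS.up x28 c28_1 :)
theorem n28 : Sound.{u} (cP4r 1 2) s28 0 :=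
  (x28_1.k1 c28_0 :)
theorem x29 : AuxS.{u} (cP4r 1 2) s29 0 a29 := aux_base3 tw29 rfl b29
theorem n29 : Sound.{u} (cP4r 1 2) s29 0 :=
  (x29.k3 c29_0 :)
theorem x30 : AuxS.{u} (cP4r 1 2) s30 0 a30 := aux_base3 tw30 rfl b30
theorem n30 : Sound.{u} (cP4r 1 2) s30 0 :=
  (x30.k3 c30_0 :)
theorem x31 : AuxS.{u} (cP4r 1 2) s31 0 a31 := aux_base3 tw31 rfl b31
theorem n31 : Sound.{u} (cP4r 1 2) s31 0 :=
  (x31.k3 c31_0 :)
theorem x32 : AuxS.{u} (cP4r 1 2) s32 0 a32 := aux_base3 tw32 rfl b32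
theorem n32 : Sound.{u} (cP4r 1 2) s32 0 :=
  (x32.k3 c32_0 :)
theorem x0 : AuxS.{u} (cP4r 1 2) s0 0 a0 := aux_base3 tw0 rfl b0
theorem x0_1 : AuxS.{u} (cP4r 1 2) s0 0 a0_1 := (AuxS.up x0 c0_3 :)
theorem p0_0_1 : Phs s0 a0_1 [] [s1, s2, s3, s4, s5, s6, s7, s8, s9, s10, s11, s12, s13, s14, s15, s16, s17, s18, s19, s20, s21, s22, s23, s24, s25, s26, s27, s28, s29, s30, s31, s32] ct0_0 v0_0 2 w0_0_1 := (Phs.fin c0_0)
theorem n0 : Sound.{u} (cP4r 1 2) s0 0 :=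
  (x0_1.ext2 (fun h => absurd h (by decide)) GamS.nil (AllS.cons n1 (AllS.cons n2 (AllS.cons n3 (AllS.cons n4 (AllS.cons n5 (AllS.cons n6 (AllS.cons n7 (AllS.cons n8 (AllS.cons n9 (AllS.cons n10 (AllS.cons n11 (AllS.cons n12 (AllS.cons n13 (AllS.cons n14 (AllS.cons n15 (AllS.cons n16 (AllS.cons n17 (AllS.cons n18 (AllS.cons n19 (AllS.cons n20 (AllS.cons n21 (AllS.cons n22 (AllS.cons n23 (AllS.cons n24 (AllS.cons n25 (AllS.cons n26 (AllS.cons n27 (AllS.cons n28 (AllS.cons n29 (AllS.cons n30 (AllS.cons n31 (AllS.cons n32 AllS.nil)))))))))))))))))))))))))))))))) c0_2 (Phs.stp c0_1 p0_0_1) (Phs.fin (ct := ct0_0) rfl) :)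

theorem main : Sound.{u} (cP4r 1 2) (root 1) 0 := n0

end

end CfsgLib.Dih8.TP12
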