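import Cfsg.Agent.Lib.Dih8.G.TP13C0
import Cfsg.Agent.Lib.Dih8.G.TP13C1
import Cfsg.Agent.Lib.Dih8.G.TP13C2
import Cfsg.Agent.Lib.Dih8.G.TP13C3
import Cfsg.Agent.Lib.Dih8.G.TP13C4
import Cfsg.Agent.Lib.Dih8.G.TP13C5
import Cfsg.Agent.Lib.Dih8.G.TP13C6
import Cfsg.Agent.Lib.Dih8.Rules

/-! Generated certificates (plans/DIH8.md). -/

set_option autoImplicit false
set_option maxRecDepth 100000
set_option Elab.async false
set_option maxHeartbeats 0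
set_option linter.all false

namespace CfsgLib.Dih8.TP13

noncomputable section

universe u

theorem tw79 : Tow.{u} l79 t79 := tow_of tc79_0 (Rng.zero.step tc79_1) (Rng.zero.step tc79_2)
theorem tw63 : Tow.{u} l63 t63 := tow_of tc63_0 (Rng.zero.step tc63_1) (Rng.zero.step tc63_2)
theorem tw64 : Tow.{u} l64 t64 := tow_of tc64_0 (Rng.zero.step tc64_1) (Rng.zero.step tc64_2)
theorem tw65 : Tow.{u} l65 t65 := tow_of tc65_0 (Rng.zero.step tc65_1) (Rng.zero.step tc65_2)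
theorem tw66 : Tow.{u} l66 t66 := tow_of tc66_0 (Rng.zero.step tc66_1) (Rng.zero.step tc66_2)
theorem tw67 : Tow.{u} l67 t67 := tow_of tc67_0 (Rng.zero.step tc67_1) (Rng.zero.step tc67_2)
theorem tw80 : Tow.{u} l80 t80 := tow_of tc80_0 (Rng.zero.step tc80_1) (Rng.zero.step tc80_2)
theorem tw68 : Tow.{u} l68 t68 := tow_of tc68_0 (Rng.zero.step tc68_1) (Rng.zero.step tc68_2)
theorem tw69 : Tow.{u} l69 t69 := tow_of tc69_0 (Rng.zero.step tc69_1) (Rng.zero.step tc69_2)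
theorem tw70 : Tow.{u} l70 t70 := tow_of tc70_0 (Rng.zero.step tc70_1) (Rng.zero.step tc70_2)
theorem tw71 : Tow.{u} l71 t71 := tow_of tc71_0 (Rng.zero.step tc71_1) (Rng.zero.step tc71_2)
theorem tw72 : Tow.{u} l72 t72 := tow_of tc72_0 (Rng.zero.step tc72_1) (Rng.zero.step tc72_2)
theorem tw73 : Tow.{u} l73 t73 := tow_of tc73_0 (Rng.zero.step tc73_1) (Rng.zero.step tc73_2)
theorem tw74 : Tow.{u} l74 t74 := tow_of tc74_0 (Rng.zero.step tc74_1) (Rng.zero.step tc74_2)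
theorem tw75 : Tow.{u} l75 t75 := tow_of tc75_0 (Rng.zero.step tc75_1) (Rng.zero.step tc75_2)
theorem tw76 : Tow.{u} l76 t76 := tow_of tc76_0 (Rng.zero.step tc76_1) (Rng.zero.step tc76_2)
theorem tw77 : Tow.{u} l77 t77 := tow_of tc77_0 (Rng.zero.step tc77_1) (Rng.zero.step tc77_2)
theorem tw78 : Tow.{u} l78 t78 := tow_of tc78_0 (Rng.zero.step tc78_1) (Rng.zero.step tc78_2)
theorem tw45 : Tow.{u} l45 t45 := tow_of tc45_0 (Rng.zero.step tc45_1) (Rng.zero.step tc45_2)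
theorem tw46 : Tow.{u} l46 t46 := tow_of tc46_0 (Rng.zero.step tc46_1) (Rng.zero.step tc46_2)
theorem tw47 : Tow.{u} l47 t47 := tow_of tc47_0 (Rng.zero.step tc47_1) (Rng.zero.step tc47_2)
theorem tw48 : Tow.{u} l48 t48 := tow_of tc48_0 (Rng.zero.step tc48_1) (Rng.zero.step tc48_2)
theorem tw49 : Tow.{u} l49 t49 := tow_of tc49_0 (Rng.zero.step tc49_1) (Rng.zero.step tc49_2)
theorem tw50 : Tow.{u} l50 t50 := tow_of tc50_0 (Rng.zero.step tc50_1) (Rng.zero.step tc50_2)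
theorem tw51 : Tow.{u} l51 t51 := tow_of tc51_0 (Rng.zero.step tc51_1) (Rng.zero.step tc51_2)
theorem tw52 : Tow.{u} l52 t52 := tow_of tc52_0 (Rng.zero.step tc52_1) (Rng.zero.step tc52_2)
theorem tw53 : Tow.{u} l53 t53 := tow_of tc53_0 (Rng.zero.step tc53_1) (Rng.zero.step tc53_2)
theorem tw54 : Tow.{u} l54 t54 := tow_of tc54_0 (Rng.zero.step tc54_1) (Rng.zero.step tc54_2)
theorem tw55 : Tow.{u} l55 t55 := tow_of tc55_0 (Rng.zero.step tc55_1) (Rng.zero.step tc55_2)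
theorem tw56 : Tow.{u} l56 t56 := tow_of tc56_0 (Rng.zero.step tc56_1) (Rng.zero.step tc56_2)
theorem tw57 : Tow.{u} l57 t57 := tow_of tc57_0 (Rng.zero.step tc57_1) (Rng.zero.step tc57_2)
theorem tw58 : Tow.{u} l58 t58 := tow_of tc58_0 (Rng.zero.step tc58_1) (Rng.zero.step tc58_2)
theorem tw59 : Tow.{u} l59 t59 := tow_of tc59_0 (Rng.zero.step tc59_1) (Rng.zero.step tc59_2)
theorem tw60 : Tow.{u} l60 t60 := tow_of tc60_0 (Rng.zero.step tc60_1) (Rng.zero.step tc60_2)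
theorem tw61 : Tow.{u} l61 t61 := tow_of tc61_0 (Rng.zero.step tc61_1) (Rng.zero.step tc61_2)
theorem tw62 : Tow.{u} l62 t62 := tow_of tc62_0 (Rng.zero.step tc62_1) (Rng.zero.step tc62_2)
theorem tw33 : Tow.{u} l33 t33 := tow_of tc33_0 (Rng.zero.step tc33_1) (Rng.zero.step tc33_2)
theorem tw43 : Tow.{u} l43 t43 := tow_of tc43_0 (Rng.zero.step tc43_1) (Rng.zero.step tc43_2)
theorem tw44 : Tow.{u} l44 t44 := tow_of tc44_0 (Rng.zero.step tc44_1) (Rng.zero.step tc44_2)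
theorem tw83 : Tow.{u} l83 t83 := tow_of tc83_0 (Rng.zero.step tc83_1) (Rng.zero.step tc83_2)
theorem tw84 : Tow.{u} l84 t84 := tow_of tc84_0 (Rng.zero.step tc84_1) (Rng.zero.step tc84_2)
theorem tw85 : Tow.{u} l85 t85 := tow_of tc85_0 (Rng.zero.step tc85_1) (Rng.zero.step tc85_2)
theorem tw86 : Tow.{u} l86 t86 := tow_of tc86_0 (Rng.zero.step tc86_1) (Rng.zero.step tc86_2)
theorem tw87 : Tow.{u} l87 t87 := tow_of tc87_0 (Rng.zero.step tc87_1) (Rng.zero.step tc87_2)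
theorem tw88 : Tow.{u} l88 t88 := tow_of tc88_0 (Rng.zero.step tc88_1) (Rng.zero.step tc88_2)
theorem tw89 : Tow.{u} l89 t89 := tow_of tc89_0 (Rng.zero.step tc89_1) (Rng.zero.step tc89_2)
theorem tw90 : Tow.{u} l90 t90 := tow_of tc90_0 (Rng.zero.step tc90_1) (Rng.zero.step tc90_2)
theorem tw91 : Tow.{u} l91 t91 := tow_of tc91_0 (Rng.zero.step tc91_1) (Rng.zero.step tc91_2)
theorem tw92 : Tow.{u} l92 t92 := tow_of tc92_0 (Rng.zero.step tc92_1) (Rng.zero.step tc92_2)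
theorem tw93 : Tow.{u} l93 t93 := tow_of tc93_0 (Rng.zero.step tc93_1) (Rng.zero.step tc93_2)
theorem tw94 : Tow.{u} l94 t94 := tow_of tc94_0 (Rng.zero.step tc94_1) (Rng.zero.step tc94_2)
theorem tw95 : Tow.{u} l95 t95 := tow_of tc95_0 (Rng.zero.step tc95_1) (Rng.zero.step tc95_2)
theorem tw96 : Tow.{u} l96 t96 := tow_of tc96_0 (Rng.zero.step tc96_1) (Rng.zero.step tc96_2)
theorem tw97 : Tow.{u} l97 t97 := tow_of tc97_0 (Rng.zero.step tc97_1) (Rng.zero.step tc97_2)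
theorem tw98 : Tow.{u} l98 t98 := tow_of tc98_0 (Rng.zero.step tc98_1) (Rng.zero.step tc98_2)
theorem tw99 : Tow.{u} l99 t99 := tow_of tc99_0 (Rng.zero.step tc99_1) (Rng.zero.step tc99_2)
theorem tw100 : Tow.{u} l100 t100 := tow_of tc100_0 (Rng.zero.step tc100_1) (Rng.zero.step tc100_2)
theorem tw34 : Tow.{u} l34 t34 := tow_of tc34_0 (Rng.zero.step tc34_1) (Rng.zero.step tc34_2)
theorem tw81 : Tow.{u} l81 t81 := tow_of tc81_0 (Rng.zero.step tc81_1) (Rng.zero.step tc81_2)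
theorem tw82 : Tow.{u} l82 t82 := tow_of tc82_0 (Rng.zero.step tc82_1) (Rng.zero.step tc82_2)
theorem tw35 : Tow.{u} l35 t35 := tow_of tc35_0 (Rng.zero.step tc35_1) (Rng.zero.step tc35_2)
theorem tw36 : Tow.{u} l36 t36 := tow_of tc36_0 (Rng.zero.step tc36_1) (Rng.zero.step tc36_2)
theorem tw37 : Tow.{u} l37 t37 := tow_of tc37_0 (Rng.zero.step tc37_1) (Rng.zero.step tc37_2)
theorem tw38 : Tow.{u} l38 t38 := tow_of tc38_0 (Rng.zero.step tc38_1) (Rng.zero.step tc38_2)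
theorem tw103 : Tow.{u} l103 t103 := tow_of tc103_0 (Rng.zero.step tc103_1) (Rng.zero.step tc103_2)
theorem tw121 : Tow.{u} l121 t121 := tow_of tc121_0 (Rng.zero.step tc121_1) (Rng.zero.step tc121_2)
theorem tw122 : Tow.{u} l122 t122 := tow_of tc122_0 (Rng.zero.step tc122_1) (Rng.zero.step tc122_2)
theorem tw104 : Tow.{u} l104 t104 := tow_of tc104_0 (Rng.zero.step tc104_1) (Rng.zero.step tc104_2)
theorem tw105 : Tow.{u} l105 t105 := tow_of tc105_0 (Rng.zero.step tc105_1) (Rng.zero.step tc105_2)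
theorem tw106 : Tow.{u} l106 t106 := tow_of tc106_0 (Rng.zero.step tc106_1) (Rng.zero.step tc106_2)
theorem tw107 : Tow.{u} l107 t107 := tow_of tc107_0 (Rng.zero.step tc107_1) (Rng.zero.step tc107_2)
theorem tw108 : Tow.{u} l108 t108 := tow_of tc108_0 (Rng.zero.step tc108_1) (Rng.zero.step tc108_2)
theorem tw109 : Tow.{u} l109 t109 := tow_of tc109_0 (Rng.zero.step tc109_1) (Rng.zero.step tc109_2)
theorem tw110 : Tow.{u} l110 t110 := tow_of tc110_0 (Rng.zero.step tc110_1) (Rng.zero.step tc110_2)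
theorem tw111 : Tow.{u} l111 t111 := tow_of tc111_0 (Rng.zero.step tc111_1) (Rng.zero.step tc111_2)
theorem tw112 : Tow.{u} l112 t112 := tow_of tc112_0 (Rng.zero.step tc112_1) (Rng.zero.step tc112_2)
theorem tw113 : Tow.{u} l113 t113 := tow_of tc113_0 (Rng.zero.step tc113_1) (Rng.zero.step tc113_2)
theorem tw114 : Tow.{u} l114 t114 := tow_of tc114_0 (Rng.zero.step tc114_1) (Rng.zero.step tc114_2)
theorem tw115 : Tow.{u} l115 t115 := tow_of tc115_0 (Rng.zero.step tc115_1) (Rng.zero.step tc115_2)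
theorem tw116 : Tow.{u} l116 t116 := tow_of tc116_0 (Rng.zero.step tc116_1) (Rng.zero.step tc116_2)
theorem tw117 : Tow.{u} l117 t117 := tow_of tc117_0 (Rng.zero.step tc117_1) (Rng.zero.step tc117_2)
theorem tw118 : Tow.{u} l118 t118 := tow_of tc118_0 (Rng.zero.step tc118_1) (Rng.zero.step tc118_2)
theorem tw119 : Tow.{u} l119 t119 := tow_of tc119_0 (Rng.zero.step tc119_1) (Rng.zero.step tc119_2)
theorem tw120 : Tow.{u} l120 t120 := tow_of tc120_0 (Rng.zero.step tc120_1) (Rng.zero.step tc120_2)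
theorem tw39 : Tow.{u} l39 t39 := tow_of tc39_0 (Rng.zero.step tc39_1) (Rng.zero.step tc39_2)
theorem tw101 : Tow.{u} l101 t101 := tow_of tc101_0 (Rng.zero.step tc101_1) (Rng.zero.step tc101_2)
theorem tw102 : Tow.{u} l102 t102 := tow_of tc102_0 (Rng.zero.step tc102_1) (Rng.zero.step tc102_2)
theorem tw125 : Tow.{u} l125 t125 := tow_of tc125_0 (Rng.zero.step tc125_1) (Rng.zero.step tc125_2)
theorem tw126 : Tow.{u} l126 t126 := tow_of tc126_0 (Rng.zero.step tc126_1) (Rng.zero.step tc126_2)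
theorem tw127 : Tow.{u} l127 t127 := tow_of tc127_0 (Rng.zero.step tc127_1) (Rng.zero.step tc127_2)
theorem tw128 : Tow.{u} l128 t128 := tow_of tc128_0 (Rng.zero.step tc128_1) (Rng.zero.step tc128_2)
theorem tw129 : Tow.{u} l129 t129 := tow_of tc129_0 (Rng.zero.step tc129_1) (Rng.zero.step tc129_2)
theorem tw130 : Tow.{u} l130 t130 := tow_of tc130_0 (Rng.zero.step tc130_1) (Rng.zero.step tc130_2)
theorem tw131 : Tow.{u} l131 t131 := tow_of tc131_0 (Rng.zero.step tc131_1) (Rng.zero.step tc131_2)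
theorem tw132 : Tow.{u} l132 t132 := tow_of tc132_0 (Rng.zero.step tc132_1) (Rng.zero.step tc132_2)
theorem tw133 : Tow.{u} l133 t133 := tow_of tc133_0 (Rng.zero.step tc133_1) (Rng.zero.step tc133_2)
theorem tw134 : Tow.{u} l134 t134 := tow_of tc134_0 (Rng.zero.step tc134_1) (Rng.zero.step tc134_2)
theorem tw135 : Tow.{u} l135 t135 := tow_of tc135_0 (Rng.zero.step tc135_1) (Rng.zero.step tc135_2)
theorem tw136 : Tow.{u} l136 t136 := tow_of tc136_0 (Rng.zero.step tc136_1) (Rng.zero.step tc136_2)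
theorem tw137 : Tow.{u} l137 t137 := tow_of tc137_0 (Rng.zero.step tc137_1) (Rng.zero.step tc137_2)
theorem tw138 : Tow.{u} l138 t138 := tow_of tc138_0 (Rng.zero.step tc138_1) (Rng.zero.step tc138_2)
theorem tw139 : Tow.{u} l139 t139 := tow_of tc139_0 (Rng.zero.step tc139_1) (Rng.zero.step tc139_2)
theorem tw140 : Tow.{u} l140 t140 := tow_of tc140_0 (Rng.zero.step tc140_1) (Rng.zero.step tc140_2)
theorem tw141 : Tow.{u} l141 t141 := tow_of tc141_0 (Rng.zero.step tc141_1) (Rng.zero.step tc141_2)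
theorem tw142 : Tow.{u} l142 t142 := tow_of tc142_0 (Rng.zero.step tc142_1) (Rng.zero.step tc142_2)
theorem tw40 : Tow.{u} l40 t40 := tow_of tc40_0 (Rng.zero.step tc40_1) (Rng.zero.step tc40_2)
theorem tw123 : Tow.{u} l123 t123 := tow_of tc123_0 (Rng.zero.step tc123_1) (Rng.zero.step tc123_2)
theorem tw124 : Tow.{u} l124 t124 := tow_of tc124_0 (Rng.zero.step tc124_1) (Rng.zero.step tc124_2)
theorem tw41 : Tow.{u} l41 t41 := tow_of tc41_0 (Rng.zero.step tc41_1) (Rng.zero.step tc41_2)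
theorem tw42 : Tow.{u} l42 t42 := tow_of tc42_0 (Rng.zero.step tc42_1) (Rng.zero.step tc42_2)
theorem tw1 : Tow.{u} l1 t1 := tow_of tc1_0 (Rng.zero.step tc1_1) (Rng.zero.step tc1_2)
theorem tw2 : Tow.{u} l2 t2 := tow_of tc2_0 (Rng.zero.step tc2_1) (Rng.zero.step tc2_2)
theorem tw3 : Tow.{u} l3 t3 := tow_of tc3_0 (Rng.zero.step tc3_1) (Rng.zero.step tc3_2)
theorem tw4 : Tow.{u} l4 t4 := tow_of tc4_0 (Rng.zero.step tc4_1) (Rng.zero.step tc4_2)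
theorem tw5 : Tow.{u} l5 t5 := tow_of tc5_0 (Rng.zero.step tc5_1) (Rng.zero.step tc5_2)
theorem tw6 : Tow.{u} l6 t6 := tow_of tc6_0 (Rng.zero.step tc6_1) (Rng.zero.step tc6_2)
theorem tw143 : Tow.{u} l143 t143 := tow_of tc143_0 (Rng.zero.step tc143_1) (Rng.zero.step tc143_2)
theorem tw144 : Tow.{u} l144 t144 := tow_of tc144_0 (Rng.zero.step tc144_1) (Rng.zero.step tc144_2)
theorem tw145 : Tow.{u} l145 t145 := tow_of tc145_0 (Rng.zero.step tc145_1) (Rng.zero.step tc145_2)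
theorem tw146 : Tow.{u} l146 t146 := tow_of tc146_0 (Rng.zero.step tc146_1) (Rng.zero.step tc146_2)
theorem tw147 : Tow.{u} l147 t147 := tow_of tc147_0 (Rng.zero.step tc147_1) (Rng.zero.step tc147_2)
theorem tw148 : Tow.{u} l148 t148 := tow_of tc148_0 (Rng.zero.step tc148_1) (Rng.zero.step tc148_2)
theorem tw149 : Tow.{u} l149 t149 := tow_of tc149_0 (Rng.zero.step tc149_1) (Rng.zero.step tc149_2)
theorem tw150 : Tow.{u} l150 t150 := tow_of tc150_0 (Rng.zero.step tc150_1) (Rng.zero.step tc150_2)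
theorem tw7 : Tow.{u} l7 t7 := tow_of tc7_0 (Rng.zero.step tc7_1) (Rng.zero.step tc7_2)
theorem tw151 : Tow.{u} l151 t151 := tow_of tc151_0 (Rng.zero.step tc151_1) (Rng.zero.step tc151_2)
theorem tw152 : Tow.{u} l152 t152 := tow_of tc152_0 (Rng.zero.step tc152_1) (Rng.zero.step tc152_2)
theorem tw166 : Tow.{u} l166 t166 := tow_of tc166_0 (Rng.zero.step tc166_1) (Rng.zero.step tc166_2)
theorem tw163 : Tow.{u} l163 t163 := tow_of tc163_0 (Rng.zero.step tc163_1) (Rng.zero.step tc163_2)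
theorem tw164 : Tow.{u} l164 t164 := tow_of tc164_0 (Rng.zero.step tc164_1) (Rng.zero.step tc164_2)
theorem tw161 : Tow.{u} l161 t161 := tow_of tc161_0 (Rng.zero.step tc161_1) (Rng.zero.step tc161_2)
theorem tw170 : Tow.{u} l170 t170 := tow_of tc170_0 (Rng.zero.step tc170_1) (Rng.zero.step tc170_2)
theorem tw167 : Tow.{u} l167 t167 := tow_of tc167_0 (Rng.zero.step tc167_1) (Rng.zero.step tc167_2)
theorem tw172 : Tow.{u} l172 t172 := tow_of tc172_0 (Rng.zero.step tc172_1) (Rng.zero.step tc172_2)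
theorem tw168 : Tow.{u} l168 t168 := tow_of tc168_0 (Rng.zero.step tc168_1) (Rng.zero.step tc168_2)
theorem tw162 : Tow.{u} l162 t162 := tow_of tc162_0 (Rng.zero.step tc162_1) (Rng.zero.step tc162_2)
theorem tw153 : Tow.{u} l153 t153 := tow_of tc153_0 (Rng.zero.step tc153_1) (Rng.zero.step tc153_2)
theorem tw159 : Tow.{u} l159 t159 := tow_of tc159_0 (Rng.zero.step tc159_1) (Rng.zero.step tc159_2)
theorem tw160 : Tow.{u} l160 t160 := tow_of tc160_0 (Rng.zero.step tc160_1) (Rng.zero.step tc160_2)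
theorem tw154 : Tow.{u} l154 t154 := tow_of tc154_0 (Rng.zero.step tc154_1) (Rng.zero.step tc154_2)
theorem tw173 : Tow.{u} l173 t173 := tow_of tc173_0 (Rng.zero.step tc173_1) (Rng.zero.step tc173_2)
theorem tw174 : Tow.{u} l174 t174 := tow_of tc174_0 (Rng.zero.step tc174_1) (Rng.zero.step tc174_2)
theorem tw155 : Tow.{u} l155 t155 := tow_of tc155_0 (Rng.zero.step tc155_1) (Rng.zero.step tc155_2)
theorem tw156 : Tow.{u} l156 t156 := tow_of tc156_0 (Rng.zero.step tc156_1) (Rng.zero.step tc156_2)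
theorem tw157 : Tow.{u} l157 t157 := tow_of tc157_0 (Rng.zero.step tc157_1) (Rng.zero.step tc157_2)
theorem tw158 : Tow.{u} l158 t158 := tow_of tc158_0 (Rng.zero.step tc158_1) (Rng.zero.step tc158_2)
theorem tw8 : Tow.{u} l8 t8 := tow_of tc8_0 (Rng.zero.step tc8_1) (Rng.zero.step tc8_2)
theorem tw9 : Tow.{u} l9 t9 := tow_of tc9_0 (Rng.zero.step tc9_1) (Rng.zero.step tc9_2)
theorem tw10 : Tow.{u} l10 t10 := tow_of tc10_0 (Rng.zero.step tc10_1) (Rng.zero.step tc10_2)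
theorem tw11 : Tow.{u} l11 t11 := tow_of tc11_0 (Rng.zero.step tc11_1) (Rng.zero.step tc11_2)
theorem tw12 : Tow.{u} l12 t12 := tow_of tc12_0 (Rng.zero.step tc12_1) (Rng.zero.step tc12_2)
theorem tw13 : Tow.{u} l13 t13 := tow_of tc13_0 (Rng.zero.step tc13_1) (Rng.zero.step tc13_2)
theorem tw14 : Tow.{u} l14 t14 := tow_of tc14_0 (Rng.zero.step tc14_1) (Rng.zero.step tc14_2)
theorem tw15 : Tow.{u} l15 t15 := tow_of tc15_0 (Rng.zero.step tc15_1) (Rng.zero.step tc15_2)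
theorem tw16 : Tow.{u} l16 t16 := tow_of tc16_0 (Rng.zero.step tc16_1) (Rng.zero.step tc16_2)
theorem tw219 : Tow.{u} l219 t219 := tow_of tc219_0 (Rng.zero.step tc219_1) (Rng.zero.step tc219_2)
theorem tw203 : Tow.{u} l203 t203 := tow_of tc203_0 (Rng.zero.step tc203_1) (Rng.zero.step tc203_2)
theorem tw204 : Tow.{u} l204 t204 := tow_of tc204_0 (Rng.zero.step tc204_1) (Rng.zero.step tc204_2)
theorem tw205 : Tow.{u} l205 t205 := tow_of tc205_0 (Rng.zero.step tc205_1) (Rng.zero.step tc205_2)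
theorem tw206 : Tow.{u} l206 t206 := tow_of tc206_0 (Rng.zero.step tc206_1) (Rng.zero.step tc206_2)
theorem tw207 : Tow.{u} l207 t207 := tow_of tc207_0 (Rng.zero.step tc207_1) (Rng.zero.step tc207_2)
theorem tw220 : Tow.{u} l220 t220 := tow_of tc220_0 (Rng.zero.step tc220_1) (Rng.zero.step tc220_2)
theorem tw208 : Tow.{u} l208 t208 := tow_of tc208_0 (Rng.zero.step tc208_1) (Rng.zero.step tc208_2)
theorem tw209 : Tow.{u} l209 t209 := tow_of tc209_0 (Rng.zero.step tc209_1) (Rng.zero.step tc209_2)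
theorem tw210 : Tow.{u} l210 t210 := tow_of tc210_0 (Rng.zero.step tc210_1) (Rng.zero.step tc210_2)
theorem tw211 : Tow.{u} l211 t211 := tow_of tc211_0 (Rng.zero.step tc211_1) (Rng.zero.step tc211_2)
theorem tw212 : Tow.{u} l212 t212 := tow_of tc212_0 (Rng.zero.step tc212_1) (Rng.zero.step tc212_2)
theorem tw213 : Tow.{u} l213 t213 := tow_of tc213_0 (Rng.zero.step tc213_1) (Rng.zero.step tc213_2)
theorem tw214 : Tow.{u} l214 t214 := tow_of tc214_0 (Rng.zero.step tc214_1) (Rng.zero.step tc214_2)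
theorem tw215 : Tow.{u} l215 t215 := tow_of tc215_0 (Rng.zero.step tc215_1) (Rng.zero.step tc215_2)
theorem tw216 : Tow.{u} l216 t216 := tow_of tc216_0 (Rng.zero.step tc216_1) (Rng.zero.step tc216_2)
theorem tw217 : Tow.{u} l217 t217 := tow_of tc217_0 (Rng.zero.step tc217_1) (Rng.zero.step tc217_2)
theorem tw218 : Tow.{u} l218 t218 := tow_of tc218_0 (Rng.zero.step tc218_1) (Rng.zero.step tc218_2)
theorem tw185 : Tow.{u} l185 t185 := tow_of tc185_0 (Rng.zero.step tc185_1) (Rng.zero.step tc185_2)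
theorem tw186 : Tow.{u} l186 t186 := tow_of tc186_0 (Rng.zero.step tc186_1) (Rng.zero.step tc186_2)
theorem tw187 : Tow.{u} l187 t187 := tow_of tc187_0 (Rng.zero.step tc187_1) (Rng.zero.step tc187_2)
theorem tw188 : Tow.{u} l188 t188 := tow_of tc188_0 (Rng.zero.step tc188_1) (Rng.zero.step tc188_2)
theorem tw189 : Tow.{u} l189 t189 := tow_of tc189_0 (Rng.zero.step tc189_1) (Rng.zero.step tc189_2)
theorem tw190 : Tow.{u} l190 t190 := tow_of tc190_0 (Rng.zero.step tc190_1) (Rng.zero.step tc190_2)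
theorem tw191 : Tow.{u} l191 t191 := tow_of tc191_0 (Rng.zero.step tc191_1) (Rng.zero.step tc191_2)
theorem tw192 : Tow.{u} l192 t192 := tow_of tc192_0 (Rng.zero.step tc192_1) (Rng.zero.step tc192_2)
theorem tw193 : Tow.{u} l193 t193 := tow_of tc193_0 (Rng.zero.step tc193_1) (Rng.zero.step tc193_2)
theorem tw194 : Tow.{u} l194 t194 := tow_of tc194_0 (Rng.zero.step tc194_1) (Rng.zero.step tc194_2)
theorem tw195 : Tow.{u} l195 t195 := tow_of tc195_0 (Rng.zero.step tc195_1) (Rng.zero.step tc195_2)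
theorem tw196 : Tow.{u} l196 t196 := tow_of tc196_0 (Rng.zero.step tc196_1) (Rng.zero.step tc196_2)
theorem tw197 : Tow.{u} l197 t197 := tow_of tc197_0 (Rng.zero.step tc197_1) (Rng.zero.step tc197_2)
theorem tw198 : Tow.{u} l198 t198 := tow_of tc198_0 (Rng.zero.step tc198_1) (Rng.zero.step tc198_2)
theorem tw199 : Tow.{u} l199 t199 := tow_of tc199_0 (Rng.zero.step tc199_1) (Rng.zero.step tc199_2)
theorem tw200 : Tow.{u} l200 t200 := tow_of tc200_0 (Rng.zero.step tc200_1) (Rng.zero.step tc200_2)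
theorem tw201 : Tow.{u} l201 t201 := tow_of tc201_0 (Rng.zero.step tc201_1) (Rng.zero.step tc201_2)
theorem tw202 : Tow.{u} l202 t202 := tow_of tc202_0 (Rng.zero.step tc202_1) (Rng.zero.step tc202_2)
theorem tw175 : Tow.{u} l175 t175 := tow_of tc175_0 (Rng.zero.step tc175_1) (Rng.zero.step tc175_2)
theorem tw183 : Tow.{u} l183 t183 := tow_of tc183_0 (Rng.zero.step tc183_1) (Rng.zero.step tc183_2)
theorem tw184 : Tow.{u} l184 t184 := tow_of tc184_0 (Rng.zero.step tc184_1) (Rng.zero.step tc184_2)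
theorem tw176 : Tow.{u} l176 t176 := tow_of tc176_0 (Rng.zero.step tc176_1) (Rng.zero.step tc176_2)
theorem tw177 : Tow.{u} l177 t177 := tow_of tc177_0 (Rng.zero.step tc177_1) (Rng.zero.step tc177_2)
theorem tw178 : Tow.{u} l178 t178 := tow_of tc178_0 (Rng.zero.step tc178_1) (Rng.zero.step tc178_2)
theorem tw179 : Tow.{u} l179 t179 := tow_of tc179_0 (Rng.zero.step tc179_1) (Rng.zero.step tc179_2)
theorem tw223 : Tow.{u} l223 t223 := tow_of tc223_0 (Rng.zero.step tc223_1) (Rng.zero.step tc223_2)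
theorem tw241 : Tow.{u} l241 t241 := tow_of tc241_0 (Rng.zero.step tc241_1) (Rng.zero.step tc241_2)
theorem tw242 : Tow.{u} l242 t242 := tow_of tc242_0 (Rng.zero.step tc242_1) (Rng.zero.step tc242_2)
theorem tw224 : Tow.{u} l224 t224 := tow_of tc224_0 (Rng.zero.step tc224_1) (Rng.zero.step tc224_2)
theorem tw225 : Tow.{u} l225 t225 := tow_of tc225_0 (Rng.zero.step tc225_1) (Rng.zero.step tc225_2)
theorem tw226 : Tow.{u} l226 t226 := tow_of tc226_0 (Rng.zero.step tc226_1) (Rng.zero.step tc226_2)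
theorem tw227 : Tow.{u} l227 t227 := tow_of tc227_0 (Rng.zero.step tc227_1) (Rng.zero.step tc227_2)
theorem tw228 : Tow.{u} l228 t228 := tow_of tc228_0 (Rng.zero.step tc228_1) (Rng.zero.step tc228_2)
theorem tw229 : Tow.{u} l229 t229 := tow_of tc229_0 (Rng.zero.step tc229_1) (Rng.zero.step tc229_2)
theorem tw230 : Tow.{u} l230 t230 := tow_of tc230_0 (Rng.zero.step tc230_1) (Rng.zero.step tc230_2)
theorem tw231 : Tow.{u} l231 t231 := tow_of tc231_0 (Rng.zero.step tc231_1) (Rng.zero.step tc231_2)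
theorem tw232 : Tow.{u} l232 t232 := tow_of tc232_0 (Rng.zero.step tc232_1) (Rng.zero.step tc232_2)
theorem tw233 : Tow.{u} l233 t233 := tow_of tc233_0 (Rng.zero.step tc233_1) (Rng.zero.step tc233_2)
theorem tw234 : Tow.{u} l234 t234 := tow_of tc234_0 (Rng.zero.step tc234_1) (Rng.zero.step tc234_2)
theorem tw235 : Tow.{u} l235 t235 := tow_of tc235_0 (Rng.zero.step tc235_1) (Rng.zero.step tc235_2)
theorem tw236 : Tow.{u} l236 t236 := tow_of tc236_0 (Rng.zero.step tc236_1) (Rng.zero.step tc236_2)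
theorem tw237 : Tow.{u} l237 t237 := tow_of tc237_0 (Rng.zero.step tc237_1) (Rng.zero.step tc237_2)
theorem tw238 : Tow.{u} l238 t238 := tow_of tc238_0 (Rng.zero.step tc238_1) (Rng.zero.step tc238_2)
theorem tw239 : Tow.{u} l239 t239 := tow_of tc239_0 (Rng.zero.step tc239_1) (Rng.zero.step tc239_2)
theorem tw240 : Tow.{u} l240 t240 := tow_of tc240_0 (Rng.zero.step tc240_1) (Rng.zero.step tc240_2)
theorem tw180 : Tow.{u} l180 t180 := tow_of tc180_0 (Rng.zero.step tc180_1) (Rng.zero.step tc180_2)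
theorem tw221 : Tow.{u} l221 t221 := tow_of tc221_0 (Rng.zero.step tc221_1) (Rng.zero.step tc221_2)
theorem tw222 : Tow.{u} l222 t222 := tow_of tc222_0 (Rng.zero.step tc222_1) (Rng.zero.step tc222_2)
theorem tw181 : Tow.{u} l181 t181 := tow_of tc181_0 (Rng.zero.step tc181_1) (Rng.zero.step tc181_2)
theorem tw182 : Tow.{u} l182 t182 := tow_of tc182_0 (Rng.zero.step tc182_1) (Rng.zero.step tc182_2)
theorem tw17 : Tow.{u} l17 t17 := tow_of tc17_0 (Rng.zero.step tc17_1) (Rng.zero.step tc17_2)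
theorem tw253 : Tow.{u} l253 t253 := tow_of tc253_0 (Rng.zero.step tc253_1) (Rng.zero.step tc253_2)
theorem tw254 : Tow.{u} l254 t254 := tow_of tc254_0 (Rng.zero.step tc254_1) (Rng.zero.step tc254_2)
theorem tw255 : Tow.{u} l255 t255 := tow_of tc255_0 (Rng.zero.step tc255_1) (Rng.zero.step tc255_2)
theorem tw256 : Tow.{u} l256 t256 := tow_of tc256_0 (Rng.zero.step tc256_1) (Rng.zero.step tc256_2)
theorem tw257 : Tow.{u} l257 t257 := tow_of tc257_0 (Rng.zero.step tc257_1) (Rng.zero.step tc257_2)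
theorem tw258 : Tow.{u} l258 t258 := tow_of tc258_0 (Rng.zero.step tc258_1) (Rng.zero.step tc258_2)
theorem tw259 : Tow.{u} l259 t259 := tow_of tc259_0 (Rng.zero.step tc259_1) (Rng.zero.step tc259_2)
theorem tw260 : Tow.{u} l260 t260 := tow_of tc260_0 (Rng.zero.step tc260_1) (Rng.zero.step tc260_2)
theorem tw261 : Tow.{u} l261 t261 := tow_of tc261_0 (Rng.zero.step tc261_1) (Rng.zero.step tc261_2)
theorem tw262 : Tow.{u} l262 t262 := tow_of tc262_0 (Rng.zero.step tc262_1) (Rng.zero.step tc262_2)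
theorem tw263 : Tow.{u} l263 t263 := tow_of tc263_0 (Rng.zero.step tc263_1) (Rng.zero.step tc263_2)
theorem tw264 : Tow.{u} l264 t264 := tow_of tc264_0 (Rng.zero.step tc264_1) (Rng.zero.step tc264_2)
theorem tw265 : Tow.{u} l265 t265 := tow_of tc265_0 (Rng.zero.step tc265_1) (Rng.zero.step tc265_2)
theorem tw266 : Tow.{u} l266 t266 := tow_of tc266_0 (Rng.zero.step tc266_1) (Rng.zero.step tc266_2)
theorem tw267 : Tow.{u} l267 t267 := tow_of tc267_0 (Rng.zero.step tc267_1) (Rng.zero.step tc267_2)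
theorem tw268 : Tow.{u} l268 t268 := tow_of tc268_0 (Rng.zero.step tc268_1) (Rng.zero.step tc268_2)
theorem tw269 : Tow.{u} l269 t269 := tow_of tc269_0 (Rng.zero.step tc269_1) (Rng.zero.step tc269_2)
theorem tw270 : Tow.{u} l270 t270 := tow_of tc270_0 (Rng.zero.step tc270_1) (Rng.zero.step tc270_2)
theorem tw243 : Tow.{u} l243 t243 := tow_of tc243_0 (Rng.zero.step tc243_1) (Rng.zero.step tc243_2)
theorem tw251 : Tow.{u} l251 t251 := tow_of tc251_0 (Rng.zero.step tc251_1) (Rng.zero.step tc251_2)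
theorem tw252 : Tow.{u} l252 t252 := tow_of tc252_0 (Rng.zero.step tc252_1) (Rng.zero.step tc252_2)
theorem tw244 : Tow.{u} l244 t244 := tow_of tc244_0 (Rng.zero.step tc244_1) (Rng.zero.step tc244_2)
theorem tw245 : Tow.{u} l245 t245 := tow_of tc245_0 (Rng.zero.step tc245_1) (Rng.zero.step tc245_2)
theorem tw246 : Tow.{u} l246 t246 := tow_of tc246_0 (Rng.zero.step tc246_1) (Rng.zero.step tc246_2)
theorem tw247 : Tow.{u} l247 t247 := tow_of tc247_0 (Rng.zero.step tc247_1) (Rng.zero.step tc247_2)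
theorem tw273 : Tow.{u} l273 t273 := tow_of tc273_0 (Rng.zero.step tc273_1) (Rng.zero.step tc273_2)
theorem tw274 : Tow.{u} l274 t274 := tow_of tc274_0 (Rng.zero.step tc274_1) (Rng.zero.step tc274_2)
theorem tw275 : Tow.{u} l275 t275 := tow_of tc275_0 (Rng.zero.step tc275_1) (Rng.zero.step tc275_2)
theorem tw276 : Tow.{u} l276 t276 := tow_of tc276_0 (Rng.zero.step tc276_1) (Rng.zero.step tc276_2)
theorem tw277 : Tow.{u} l277 t277 := tow_of tc277_0 (Rng.zero.step tc277_1) (Rng.zero.step tc277_2)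
theorem tw278 : Tow.{u} l278 t278 := tow_of tc278_0 (Rng.zero.step tc278_1) (Rng.zero.step tc278_2)
theorem tw279 : Tow.{u} l279 t279 := tow_of tc279_0 (Rng.zero.step tc279_1) (Rng.zero.step tc279_2)
theorem tw280 : Tow.{u} l280 t280 := tow_of tc280_0 (Rng.zero.step tc280_1) (Rng.zero.step tc280_2)
theorem tw281 : Tow.{u} l281 t281 := tow_of tc281_0 (Rng.zero.step tc281_1) (Rng.zero.step tc281_2)
theorem tw282 : Tow.{u} l282 t282 := tow_of tc282_0 (Rng.zero.step tc282_1) (Rng.zero.step tc282_2)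
theorem tw283 : Tow.{u} l283 t283 := tow_of tc283_0 (Rng.zero.step tc283_1) (Rng.zero.step tc283_2)
theorem tw284 : Tow.{u} l284 t284 := tow_of tc284_0 (Rng.zero.step tc284_1) (Rng.zero.step tc284_2)
theorem tw285 : Tow.{u} l285 t285 := tow_of tc285_0 (Rng.zero.step tc285_1) (Rng.zero.step tc285_2)
theorem tw286 : Tow.{u} l286 t286 := tow_of tc286_0 (Rng.zero.step tc286_1) (Rng.zero.step tc286_2)
theorem tw287 : Tow.{u} l287 t287 := tow_of tc287_0 (Rng.zero.step tc287_1) (Rng.zero.step tc287_2)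
theorem tw288 : Tow.{u} l288 t288 := tow_of tc288_0 (Rng.zero.step tc288_1) (Rng.zero.step tc288_2)
theorem tw289 : Tow.{u} l289 t289 := tow_of tc289_0 (Rng.zero.step tc289_1) (Rng.zero.step tc289_2)
theorem tw290 : Tow.{u} l290 t290 := tow_of tc290_0 (Rng.zero.step tc290_1) (Rng.zero.step tc290_2)
theorem tw248 : Tow.{u} l248 t248 := tow_of tc248_0 (Rng.zero.step tc248_1) (Rng.zero.step tc248_2)
theorem tw271 : Tow.{u} l271 t271 := tow_of tc271_0 (Rng.zero.step tc271_1) (Rng.zero.step tc271_2)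
theorem tw272 : Tow.{u} l272 t272 := tow_of tc272_0 (Rng.zero.step tc272_1) (Rng.zero.step tc272_2)
theorem tw249 : Tow.{u} l249 t249 := tow_of tc249_0 (Rng.zero.step tc249_1) (Rng.zero.step tc249_2)
theorem tw250 : Tow.{u} l250 t250 := tow_of tc250_0 (Rng.zero.step tc250_1) (Rng.zero.step tc250_2)
theorem tw18 : Tow.{u} l18 t18 := tow_of tc18_0 (Rng.zero.step tc18_1) (Rng.zero.step tc18_2)
theorem tw19 : Tow.{u} l19 t19 := tow_of tc19_0 (Rng.zero.step tc19_1) (Rng.zero.step tc19_2)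
theorem tw20 : Tow.{u} l20 t20 := tow_of tc20_0 (Rng.zero.step tc20_1) (Rng.zero.step tc20_2)
theorem tw291 : Tow.{u} l291 t291 := tow_of tc291_0 (Rng.zero.step tc291_1) (Rng.zero.step tc291_2)
theorem tw292 : Tow.{u} l292 t292 := tow_of tc292_0 (Rng.zero.step tc292_1) (Rng.zero.step tc292_2)
theorem tw293 : Tow.{u} l293 t293 := tow_of tc293_0 (Rng.zero.step tc293_1) (Rng.zero.step tc293_2)
theorem tw299 : Tow.{u} l299 t299 := tow_of tc299_0 (Rng.zero.step tc299_1) (Rng.zero.step tc299_2)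
theorem tw300 : Tow.{u} l300 t300 := tow_of tc300_0 (Rng.zero.step tc300_1) (Rng.zero.step tc300_2)
theorem tw294 : Tow.{u} l294 t294 := tow_of tc294_0 (Rng.zero.step tc294_1) (Rng.zero.step tc294_2)
theorem tw295 : Tow.{u} l295 t295 := tow_of tc295_0 (Rng.zero.step tc295_1) (Rng.zero.step tc295_2)
theorem tw296 : Tow.{u} l296 t296 := tow_of tc296_0 (Rng.zero.step tc296_1) (Rng.zero.step tc296_2)
theorem tw308 : Tow.{u} l308 t308 := tow_of tc308_0 (Rng.zero.step tc308_1) (Rng.zero.step tc308_2)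
theorem tw305 : Tow.{u} l305 t305 := tow_of tc305_0 (Rng.zero.step tc305_1) (Rng.zero.step tc305_2)
theorem tw306 : Tow.{u} l306 t306 := tow_of tc306_0 (Rng.zero.step tc306_1) (Rng.zero.step tc306_2)
theorem tw303 : Tow.{u} l303 t303 := tow_of tc303_0 (Rng.zero.step tc303_1) (Rng.zero.step tc303_2)
theorem tw304 : Tow.{u} l304 t304 := tow_of tc304_0 (Rng.zero.step tc304_1) (Rng.zero.step tc304_2)
theorem tw312 : Tow.{u} l312 t312 := tow_of tc312_0 (Rng.zero.step tc312_1) (Rng.zero.step tc312_2)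
theorem tw309 : Tow.{u} l309 t309 := tow_of tc309_0 (Rng.zero.step tc309_1) (Rng.zero.step tc309_2)
theorem tw314 : Tow.{u} l314 t314 := tow_of tc314_0 (Rng.zero.step tc314_1) (Rng.zero.step tc314_2)
theorem tw310 : Tow.{u} l310 t310 := tow_of tc310_0 (Rng.zero.step tc310_1) (Rng.zero.step tc310_2)
theorem tw297 : Tow.{u} l297 t297 := tow_of tc297_0 (Rng.zero.step tc297_1) (Rng.zero.step tc297_2)
theorem tw301 : Tow.{u} l301 t301 := tow_of tc301_0 (Rng.zero.step tc301_1) (Rng.zero.step tc301_2)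
theorem tw302 : Tow.{u} l302 t302 := tow_of tc302_0 (Rng.zero.step tc302_1) (Rng.zero.step tc302_2)
theorem tw298 : Tow.{u} l298 t298 := tow_of tc298_0 (Rng.zero.step tc298_1) (Rng.zero.step tc298_2)
theorem tw21 : Tow.{u} l21 t21 := tow_of tc21_0 (Rng.zero.step tc21_1) (Rng.zero.step tc21_2)
theorem tw22 : Tow.{u} l22 t22 := tow_of tc22_0 (Rng.zero.step tc22_1) (Rng.zero.step tc22_2)
theorem tw23 : Tow.{u} l23 t23 := tow_of tc23_0 (Rng.zero.step tc23_1) (Rng.zero.step tc23_2)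
theorem tw24 : Tow.{u} l24 t24 := tow_of tc24_0 (Rng.zero.step tc24_1) (Rng.zero.step tc24_2)
theorem tw359 : Tow.{u} l359 t359 := tow_of tc359_0 (Rng.zero.step tc359_1) (Rng.zero.step tc359_2)
theorem tw343 : Tow.{u} l343 t343 := tow_of tc343_0 (Rng.zero.step tc343_1) (Rng.zero.step tc343_2)
theorem tw344 : Tow.{u} l344 t344 := tow_of tc344_0 (Rng.zero.step tc344_1) (Rng.zero.step tc344_2)
theorem tw345 : Tow.{u} l345 t345 := tow_of tc345_0 (Rng.zero.step tc345_1) (Rng.zero.step tc345_2)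
theorem tw346 : Tow.{u} l346 t346 := tow_of tc346_0 (Rng.zero.step tc346_1) (Rng.zero.step tc346_2)
theorem tw347 : Tow.{u} l347 t347 := tow_of tc347_0 (Rng.zero.step tc347_1) (Rng.zero.step tc347_2)
theorem tw360 : Tow.{u} l360 t360 := tow_of tc360_0 (Rng.zero.step tc360_1) (Rng.zero.step tc360_2)
theorem tw348 : Tow.{u} l348 t348 := tow_of tc348_0 (Rng.zero.step tc348_1) (Rng.zero.step tc348_2)
theorem tw349 : Tow.{u} l349 t349 := tow_of tc349_0 (Rng.zero.step tc349_1) (Rng.zero.step tc349_2)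
theorem tw350 : Tow.{u} l350 t350 := tow_of tc350_0 (Rng.zero.step tc350_1) (Rng.zero.step tc350_2)
theorem tw351 : Tow.{u} l351 t351 := tow_of tc351_0 (Rng.zero.step tc351_1) (Rng.zero.step tc351_2)
theorem tw352 : Tow.{u} l352 t352 := tow_of tc352_0 (Rng.zero.step tc352_1) (Rng.zero.step tc352_2)
theorem tw353 : Tow.{u} l353 t353 := tow_of tc353_0 (Rng.zero.step tc353_1) (Rng.zero.step tc353_2)
theorem tw354 : Tow.{u} l354 t354 := tow_of tc354_0 (Rng.zero.step tc354_1) (Rng.zero.step tc354_2)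
theorem tw355 : Tow.{u} l355 t355 := tow_of tc355_0 (Rng.zero.step tc355_1) (Rng.zero.step tc355_2)
theorem tw356 : Tow.{u} l356 t356 := tow_of tc356_0 (Rng.zero.step tc356_1) (Rng.zero.step tc356_2)
theorem tw357 : Tow.{u} l357 t357 := tow_of tc357_0 (Rng.zero.step tc357_1) (Rng.zero.step tc357_2)
theorem tw358 : Tow.{u} l358 t358 := tow_of tc358_0 (Rng.zero.step tc358_1) (Rng.zero.step tc358_2)
theorem tw325 : Tow.{u} l325 t325 := tow_of tc325_0 (Rng.zero.step tc325_1) (Rng.zero.step tc325_2)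
theorem tw326 : Tow.{u} l326 t326 := tow_of tc326_0 (Rng.zero.step tc326_1) (Rng.zero.step tc326_2)
theorem tw327 : Tow.{u} l327 t327 := tow_of tc327_0 (Rng.zero.step tc327_1) (Rng.zero.step tc327_2)
theorem tw328 : Tow.{u} l328 t328 := tow_of tc328_0 (Rng.zero.step tc328_1) (Rng.zero.step tc328_2)
theorem tw329 : Tow.{u} l329 t329 := tow_of tc329_0 (Rng.zero.step tc329_1) (Rng.zero.step tc329_2)
theorem tw330 : Tow.{u} l330 t330 := tow_of tc330_0 (Rng.zero.step tc330_1) (Rng.zero.step tc330_2)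
theorem tw331 : Tow.{u} l331 t331 := tow_of tc331_0 (Rng.zero.step tc331_1) (Rng.zero.step tc331_2)
theorem tw332 : Tow.{u} l332 t332 := tow_of tc332_0 (Rng.zero.step tc332_1) (Rng.zero.step tc332_2)
theorem tw333 : Tow.{u} l333 t333 := tow_of tc333_0 (Rng.zero.step tc333_1) (Rng.zero.step tc333_2)
theorem tw334 : Tow.{u} l334 t334 := tow_of tc334_0 (Rng.zero.step tc334_1) (Rng.zero.step tc334_2)
theorem tw335 : Tow.{u} l335 t335 := tow_of tc335_0 (Rng.zero.step tc335_1) (Rng.zero.step tc335_2)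
theorem tw336 : Tow.{u} l336 t336 := tow_of tc336_0 (Rng.zero.step tc336_1) (Rng.zero.step tc336_2)
theorem tw337 : Tow.{u} l337 t337 := tow_of tc337_0 (Rng.zero.step tc337_1) (Rng.zero.step tc337_2)
theorem tw338 : Tow.{u} l338 t338 := tow_of tc338_0 (Rng.zero.step tc338_1) (Rng.zero.step tc338_2)
theorem tw339 : Tow.{u} l339 t339 := tow_of tc339_0 (Rng.zero.step tc339_1) (Rng.zero.step tc339_2)
theorem tw340 : Tow.{u} l340 t340 := tow_of tc340_0 (Rng.zero.step tc340_1) (Rng.zero.step tc340_2)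
theorem tw341 : Tow.{u} l341 t341 := tow_of tc341_0 (Rng.zero.step tc341_1) (Rng.zero.step tc341_2)
theorem tw342 : Tow.{u} l342 t342 := tow_of tc342_0 (Rng.zero.step tc342_1) (Rng.zero.step tc342_2)
theorem tw315 : Tow.{u} l315 t315 := tow_of tc315_0 (Rng.zero.step tc315_1) (Rng.zero.step tc315_2)
theorem tw323 : Tow.{u} l323 t323 := tow_of tc323_0 (Rng.zero.step tc323_1) (Rng.zero.step tc323_2)
theorem tw324 : Tow.{u} l324 t324 := tow_of tc324_0 (Rng.zero.step tc324_1) (Rng.zero.step tc324_2)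
theorem tw316 : Tow.{u} l316 t316 := tow_of tc316_0 (Rng.zero.step tc316_1) (Rng.zero.step tc316_2)
theorem tw317 : Tow.{u} l317 t317 := tow_of tc317_0 (Rng.zero.step tc317_1) (Rng.zero.step tc317_2)
theorem tw318 : Tow.{u} l318 t318 := tow_of tc318_0 (Rng.zero.step tc318_1) (Rng.zero.step tc318_2)
theorem tw319 : Tow.{u} l319 t319 := tow_of tc319_0 (Rng.zero.step tc319_1) (Rng.zero.step tc319_2)
theorem tw363 : Tow.{u} l363 t363 := tow_of tc363_0 (Rng.zero.step tc363_1) (Rng.zero.step tc363_2)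
theorem tw381 : Tow.{u} l381 t381 := tow_of tc381_0 (Rng.zero.step tc381_1) (Rng.zero.step tc381_2)
theorem tw382 : Tow.{u} l382 t382 := tow_of tc382_0 (Rng.zero.step tc382_1) (Rng.zero.step tc382_2)
theorem tw364 : Tow.{u} l364 t364 := tow_of tc364_0 (Rng.zero.step tc364_1) (Rng.zero.step tc364_2)
theorem tw365 : Tow.{u} l365 t365 := tow_of tc365_0 (Rng.zero.step tc365_1) (Rng.zero.step tc365_2)
theorem tw366 : Tow.{u} l366 t366 := tow_of tc366_0 (Rng.zero.step tc366_1) (Rng.zero.step tc366_2)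
theorem tw367 : Tow.{u} l367 t367 := tow_of tc367_0 (Rng.zero.step tc367_1) (Rng.zero.step tc367_2)
theorem tw368 : Tow.{u} l368 t368 := tow_of tc368_0 (Rng.zero.step tc368_1) (Rng.zero.step tc368_2)
theorem tw369 : Tow.{u} l369 t369 := tow_of tc369_0 (Rng.zero.step tc369_1) (Rng.zero.step tc369_2)
theorem tw370 : Tow.{u} l370 t370 := tow_of tc370_0 (Rng.zero.step tc370_1) (Rng.zero.step tc370_2)
theorem tw371 : Tow.{u} l371 t371 := tow_of tc371_0 (Rng.zero.step tc371_1) (Rng.zero.step tc371_2)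
theorem tw372 : Tow.{u} l372 t372 := tow_of tc372_0 (Rng.zero.step tc372_1) (Rng.zero.step tc372_2)
theorem tw373 : Tow.{u} l373 t373 := tow_of tc373_0 (Rng.zero.step tc373_1) (Rng.zero.step tc373_2)
theorem tw374 : Tow.{u} l374 t374 := tow_of tc374_0 (Rng.zero.step tc374_1) (Rng.zero.step tc374_2)
theorem tw375 : Tow.{u} l375 t375 := tow_of tc375_0 (Rng.zero.step tc375_1) (Rng.zero.step tc375_2)
theorem tw376 : Tow.{u} l376 t376 := tow_of tc376_0 (Rng.zero.step tc376_1) (Rng.zero.step tc376_2)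
theorem tw377 : Tow.{u} l377 t377 := tow_of tc377_0 (Rng.zero.step tc377_1) (Rng.zero.step tc377_2)
theorem tw378 : Tow.{u} l378 t378 := tow_of tc378_0 (Rng.zero.step tc378_1) (Rng.zero.step tc378_2)
theorem tw379 : Tow.{u} l379 t379 := tow_of tc379_0 (Rng.zero.step tc379_1) (Rng.zero.step tc379_2)
theorem tw380 : Tow.{u} l380 t380 := tow_of tc380_0 (Rng.zero.step tc380_1) (Rng.zero.step tc380_2)
theorem tw320 : Tow.{u} l320 t320 := tow_of tc320_0 (Rng.zero.step tc320_1) (Rng.zero.step tc320_2)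
theorem tw361 : Tow.{u} l361 t361 := tow_of tc361_0 (Rng.zero.step tc361_1) (Rng.zero.step tc361_2)
theorem tw362 : Tow.{u} l362 t362 := tow_of tc362_0 (Rng.zero.step tc362_1) (Rng.zero.step tc362_2)
theorem tw321 : Tow.{u} l321 t321 := tow_of tc321_0 (Rng.zero.step tc321_1) (Rng.zero.step tc321_2)
theorem tw322 : Tow.{u} l322 t322 := tow_of tc322_0 (Rng.zero.step tc322_1) (Rng.zero.step tc322_2)
theorem tw25 : Tow.{u} l25 t25 := tow_of tc25_0 (Rng.zero.step tc25_1) (Rng.zero.step tc25_2)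
theorem tw393 : Tow.{u} l393 t393 := tow_of tc393_0 (Rng.zero.step tc393_1) (Rng.zero.step tc393_2)
theorem tw394 : Tow.{u} l394 t394 := tow_of tc394_0 (Rng.zero.step tc394_1) (Rng.zero.step tc394_2)
theorem tw395 : Tow.{u} l395 t395 := tow_of tc395_0 (Rng.zero.step tc395_1) (Rng.zero.step tc395_2)
theorem tw396 : Tow.{u} l396 t396 := tow_of tc396_0 (Rng.zero.step tc396_1) (Rng.zero.step tc396_2)
theorem tw397 : Tow.{u} l397 t397 := tow_of tc397_0 (Rng.zero.step tc397_1) (Rng.zero.step tc397_2)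
theorem tw398 : Tow.{u} l398 t398 := tow_of tc398_0 (Rng.zero.step tc398_1) (Rng.zero.step tc398_2)
theorem tw399 : Tow.{u} l399 t399 := tow_of tc399_0 (Rng.zero.step tc399_1) (Rng.zero.step tc399_2)
theorem tw400 : Tow.{u} l400 t400 := tow_of tc400_0 (Rng.zero.step tc400_1) (Rng.zero.step tc400_2)
theorem tw401 : Tow.{u} l401 t401 := tow_of tc401_0 (Rng.zero.step tc401_1) (Rng.zero.step tc401_2)
theorem tw402 : Tow.{u} l402 t402 := tow_of tc402_0 (Rng.zero.step tc402_1) (Rng.zero.step tc402_2)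
theorem tw403 : Tow.{u} l403 t403 := tow_of tc403_0 (Rng.zero.step tc403_1) (Rng.zero.step tc403_2)
theorem tw404 : Tow.{u} l404 t404 := tow_of tc404_0 (Rng.zero.step tc404_1) (Rng.zero.step tc404_2)
theorem tw405 : Tow.{u} l405 t405 := tow_of tc405_0 (Rng.zero.step tc405_1) (Rng.zero.step tc405_2)
theorem tw406 : Tow.{u} l406 t406 := tow_of tc406_0 (Rng.zero.step tc406_1) (Rng.zero.step tc406_2)
theorem tw407 : Tow.{u} l407 t407 := tow_of tc407_0 (Rng.zero.step tc407_1) (Rng.zero.step tc407_2)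
theorem tw408 : Tow.{u} l408 t408 := tow_of tc408_0 (Rng.zero.step tc408_1) (Rng.zero.step tc408_2)
theorem tw409 : Tow.{u} l409 t409 := tow_of tc409_0 (Rng.zero.step tc409_1) (Rng.zero.step tc409_2)
theorem tw410 : Tow.{u} l410 t410 := tow_of tc410_0 (Rng.zero.step tc410_1) (Rng.zero.step tc410_2)
theorem tw383 : Tow.{u} l383 t383 := tow_of tc383_0 (Rng.zero.step tc383_1) (Rng.zero.step tc383_2)
theorem tw391 : Tow.{u} l391 t391 := tow_of tc391_0 (Rng.zero.step tc391_1) (Rng.zero.step tc391_2)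
theorem tw392 : Tow.{u} l392 t392 := tow_of tc392_0 (Rng.zero.step tc392_1) (Rng.zero.step tc392_2)
theorem tw384 : Tow.{u} l384 t384 := tow_of tc384_0 (Rng.zero.step tc384_1) (Rng.zero.step tc384_2)
theorem tw385 : Tow.{u} l385 t385 := tow_of tc385_0 (Rng.zero.step tc385_1) (Rng.zero.step tc385_2)
theorem tw386 : Tow.{u} l386 t386 := tow_of tc386_0 (Rng.zero.step tc386_1) (Rng.zero.step tc386_2)
theorem tw387 : Tow.{u} l387 t387 := tow_of tc387_0 (Rng.zero.step tc387_1) (Rng.zero.step tc387_2)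
theorem tw413 : Tow.{u} l413 t413 := tow_of tc413_0 (Rng.zero.step tc413_1) (Rng.zero.step tc413_2)
theorem tw414 : Tow.{u} l414 t414 := tow_of tc414_0 (Rng.zero.step tc414_1) (Rng.zero.step tc414_2)
theorem tw415 : Tow.{u} l415 t415 := tow_of tc415_0 (Rng.zero.step tc415_1) (Rng.zero.step tc415_2)
theorem tw416 : Tow.{u} l416 t416 := tow_of tc416_0 (Rng.zero.step tc416_1) (Rng.zero.step tc416_2)
theorem tw417 : Tow.{u} l417 t417 := tow_of tc417_0 (Rng.zero.step tc417_1) (Rng.zero.step tc417_2)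
theorem tw418 : Tow.{u} l418 t418 := tow_of tc418_0 (Rng.zero.step tc418_1) (Rng.zero.step tc418_2)
theorem tw419 : Tow.{u} l419 t419 := tow_of tc419_0 (Rng.zero.step tc419_1) (Rng.zero.step tc419_2)
theorem tw420 : Tow.{u} l420 t420 := tow_of tc420_0 (Rng.zero.step tc420_1) (Rng.zero.step tc420_2)
theorem tw421 : Tow.{u} l421 t421 := tow_of tc421_0 (Rng.zero.step tc421_1) (Rng.zero.step tc421_2)
theorem tw422 : Tow.{u} l422 t422 := tow_of tc422_0 (Rng.zero.step tc422_1) (Rng.zero.step tc422_2)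
theorem tw423 : Tow.{u} l423 t423 := tow_of tc423_0 (Rng.zero.step tc423_1) (Rng.zero.step tc423_2)
theorem tw424 : Tow.{u} l424 t424 := tow_of tc424_0 (Rng.zero.step tc424_1) (Rng.zero.step tc424_2)
theorem tw425 : Tow.{u} l425 t425 := tow_of tc425_0 (Rng.zero.step tc425_1) (Rng.zero.step tc425_2)
theorem tw426 : Tow.{u} l426 t426 := tow_of tc426_0 (Rng.zero.step tc426_1) (Rng.zero.step tc426_2)
theorem tw427 : Tow.{u} l427 t427 := tow_of tc427_0 (Rng.zero.step tc427_1) (Rng.zero.step tc427_2)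
theorem tw428 : Tow.{u} l428 t428 := tow_of tc428_0 (Rng.zero.step tc428_1) (Rng.zero.step tc428_2)
theorem tw429 : Tow.{u} l429 t429 := tow_of tc429_0 (Rng.zero.step tc429_1) (Rng.zero.step tc429_2)
theorem tw430 : Tow.{u} l430 t430 := tow_of tc430_0 (Rng.zero.step tc430_1) (Rng.zero.step tc430_2)
theorem tw388 : Tow.{u} l388 t388 := tow_of tc388_0 (Rng.zero.step tc388_1) (Rng.zero.step tc388_2)
theorem tw411 : Tow.{u} l411 t411 := tow_of tc411_0 (Rng.zero.step tc411_1) (Rng.zero.step tc411_2)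
theorem tw412 : Tow.{u} l412 t412 := tow_of tc412_0 (Rng.zero.step tc412_1) (Rng.zero.step tc412_2)
theorem tw389 : Tow.{u} l389 t389 := tow_of tc389_0 (Rng.zero.step tc389_1) (Rng.zero.step tc389_2)
theorem tw390 : Tow.{u} l390 t390 := tow_of tc390_0 (Rng.zero.step tc390_1) (Rng.zero.step tc390_2)
theorem tw26 : Tow.{u} l26 t26 := tow_of tc26_0 (Rng.zero.step tc26_1) (Rng.zero.step tc26_2)
theorem tw431 : Tow.{u} l431 t431 := tow_of tc431_0 (Rng.zero.step tc431_1) (Rng.zero.step tc431_2)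
theorem tw432 : Tow.{u} l432 t432 := tow_of tc432_0 (Rng.zero.step tc432_1) (Rng.zero.step tc432_2)
theorem tw446 : Tow.{u} l446 t446 := tow_of tc446_0 (Rng.zero.step tc446_1) (Rng.zero.step tc446_2)
theorem tw443 : Tow.{u} l443 t443 := tow_of tc443_0 (Rng.zero.step tc443_1) (Rng.zero.step tc443_2)
theorem tw444 : Tow.{u} l444 t444 := tow_of tc444_0 (Rng.zero.step tc444_1) (Rng.zero.step tc444_2)
theorem tw441 : Tow.{u} l441 t441 := tow_of tc441_0 (Rng.zero.step tc441_1) (Rng.zero.step tc441_2)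
theorem tw442 : Tow.{u} l442 t442 := tow_of tc442_0 (Rng.zero.step tc442_1) (Rng.zero.step tc442_2)
theorem tw450 : Tow.{u} l450 t450 := tow_of tc450_0 (Rng.zero.step tc450_1) (Rng.zero.step tc450_2)
theorem tw447 : Tow.{u} l447 t447 := tow_of tc447_0 (Rng.zero.step tc447_1) (Rng.zero.step tc447_2)
theorem tw452 : Tow.{u} l452 t452 := tow_of tc452_0 (Rng.zero.step tc452_1) (Rng.zero.step tc452_2)
theorem tw448 : Tow.{u} l448 t448 := tow_of tc448_0 (Rng.zero.step tc448_1) (Rng.zero.step tc448_2)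
theorem tw433 : Tow.{u} l433 t433 := tow_of tc433_0 (Rng.zero.step tc433_1) (Rng.zero.step tc433_2)
theorem tw439 : Tow.{u} l439 t439 := tow_of tc439_0 (Rng.zero.step tc439_1) (Rng.zero.step tc439_2)
theorem tw440 : Tow.{u} l440 t440 := tow_of tc440_0 (Rng.zero.step tc440_1) (Rng.zero.step tc440_2)
theorem tw434 : Tow.{u} l434 t434 := tow_of tc434_0 (Rng.zero.step tc434_1) (Rng.zero.step tc434_2)
theorem tw435 : Tow.{u} l435 t435 := tow_of tc435_0 (Rng.zero.step tc435_1) (Rng.zero.step tc435_2)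
theorem tw436 : Tow.{u} l436 t436 := tow_of tc436_0 (Rng.zero.step tc436_1) (Rng.zero.step tc436_2)
theorem tw437 : Tow.{u} l437 t437 := tow_of tc437_0 (Rng.zero.step tc437_1) (Rng.zero.step tc437_2)
theorem tw453 : Tow.{u} l453 t453 := tow_of tc453_0 (Rng.zero.step tc453_1) (Rng.zero.step tc453_2)
theorem tw454 : Tow.{u} l454 t454 := tow_of tc454_0 (Rng.zero.step tc454_1) (Rng.zero.step tc454_2)
theorem tw438 : Tow.{u} l438 t438 := tow_of tc438_0 (Rng.zero.step tc438_1) (Rng.zero.step tc438_2)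
theorem tw27 : Tow.{u} l27 t27 := tow_of tc27_0 (Rng.zero.step tc27_1) (Rng.zero.step tc27_2)
theorem tw28 : Tow.{u} l28 t28 := tow_of tc28_0 (Rng.zero.step tc28_1) (Rng.zero.step tc28_2)
theorem tw29 : Tow.{u} l29 t29 := tow_of tc29_0 (Rng.zero.step tc29_1) (Rng.zero.step tc29_2)
theorem tw30 : Tow.{u} l30 t30 := tow_of tc30_0 (Rng.zero.step tc30_1) (Rng.zero.step tc30_2)
theorem tw31 : Tow.{u} l31 t31 := tow_of tc31_0 (Rng.zero.step tc31_1) (Rng.zero.step tc31_2)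
theorem tw32 : Tow.{u} l32 t32 := tow_of tc32_0 (Rng.zero.step tc32_1) (Rng.zero.step tc32_2)
theorem tw0 : Tow.{u} [] t0 := tow_of tc0_0 (Rng.zero.step tc0_1) (Rng.zero.step tc0_2)
theorem x113 : AuxS.{u} (cP4r 1 3) s113 0 a113 := aux_base3 tw79 rfl b113
theorem x113_1 : AuxS.{u} (cP4r 1 3) s113 0 a113_1 := (AuxS.up x113 c113_1 :)
theorem x113_2 : AuxS.{u} (cP4r 1 3) s113 0 a113_2 := x113_1
theorem n113 : Sound.{u} (cP4r 1 3) s113 0 :=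
  (x113_2.k7 c113_0 :)
theorem x114 : AuxS.{u} (cP4r 1 3) s114 0 a114 := aux_base3 tw79 rfl b114
theorem x114_1 : AuxS.{u} (cP4r 1 3) s114 0 a114_1 := (AuxS.up x114 c114_1 :)
theorem x114_2 : AuxS.{u} (cP4r 1 3) s114 0 a114_2 := x114_1
theorem n114 : Sound.{u} (cP4r 1 3) s114 0 :=
  (x114_2.k7 c114_0 :)
theorem x115 : AuxS.{u} (cP4r 1 3) s115 0 a115 := aux_base3 tw79 rfl b115
theorem x115_1 : AuxS.{u} (cP4r 1 3) s115 0 a115_1 := (AuxS.up x115 c115_1 :)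
theorem x115_2 : AuxS.{u} (cP4r 1 3) s115 0 a115_2 := x115_1
theorem n115 : Sound.{u} (cP4r 1 3) s115 0 :=
  (x115_2.k7 c115_0 :)
theorem x116 : AuxS.{u} (cP4r 1 3) s116 0 a116 := aux_base3 tw79 rfl b116
theorem x116_1 : AuxS.{u} (cP4r 1 3) s116 0 a116_1 := (AuxS.up x116 c116_1 :)
theorem x116_2 : AuxS.{u} (cP4r 1 3) s116 0 a116_2 := x116_1
theorem n116 : Sound.{u} (cP4r 1 3) s116 0 :=
  (x116_2.k7 c116_0 :)
theorem x112 : AuxS.{u} (cP4r 1 3) s112 0 a112 := aux_base3 tw79 rfl b112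
theorem x112_1 : AuxS.{u} (cP4r 1 3) s112 0 a112_1 := x112
theorem x112_2 : AuxS.{u} (cP4r 1 3) s112 0 a112_2 := x112_1
theorem x112_3 : AuxS.{u} (cP4r 1 3) s112 0 a112_3 := x112_2
theorem x112_4 : AuxS.{u} (cP4r 1 3) s112 0 a112_4 := x112_3
theorem n112 : Sound.{u} (cP4r 1 3) s112 0 :=
  (x112_4.rho (AllS.cons n113 (AllS.cons n114 (AllS.cons n115 (AllS.cons n116 AllS.nil)))) c112_0 :)
theorem x96 : AuxS.{u} (cP4r 1 3) s96 0 a96 := aux_base3 tw63 rfl b96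
theorem x96_1 : AuxS.{u} (cP4r 1 3) s96 0 a96_1 := x96
theorem x96_2 : AuxS.{u} (cP4r 1 3) s96 0 a96_2 := x96_1
theorem x96_3 : AuxS.{u} (cP4r 1 3) s96 0 a96_3 := x96_2
theorem n96 : Sound.{u} (cP4r 1 3) s96 0 :=
  (x96_3.fr2 (AuxS.gam x96_3 c96_0) (AllS.cons n112 AllS.nil) c96_1 :)
theorem x97 : AuxS.{u} (cP4r 1 3) s97 0 a97 := aux_base3 tw64 rfl b97
theorem x97_1 : AuxS.{u} (cP4r 1 3) s97 0 a97_1 := x97
theorem x97_2 : AuxS.{u} (cP4r 1 3) s97 0 a97_2 := x97_1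
theorem n97 : Sound.{u} (cP4r 1 3) s97 0 :=
  (x97_2.fr2 GamS.nil AllS.nil c97_0 :)
theorem x98 : AuxS.{u} (cP4r 1 3) s98 0 a98 := aux_base3 tw65 rfl b98
theorem x98_1 : AuxS.{u} (cP4r 1 3) s98 0 a98_1 := x98
theorem x98_2 : AuxS.{u} (cP4r 1 3) s98 0 a98_2 := x98_1
theorem n98 : Sound.{u} (cP4r 1 3) s98 0 :=
  (x98_2.fr2 GamS.nil AllS.nil c98_0 :)
theorem x99 : AuxS.{u} (cP4r 1 3) s99 0 a99 := aux_base3 tw66 rfl b99
theorem x99_1 : AuxS.{u} (cP4r 1 3) s99 0 a99_1 := x99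
theorem x99_2 : AuxS.{u} (cP4r 1 3) s99 0 a99_2 := x99_1
theorem n99 : Sound.{u} (cP4r 1 3) s99 0 :=
  (x99_2.fr2 GamS.nil AllS.nil c99_0 :)
theorem x100 : AuxS.{u} (cP4r 1 3) s100 0 a100 := aux_base3 tw67 rfl b100
theorem x100_1 : AuxS.{u} (cP4r 1 3) s100 0 a100_1 := x100
theorem x100_2 : AuxS.{u} (cP4r 1 3) s100 0 a100_2 := x100_1
theorem x100_3 : AuxS.{u} (cP4r 1 3) s100 0 a100_3 := x100_2
theorem n100 : Sound.{u} (cP4r 1 3) s100 0 :=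
  (x100_3.fr2 GamS.nil AllS.nil c100_0 :)
theorem x118 : AuxS.{u} (cP4r 1 3) s118 0 a118 := aux_base3 tw80 rfl b118
theorem x118_1 : AuxS.{u} (cP4r 1 3) s118 0 a118_1 := (AuxS.up x118 c118_1 :)
theorem x118_2 : AuxS.{u} (cP4r 1 3) s118 0 a118_2 := x118_1
theorem n118 : Sound.{u} (cP4r 1 3) s118 0 :=
  (x118_2.k7 c118_0 :)
theorem x119 : AuxS.{u} (cP4r 1 3) s119 0 a119 := aux_base3 tw80 rfl b119
theorem x119_1 : AuxS.{u} (cP4r 1 3) s119 0 a119_1 := (AuxS.up x119 c119_1 :)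
theorem x119_2 : AuxS.{u} (cP4r 1 3) s119 0 a119_2 := x119_1
theorem n119 : Sound.{u} (cP4r 1 3) s119 0 :=
  (x119_2.k7 c119_0 :)
theorem x120 : AuxS.{u} (cP4r 1 3) s120 0 a120 := aux_base3 tw80 rfl b120
theorem x120_1 : AuxS.{u} (cP4r 1 3) s120 0 a120_1 := (AuxS.up x120 c120_1 :)
theorem x120_2 : AuxS.{u} (cP4r 1 3) s120 0 a120_2 := x120_1
theorem n120 : Sound.{u} (cP4r 1 3) s120 0 :=
  (x120_2.k7 c120_0 :)
theorem x121 : AuxS.{u} (cP4r 1 3) s121 0 a121 := aux_base3 tw80 rfl b121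
theorem x121_1 : AuxS.{u} (cP4r 1 3) s121 0 a121_1 := (AuxS.up x121 c121_1 :)
theorem x121_2 : AuxS.{u} (cP4r 1 3) s121 0 a121_2 := x121_1
theorem n121 : Sound.{u} (cP4r 1 3) s121 0 :=
  (x121_2.k7 c121_0 :)
theorem x117 : AuxS.{u} (cP4r 1 3) s117 0 a117 := aux_base3 tw80 rfl b117
theorem x117_1 : AuxS.{u} (cP4r 1 3) s117 0 a117_1 := x117
theorem x117_2 : AuxS.{u} (cP4r 1 3) s117 0 a117_2 := x117_1
theorem x117_3 : AuxS.{u} (cP4r 1 3) s117 0 a117_3 := x117_2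
theorem n117 : Sound.{u} (cP4r 1 3) s117 0 :=
  (x117_3.rho (AllS.cons n118 (AllS.cons n119 (AllS.cons n120 (AllS.cons n121 AllS.nil)))) c117_0 :)
theorem x101 : AuxS.{u} (cP4r 1 3) s101 0 a101 := aux_base3 tw68 rfl b101
theorem x101_1 : AuxS.{u} (cP4r 1 3) s101 0 a101_1 := x101
theorem x101_2 : AuxS.{u} (cP4r 1 3) s101 0 a101_2 := x101_1
theorem x101_3 : AuxS.{u} (cP4r 1 3) s101 0 a101_3 := x101_2
theorem n101 : Sound.{u} (cP4r 1 3) s101 0 :=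
  (x101_3.fr2 (AuxS.gam x101_3 c101_0) (AllS.cons n117 AllS.nil) c101_1 :)
theorem x102 : AuxS.{u} (cP4r 1 3) s102 0 a102 := aux_base3 tw69 rfl b102
theorem x102_1 : AuxS.{u} (cP4r 1 3) s102 0 a102_1 := x102
theorem x102_2 : AuxS.{u} (cP4r 1 3) s102 0 a102_2 := x102_1
theorem n102 : Sound.{u} (cP4r 1 3) s102 0 :=
  (x102_2.fr2 GamS.nil AllS.nil c102_0 :)
theorem x103 : AuxS.{u} (cP4r 1 3) s103 0 a103 := aux_base3 tw70 rfl b103
theorem x103_1 : AuxS.{u} (cP4r 1 3) s103 0 a103_1 := x103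
theorem x103_2 : AuxS.{u} (cP4r 1 3) s103 0 a103_2 := x103_1
theorem n103 : Sound.{u} (cP4r 1 3) s103 0 :=
  (x103_2.fr2 GamS.nil AllS.nil c103_0 :)
theorem x104 : AuxS.{u} (cP4r 1 3) s104 0 a104 := aux_base3 tw71 rfl b104
theorem x104_1 : AuxS.{u} (cP4r 1 3) s104 0 a104_1 := x104
theorem x104_2 : AuxS.{u} (cP4r 1 3) s104 0 a104_2 := x104_1
theorem x104_3 : AuxS.{u} (cP4r 1 3) s104 0 a104_3 := x104_2
theorem n104 : Sound.{u} (cP4r 1 3) s104 0 :=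
  (x104_3.fr2 GamS.nil AllS.nil c104_0 :)
theorem x105 : AuxS.{u} (cP4r 1 3) s105 0 a105 := aux_base3 tw72 rfl b105
theorem x105_1 : AuxS.{u} (cP4r 1 3) s105 0 a105_1 := x105
theorem x105_2 : AuxS.{u} (cP4r 1 3) s105 0 a105_2 := x105_1
theorem n105 : Sound.{u} (cP4r 1 3) s105 0 :=
  (x105_2.fr2 GamS.nil AllS.nil c105_0 :)
theorem x106 : AuxS.{u} (cP4r 1 3) s106 0 a106 := aux_base3 tw73 rfl b106
theorem x106_1 : AuxS.{u} (cP4r 1 3) s106 0 a106_1 := x106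
theorem x106_2 : AuxS.{u} (cP4r 1 3) s106 0 a106_2 := x106_1
theorem x106_3 : AuxS.{u} (cP4r 1 3) s106 0 a106_3 := x106_2
theorem n106 : Sound.{u} (cP4r 1 3) s106 0 :=
  (x106_3.fr2 GamS.nil AllS.nil c106_0 :)
theorem x107 : AuxS.{u} (cP4r 1 3) s107 0 a107 := aux_base3 tw74 rfl b107
theorem x107_1 : AuxS.{u} (cP4r 1 3) s107 0 a107_1 := x107
theorem x107_2 : AuxS.{u} (cP4r 1 3) s107 0 a107_2 := x107_1
theorem n107 : Sound.{u} (cP4r 1 3) s107 0 :=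
  (x107_2.fr2 GamS.nil AllS.nil c107_0 :)
theorem x108 : AuxS.{u} (cP4r 1 3) s108 0 a108 := aux_base3 tw75 rfl b108
theorem x108_1 : AuxS.{u} (cP4r 1 3) s108 0 a108_1 := x108
theorem x108_2 : AuxS.{u} (cP4r 1 3) s108 0 a108_2 := x108_1
theorem x108_3 : AuxS.{u} (cP4r 1 3) s108 0 a108_3 := x108_2
theorem n108 : Sound.{u} (cP4r 1 3) s108 0 :=
  (x108_3.fr2 GamS.nil AllS.nil c108_0 :)
theorem x109 : AuxS.{u} (cP4r 1 3) s109 0 a109 := aux_base3 tw76 rfl b109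
theorem x109_1 : AuxS.{u} (cP4r 1 3) s109 0 a109_1 := x109
theorem x109_2 : AuxS.{u} (cP4r 1 3) s109 0 a109_2 := x109_1
theorem n109 : Sound.{u} (cP4r 1 3) s109 0 :=
  (x109_2.fr2 GamS.nil AllS.nil c109_0 :)
theorem x110 : AuxS.{u} (cP4r 1 3) s110 0 a110 := aux_base3 tw77 rfl b110
theorem x110_1 : AuxS.{u} (cP4r 1 3) s110 0 a110_1 := x110
theorem x110_2 : AuxS.{u} (cP4r 1 3) s110 0 a110_2 := x110_1
theorem n110 : Sound.{u} (cP4r 1 3) s110 0 :=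
  (x110_2.fr2 GamS.nil AllS.nil c110_0 :)
theorem x111 : AuxS.{u} (cP4r 1 3) s111 0 a111 := aux_base3 tw78 rfl b111
theorem x111_1 : AuxS.{u} (cP4r 1 3) s111 0 a111_1 := x111
theorem x111_2 : AuxS.{u} (cP4r 1 3) s111 0 a111_2 := x111_1
theorem x111_3 : AuxS.{u} (cP4r 1 3) s111 0 a111_3 := x111_2
theorem n111 : Sound.{u} (cP4r 1 3) s111 0 :=
  (x111_3.fr2 GamS.nil AllS.nil c111_0 :)
theorem x64 : AuxS.{u} (cP4r 1 3) s64 0 a64 := aux_base3 tw45 rfl b64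
theorem x64_1 : AuxS.{u} (cP4r 1 3) s64 0 a64_1 := x64
theorem x64_2 : AuxS.{u} (cP4r 1 3) s64 0 a64_2 := x64_1
theorem n64 : Sound.{u} (cP4r 1 3) s64 0 :=
  (x64_2.fr2 GamS.nil (AllS.cons n96 (AllS.cons n97 (AllS.cons n98 (AllS.cons n99 (AllS.cons n100 (AllS.cons n101 (AllS.cons n102 (AllS.cons n103 (AllS.cons n104 (AllS.cons n105 (AllS.cons n106 (AllS.cons n107 (AllS.cons n108 (AllS.cons n109 (AllS.cons n110 (AllS.cons n111 AllS.nil)))))))))))))))) c64_0 :)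
theorem x65 : AuxS.{u} (cP4r 1 3) s65 0 a65 := aux_base3 tw45 rfl b65
theorem n65 : Sound.{u} (cP4r 1 3) s65 0 :=
  (x65.k4 c65_0 :)
theorem x66 : AuxS.{u} (cP4r 1 3) s66 0 a66 := aux_base3 tw45 rfl b66
theorem n66 : Sound.{u} (cP4r 1 3) s66 0 :=
  (x66.k4 c66_0 :)
theorem x67 : AuxS.{u} (cP4r 1 3) s67 0 a67 := aux_base3 tw45 rfl b67
theorem n67 : Sound.{u} (cP4r 1 3) s67 0 :=
  (x67.k4 c67_0 :)
theorem x68 : AuxS.{u} (cP4r 1 3) s68 0 a68 := aux_base3 tw45 rfl b68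
theorem n68 : Sound.{u} (cP4r 1 3) s68 0 :=
  (x68.k4 c68_0 :)
theorem x69 : AuxS.{u} (cP4r 1 3) s69 0 a69 := aux_base3 tw45 rfl b69
theorem n69 : Sound.{u} (cP4r 1 3) s69 0 :=
  (x69.k4 c69_0 :)
theorem x70 : AuxS.{u} (cP4r 1 3) s70 0 a70 := aux_base3 tw45 rfl b70
theorem n70 : Sound.{u} (cP4r 1 3) s70 0 :=
  (x70.k4 c70_0 :)
theorem x71 : AuxS.{u} (cP4r 1 3) s71 0 a71 := aux_base3 tw45 rfl b71
theorem n71 : Sound.{u} (cP4r 1 3) s71 0 :=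
  (x71.k4 c71_0 :)
theorem x72 : AuxS.{u} (cP4r 1 3) s72 0 a72 := aux_base3 tw45 rfl b72
theorem n72 : Sound.{u} (cP4r 1 3) s72 0 :=
  (x72.k4 c72_0 :)
theorem x73 : AuxS.{u} (cP4r 1 3) s73 0 a73 := aux_base3 tw45 rfl b73
theorem n73 : Sound.{u} (cP4r 1 3) s73 0 :=
  (x73.k4 c73_0 :)
theorem x74 : AuxS.{u} (cP4r 1 3) s74 0 a74 := aux_base3 tw45 rfl b74
theorem n74 : Sound.{u} (cP4r 1 3) s74 0 :=
  (x74.k4 c74_0 :)
theorem x75 : AuxS.{u} (cP4r 1 3) s75 0 a75 := aux_base3 tw45 rfl b75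
theorem n75 : Sound.{u} (cP4r 1 3) s75 0 :=
  (x75.k4 c75_0 :)
theorem x76 : AuxS.{u} (cP4r 1 3) s76 0 a76 := aux_base3 tw45 rfl b76
theorem n76 : Sound.{u} (cP4r 1 3) s76 0 :=
  (x76.k4 c76_0 :)
theorem x77 : AuxS.{u} (cP4r 1 3) s77 0 a77 := aux_base3 tw45 rfl b77
theorem n77 : Sound.{u} (cP4r 1 3) s77 0 :=
  (x77.k4 c77_0 :)
theorem x78 : AuxS.{u} (cP4r 1 3) s78 0 a78 := aux_base3 tw45 rfl b78
theorem n78 : Sound.{u} (cP4r 1 3) s78 0 :=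
  (x78.k4 c78_0 :)
theorem x79 : AuxS.{u} (cP4r 1 3) s79 0 a79 := aux_base3 tw45 rfl b79
theorem n79 : Sound.{u} (cP4r 1 3) s79 0 :=
  (x79.k4 c79_0 :)
theorem x80 : AuxS.{u} (cP4r 1 3) s80 0 a80 := aux_base3 tw45 rfl b80
theorem n80 : Sound.{u} (cP4r 1 3) s80 0 :=
  (x80.k4 c80_0 :)
theorem x81 : AuxS.{u} (cP4r 1 3) s81 0 a81 := aux_base3 tw45 rfl b81
theorem n81 : Sound.{u} (cP4r 1 3) s81 0 :=
  (x81.k4 c81_0 :)
theorem x82 : AuxS.{u} (cP4r 1 3) s82 0 a82 := aux_base3 tw45 rfl b82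
theorem n82 : Sound.{u} (cP4r 1 3) s82 0 :=
  (x82.k4 c82_0 :)
theorem x83 : AuxS.{u} (cP4r 1 3) s83 0 a83 := aux_base3 tw45 rfl b83
theorem n83 : Sound.{u} (cP4r 1 3) s83 0 :=
  (x83.k4 c83_0 :)
theorem x84 : AuxS.{u} (cP4r 1 3) s84 0 a84 := aux_base3 tw45 rfl b84
theorem n84 : Sound.{u} (cP4r 1 3) s84 0 :=
  (x84.k4 c84_0 :)
theorem x85 : AuxS.{u} (cP4r 1 3) s85 0 a85 := aux_base3 tw45 rfl b85
theorem n85 : Sound.{u} (cP4r 1 3) s85 0 :=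
  (x85.k4 c85_0 :)
theorem x86 : AuxS.{u} (cP4r 1 3) s86 0 a86 := aux_base3 tw45 rfl b86
theorem n86 : Sound.{u} (cP4r 1 3) s86 0 :=
  (x86.k4 c86_0 :)
theorem x87 : AuxS.{u} (cP4r 1 3) s87 0 a87 := aux_base3 tw45 rfl b87
theorem n87 : Sound.{u} (cP4r 1 3) s87 0 :=
  (x87.k4 c87_0 :)
theorem x88 : AuxS.{u} (cP4r 1 3) s88 0 a88 := aux_base3 tw45 rfl b88
theorem n88 : Sound.{u} (cP4r 1 3) s88 0 :=
  (x88.k4 c88_0 :)
theorem x89 : AuxS.{u} (cP4r 1 3) s89 0 a89 := aux_base3 tw45 rfl b89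
theorem n89 : Sound.{u} (cP4r 1 3) s89 0 :=
  (x89.k4 c89_0 :)
theorem x90 : AuxS.{u} (cP4r 1 3) s90 0 a90 := aux_base3 tw45 rfl b90
theorem n90 : Sound.{u} (cP4r 1 3) s90 0 :=
  (x90.k4 c90_0 :)
theorem x91 : AuxS.{u} (cP4r 1 3) s91 0 a91 := aux_base3 tw45 rfl b91
theorem n91 : Sound.{u} (cP4r 1 3) s91 0 :=
  (x91.k4 c91_0 :)
theorem x92 : AuxS.{u} (cP4r 1 3) s92 0 a92 := aux_base3 tw45 rfl b92
theorem n92 : Sound.{u} (cP4r 1 3) s92 0 :=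
  (x92.k4 c92_0 :)
theorem x93 : AuxS.{u} (cP4r 1 3) s93 0 a93 := aux_base3 tw45 rfl b93
theorem n93 : Sound.{u} (cP4r 1 3) s93 0 :=
  (x93.k4 c93_0 :)
theorem x94 : AuxS.{u} (cP4r 1 3) s94 0 a94 := aux_base3 tw45 rfl b94
theorem n94 : Sound.{u} (cP4r 1 3) s94 0 :=
  (x94.k4 c94_0 :)
theorem x95 : AuxS.{u} (cP4r 1 3) s95 0 a95 := aux_base3 tw45 rfl b95
theorem n95 : Sound.{u} (cP4r 1 3) s95 0 :=
  (x95.k4 c95_0 :)
theorem x46 : AuxS.{u} (cP4r 1 3) s46 0 a46 := aux_base3 tw45 rfl b46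
theorem x46_1 : AuxS.{u} (cP4r 1 3) s46 0 a46_1 := x46
theorem x46_2 : AuxS.{u} (cP4r 1 3) s46 0 a46_2 := x46_1
theorem x46_3 : AuxS.{u} (cP4r 1 3) s46 0 a46_3 := x46_2
theorem n46 : Sound.{u} (cP4r 1 3) s46 0 :=
  (x46_3.fr (AuxS.gam x46_3 c46_0) (AllS.cons n64 (AllS.cons n65 (AllS.cons n66 (AllS.cons n67 (AllS.cons n68 (AllS.cons n69 (AllS.cons n70 (AllS.cons n71 (AllS.cons n72 (AllS.cons n73 (AllS.cons n74 (AllS.cons n75 (AllS.cons n76 (AllS.cons n77 (AllS.cons n78 (AllS.cons n79 (AllS.cons n80 (AllS.cons n81 (AllS.cons n82 (AllS.cons n83 (AllS.cons n84 (AllS.cons n85 (AllS.cons n86 (AllS.cons n87 (AllS.cons n88 (AllS.cons n89 (AllS.cons n90 (AllS.cons n91 (AllS.cons n92 (AllS.cons n93 (AllS.cons n94 (AllS.cons n95 AllS.nil)))))))))))))))))))))))))))))))) c46_1 :)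
theorem x47 : AuxS.{u} (cP4r 1 3) s47 0 a47 := aux_base3 tw46 rfl b47
theorem x47_1 : AuxS.{u} (cP4r 1 3) s47 0 a47_1 := x47
theorem x47_2 : AuxS.{u} (cP4r 1 3) s47 0 a47_2 := x47_1
theorem x47_3 : AuxS.{u} (cP4r 1 3) s47 0 a47_3 := x47_2
theorem n47 : Sound.{u} (cP4r 1 3) s47 0 :=
  (x47_3.fr GamS.nil AllS.nil c47_0 :)
theorem x48 : AuxS.{u} (cP4r 1 3) s48 0 a48 := aux_base3 tw47 rfl b48
theorem x48_1 : AuxS.{u} (cP4r 1 3) s48 0 a48_1 := x48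
theorem x48_2 : AuxS.{u} (cP4r 1 3) s48 0 a48_2 := x48_1
theorem x48_3 : AuxS.{u} (cP4r 1 3) s48 0 a48_3 := x48_2
theorem n48 : Sound.{u} (cP4r 1 3) s48 0 :=
  (x48_3.fr GamS.nil AllS.nil c48_0 :)
theorem x49 : AuxS.{u} (cP4r 1 3) s49 0 a49 := aux_base3 tw48 rfl b49
theorem x49_1 : AuxS.{u} (cP4r 1 3) s49 0 a49_1 := x49
theorem x49_2 : AuxS.{u} (cP4r 1 3) s49 0 a49_2 := x49_1
theorem x49_3 : AuxS.{u} (cP4r 1 3) s49 0 a49_3 := x49_2
theorem n49 : Sound.{u} (cP4r 1 3) s49 0 :=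
  (x49_3.fr GamS.nil AllS.nil c49_0 :)
theorem x50 : AuxS.{u} (cP4r 1 3) s50 0 a50 := aux_base3 tw49 rfl b50
theorem x50_1 : AuxS.{u} (cP4r 1 3) s50 0 a50_1 := x50
theorem x50_2 : AuxS.{u} (cP4r 1 3) s50 0 a50_2 := x50_1
theorem x50_3 : AuxS.{u} (cP4r 1 3) s50 0 a50_3 := x50_2
theorem n50 : Sound.{u} (cP4r 1 3) s50 0 :=
  (x50_3.fr GamS.nil AllS.nil c50_0 :)
theorem x51 : AuxS.{u} (cP4r 1 3) s51 0 a51 := aux_base3 tw50 rfl b51
theorem x51_1 : AuxS.{u} (cP4r 1 3) s51 0 a51_1 := x51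
theorem x51_2 : AuxS.{u} (cP4r 1 3) s51 0 a51_2 := x51_1
theorem x51_3 : AuxS.{u} (cP4r 1 3) s51 0 a51_3 := x51_2
theorem n51 : Sound.{u} (cP4r 1 3) s51 0 :=
  (x51_3.fr GamS.nil AllS.nil c51_0 :)
theorem x52 : AuxS.{u} (cP4r 1 3) s52 0 a52 := aux_base3 tw51 rfl b52
theorem x52_1 : AuxS.{u} (cP4r 1 3) s52 0 a52_1 := x52
theorem x52_2 : AuxS.{u} (cP4r 1 3) s52 0 a52_2 := x52_1
theorem x52_3 : AuxS.{u} (cP4r 1 3) s52 0 a52_3 := x52_2
theorem n52 : Sound.{u} (cP4r 1 3) s52 0 :=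
  (x52_3.fr GamS.nil AllS.nil c52_0 :)
theorem x53 : AuxS.{u} (cP4r 1 3) s53 0 a53 := aux_base3 tw52 rfl b53
theorem x53_1 : AuxS.{u} (cP4r 1 3) s53 0 a53_1 := x53
theorem x53_2 : AuxS.{u} (cP4r 1 3) s53 0 a53_2 := x53_1
theorem x53_3 : AuxS.{u} (cP4r 1 3) s53 0 a53_3 := x53_2
theorem n53 : Sound.{u} (cP4r 1 3) s53 0 :=
  (x53_3.fr GamS.nil AllS.nil c53_0 :)
theorem x54 : AuxS.{u} (cP4r 1 3) s54 0 a54 := aux_base3 tw53 rfl b54
theorem x54_1 : AuxS.{u} (cP4r 1 3) s54 0 a54_1 := x54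
theorem x54_2 : AuxS.{u} (cP4r 1 3) s54 0 a54_2 := x54_1
theorem x54_3 : AuxS.{u} (cP4r 1 3) s54 0 a54_3 := x54_2
theorem x54_4 : AuxS.{u} (cP4r 1 3) s54 0 a54_4 := x54_3
theorem n54 : Sound.{u} (cP4r 1 3) s54 0 :=
  (x54_4.fr GamS.nil AllS.nil c54_0 :)
theorem x55 : AuxS.{u} (cP4r 1 3) s55 0 a55 := aux_base3 tw54 rfl b55
theorem x55_1 : AuxS.{u} (cP4r 1 3) s55 0 a55_1 := x55
theorem x55_2 : AuxS.{u} (cP4r 1 3) s55 0 a55_2 := x55_1
theorem x55_3 : AuxS.{u} (cP4r 1 3) s55 0 a55_3 := x55_2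
theorem x55_4 : AuxS.{u} (cP4r 1 3) s55 0 a55_4 := x55_3
theorem n55 : Sound.{u} (cP4r 1 3) s55 0 :=
  (x55_4.fr GamS.nil AllS.nil c55_0 :)
theorem x56 : AuxS.{u} (cP4r 1 3) s56 0 a56 := aux_base3 tw55 rfl b56
theorem x56_1 : AuxS.{u} (cP4r 1 3) s56 0 a56_1 := x56
theorem x56_2 : AuxS.{u} (cP4r 1 3) s56 0 a56_2 := x56_1
theorem x56_3 : AuxS.{u} (cP4r 1 3) s56 0 a56_3 := x56_2
theorem x56_4 : AuxS.{u} (cP4r 1 3) s56 0 a56_4 := x56_3
theorem n56 : Sound.{u} (cP4r 1 3) s56 0 :=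
  (x56_4.fr GamS.nil AllS.nil c56_0 :)
theorem x57 : AuxS.{u} (cP4r 1 3) s57 0 a57 := aux_base3 tw56 rfl b57
theorem x57_1 : AuxS.{u} (cP4r 1 3) s57 0 a57_1 := x57
theorem x57_2 : AuxS.{u} (cP4r 1 3) s57 0 a57_2 := x57_1
theorem x57_3 : AuxS.{u} (cP4r 1 3) s57 0 a57_3 := x57_2
theorem x57_4 : AuxS.{u} (cP4r 1 3) s57 0 a57_4 := x57_3
theorem n57 : Sound.{u} (cP4r 1 3) s57 0 :=
  (x57_4.fr GamS.nil AllS.nil c57_0 :)
theorem x58 : AuxS.{u} (cP4r 1 3) s58 0 a58 := aux_base3 tw57 rfl b58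
theorem x58_1 : AuxS.{u} (cP4r 1 3) s58 0 a58_1 := x58
theorem x58_2 : AuxS.{u} (cP4r 1 3) s58 0 a58_2 := x58_1
theorem x58_3 : AuxS.{u} (cP4r 1 3) s58 0 a58_3 := x58_2
theorem x58_4 : AuxS.{u} (cP4r 1 3) s58 0 a58_4 := x58_3
theorem n58 : Sound.{u} (cP4r 1 3) s58 0 :=
  (x58_4.fr GamS.nil AllS.nil c58_0 :)
theorem x59 : AuxS.{u} (cP4r 1 3) s59 0 a59 := aux_base3 tw58 rfl b59
theorem x59_1 : AuxS.{u} (cP4r 1 3) s59 0 a59_1 := x59
theorem x59_2 : AuxS.{u} (cP4r 1 3) s59 0 a59_2 := x59_1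
theorem x59_3 : AuxS.{u} (cP4r 1 3) s59 0 a59_3 := x59_2
theorem x59_4 : AuxS.{u} (cP4r 1 3) s59 0 a59_4 := x59_3
theorem n59 : Sound.{u} (cP4r 1 3) s59 0 :=
  (x59_4.fr GamS.nil AllS.nil c59_0 :)
theorem x60 : AuxS.{u} (cP4r 1 3) s60 0 a60 := aux_base3 tw59 rfl b60
theorem x60_1 : AuxS.{u} (cP4r 1 3) s60 0 a60_1 := x60
theorem x60_2 : AuxS.{u} (cP4r 1 3) s60 0 a60_2 := x60_1
theorem x60_3 : AuxS.{u} (cP4r 1 3) s60 0 a60_3 := x60_2
theorem x60_4 : AuxS.{u} (cP4r 1 3) s60 0 a60_4 := x60_3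
theorem n60 : Sound.{u} (cP4r 1 3) s60 0 :=
  (x60_4.fr GamS.nil AllS.nil c60_0 :)
theorem x61 : AuxS.{u} (cP4r 1 3) s61 0 a61 := aux_base3 tw60 rfl b61
theorem x61_1 : AuxS.{u} (cP4r 1 3) s61 0 a61_1 := x61
theorem x61_2 : AuxS.{u} (cP4r 1 3) s61 0 a61_2 := x61_1
theorem x61_3 : AuxS.{u} (cP4r 1 3) s61 0 a61_3 := x61_2
theorem x61_4 : AuxS.{u} (cP4r 1 3) s61 0 a61_4 := x61_3
theorem n61 : Sound.{u} (cP4r 1 3) s61 0 :=
  (x61_4.fr GamS.nil AllS.nil c61_0 :)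
theorem x62 : AuxS.{u} (cP4r 1 3) s62 0 a62 := aux_base3 tw61 rfl b62
theorem n62 : Sound.{u} (cP4r 1 3) s62 0 :=
  (x62.k3 c62_0 :)
theorem x63 : AuxS.{u} (cP4r 1 3) s63 0 a63 := aux_base3 tw62 rfl b63
theorem n63 : Sound.{u} (cP4r 1 3) s63 0 :=
  (x63.k3 c63_0 :)
theorem x45 : AuxS.{u} (cP4r 1 3) s45 0 a45 := aux_base3 tw33 rfl b45
theorem x45_1 : AuxS.{u} (cP4r 1 3) s45 0 a45_1 := (AuxS.up x45 c45_6 :)
theorem x45_2 : AuxS.{u} (cP4r 1 3) s45 0 a45_2 := (AuxS.up2 x45_1 c45_7 :)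
theorem x45_3 : AuxS.{u} (cP4r 1 3) s45 0 a45_3 := (AuxS.up x45_2 c45_8 :)
theorem p45_0_1 : Phs s45 a45_3 (List.map Prod.fst g45_0) [s46, s47, s48, s49, s50, s51, s52, s53, s54, s55, s56, s57, s58, s59, s60, s61, s62, s63] ct45_0 v45_0 5 w45_0_1 := (Phs.fin c45_1)
theorem p45_0_3 : Phs s45 a45_3 (List.map Prod.fst g45_0) [s46, s47, s48, s49, s50, s51, s52, s53, s54, s55, s56, s57, s58, s59, s60, s61, s62, s63] ct45_0 v45_0 4 w45_0_3 := (Phs.stp c45_2 p45_0_1)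
theorem p45_0_5 : Phs s45 a45_3 (List.map Prod.fst g45_0) [s46, s47, s48, s49, s50, s51, s52, s53, s54, s55, s56, s57, s58, s59, s60, s61, s62, s63] ct45_0 v45_0 1 w45_0_5 := (Phs.stp c45_3 p45_0_3)
theorem n45 : Sound.{u} (cP4r 1 3) s45 0 :=
  (x45_3.ext2 (fun h => absurd h (by decide)) (AuxS.gam x45_3 c45_0) (AllS.cons n46 (AllS.cons n47 (AllS.cons n48 (AllS.cons n49 (AllS.cons n50 (AllS.cons n51 (AllS.cons n52 (AllS.cons n53 (AllS.cons n54 (AllS.cons n55 (AllS.cons n56 (AllS.cons n57 (AllS.cons n58 (AllS.cons n59 (AllS.cons n60 (AllS.cons n61 (AllS.cons n62 (AllS.cons n63 AllS.nil)))))))))))))))))) c45_5 (Phs.stp c45_4 p45_0_5) (Phs.fin (ct := ct45_0) rfl) :)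
theorem x43 : AuxS.{u} (cP4r 1 3) s43 0 a43 := aux_base3 tw43 rfl b43
theorem x43_1 : AuxS.{u} (cP4r 1 3) s43 0 a43_1 := x43
theorem x43_2 : AuxS.{u} (cP4r 1 3) s43 0 a43_2 := x43_1
theorem n43 : Sound.{u} (cP4r 1 3) s43 0 :=
  (x43_2.jump c43_0 c43_1 n45 :)
theorem x44 : AuxS.{u} (cP4r 1 3) s44 0 a44 := aux_base3 tw44 rfl b44
theorem x44_1 : AuxS.{u} (cP4r 1 3) s44 0 a44_1 := (AuxS.up x44 c44_1 :)
theorem n44 : Sound.{u} (cP4r 1 3) s44 0 :=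
  (x44_1.k1 c44_0 :)
theorem x33 : AuxS.{u} (cP4r 1 3) s33 0 a33 := aux_base3 tw33 rfl b33
theorem x33_1 : AuxS.{u} (cP4r 1 3) s33 0 a33_1 := x33
theorem x33_2 : AuxS.{u} (cP4r 1 3) s33 0 a33_2 := x33_1
theorem p33_0_1 : Phs s33 a33_2 (List.map Prod.fst g33_0) [s43, s44] ct33_0 v33_0 5 w33_0_1 := (Phs.fin c33_1)
theorem n33 : Sound.{u} (cP4r 1 3) s33 0 :=
  (x33_2.ext2 (fun h => absurd h (by decide)) (AuxS.gam x33_2 c33_0) (AllS.cons n43 (AllS.cons n44 AllS.nil)) c33_3 (Phs.fin (ct := ct33_0) rfl) (Phs.stp c33_2 p33_0_1) :)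
theorem x125 : AuxS.{u} (cP4r 1 3) s125 0 a125 := aux_base3 tw83 rfl b125
theorem x125_1 : AuxS.{u} (cP4r 1 3) s125 0 a125_1 := x125
theorem x125_2 : AuxS.{u} (cP4r 1 3) s125 0 a125_2 := x125_1
theorem n125 : Sound.{u} (cP4r 1 3) s125 0 :=
  (x125_2.fr GamS.nil AllS.nil c125_0 :)
theorem x126 : AuxS.{u} (cP4r 1 3) s126 0 a126 := aux_base3 tw84 rfl b126
theorem x126_1 : AuxS.{u} (cP4r 1 3) s126 0 a126_1 := x126
theorem x126_2 : AuxS.{u} (cP4r 1 3) s126 0 a126_2 := x126_1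
theorem n126 : Sound.{u} (cP4r 1 3) s126 0 :=
  (x126_2.fr GamS.nil AllS.nil c126_0 :)
theorem x127 : AuxS.{u} (cP4r 1 3) s127 0 a127 := aux_base3 tw85 rfl b127
theorem x127_1 : AuxS.{u} (cP4r 1 3) s127 0 a127_1 := x127
theorem x127_2 : AuxS.{u} (cP4r 1 3) s127 0 a127_2 := x127_1
theorem n127 : Sound.{u} (cP4r 1 3) s127 0 :=
  (x127_2.fr GamS.nil AllS.nil c127_0 :)
theorem x128 : AuxS.{u} (cP4r 1 3) s128 0 a128 := aux_base3 tw86 rfl b128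
theorem x128_1 : AuxS.{u} (cP4r 1 3) s128 0 a128_1 := x128
theorem x128_2 : AuxS.{u} (cP4r 1 3) s128 0 a128_2 := x128_1
theorem n128 : Sound.{u} (cP4r 1 3) s128 0 :=
  (x128_2.fr GamS.nil AllS.nil c128_0 :)
theorem x129 : AuxS.{u} (cP4r 1 3) s129 0 a129 := aux_base3 tw87 rfl b129
theorem x129_1 : AuxS.{u} (cP4r 1 3) s129 0 a129_1 := x129
theorem x129_2 : AuxS.{u} (cP4r 1 3) s129 0 a129_2 := x129_1
theorem n129 : Sound.{u} (cP4r 1 3) s129 0 :=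
  (x129_2.fr GamS.nil AllS.nil c129_0 :)
theorem x130 : AuxS.{u} (cP4r 1 3) s130 0 a130 := aux_base3 tw88 rfl b130
theorem x130_1 : AuxS.{u} (cP4r 1 3) s130 0 a130_1 := x130
theorem x130_2 : AuxS.{u} (cP4r 1 3) s130 0 a130_2 := x130_1
theorem n130 : Sound.{u} (cP4r 1 3) s130 0 :=
  (x130_2.fr GamS.nil AllS.nil c130_0 :)
theorem x131 : AuxS.{u} (cP4r 1 3) s131 0 a131 := aux_base3 tw89 rfl b131
theorem x131_1 : AuxS.{u} (cP4r 1 3) s131 0 a131_1 := x131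
theorem x131_2 : AuxS.{u} (cP4r 1 3) s131 0 a131_2 := x131_1
theorem n131 : Sound.{u} (cP4r 1 3) s131 0 :=
  (x131_2.fr GamS.nil AllS.nil c131_0 :)
theorem x132 : AuxS.{u} (cP4r 1 3) s132 0 a132 := aux_base3 tw90 rfl b132
theorem x132_1 : AuxS.{u} (cP4r 1 3) s132 0 a132_1 := x132
theorem x132_2 : AuxS.{u} (cP4r 1 3) s132 0 a132_2 := x132_1
theorem n132 : Sound.{u} (cP4r 1 3) s132 0 :=
  (x132_2.fr GamS.nil AllS.nil c132_0 :)
theorem x133 : AuxS.{u} (cP4r 1 3) s133 0 a133 := aux_base3 tw91 rfl b133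
theorem x133_1 : AuxS.{u} (cP4r 1 3) s133 0 a133_1 := x133
theorem x133_2 : AuxS.{u} (cP4r 1 3) s133 0 a133_2 := x133_1
theorem n133 : Sound.{u} (cP4r 1 3) s133 0 :=
  (x133_2.fr GamS.nil AllS.nil c133_0 :)
theorem x134 : AuxS.{u} (cP4r 1 3) s134 0 a134 := aux_base3 tw92 rfl b134
theorem x134_1 : AuxS.{u} (cP4r 1 3) s134 0 a134_1 := x134
theorem x134_2 : AuxS.{u} (cP4r 1 3) s134 0 a134_2 := x134_1
theorem n134 : Sound.{u} (cP4r 1 3) s134 0 :=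
  (x134_2.fr GamS.nil AllS.nil c134_0 :)
theorem x135 : AuxS.{u} (cP4r 1 3) s135 0 a135 := aux_base3 tw93 rfl b135
theorem x135_1 : AuxS.{u} (cP4r 1 3) s135 0 a135_1 := x135
theorem x135_2 : AuxS.{u} (cP4r 1 3) s135 0 a135_2 := x135_1
theorem n135 : Sound.{u} (cP4r 1 3) s135 0 :=
  (x135_2.fr GamS.nil AllS.nil c135_0 :)
theorem x136 : AuxS.{u} (cP4r 1 3) s136 0 a136 := aux_base3 tw94 rfl b136
theorem x136_1 : AuxS.{u} (cP4r 1 3) s136 0 a136_1 := x136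
theorem x136_2 : AuxS.{u} (cP4r 1 3) s136 0 a136_2 := x136_1
theorem n136 : Sound.{u} (cP4r 1 3) s136 0 :=
  (x136_2.fr GamS.nil AllS.nil c136_0 :)
theorem x137 : AuxS.{u} (cP4r 1 3) s137 0 a137 := aux_base3 tw95 rfl b137
theorem x137_1 : AuxS.{u} (cP4r 1 3) s137 0 a137_1 := x137
theorem x137_2 : AuxS.{u} (cP4r 1 3) s137 0 a137_2 := x137_1
theorem n137 : Sound.{u} (cP4r 1 3) s137 0 :=
  (x137_2.fr GamS.nil AllS.nil c137_0 :)
theorem x138 : AuxS.{u} (cP4r 1 3) s138 0 a138 := aux_base3 tw96 rfl b138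
theorem x138_1 : AuxS.{u} (cP4r 1 3) s138 0 a138_1 := x138
theorem x138_2 : AuxS.{u} (cP4r 1 3) s138 0 a138_2 := x138_1
theorem n138 : Sound.{u} (cP4r 1 3) s138 0 :=
  (x138_2.fr GamS.nil AllS.nil c138_0 :)
theorem x139 : AuxS.{u} (cP4r 1 3) s139 0 a139 := aux_base3 tw97 rfl b139
theorem x139_1 : AuxS.{u} (cP4r 1 3) s139 0 a139_1 := x139
theorem x139_2 : AuxS.{u} (cP4r 1 3) s139 0 a139_2 := x139_1
theorem n139 : Sound.{u} (cP4r 1 3) s139 0 :=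
  (x139_2.fr GamS.nil AllS.nil c139_0 :)
theorem x140 : AuxS.{u} (cP4r 1 3) s140 0 a140 := aux_base3 tw98 rfl b140
theorem x140_1 : AuxS.{u} (cP4r 1 3) s140 0 a140_1 := x140
theorem x140_2 : AuxS.{u} (cP4r 1 3) s140 0 a140_2 := x140_1
theorem n140 : Sound.{u} (cP4r 1 3) s140 0 :=
  (x140_2.fr GamS.nil AllS.nil c140_0 :)
theorem x141 : AuxS.{u} (cP4r 1 3) s141 0 a141 := aux_base3 tw99 rfl b141
theorem n141 : Sound.{u} (cP4r 1 3) s141 0 :=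
  (x141.k3 c141_0 :)
theorem x142 : AuxS.{u} (cP4r 1 3) s142 0 a142 := aux_base3 tw100 rfl b142
theorem n142 : Sound.{u} (cP4r 1 3) s142 0 :=
  (x142.k3 c142_0 :)
theorem x124 : AuxS.{u} (cP4r 1 3) s124 0 a124 := aux_base3 tw34 rfl b124
theorem x124_1 : AuxS.{u} (cP4r 1 3) s124 0 a124_1 := (AuxS.up x124 c124_6 :)
theorem x124_2 : AuxS.{u} (cP4r 1 3) s124 0 a124_2 := (AuxS.up2 x124_1 c124_7 :)
theorem x124_3 : AuxS.{u} (cP4r 1 3) s124 0 a124_3 := (AuxS.up x124_2 c124_8 :)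
theorem p124_0_1 : Phs s124 a124_3 (List.map Prod.fst g124_0) [s125, s126, s127, s128, s129, s130, s131, s132, s133, s134, s135, s136, s137, s138, s139, s140, s141, s142] ct124_0 v124_0 5 w124_0_1 := (Phs.fin c124_1)
theorem p124_0_3 : Phs s124 a124_3 (List.map Prod.fst g124_0) [s125, s126, s127, s128, s129, s130, s131, s132, s133, s134, s135, s136, s137, s138, s139, s140, s141, s142] ct124_0 v124_0 4 w124_0_3 := (Phs.stp c124_2 p124_0_1)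
theorem p124_0_5 : Phs s124 a124_3 (List.map Prod.fst g124_0) [s125, s126, s127, s128, s129, s130, s131, s132, s133, s134, s135, s136, s137, s138, s139, s140, s141, s142] ct124_0 v124_0 1 w124_0_5 := (Phs.stp c124_3 p124_0_3)
theorem n124 : Sound.{u} (cP4r 1 3) s124 0 :=
  (x124_3.ext2 (fun h => absurd h (by decide)) (AuxS.gam x124_3 c124_0) (AllS.cons n125 (AllS.cons n126 (AllS.cons n127 (AllS.cons n128 (AllS.cons n129 (AllS.cons n130 (AllS.cons n131 (AllS.cons n132 (AllS.cons n133 (AllS.cons n134 (AllS.cons n135 (AllS.cons n136 (AllS.cons n137 (AllS.cons n138 (AllS.cons n139 (AllS.cons n140 (AllS.cons n141 (AllS.cons n142 AllS.nil)))))))))))))))))) c124_5 (Phs.stp c124_4 p124_0_5) (Phs.fin (ct := ct124_0) rfl) :)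
theorem x122 : AuxS.{u} (cP4r 1 3) s122 0 a122 := aux_base3 tw81 rfl b122
theorem x122_1 : AuxS.{u} (cP4r 1 3) s122 0 a122_1 := x122
theorem x122_2 : AuxS.{u} (cP4r 1 3) s122 0 a122_2 := x122_1
theorem n122 : Sound.{u} (cP4r 1 3) s122 0 :=
  (x122_2.jump c122_0 c122_1 n124 :)
theorem x123 : AuxS.{u} (cP4r 1 3) s123 0 a123 := aux_base3 tw82 rfl b123
theorem x123_1 : AuxS.{u} (cP4r 1 3) s123 0 a123_1 := (AuxS.up x123 c123_1 :)
theorem n123 : Sound.{u} (cP4r 1 3) s123 0 :=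
  (x123_1.k1 c123_0 :)
theorem x34 : AuxS.{u} (cP4r 1 3) s34 0 a34 := aux_base3 tw34 rfl b34
theorem x34_1 : AuxS.{u} (cP4r 1 3) s34 0 a34_1 := x34
theorem x34_2 : AuxS.{u} (cP4r 1 3) s34 0 a34_2 := x34_1
theorem p34_0_1 : Phs s34 a34_2 (List.map Prod.fst g34_0) [s122, s123] ct34_0 v34_0 5 w34_0_1 := (Phs.fin c34_1)
theorem n34 : Sound.{u} (cP4r 1 3) s34 0 :=
  (x34_2.ext2 (fun h => absurd h (by decide)) (AuxS.gam x34_2 c34_0) (AllS.cons n122 (AllS.cons n123 AllS.nil)) c34_3 (Phs.fin (ct := ct34_0) rfl) (Phs.stp c34_2 p34_0_1) :)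
theorem x35 : AuxS.{u} (cP4r 1 3) s35 0 a35 := aux_base3 tw35 rfl b35
theorem x35_1 : AuxS.{u} (cP4r 1 3) s35 0 a35_1 := x35
theorem x35_2 : AuxS.{u} (cP4r 1 3) s35 0 a35_2 := x35_1
theorem p35_0_1 : Phs s35 a35_2 [] [] ct35_0 v35_0 5 w35_0_1 := (Phs.fin c35_0)
theorem n35 : Sound.{u} (cP4r 1 3) s35 0 :=
  (x35_2.ext2 (fun h => absurd h (by decide)) GamS.nil AllS.nil c35_2 (Phs.fin (ct := ct35_0) rfl) (Phs.stp c35_1 p35_0_1) :)
theorem x36 : AuxS.{u} (cP4r 1 3) s36 0 a36 := aux_base3 tw36 rfl b36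
theorem x36_1 : AuxS.{u} (cP4r 1 3) s36 0 a36_1 := x36
theorem x36_2 : AuxS.{u} (cP4r 1 3) s36 0 a36_2 := x36_1
theorem p36_0_1 : Phs s36 a36_2 [] [] ct36_0 v36_0 5 w36_0_1 := (Phs.fin c36_0)
theorem n36 : Sound.{u} (cP4r 1 3) s36 0 :=
  (x36_2.ext2 (fun h => absurd h (by decide)) GamS.nil AllS.nil c36_2 (Phs.fin (ct := ct36_0) rfl) (Phs.stp c36_1 p36_0_1) :)
theorem x37 : AuxS.{u} (cP4r 1 3) s37 0 a37 := aux_base3 tw37 rfl b37
theorem x37_1 : AuxS.{u} (cP4r 1 3) s37 0 a37_1 := x37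
theorem x37_2 : AuxS.{u} (cP4r 1 3) s37 0 a37_2 := x37_1
theorem p37_0_1 : Phs s37 a37_2 [] [] ct37_0 v37_0 5 w37_0_1 := (Phs.fin c37_0)
theorem n37 : Sound.{u} (cP4r 1 3) s37 0 :=
  (x37_2.ext2 (fun h => absurd h (by decide)) GamS.nil AllS.nil c37_2 (Phs.fin (ct := ct37_0) rfl) (Phs.stp c37_1 p37_0_1) :)
theorem x38 : AuxS.{u} (cP4r 1 3) s38 0 a38 := aux_base3 tw38 rfl b38
theorem x38_1 : AuxS.{u} (cP4r 1 3) s38 0 a38_1 := x38
theorem x38_2 : AuxS.{u} (cP4r 1 3) s38 0 a38_2 := x38_1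
theorem p38_0_1 : Phs s38 a38_2 [] [] ct38_0 v38_0 5 w38_0_1 := (Phs.fin c38_0)
theorem n38 : Sound.{u} (cP4r 1 3) s38 0 :=
  (x38_2.ext2 (fun h => absurd h (by decide)) GamS.nil AllS.nil c38_2 (Phs.fin (ct := ct38_0) rfl) (Phs.stp c38_1 p38_0_1) :)
theorem x164 : AuxS.{u} (cP4r 1 3) s164 0 a164 := aux_base3 tw103 rfl b164
theorem n164 : Sound.{u} (cP4r 1 3) s164 0 :=
  (x164.k4 c164_0 :)
theorem x165 : AuxS.{u} (cP4r 1 3) s165 0 a165 := aux_base3 tw103 rfl b165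
theorem n165 : Sound.{u} (cP4r 1 3) s165 0 :=
  (x165.k4 c165_0 :)
theorem x166 : AuxS.{u} (cP4r 1 3) s166 0 a166 := aux_base3 tw103 rfl b166
theorem n166 : Sound.{u} (cP4r 1 3) s166 0 :=
  (x166.k4 c166_0 :)
theorem x167 : AuxS.{u} (cP4r 1 3) s167 0 a167 := aux_base3 tw103 rfl b167
theorem n167 : Sound.{u} (cP4r 1 3) s167 0 :=
  (x167.k4 c167_0 :)
theorem x168 : AuxS.{u} (cP4r 1 3) s168 0 a168 := aux_base3 tw103 rfl b168
theorem n168 : Sound.{u} (cP4r 1 3) s168 0 :=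
  (x168.k4 c168_0 :)
theorem x169 : AuxS.{u} (cP4r 1 3) s169 0 a169 := aux_base3 tw103 rfl b169
theorem n169 : Sound.{u} (cP4r 1 3) s169 0 :=
  (x169.k4 c169_0 :)
theorem x170 : AuxS.{u} (cP4r 1 3) s170 0 a170 := aux_base3 tw103 rfl b170
theorem n170 : Sound.{u} (cP4r 1 3) s170 0 :=
  (x170.k4 c170_0 :)
theorem x171 : AuxS.{u} (cP4r 1 3) s171 0 a171 := aux_base3 tw103 rfl b171
theorem n171 : Sound.{u} (cP4r 1 3) s171 0 :=
  (x171.k4 c171_0 :)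
theorem x172 : AuxS.{u} (cP4r 1 3) s172 0 a172 := aux_base3 tw103 rfl b172
theorem n172 : Sound.{u} (cP4r 1 3) s172 0 :=
  (x172.k4 c172_0 :)
theorem x173 : AuxS.{u} (cP4r 1 3) s173 0 a173 := aux_base3 tw103 rfl b173
theorem n173 : Sound.{u} (cP4r 1 3) s173 0 :=
  (x173.k4 c173_0 :)
theorem x174 : AuxS.{u} (cP4r 1 3) s174 0 a174 := aux_base3 tw103 rfl b174
theorem n174 : Sound.{u} (cP4r 1 3) s174 0 :=
  (x174.k4 c174_0 :)
theorem x175 : AuxS.{u} (cP4r 1 3) s175 0 a175 := aux_base3 tw103 rfl b175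
theorem n175 : Sound.{u} (cP4r 1 3) s175 0 :=
  (x175.k4 c175_0 :)
theorem x176 : AuxS.{u} (cP4r 1 3) s176 0 a176 := aux_base3 tw103 rfl b176
theorem n176 : Sound.{u} (cP4r 1 3) s176 0 :=
  (x176.k4 c176_0 :)
theorem x177 : AuxS.{u} (cP4r 1 3) s177 0 a177 := aux_base3 tw103 rfl b177
theorem n177 : Sound.{u} (cP4r 1 3) s177 0 :=
  (x177.k4 c177_0 :)
theorem x178 : AuxS.{u} (cP4r 1 3) s178 0 a178 := aux_base3 tw103 rfl b178
theorem n178 : Sound.{u} (cP4r 1 3) s178 0 :=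
  (x178.k4 c178_0 :)
theorem x179 : AuxS.{u} (cP4r 1 3) s179 0 a179 := aux_base3 tw103 rfl b179
theorem n179 : Sound.{u} (cP4r 1 3) s179 0 :=
  (x179.k4 c179_0 :)
theorem x180 : AuxS.{u} (cP4r 1 3) s180 0 a180 := aux_base3 tw103 rfl b180
theorem n180 : Sound.{u} (cP4r 1 3) s180 0 :=
  (x180.k4 c180_0 :)
theorem x196 : AuxS.{u} (cP4r 1 3) s196 0 a196 := aux_base3 tw121 rfl b196
theorem n196 : Sound.{u} (cP4r 1 3) s196 0 :=
  (x196.k4 c196_0 :)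
theorem x197 : AuxS.{u} (cP4r 1 3) s197 0 a197 := aux_base3 tw122 rfl b197
theorem x197_1 : AuxS.{u} (cP4r 1 3) s197 0 a197_1 := (AuxS.up x197 c197_1 :)
theorem x197_2 : AuxS.{u} (cP4r 1 3) s197 0 a197_2 := (AuxS.up2 x197_1 c197_2 :)
theorem x197_3 : AuxS.{u} (cP4r 1 3) s197 0 a197_3 := (AuxS.up x197_2 c197_3 :)
theorem x197_4 : AuxS.{u} (cP4r 1 3) s197 0 a197_4 := (AuxS.up2 x197_3 c197_4 :)
theorem n197 : Sound.{u} (cP4r 1 3) s197 0 :=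
  (x197_4.k7 c197_0 :)
theorem x181 : AuxS.{u} (cP4r 1 3) s181 0 a181 := aux_base3 tw103 rfl b181
theorem x181_1 : AuxS.{u} (cP4r 1 3) s181 0 a181_1 := x181
theorem n181 : Sound.{u} (cP4r 1 3) s181 0 :=
  (x181_1.fr2 GamS.nil (AllS.cons n196 (AllS.cons n197 AllS.nil)) c181_0 :)
theorem x182 : AuxS.{u} (cP4r 1 3) s182 0 a182 := aux_base3 tw103 rfl b182
theorem n182 : Sound.{u} (cP4r 1 3) s182 0 :=
  (x182.k4 c182_0 :)
theorem x183 : AuxS.{u} (cP4r 1 3) s183 0 a183 := aux_base3 tw103 rfl b183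
theorem n183 : Sound.{u} (cP4r 1 3) s183 0 :=
  (x183.k4 c183_0 :)
theorem x184 : AuxS.{u} (cP4r 1 3) s184 0 a184 := aux_base3 tw103 rfl b184
theorem n184 : Sound.{u} (cP4r 1 3) s184 0 :=
  (x184.k4 c184_0 :)
theorem x185 : AuxS.{u} (cP4r 1 3) s185 0 a185 := aux_base3 tw103 rfl b185
theorem n185 : Sound.{u} (cP4r 1 3) s185 0 :=
  (x185.k4 c185_0 :)
theorem x186 : AuxS.{u} (cP4r 1 3) s186 0 a186 := aux_base3 tw103 rfl b186
theorem n186 : Sound.{u} (cP4r 1 3) s186 0 :=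
  (x186.k4 c186_0 :)
theorem x187 : AuxS.{u} (cP4r 1 3) s187 0 a187 := aux_base3 tw103 rfl b187
theorem n187 : Sound.{u} (cP4r 1 3) s187 0 :=
  (x187.k4 c187_0 :)
theorem x188 : AuxS.{u} (cP4r 1 3) s188 0 a188 := aux_base3 tw103 rfl b188
theorem n188 : Sound.{u} (cP4r 1 3) s188 0 :=
  (x188.k4 c188_0 :)
theorem x189 : AuxS.{u} (cP4r 1 3) s189 0 a189 := aux_base3 tw103 rfl b189
theorem n189 : Sound.{u} (cP4r 1 3) s189 0 :=
  (x189.k4 c189_0 :)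
theorem x190 : AuxS.{u} (cP4r 1 3) s190 0 a190 := aux_base3 tw103 rfl b190
theorem n190 : Sound.{u} (cP4r 1 3) s190 0 :=
  (x190.k4 c190_0 :)
theorem x191 : AuxS.{u} (cP4r 1 3) s191 0 a191 := aux_base3 tw103 rfl b191
theorem n191 : Sound.{u} (cP4r 1 3) s191 0 :=
  (x191.k4 c191_0 :)
theorem x192 : AuxS.{u} (cP4r 1 3) s192 0 a192 := aux_base3 tw103 rfl b192
theorem n192 : Sound.{u} (cP4r 1 3) s192 0 :=
  (x192.k4 c192_0 :)
theorem x193 : AuxS.{u} (cP4r 1 3) s193 0 a193 := aux_base3 tw103 rfl b193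
theorem n193 : Sound.{u} (cP4r 1 3) s193 0 :=
  (x193.k4 c193_0 :)
theorem x194 : AuxS.{u} (cP4r 1 3) s194 0 a194 := aux_base3 tw103 rfl b194
theorem n194 : Sound.{u} (cP4r 1 3) s194 0 :=
  (x194.k4 c194_0 :)
theorem x195 : AuxS.{u} (cP4r 1 3) s195 0 a195 := aux_base3 tw103 rfl b195
theorem n195 : Sound.{u} (cP4r 1 3) s195 0 :=
  (x195.k4 c195_0 :)
theorem x146 : AuxS.{u} (cP4r 1 3) s146 0 a146 := aux_base3 tw103 rfl b146
theorem x146_1 : AuxS.{u} (cP4r 1 3) s146 0 a146_1 := x146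
theorem n146 : Sound.{u} (cP4r 1 3) s146 0 :=
  (x146_1.fr (AuxS.gam x146_1 c146_0) (AllS.cons n164 (AllS.cons n165 (AllS.cons n166 (AllS.cons n167 (AllS.cons n168 (AllS.cons n169 (AllS.cons n170 (AllS.cons n171 (AllS.cons n172 (AllS.cons n173 (AllS.cons n174 (AllS.cons n175 (AllS.cons n176 (AllS.cons n177 (AllS.cons n178 (AllS.cons n179 (AllS.cons n180 (AllS.cons n181 (AllS.cons n182 (AllS.cons n183 (AllS.cons n184 (AllS.cons n185 (AllS.cons n186 (AllS.cons n187 (AllS.cons n188 (AllS.cons n189 (AllS.cons n190 (AllS.cons n191 (AllS.cons n192 (AllS.cons n193 (AllS.cons n194 (AllS.cons n195 AllS.nil)))))))))))))))))))))))))))))))) c146_1 :)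
theorem x147 : AuxS.{u} (cP4r 1 3) s147 0 a147 := aux_base3 tw104 rfl b147
theorem x147_1 : AuxS.{u} (cP4r 1 3) s147 0 a147_1 := x147
theorem n147 : Sound.{u} (cP4r 1 3) s147 0 :=
  (x147_1.fr GamS.nil AllS.nil c147_0 :)
theorem x148 : AuxS.{u} (cP4r 1 3) s148 0 a148 := aux_base3 tw105 rfl b148
theorem x148_1 : AuxS.{u} (cP4r 1 3) s148 0 a148_1 := x148
theorem n148 : Sound.{u} (cP4r 1 3) s148 0 :=
  (x148_1.fr GamS.nil AllS.nil c148_0 :)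
theorem x149 : AuxS.{u} (cP4r 1 3) s149 0 a149 := aux_base3 tw106 rfl b149
theorem x149_1 : AuxS.{u} (cP4r 1 3) s149 0 a149_1 := x149
theorem n149 : Sound.{u} (cP4r 1 3) s149 0 :=
  (x149_1.fr GamS.nil AllS.nil c149_0 :)
theorem x150 : AuxS.{u} (cP4r 1 3) s150 0 a150 := aux_base3 tw107 rfl b150
theorem x150_1 : AuxS.{u} (cP4r 1 3) s150 0 a150_1 := x150
theorem n150 : Sound.{u} (cP4r 1 3) s150 0 :=
  (x150_1.fr GamS.nil AllS.nil c150_0 :)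
theorem x151 : AuxS.{u} (cP4r 1 3) s151 0 a151 := aux_base3 tw108 rfl b151
theorem x151_1 : AuxS.{u} (cP4r 1 3) s151 0 a151_1 := x151
theorem n151 : Sound.{u} (cP4r 1 3) s151 0 :=
  (x151_1.fr GamS.nil AllS.nil c151_0 :)
theorem x152 : AuxS.{u} (cP4r 1 3) s152 0 a152 := aux_base3 tw109 rfl b152
theorem x152_1 : AuxS.{u} (cP4r 1 3) s152 0 a152_1 := x152
theorem n152 : Sound.{u} (cP4r 1 3) s152 0 :=
  (x152_1.fr GamS.nil AllS.nil c152_0 :)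
theorem x153 : AuxS.{u} (cP4r 1 3) s153 0 a153 := aux_base3 tw110 rfl b153
theorem x153_1 : AuxS.{u} (cP4r 1 3) s153 0 a153_1 := x153
theorem n153 : Sound.{u} (cP4r 1 3) s153 0 :=
  (x153_1.fr GamS.nil AllS.nil c153_0 :)
theorem x154 : AuxS.{u} (cP4r 1 3) s154 0 a154 := aux_base3 tw111 rfl b154
theorem n154 : Sound.{u} (cP4r 1 3) s154 0 :=
  (x154.k4 c154_0 :)
theorem x155 : AuxS.{u} (cP4r 1 3) s155 0 a155 := aux_base3 tw112 rfl b155
theorem n155 : Sound.{u} (cP4r 1 3) s155 0 :=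
  (x155.k4 c155_0 :)
theorem x156 : AuxS.{u} (cP4r 1 3) s156 0 a156 := aux_base3 tw113 rfl b156
theorem n156 : Sound.{u} (cP4r 1 3) s156 0 :=
  (x156.k4 c156_0 :)
theorem x157 : AuxS.{u} (cP4r 1 3) s157 0 a157 := aux_base3 tw114 rfl b157
theorem n157 : Sound.{u} (cP4r 1 3) s157 0 :=
  (x157.k4 c157_0 :)
theorem x158 : AuxS.{u} (cP4r 1 3) s158 0 a158 := aux_base3 tw115 rfl b158
theorem n158 : Sound.{u} (cP4r 1 3) s158 0 :=
  (x158.k4 c158_0 :)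
theorem x159 : AuxS.{u} (cP4r 1 3) s159 0 a159 := aux_base3 tw116 rfl b159
theorem n159 : Sound.{u} (cP4r 1 3) s159 0 :=
  (x159.k4 c159_0 :)
theorem x160 : AuxS.{u} (cP4r 1 3) s160 0 a160 := aux_base3 tw117 rfl b160
theorem n160 : Sound.{u} (cP4r 1 3) s160 0 :=
  (x160.k4 c160_0 :)
theorem x161 : AuxS.{u} (cP4r 1 3) s161 0 a161 := aux_base3 tw118 rfl b161
theorem n161 : Sound.{u} (cP4r 1 3) s161 0 :=
  (x161.k4 c161_0 :)
theorem x162 : AuxS.{u} (cP4r 1 3) s162 0 a162 := aux_base3 tw119 rfl b162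
theorem n162 : Sound.{u} (cP4r 1 3) s162 0 :=
  (x162.k3 c162_0 :)
theorem x163 : AuxS.{u} (cP4r 1 3) s163 0 a163 := aux_base3 tw120 rfl b163
theorem n163 : Sound.{u} (cP4r 1 3) s163 0 :=
  (x163.k3 c163_0 :)
theorem x145 : AuxS.{u} (cP4r 1 3) s145 0 a145 := aux_base3 tw39 rfl b145
theorem x145_1 : AuxS.{u} (cP4r 1 3) s145 0 a145_1 := (AuxS.up x145 c145_6 :)
theorem x145_2 : AuxS.{u} (cP4r 1 3) s145 0 a145_2 := (AuxS.up2 x145_1 c145_7 :)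
theorem p145_0_1 : Phs s145 a145_2 (List.map Prod.fst g145_0) [s146, s147, s148, s149, s150, s151, s152, s153, s154, s155, s156, s157, s158, s159, s160, s161, s162, s163] ct145_0 v145_0 5 w145_0_1 := (Phs.fin c145_1)
theorem p145_0_3 : Phs s145 a145_2 (List.map Prod.fst g145_0) [s146, s147, s148, s149, s150, s151, s152, s153, s154, s155, s156, s157, s158, s159, s160, s161, s162, s163] ct145_0 v145_0 4 w145_0_3 := (Phs.stp c145_2 p145_0_1)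
theorem p145_0_5 : Phs s145 a145_2 (List.map Prod.fst g145_0) [s146, s147, s148, s149, s150, s151, s152, s153, s154, s155, s156, s157, s158, s159, s160, s161, s162, s163] ct145_0 v145_0 1 w145_0_5 := (Phs.stp c145_3 p145_0_3)
theorem n145 : Sound.{u} (cP4r 1 3) s145 0 :=
  (x145_2.ext2 (fun h => absurd h (by decide)) (AuxS.gam x145_2 c145_0) (AllS.cons n146 (AllS.cons n147 (AllS.cons n148 (AllS.cons n149 (AllS.cons n150 (AllS.cons n151 (AllS.cons n152 (AllS.cons n153 (AllS.cons n154 (AllS.cons n155 (AllS.cons n156 (AllS.cons n157 (AllS.cons n158 (AllS.cons n159 (AllS.cons n160 (AllS.cons n161 (AllS.cons n162 (AllS.cons n163 AllS.nil)))))))))))))))))) c145_5 (Phs.stp c145_4 p145_0_5) (Phs.fin (ct := ct145_0) rfl) :)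
theorem x143 : AuxS.{u} (cP4r 1 3) s143 0 a143 := aux_base3 tw101 rfl b143
theorem x143_1 : AuxS.{u} (cP4r 1 3) s143 0 a143_1 := x143
theorem n143 : Sound.{u} (cP4r 1 3) s143 0 :=
  (x143_1.jump c143_0 c143_1 n145 :)
theorem x144 : AuxS.{u} (cP4r 1 3) s144 0 a144 := aux_base3 tw102 rfl b144
theorem x144_1 : AuxS.{u} (cP4r 1 3) s144 0 a144_1 := (AuxS.up x144 c144_1 :)
theorem n144 : Sound.{u} (cP4r 1 3) s144 0 :=
  (x144_1.k1 c144_0 :)
theorem x39 : AuxS.{u} (cP4r 1 3) s39 0 a39 := aux_base3 tw39 rfl b39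
theorem x39_1 : AuxS.{u} (cP4r 1 3) s39 0 a39_1 := x39
theorem x39_2 : AuxS.{u} (cP4r 1 3) s39 0 a39_2 := x39_1
theorem p39_0_1 : Phs s39 a39_2 (List.map Prod.fst g39_0) [s143, s144] ct39_0 v39_0 5 w39_0_1 := (Phs.fin c39_1)
theorem n39 : Sound.{u} (cP4r 1 3) s39 0 :=
  (x39_2.ext2 (fun h => absurd h (by decide)) (AuxS.gam x39_2 c39_0) (AllS.cons n143 (AllS.cons n144 AllS.nil)) c39_3 (Phs.fin (ct := ct39_0) rfl) (Phs.stp c39_2 p39_0_1) :)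
theorem x201 : AuxS.{u} (cP4r 1 3) s201 0 a201 := aux_base3 tw125 rfl b201
theorem x201_1 : AuxS.{u} (cP4r 1 3) s201 0 a201_1 := x201
theorem x201_2 : AuxS.{u} (cP4r 1 3) s201 0 a201_2 := x201_1
theorem n201 : Sound.{u} (cP4r 1 3) s201 0 :=
  (x201_2.fr GamS.nil AllS.nil c201_0 :)
theorem x202 : AuxS.{u} (cP4r 1 3) s202 0 a202 := aux_base3 tw126 rfl b202
theorem x202_1 : AuxS.{u} (cP4r 1 3) s202 0 a202_1 := x202
theorem x202_2 : AuxS.{u} (cP4r 1 3) s202 0 a202_2 := x202_1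
theorem n202 : Sound.{u} (cP4r 1 3) s202 0 :=
  (x202_2.fr GamS.nil AllS.nil c202_0 :)
theorem x203 : AuxS.{u} (cP4r 1 3) s203 0 a203 := aux_base3 tw127 rfl b203
theorem x203_1 : AuxS.{u} (cP4r 1 3) s203 0 a203_1 := x203
theorem x203_2 : AuxS.{u} (cP4r 1 3) s203 0 a203_2 := x203_1
theorem n203 : Sound.{u} (cP4r 1 3) s203 0 :=
  (x203_2.fr GamS.nil AllS.nil c203_0 :)
theorem x204 : AuxS.{u} (cP4r 1 3) s204 0 a204 := aux_base3 tw128 rfl b204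
theorem x204_1 : AuxS.{u} (cP4r 1 3) s204 0 a204_1 := x204
theorem x204_2 : AuxS.{u} (cP4r 1 3) s204 0 a204_2 := x204_1
theorem n204 : Sound.{u} (cP4r 1 3) s204 0 :=
  (x204_2.fr GamS.nil AllS.nil c204_0 :)
theorem x205 : AuxS.{u} (cP4r 1 3) s205 0 a205 := aux_base3 tw129 rfl b205
theorem x205_1 : AuxS.{u} (cP4r 1 3) s205 0 a205_1 := x205
theorem x205_2 : AuxS.{u} (cP4r 1 3) s205 0 a205_2 := x205_1
theorem n205 : Sound.{u} (cP4r 1 3) s205 0 :=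
  (x205_2.fr GamS.nil AllS.nil c205_0 :)
theorem x206 : AuxS.{u} (cP4r 1 3) s206 0 a206 := aux_base3 tw130 rfl b206
theorem x206_1 : AuxS.{u} (cP4r 1 3) s206 0 a206_1 := x206
theorem x206_2 : AuxS.{u} (cP4r 1 3) s206 0 a206_2 := x206_1
theorem n206 : Sound.{u} (cP4r 1 3) s206 0 :=
  (x206_2.fr GamS.nil AllS.nil c206_0 :)
theorem x207 : AuxS.{u} (cP4r 1 3) s207 0 a207 := aux_base3 tw131 rfl b207
theorem x207_1 : AuxS.{u} (cP4r 1 3) s207 0 a207_1 := x207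
theorem x207_2 : AuxS.{u} (cP4r 1 3) s207 0 a207_2 := x207_1
theorem n207 : Sound.{u} (cP4r 1 3) s207 0 :=
  (x207_2.fr GamS.nil AllS.nil c207_0 :)
theorem x208 : AuxS.{u} (cP4r 1 3) s208 0 a208 := aux_base3 tw132 rfl b208
theorem x208_1 : AuxS.{u} (cP4r 1 3) s208 0 a208_1 := x208
theorem x208_2 : AuxS.{u} (cP4r 1 3) s208 0 a208_2 := x208_1
theorem n208 : Sound.{u} (cP4r 1 3) s208 0 :=
  (x208_2.fr GamS.nil AllS.nil c208_0 :)
theorem x209 : AuxS.{u} (cP4r 1 3) s209 0 a209 := aux_base3 tw133 rfl b209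
theorem n209 : Sound.{u} (cP4r 1 3) s209 0 :=
  (x209.k4 c209_0 :)
theorem x210 : AuxS.{u} (cP4r 1 3) s210 0 a210 := aux_base3 tw134 rfl b210
theorem n210 : Sound.{u} (cP4r 1 3) s210 0 :=
  (x210.k4 c210_0 :)
theorem x211 : AuxS.{u} (cP4r 1 3) s211 0 a211 := aux_base3 tw135 rfl b211
theorem n211 : Sound.{u} (cP4r 1 3) s211 0 :=
  (x211.k4 c211_0 :)
theorem x212 : AuxS.{u} (cP4r 1 3) s212 0 a212 := aux_base3 tw136 rfl b212
theorem n212 : Sound.{u} (cP4r 1 3) s212 0 :=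
  (x212.k4 c212_0 :)
theorem x213 : AuxS.{u} (cP4r 1 3) s213 0 a213 := aux_base3 tw137 rfl b213
theorem n213 : Sound.{u} (cP4r 1 3) s213 0 :=
  (x213.k4 c213_0 :)
theorem x214 : AuxS.{u} (cP4r 1 3) s214 0 a214 := aux_base3 tw138 rfl b214
theorem n214 : Sound.{u} (cP4r 1 3) s214 0 :=
  (x214.k4 c214_0 :)
theorem x215 : AuxS.{u} (cP4r 1 3) s215 0 a215 := aux_base3 tw139 rfl b215
theorem n215 : Sound.{u} (cP4r 1 3) s215 0 :=
  (x215.k4 c215_0 :)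
theorem x216 : AuxS.{u} (cP4r 1 3) s216 0 a216 := aux_base3 tw140 rfl b216
theorem n216 : Sound.{u} (cP4r 1 3) s216 0 :=
  (x216.k4 c216_0 :)
theorem x217 : AuxS.{u} (cP4r 1 3) s217 0 a217 := aux_base3 tw141 rfl b217
theorem n217 : Sound.{u} (cP4r 1 3) s217 0 :=
  (x217.k3 c217_0 :)
theorem x218 : AuxS.{u} (cP4r 1 3) s218 0 a218 := aux_base3 tw142 rfl b218
theorem n218 : Sound.{u} (cP4r 1 3) s218 0 :=
  (x218.k3 c218_0 :)
theorem x200 : AuxS.{u} (cP4r 1 3) s200 0 a200 := aux_base3 tw40 rfl b200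
theorem x200_1 : AuxS.{u} (cP4r 1 3) s200 0 a200_1 := (AuxS.up x200 c200_6 :)
theorem x200_2 : AuxS.{u} (cP4r 1 3) s200 0 a200_2 := (AuxS.up2 x200_1 c200_7 :)
theorem x200_3 : AuxS.{u} (cP4r 1 3) s200 0 a200_3 := x200_2
theorem p200_0_1 : Phs s200 a200_3 (List.map Prod.fst g200_0) [s201, s202, s203, s204, s205, s206, s207, s208, s209, s210, s211, s212, s213, s214, s215, s216, s217, s218] ct200_0 v200_0 5 w200_0_1 := (Phs.fin c200_1)
theorem p200_0_3 : Phs s200 a200_3 (List.map Prod.fst g200_0) [s201, s202, s203, s204, s205, s206, s207, s208, s209, s210, s211, s212, s213, s214, s215, s216, s217, s218] ct200_0 v200_0 4 w200_0_3 := (Phs.stp c200_2 p200_0_1)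
theorem p200_0_5 : Phs s200 a200_3 (List.map Prod.fst g200_0) [s201, s202, s203, s204, s205, s206, s207, s208, s209, s210, s211, s212, s213, s214, s215, s216, s217, s218] ct200_0 v200_0 1 w200_0_5 := (Phs.stp c200_3 p200_0_3)
theorem n200 : Sound.{u} (cP4r 1 3) s200 0 :=
  (x200_3.ext2 (fun h => absurd h (by decide)) (AuxS.gam x200_3 c200_0) (AllS.cons n201 (AllS.cons n202 (AllS.cons n203 (AllS.cons n204 (AllS.cons n205 (AllS.cons n206 (AllS.cons n207 (AllS.cons n208 (AllS.cons n209 (AllS.cons n210 (AllS.cons n211 (AllS.cons n212 (AllS.cons n213 (AllS.cons n214 (AllS.cons n215 (AllS.cons n216 (AllS.cons n217 (AllS.cons n218 AllS.nil)))))))))))))))))) c200_5 (Phs.stp c200_4 p200_0_5) (Phs.fin (ct := ct200_0) rfl) :)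
theorem x198 : AuxS.{u} (cP4r 1 3) s198 0 a198 := aux_base3 tw123 rfl b198
theorem x198_1 : AuxS.{u} (cP4r 1 3) s198 0 a198_1 := x198
theorem x198_2 : AuxS.{u} (cP4r 1 3) s198 0 a198_2 := x198_1
theorem n198 : Sound.{u} (cP4r 1 3) s198 0 :=
  (x198_2.jump c198_0 c198_1 n200 :)
theorem x199 : AuxS.{u} (cP4r 1 3) s199 0 a199 := aux_base3 tw124 rfl b199
theorem x199_1 : AuxS.{u} (cP4r 1 3) s199 0 a199_1 := (AuxS.up x199 c199_1 :)
theorem n199 : Sound.{u} (cP4r 1 3) s199 0 :=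
  (x199_1.k1 c199_0 :)
theorem x40 : AuxS.{u} (cP4r 1 3) s40 0 a40 := aux_base3 tw40 rfl b40
theorem x40_1 : AuxS.{u} (cP4r 1 3) s40 0 a40_1 := x40
theorem x40_2 : AuxS.{u} (cP4r 1 3) s40 0 a40_2 := x40_1
theorem p40_0_1 : Phs s40 a40_2 (List.map Prod.fst g40_0) [s198, s199] ct40_0 v40_0 5 w40_0_1 := (Phs.fin c40_1)
theorem n40 : Sound.{u} (cP4r 1 3) s40 0 :=
  (x40_2.ext2 (fun h => absurd h (by decide)) (AuxS.gam x40_2 c40_0) (AllS.cons n198 (AllS.cons n199 AllS.nil)) c40_3 (Phs.fin (ct := ct40_0) rfl) (Phs.stp c40_2 p40_0_1) :)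
theorem x41 : AuxS.{u} (cP4r 1 3) s41 0 a41 := aux_base3 tw41 rfl b41
theorem n41 : Sound.{u} (cP4r 1 3) s41 0 :=
  (x41.k3 c41_0 :)
theorem x42 : AuxS.{u} (cP4r 1 3) s42 0 a42 := aux_base3 tw42 rfl b42
theorem n42 : Sound.{u} (cP4r 1 3) s42 0 :=
  (x42.k3 c42_0 :)
theorem x1 : AuxS.{u} (cP4r 1 3) s1 0 a1 := aux_base3 tw1 rfl b1
theorem x1_1 : AuxS.{u} (cP4r 1 3) s1 0 a1_1 := (AuxS.up x1 c1_4 :)
theorem p1_0_1 : Phs s1 a1_1 [] [s33, s34, s35, s36, s37, s38, s39, s40, s41, s42] ct1_0 v1_0 4 w1_0_1 := (Phs.fin c1_0)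
theorem p1_0_3 : Phs s1 a1_1 [] [s33, s34, s35, s36, s37, s38, s39, s40, s41, s42] ct1_0 v1_0 1 w1_0_3 := (Phs.stp c1_1 p1_0_1)
theorem n1 : Sound.{u} (cP4r 1 3) s1 0 :=
  (x1_1.ext2 (fun h => absurd h (by decide)) GamS.nil (AllS.cons n33 (AllS.cons n34 (AllS.cons n35 (AllS.cons n36 (AllS.cons n37 (AllS.cons n38 (AllS.cons n39 (AllS.cons n40 (AllS.cons n41 (AllS.cons n42 AllS.nil)))))))))) c1_3 (Phs.stp c1_2 p1_0_3) (Phs.fin (ct := ct1_0) rfl) :)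
theorem x2 : AuxS.{u} (cP4r 1 3) s2 0 a2 := aux_base3 tw2 rfl b2
theorem x2_1 : AuxS.{u} (cP4r 1 3) s2 0 a2_1 := (AuxS.up x2 c2_1 :)
theorem n2 : Sound.{u} (cP4r 1 3) s2 0 :=
  (x2_1.k1 c2_0 :)
theorem x3 : AuxS.{u} (cP4r 1 3) s3 0 a3 := aux_base3 tw3 rfl b3
theorem n3 : Sound.{u} (cP4r 1 3) s3 0 :=
  (x3.k2 c3_0 :)
theorem x4 : AuxS.{u} (cP4r 1 3) s4 0 a4 := aux_base3 tw4 rfl b4
theorem n4 : Sound.{u} (cP4r 1 3) s4 0 :=
  (x4.k2 c4_0 :)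
theorem x5 : AuxS.{u} (cP4r 1 3) s5 0 a5 := aux_base3 tw5 rfl b5
theorem n5 : Sound.{u} (cP4r 1 3) s5 0 :=
  (x5.k2 c5_0 :)
theorem x6 : AuxS.{u} (cP4r 1 3) s6 0 a6 := aux_base3 tw6 rfl b6
theorem n6 : Sound.{u} (cP4r 1 3) s6 0 :=
  (x6.k2 c6_0 :)
theorem x219 : AuxS.{u} (cP4r 1 3) s219 0 a219 := aux_base3 tw143 rfl b219
theorem x219_1 : AuxS.{u} (cP4r 1 3) s219 0 a219_1 := (AuxS.up x219 c219_1 :)
theorem x219_2p : AuxS.{u} (cP4r 1 3) s219 0 a219_2p := (AuxS.up x219_1 c219_2 :)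
theorem x219_2 : AuxS.{u} (cP4r 1 3) s219 0 a219_2 := (AuxS.up2 x219_2p c219_3 :)
theorem n219 : Sound.{u} (cP4r 1 3) s219 0 :=
  (x219_2.k7 c219_0 :)
theorem x220 : AuxS.{u} (cP4r 1 3) s220 0 a220 := aux_base3 tw144 rfl b220
theorem x220_1 : AuxS.{u} (cP4r 1 3) s220 0 a220_1 := (AuxS.up x220 c220_1 :)
theorem n220 : Sound.{u} (cP4r 1 3) s220 0 :=
  (x220_1.k1 c220_0 :)
theorem x221 : AuxS.{u} (cP4r 1 3) s221 0 a221 := aux_base3 tw145 rfl b221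
theorem x221_1 : AuxS.{u} (cP4r 1 3) s221 0 a221_1 := (AuxS.up x221 c221_1 :)
theorem n221 : Sound.{u} (cP4r 1 3) s221 0 :=
  (x221_1.k1 c221_0 :)
theorem x222 : AuxS.{u} (cP4r 1 3) s222 0 a222 := aux_base3 tw146 rfl b222
theorem x222_1 : AuxS.{u} (cP4r 1 3) s222 0 a222_1 := (AuxS.up x222 c222_1 :)
theorem n222 : Sound.{u} (cP4r 1 3) s222 0 :=
  (x222_1.k1 c222_0 :)
theorem x223 : AuxS.{u} (cP4r 1 3) s223 0 a223 := aux_base3 tw147 rfl b223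
theorem x223_1 : AuxS.{u} (cP4r 1 3) s223 0 a223_1 := (AuxS.up x223 c223_1 :)
theorem n223 : Sound.{u} (cP4r 1 3) s223 0 :=
  (x223_1.k1 c223_0 :)
theorem x224 : AuxS.{u} (cP4r 1 3) s224 0 a224 := aux_base3 tw148 rfl b224
theorem x224_1 : AuxS.{u} (cP4r 1 3) s224 0 a224_1 := (AuxS.up x224 c224_1 :)
theorem n224 : Sound.{u} (cP4r 1 3) s224 0 :=
  (x224_1.k1 c224_0 :)
theorem x225 : AuxS.{u} (cP4r 1 3) s225 0 a225 := aux_base3 tw149 rfl b225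
theorem x225_1 : AuxS.{u} (cP4r 1 3) s225 0 a225_1 := (AuxS.up x225 c225_1 :)
theorem x225_2p : AuxS.{u} (cP4r 1 3) s225 0 a225_2p := (AuxS.up x225_1 c225_2 :)
theorem x225_2 : AuxS.{u} (cP4r 1 3) s225 0 a225_2 := (AuxS.up2 x225_2p c225_3 :)
theorem n225 : Sound.{u} (cP4r 1 3) s225 0 :=
  (x225_2.k7 c225_0 :)
theorem x226 : AuxS.{u} (cP4r 1 3) s226 0 a226 := aux_base3 tw150 rfl b226
theorem x226_1 : AuxS.{u} (cP4r 1 3) s226 0 a226_1 := (AuxS.up x226 c226_1 :)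
theorem n226 : Sound.{u} (cP4r 1 3) s226 0 :=
  (x226_1.k1 c226_0 :)
theorem x7 : AuxS.{u} (cP4r 1 3) s7 0 a7 := aux_base3 tw7 rfl b7
theorem x7_1 : AuxS.{u} (cP4r 1 3) s7 0 a7_1 := (AuxS.up x7 c7_4 :)
theorem p7_0_1 : Phs s7 a7_1 [] [s219, s220, s221, s222, s223, s224, s225, s226] ct7_0 v7_0 4 w7_0_1 := (Phs.fin c7_0)
theorem p7_0_3 : Phs s7 a7_1 [] [s219, s220, s221, s222, s223, s224, s225, s226] ct7_0 v7_0 1 w7_0_3 := (Phs.stp c7_1 p7_0_1)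
theorem n7 : Sound.{u} (cP4r 1 3) s7 0 :=
  (x7_1.ext2 (fun h => absurd h (by decide)) GamS.nil (AllS.cons n219 (AllS.cons n220 (AllS.cons n221 (AllS.cons n222 (AllS.cons n223 (AllS.cons n224 (AllS.cons n225 (AllS.cons n226 AllS.nil)))))))) c7_3 (Phs.stp c7_2 p7_0_3) (Phs.fin (ct := ct7_0) rfl) :)
theorem x227 : AuxS.{u} (cP4r 1 3) s227 0 a227 := aux_base3 tw151 rfl b227
theorem x227_1 : AuxS.{u} (cP4r 1 3) s227 0 a227_1 := (AuxS.up x227 c227_1 :)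
theorem n227 : Sound.{u} (cP4r 1 3) s227 0 :=
  (x227_1.k1 c227_0 :)
theorem x228 : AuxS.{u} (cP4r 1 3) s228 0 a228 := aux_base3 tw152 rfl b228
theorem x228_1 : AuxS.{u} (cP4r 1 3) s228 0 a228_1 := (AuxS.up x228 c228_1 :)
theorem n228 : Sound.{u} (cP4r 1 3) s228 0 :=
  (x228_1.k1 c228_0 :)
theorem x249 : AuxS.{u} (cP4r 1 3) s249 0 a249 := aux_base3 tw166 rfl b249
theorem n249 : Sound.{u} (cP4r 1 3) s249 0 :=
  (x249.k4 c249_0 :)
theorem x253 : AuxS.{u} (cP4r 1 3) s253 0 a253 := aux_base3 tw166 rfl b253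
theorem x253_1 : AuxS.{u} (cP4r 1 3) s253 0 a253_1 := (AuxS.up x253 c253_13 :)
theorem x253_2 : AuxS.{u} (cP4r 1 3) s253 0 a253_2 := (AuxS.up x253_1 c253_14 :)
theorem x253_L0_1 : AuxS.{u} (cP4r 1 3) s253 (0 + 2) a253_L0_1 := (AuxS.hp (x253_2.lam 0) c253_1 :)
theorem x253_L0_2 : AuxS.{u} (cP4r 1 3) s253 (0 + 2) a253_L0_2 := (AuxS.nf x253_L0_1 c253_2 :)
theorem p253_6_1 : Phs s253 a253_2 [] [] ct253_6 v253_6 4 w253_6_1 := (Phs.fin c253_6)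
theorem p253_6_5 : Phs s253 a253_2 [] [] ct253_6 v253_6 2 w253_6_5 := (Phs.app (Phs.app (Phs.stp c253_7 p253_6_1) (Phs.stp c253_8 p253_6_1)) (Phs.stp c253_9 p253_6_1))
theorem p253_6_7 : Phs s253 a253_2 [] [] ct253_6 v253_6 1 w253_6_7 := (Phs.stp c253_10 p253_6_5)
theorem n253 : Sound.{u} (cP4r 1 3) s253 0 :=
  (x253_2.spl c253_0 (AllM.cons (x253_L0_2.k5 c253_3 :) (AllM.cons ((x253_2.lam 97).e8 c253_4 :) (AllM.cons ((x253_2.lam 225).e8 c253_5 :) AllM.nil))) ((x253_2.weaken 1).ext2 (fun _ => rfl) GamS.nil AllS.nil c253_12 (Phs.stp c253_11 p253_6_7) (Phs.fin (ct := ct253_6) rfl)) :)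
theorem x254 : AuxS.{u} (cP4r 1 3) s254 0 a254 := aux_base3 tw166 rfl b254
theorem n254 : Sound.{u} (cP4r 1 3) s254 0 :=
  (x254.k4 c254_0 :)
theorem x255 : AuxS.{u} (cP4r 1 3) s255 0 a255 := aux_base3 tw166 rfl b255
theorem n255 : Sound.{u} (cP4r 1 3) s255 0 :=
  (x255.k4 c255_0 :)
theorem x256 : AuxS.{u} (cP4r 1 3) s256 0 a256 := aux_base3 tw166 rfl b256
theorem x256_1 : AuxS.{u} (cP4r 1 3) s256 0 a256_1 := x256
theorem x256_2 : AuxS.{u} (cP4r 1 3) s256 0 a256_2 := x256_1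
theorem n256 : Sound.{u} (cP4r 1 3) s256 0 :=
  (x256_2.jump c256_0 c256_1 n253 :)
theorem x250 : AuxS.{u} (cP4r 1 3) s250 0 a250 := aux_base3 tw166 rfl b250
theorem x250_1 : AuxS.{u} (cP4r 1 3) s250 0 a250_1 := x250
theorem x250_2 : AuxS.{u} (cP4r 1 3) s250 0 a250_2 := x250_1
theorem n250 : Sound.{u} (cP4r 1 3) s250 0 :=
  (x250_2.fr GamS.nil (AllS.cons n253 (AllS.cons n254 (AllS.cons n255 (AllS.cons n256 AllS.nil)))) c250_0 :)
theorem x257 : AuxS.{u} (cP4r 1 3) s257 0 a257 := aux_base3 tw166 rfl b257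
theorem x257_1 : AuxS.{u} (cP4r 1 3) s257 0 a257_1 := x257
theorem x257_2 : AuxS.{u} (cP4r 1 3) s257 0 a257_2 := x257_1
theorem n257 : Sound.{u} (cP4r 1 3) s257 0 :=
  (x257_2.jump c257_0 c257_1 n250 :)
theorem x258 : AuxS.{u} (cP4r 1 3) s258 0 a258 := aux_base3 tw166 rfl b258
theorem n258 : Sound.{u} (cP4r 1 3) s258 0 :=
  (x258.k4 c258_0 :)
theorem x259 : AuxS.{u} (cP4r 1 3) s259 0 a259 := aux_base3 tw166 rfl b259
theorem n259 : Sound.{u} (cP4r 1 3) s259 0 :=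
  (x259.k4 c259_0 :)
theorem x260 : AuxS.{u} (cP4r 1 3) s260 0 a260 := aux_base3 tw166 rfl b260
theorem x260_1 : AuxS.{u} (cP4r 1 3) s260 0 a260_1 := (AuxS.up x260 c260_15 :)
theorem x260_2 : AuxS.{u} (cP4r 1 3) s260 0 a260_2 := (AuxS.up x260_1 c260_16 :)
theorem x260_L0_1 : AuxS.{u} (cP4r 1 3) s260 (0 + 2) a260_L0_1 := (AuxS.hp (x260_2.lam 0) c260_1 :)
theorem x260_L0_2 : AuxS.{u} (cP4r 1 3) s260 (0 + 2) a260_L0_2 := (AuxS.ne x260_L0_1 c260_2 :)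
theorem x260_L0_3 : AuxS.{u} (cP4r 1 3) s260 (0 + 2) a260_L0_3 := (AuxS.nf x260_L0_2 c260_3 :)
theorem x260_L0_4 : AuxS.{u} (cP4r 1 3) s260 (0 + 2) a260_L0_4 := (AuxS.hp x260_L0_3 c260_4 :)
theorem p260_8_1 : Phs s260 a260_2 [] [] ct260_8 v260_8 4 w260_8_1 := (Phs.fin c260_8)
theorem p260_8_5 : Phs s260 a260_2 [] [] ct260_8 v260_8 2 w260_8_5 := (Phs.app (Phs.app (Phs.stp c260_9 p260_8_1) (Phs.stp c260_10 p260_8_1)) (Phs.stp c260_11 p260_8_1))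
theorem p260_8_7 : Phs s260 a260_2 [] [] ct260_8 v260_8 1 w260_8_7 := (Phs.stp c260_12 p260_8_5)
theorem n260 : Sound.{u} (cP4r 1 3) s260 0 :=
  (x260_2.spl c260_0 (AllM.cons (x260_L0_4.tp c260_5 :) (AllM.cons ((x260_2.lam 97).e8 c260_6 :) (AllM.cons ((x260_2.lam 225).e8 c260_7 :) AllM.nil))) ((x260_2.weaken 1).ext2 (fun _ => rfl) GamS.nil AllS.nil c260_14 (Phs.stp c260_13 p260_8_7) (Phs.fin (ct := ct260_8) rfl)) :)
theorem x251 : AuxS.{u} (cP4r 1 3) s251 0 a251 := aux_base3 tw166 rfl b251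
theorem x251_1 : AuxS.{u} (cP4r 1 3) s251 0 a251_1 := x251
theorem x251_2 : AuxS.{u} (cP4r 1 3) s251 0 a251_2 := x251_1
theorem n251 : Sound.{u} (cP4r 1 3) s251 0 :=
  (x251_2.fr GamS.nil (AllS.cons n257 (AllS.cons n258 (AllS.cons n259 (AllS.cons n260 AllS.nil)))) c251_0 :)
theorem x252 : AuxS.{u} (cP4r 1 3) s252 0 a252 := aux_base3 tw166 rfl b252
theorem n252 : Sound.{u} (cP4r 1 3) s252 0 :=
  (x252.k4 c252_0 :)
theorem x245 : AuxS.{u} (cP4r 1 3) s245 0 a245 := aux_base3 tw166 rfl b245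
theorem x245_1 : AuxS.{u} (cP4r 1 3) s245 0 a245_1 := x245
theorem x245_2 : AuxS.{u} (cP4r 1 3) s245 0 a245_2 := x245_1
theorem n245 : Sound.{u} (cP4r 1 3) s245 0 :=
  (x245_2.fr GamS.nil (AllS.cons n249 (AllS.cons n250 (AllS.cons n251 (AllS.cons n252 AllS.nil)))) c245_0 :)
theorem x246 : AuxS.{u} (cP4r 1 3) s246 0 a246 := aux_base3 tw166 rfl b246
theorem x246_1 : AuxS.{u} (cP4r 1 3) s246 0 a246_1 := x246
theorem x246_2 : AuxS.{u} (cP4r 1 3) s246 0 a246_2 := x246_1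
theorem n246 : Sound.{u} (cP4r 1 3) s246 0 :=
  (x246_2.jump c246_0 c246_1 n245 :)
theorem x247 : AuxS.{u} (cP4r 1 3) s247 0 a247 := aux_base3 tw166 rfl b247
theorem x247_1 : AuxS.{u} (cP4r 1 3) s247 0 a247_1 := x247
theorem x247_2 : AuxS.{u} (cP4r 1 3) s247 0 a247_2 := x247_1
theorem n247 : Sound.{u} (cP4r 1 3) s247 0 :=
  (x247_2.jump c247_0 c247_1 n245 :)
theorem x248 : AuxS.{u} (cP4r 1 3) s248 0 a248 := aux_base3 tw166 rfl b248
theorem x248_1 : AuxS.{u} (cP4r 1 3) s248 0 a248_1 := x248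
theorem x248_2 : AuxS.{u} (cP4r 1 3) s248 0 a248_2 := x248_1
theorem n248 : Sound.{u} (cP4r 1 3) s248 0 :=
  (x248_2.jump c248_0 c248_1 n245 :)
theorem x244 : AuxS.{u} (cP4r 1 3) s244 0 a244 := aux_base3 tw166 rfl b244
theorem x244_1 : AuxS.{u} (cP4r 1 3) s244 0 a244_1 := x244
theorem x244_2 : AuxS.{u} (cP4r 1 3) s244 0 a244_2 := x244_1
theorem n244 : Sound.{u} (cP4r 1 3) s244 0 :=
  (x244_2.rho (AllS.cons n245 (AllS.cons n246 (AllS.cons n247 (AllS.cons n248 AllS.nil)))) c244_0 :)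
theorem x242 : AuxS.{u} (cP4r 1 3) s242 0 a242 := aux_base3 tw163 rfl b242
theorem x242_1 : AuxS.{u} (cP4r 1 3) s242 0 a242_1 := x242
theorem x242_2 : AuxS.{u} (cP4r 1 3) s242 0 a242_2 := x242_1
theorem n242 : Sound.{u} (cP4r 1 3) s242 0 :=
  (x242_2.jump2 c242_0 c242_1 n244 :)
theorem x243 : AuxS.{u} (cP4r 1 3) s243 0 a243 := aux_base3 tw164 rfl b243
theorem x243_1 : AuxS.{u} (cP4r 1 3) s243 0 a243_1 := (AuxS.up x243 c243_1 :)
theorem x243_2 : AuxS.{u} (cP4r 1 3) s243 0 a243_2 := x243_1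
theorem x243_3 : AuxS.{u} (cP4r 1 3) s243 0 a243_3 := (AuxS.up2 x243_2 c243_2 :)
theorem n243 : Sound.{u} (cP4r 1 3) s243 0 :=
  (x243_3.k7 c243_0 :)
theorem x240 : AuxS.{u} (cP4r 1 3) s240 0 a240 := aux_base3 tw161 rfl b240
theorem x240_1 : AuxS.{u} (cP4r 1 3) s240 0 a240_1 := x240
theorem x240_2 : AuxS.{u} (cP4r 1 3) s240 0 a240_2 := x240_1
theorem x240_3 : AuxS.{u} (cP4r 1 3) s240 0 a240_3 := x240_2
theorem x240_4 : AuxS.{u} (cP4r 1 3) s240 0 a240_4 := x240_3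
theorem n240 : Sound.{u} (cP4r 1 3) s240 0 :=
  (x240_4.fr2 GamS.nil (AllS.cons n242 (AllS.cons n243 AllS.nil)) c240_0 :)
theorem x241 : AuxS.{u} (cP4r 1 3) s241 0 a241 := aux_base3 tw161 rfl b241
theorem n241 : Sound.{u} (cP4r 1 3) s241 0 :=
  (x241.k4 c241_0 :)
theorem x238 : AuxS.{u} (cP4r 1 3) s238 0 a238 := aux_base3 tw161 rfl b238
theorem x238_1 : AuxS.{u} (cP4r 1 3) s238 0 a238_1 := x238
theorem x238_2 : AuxS.{u} (cP4r 1 3) s238 0 a238_2 := x238_1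
theorem n238 : Sound.{u} (cP4r 1 3) s238 0 :=
  (x238_2.fr GamS.nil (AllS.cons n240 (AllS.cons n241 AllS.nil)) c238_0 :)
theorem x270 : AuxS.{u} (cP4r 1 3) s270 0 a270 := aux_base3 tw170 rfl b270
theorem n270 : Sound.{u} (cP4r 1 3) s270 0 :=
  (x270.k4 c270_0 :)
theorem x274 : AuxS.{u} (cP4r 1 3) s274 0 a274 := aux_base3 tw170 rfl b274
theorem x274_1 : AuxS.{u} (cP4r 1 3) s274 0 a274_1 := (AuxS.up x274 c274_3 :)
theorem x274_2 : AuxS.{u} (cP4r 1 3) s274 0 a274_2 := (AuxS.up x274_1 c274_4 :)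
theorem n274 : Sound.{u} (cP4r 1 3) s274 0 :=
  (x274_2.spl c274_0 (AllM.cons ((x274_2.lam 0).recog c274_1 :) AllM.nil) ((x274_2.weaken 1).ext2 (fun _ => rfl) GamS.nil AllS.nil c274_2 (Phs.fin (ct := ct274_2) rfl) (Phs.fin (ct := ct274_2) rfl)) :)
theorem x275 : AuxS.{u} (cP4r 1 3) s275 0 a275 := aux_base3 tw170 rfl b275
theorem n275 : Sound.{u} (cP4r 1 3) s275 0 :=
  (x275.k4 c275_0 :)
theorem x276 : AuxS.{u} (cP4r 1 3) s276 0 a276 := aux_base3 tw170 rfl b276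
theorem n276 : Sound.{u} (cP4r 1 3) s276 0 :=
  (x276.k4 c276_0 :)
theorem x277 : AuxS.{u} (cP4r 1 3) s277 0 a277 := aux_base3 tw170 rfl b277
theorem x277_1 : AuxS.{u} (cP4r 1 3) s277 0 a277_1 := x277
theorem x277_2 : AuxS.{u} (cP4r 1 3) s277 0 a277_2 := x277_1
theorem n277 : Sound.{u} (cP4r 1 3) s277 0 :=
  (x277_2.jump c277_0 c277_1 n274 :)
theorem x271 : AuxS.{u} (cP4r 1 3) s271 0 a271 := aux_base3 tw170 rfl b271
theorem x271_1 : AuxS.{u} (cP4r 1 3) s271 0 a271_1 := x271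
theorem x271_2 : AuxS.{u} (cP4r 1 3) s271 0 a271_2 := x271_1
theorem n271 : Sound.{u} (cP4r 1 3) s271 0 :=
  (x271_2.fr GamS.nil (AllS.cons n274 (AllS.cons n275 (AllS.cons n276 (AllS.cons n277 AllS.nil)))) c271_0 :)
theorem x278 : AuxS.{u} (cP4r 1 3) s278 0 a278 := aux_base3 tw170 rfl b278
theorem x278_1 : AuxS.{u} (cP4r 1 3) s278 0 a278_1 := x278
theorem x278_2 : AuxS.{u} (cP4r 1 3) s278 0 a278_2 := x278_1
theorem n278 : Sound.{u} (cP4r 1 3) s278 0 :=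
  (x278_2.jump c278_0 c278_1 n271 :)
theorem x279 : AuxS.{u} (cP4r 1 3) s279 0 a279 := aux_base3 tw170 rfl b279
theorem n279 : Sound.{u} (cP4r 1 3) s279 0 :=
  (x279.k4 c279_0 :)
theorem x280 : AuxS.{u} (cP4r 1 3) s280 0 a280 := aux_base3 tw170 rfl b280
theorem n280 : Sound.{u} (cP4r 1 3) s280 0 :=
  (x280.k4 c280_0 :)
theorem x281 : AuxS.{u} (cP4r 1 3) s281 0 a281 := aux_base3 tw170 rfl b281
theorem x281_1 : AuxS.{u} (cP4r 1 3) s281 0 a281_1 := (AuxS.up x281 c281_3 :)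
theorem x281_2 : AuxS.{u} (cP4r 1 3) s281 0 a281_2 := (AuxS.up x281_1 c281_4 :)
theorem n281 : Sound.{u} (cP4r 1 3) s281 0 :=
  (x281_2.spl c281_0 (AllM.cons ((x281_2.lam 0).recog c281_1 :) AllM.nil) ((x281_2.weaken 1).ext2 (fun _ => rfl) GamS.nil AllS.nil c281_2 (Phs.fin (ct := ct281_2) rfl) (Phs.fin (ct := ct281_2) rfl)) :)
theorem x272 : AuxS.{u} (cP4r 1 3) s272 0 a272 := aux_base3 tw170 rfl b272
theorem x272_1 : AuxS.{u} (cP4r 1 3) s272 0 a272_1 := x272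
theorem x272_2 : AuxS.{u} (cP4r 1 3) s272 0 a272_2 := x272_1
theorem n272 : Sound.{u} (cP4r 1 3) s272 0 :=
  (x272_2.fr GamS.nil (AllS.cons n278 (AllS.cons n279 (AllS.cons n280 (AllS.cons n281 AllS.nil)))) c272_0 :)
theorem x273 : AuxS.{u} (cP4r 1 3) s273 0 a273 := aux_base3 tw170 rfl b273
theorem n273 : Sound.{u} (cP4r 1 3) s273 0 :=
  (x273.k4 c273_0 :)
theorem x266 : AuxS.{u} (cP4r 1 3) s266 0 a266 := aux_base3 tw170 rfl b266
theorem x266_1 : AuxS.{u} (cP4r 1 3) s266 0 a266_1 := x266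
theorem x266_2 : AuxS.{u} (cP4r 1 3) s266 0 a266_2 := x266_1
theorem n266 : Sound.{u} (cP4r 1 3) s266 0 :=
  (x266_2.fr GamS.nil (AllS.cons n270 (AllS.cons n271 (AllS.cons n272 (AllS.cons n273 AllS.nil)))) c266_0 :)
theorem x267 : AuxS.{u} (cP4r 1 3) s267 0 a267 := aux_base3 tw170 rfl b267
theorem x267_1 : AuxS.{u} (cP4r 1 3) s267 0 a267_1 := x267
theorem x267_2 : AuxS.{u} (cP4r 1 3) s267 0 a267_2 := x267_1
theorem n267 : Sound.{u} (cP4r 1 3) s267 0 :=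
  (x267_2.jump c267_0 c267_1 n266 :)
theorem x268 : AuxS.{u} (cP4r 1 3) s268 0 a268 := aux_base3 tw170 rfl b268
theorem x268_1 : AuxS.{u} (cP4r 1 3) s268 0 a268_1 := x268
theorem x268_2 : AuxS.{u} (cP4r 1 3) s268 0 a268_2 := x268_1
theorem n268 : Sound.{u} (cP4r 1 3) s268 0 :=
  (x268_2.jump c268_0 c268_1 n266 :)
theorem x269 : AuxS.{u} (cP4r 1 3) s269 0 a269 := aux_base3 tw170 rfl b269
theorem x269_1 : AuxS.{u} (cP4r 1 3) s269 0 a269_1 := x269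
theorem x269_2 : AuxS.{u} (cP4r 1 3) s269 0 a269_2 := x269_1
theorem n269 : Sound.{u} (cP4r 1 3) s269 0 :=
  (x269_2.jump c269_0 c269_1 n266 :)
theorem x265 : AuxS.{u} (cP4r 1 3) s265 0 a265 := aux_base3 tw170 rfl b265
theorem x265_1 : AuxS.{u} (cP4r 1 3) s265 0 a265_1 := x265
theorem x265_2 : AuxS.{u} (cP4r 1 3) s265 0 a265_2 := x265_1
theorem n265 : Sound.{u} (cP4r 1 3) s265 0 :=
  (x265_2.rho (AllS.cons n266 (AllS.cons n267 (AllS.cons n268 (AllS.cons n269 AllS.nil)))) c265_0 :)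
theorem x263 : AuxS.{u} (cP4r 1 3) s263 0 a263 := aux_base3 tw167 rfl b263
theorem x263_1 : AuxS.{u} (cP4r 1 3) s263 0 a263_1 := x263
theorem x263_2 : AuxS.{u} (cP4r 1 3) s263 0 a263_2 := x263_1
theorem n263 : Sound.{u} (cP4r 1 3) s263 0 :=
  (x263_2.jump2 c263_0 c263_1 n265 :)
theorem x287 : AuxS.{u} (cP4r 1 3) s287 0 a287 := aux_base3 tw172 rfl b287
theorem n287 : Sound.{u} (cP4r 1 3) s287 0 :=
  (x287.k4 c287_0 :)
theorem x291 : AuxS.{u} (cP4r 1 3) s291 0 a291 := aux_base3 tw172 rfl b291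
theorem x291_1 : AuxS.{u} (cP4r 1 3) s291 0 a291_1 := (AuxS.up x291 c291_3 :)
theorem x291_2 : AuxS.{u} (cP4r 1 3) s291 0 a291_2 := (AuxS.up x291_1 c291_4 :)
theorem n291 : Sound.{u} (cP4r 1 3) s291 0 :=
  (x291_2.spl c291_0 (AllM.cons ((x291_2.lam 0).recog c291_1 :) AllM.nil) ((x291_2.weaken 1).ext2 (fun _ => rfl) GamS.nil AllS.nil c291_2 (Phs.fin (ct := ct291_2) rfl) (Phs.fin (ct := ct291_2) rfl)) :)
theorem x292 : AuxS.{u} (cP4r 1 3) s292 0 a292 := aux_base3 tw172 rfl b292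
theorem n292 : Sound.{u} (cP4r 1 3) s292 0 :=
  (x292.k4 c292_0 :)
theorem x293 : AuxS.{u} (cP4r 1 3) s293 0 a293 := aux_base3 tw172 rfl b293
theorem n293 : Sound.{u} (cP4r 1 3) s293 0 :=
  (x293.k4 c293_0 :)
theorem x294 : AuxS.{u} (cP4r 1 3) s294 0 a294 := aux_base3 tw172 rfl b294
theorem x294_1 : AuxS.{u} (cP4r 1 3) s294 0 a294_1 := x294
theorem x294_2 : AuxS.{u} (cP4r 1 3) s294 0 a294_2 := x294_1
theorem n294 : Sound.{u} (cP4r 1 3) s294 0 :=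
  (x294_2.jump c294_0 c294_1 n291 :)
theorem x288 : AuxS.{u} (cP4r 1 3) s288 0 a288 := aux_base3 tw172 rfl b288
theorem x288_1 : AuxS.{u} (cP4r 1 3) s288 0 a288_1 := x288
theorem x288_2 : AuxS.{u} (cP4r 1 3) s288 0 a288_2 := x288_1
theorem n288 : Sound.{u} (cP4r 1 3) s288 0 :=
  (x288_2.fr GamS.nil (AllS.cons n291 (AllS.cons n292 (AllS.cons n293 (AllS.cons n294 AllS.nil)))) c288_0 :)
theorem x295 : AuxS.{u} (cP4r 1 3) s295 0 a295 := aux_base3 tw172 rfl b295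
theorem x295_1 : AuxS.{u} (cP4r 1 3) s295 0 a295_1 := x295
theorem x295_2 : AuxS.{u} (cP4r 1 3) s295 0 a295_2 := x295_1
theorem n295 : Sound.{u} (cP4r 1 3) s295 0 :=
  (x295_2.jump c295_0 c295_1 n288 :)
theorem x296 : AuxS.{u} (cP4r 1 3) s296 0 a296 := aux_base3 tw172 rfl b296
theorem n296 : Sound.{u} (cP4r 1 3) s296 0 :=
  (x296.k4 c296_0 :)
theorem x297 : AuxS.{u} (cP4r 1 3) s297 0 a297 := aux_base3 tw172 rfl b297
theorem n297 : Sound.{u} (cP4r 1 3) s297 0 :=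
  (x297.k4 c297_0 :)
theorem x298 : AuxS.{u} (cP4r 1 3) s298 0 a298 := aux_base3 tw172 rfl b298
theorem x298_1 : AuxS.{u} (cP4r 1 3) s298 0 a298_1 := (AuxS.up x298 c298_3 :)
theorem x298_2 : AuxS.{u} (cP4r 1 3) s298 0 a298_2 := (AuxS.up x298_1 c298_4 :)
theorem n298 : Sound.{u} (cP4r 1 3) s298 0 :=
  (x298_2.spl c298_0 (AllM.cons ((x298_2.lam 0).recog c298_1 :) AllM.nil) ((x298_2.weaken 1).ext2 (fun _ => rfl) GamS.nil AllS.nil c298_2 (Phs.fin (ct := ct298_2) rfl) (Phs.fin (ct := ct298_2) rfl)) :)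
theorem x289 : AuxS.{u} (cP4r 1 3) s289 0 a289 := aux_base3 tw172 rfl b289
theorem x289_1 : AuxS.{u} (cP4r 1 3) s289 0 a289_1 := x289
theorem x289_2 : AuxS.{u} (cP4r 1 3) s289 0 a289_2 := x289_1
theorem n289 : Sound.{u} (cP4r 1 3) s289 0 :=
  (x289_2.fr GamS.nil (AllS.cons n295 (AllS.cons n296 (AllS.cons n297 (AllS.cons n298 AllS.nil)))) c289_0 :)
theorem x290 : AuxS.{u} (cP4r 1 3) s290 0 a290 := aux_base3 tw172 rfl b290
theorem n290 : Sound.{u} (cP4r 1 3) s290 0 :=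
  (x290.k4 c290_0 :)
theorem x283 : AuxS.{u} (cP4r 1 3) s283 0 a283 := aux_base3 tw172 rfl b283
theorem x283_1 : AuxS.{u} (cP4r 1 3) s283 0 a283_1 := x283
theorem x283_2 : AuxS.{u} (cP4r 1 3) s283 0 a283_2 := x283_1
theorem n283 : Sound.{u} (cP4r 1 3) s283 0 :=
  (x283_2.fr GamS.nil (AllS.cons n287 (AllS.cons n288 (AllS.cons n289 (AllS.cons n290 AllS.nil)))) c283_0 :)
theorem x284 : AuxS.{u} (cP4r 1 3) s284 0 a284 := aux_base3 tw172 rfl b284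
theorem x284_1 : AuxS.{u} (cP4r 1 3) s284 0 a284_1 := x284
theorem x284_2 : AuxS.{u} (cP4r 1 3) s284 0 a284_2 := x284_1
theorem n284 : Sound.{u} (cP4r 1 3) s284 0 :=
  (x284_2.jump c284_0 c284_1 n283 :)
theorem x285 : AuxS.{u} (cP4r 1 3) s285 0 a285 := aux_base3 tw172 rfl b285
theorem x285_1 : AuxS.{u} (cP4r 1 3) s285 0 a285_1 := x285
theorem x285_2 : AuxS.{u} (cP4r 1 3) s285 0 a285_2 := x285_1
theorem n285 : Sound.{u} (cP4r 1 3) s285 0 :=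
  (x285_2.jump c285_0 c285_1 n283 :)
theorem x286 : AuxS.{u} (cP4r 1 3) s286 0 a286 := aux_base3 tw172 rfl b286
theorem x286_1 : AuxS.{u} (cP4r 1 3) s286 0 a286_1 := x286
theorem x286_2 : AuxS.{u} (cP4r 1 3) s286 0 a286_2 := x286_1
theorem n286 : Sound.{u} (cP4r 1 3) s286 0 :=
  (x286_2.jump c286_0 c286_1 n283 :)
theorem x282 : AuxS.{u} (cP4r 1 3) s282 0 a282 := aux_base3 tw172 rfl b282
theorem x282_1 : AuxS.{u} (cP4r 1 3) s282 0 a282_1 := x282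
theorem x282_2 : AuxS.{u} (cP4r 1 3) s282 0 a282_2 := x282_1
theorem n282 : Sound.{u} (cP4r 1 3) s282 0 :=
  (x282_2.rho (AllS.cons n283 (AllS.cons n284 (AllS.cons n285 (AllS.cons n286 AllS.nil)))) c282_0 :)
theorem x264 : AuxS.{u} (cP4r 1 3) s264 0 a264 := aux_base3 tw168 rfl b264
theorem x264_1 : AuxS.{u} (cP4r 1 3) s264 0 a264_1 := x264
theorem x264_2 : AuxS.{u} (cP4r 1 3) s264 0 a264_2 := x264_1
theorem n264 : Sound.{u} (cP4r 1 3) s264 0 :=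
  (x264_2.jump2 c264_0 c264_1 n282 :)
theorem x261 : AuxS.{u} (cP4r 1 3) s261 0 a261 := aux_base3 tw162 rfl b261
theorem x261_1 : AuxS.{u} (cP4r 1 3) s261 0 a261_1 := x261
theorem x261_2 : AuxS.{u} (cP4r 1 3) s261 0 a261_2 := x261_1
theorem x261_3 : AuxS.{u} (cP4r 1 3) s261 0 a261_3 := x261_2
theorem x261_4 : AuxS.{u} (cP4r 1 3) s261 0 a261_4 := x261_3
theorem n261 : Sound.{u} (cP4r 1 3) s261 0 :=
  (x261_4.fr2 GamS.nil (AllS.cons n263 (AllS.cons n264 AllS.nil)) c261_0 :)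
theorem x262 : AuxS.{u} (cP4r 1 3) s262 0 a262 := aux_base3 tw162 rfl b262
theorem n262 : Sound.{u} (cP4r 1 3) s262 0 :=
  (x262.k4 c262_0 :)
theorem x239 : AuxS.{u} (cP4r 1 3) s239 0 a239 := aux_base3 tw162 rfl b239
theorem x239_1 : AuxS.{u} (cP4r 1 3) s239 0 a239_1 := x239
theorem x239_2 : AuxS.{u} (cP4r 1 3) s239 0 a239_2 := x239_1
theorem n239 : Sound.{u} (cP4r 1 3) s239 0 :=
  (x239_2.fr GamS.nil (AllS.cons n261 (AllS.cons n262 AllS.nil)) c239_0 :)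
theorem x237 : AuxS.{u} (cP4r 1 3) s237 0 a237 := aux_base3 tw153 rfl b237
theorem x237_1 : AuxS.{u} (cP4r 1 3) s237 0 a237_1 := (AuxS.up x237 c237_6 :)
theorem x237_2 : AuxS.{u} (cP4r 1 3) s237 0 a237_2 := x237_1
theorem p237_0_1 : Phs s237 a237_2 (List.map Prod.fst g237_0) [s238, s239] ct237_0 v237_0 5 w237_0_1 := (Phs.fin c237_1)
theorem p237_0_3 : Phs s237 a237_2 (List.map Prod.fst g237_0) [s238, s239] ct237_0 v237_0 4 w237_0_3 := (Phs.stp c237_2 p237_0_1)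
theorem p237_0_5 : Phs s237 a237_2 (List.map Prod.fst g237_0) [s238, s239] ct237_0 v237_0 1 w237_0_5 := (Phs.stp c237_3 p237_0_3)
theorem n237 : Sound.{u} (cP4r 1 3) s237 0 :=
  (x237_2.ext2 (fun h => absurd h (by decide)) (AuxS.gam x237_2 c237_0) (AllS.cons n238 (AllS.cons n239 AllS.nil)) c237_5 (Phs.stp c237_4 p237_0_5) (Phs.fin (ct := ct237_0) rfl) :)
theorem x235 : AuxS.{u} (cP4r 1 3) s235 0 a235 := aux_base3 tw159 rfl b235
theorem x235_1 : AuxS.{u} (cP4r 1 3) s235 0 a235_1 := x235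
theorem x235_2 : AuxS.{u} (cP4r 1 3) s235 0 a235_2 := x235_1
theorem n235 : Sound.{u} (cP4r 1 3) s235 0 :=
  (x235_2.jump c235_0 c235_1 n237 :)
theorem x236 : AuxS.{u} (cP4r 1 3) s236 0 a236 := aux_base3 tw160 rfl b236
theorem x236_1 : AuxS.{u} (cP4r 1 3) s236 0 a236_1 := (AuxS.up x236 c236_1 :)
theorem n236 : Sound.{u} (cP4r 1 3) s236 0 :=
  (x236_1.k1 c236_0 :)
theorem x229 : AuxS.{u} (cP4r 1 3) s229 0 a229 := aux_base3 tw153 rfl b229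
theorem x229_1 : AuxS.{u} (cP4r 1 3) s229 0 a229_1 := x229
theorem x229_2 : AuxS.{u} (cP4r 1 3) s229 0 a229_2 := x229_1
theorem p229_0_1 : Phs s229 a229_2 (List.map Prod.fst g229_0) [s235, s236] ct229_0 v229_0 5 w229_0_1 := (Phs.fin c229_1)
theorem n229 : Sound.{u} (cP4r 1 3) s229 0 :=
  (x229_2.ext2 (fun h => absurd h (by decide)) (AuxS.gam x229_2 c229_0) (AllS.cons n235 (AllS.cons n236 AllS.nil)) c229_3 (Phs.fin (ct := ct229_0) rfl) (Phs.stp c229_2 p229_0_1) :)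
theorem x230 : AuxS.{u} (cP4r 1 3) s230 0 a230 := aux_base3 tw154 rfl b230
theorem x230_1 : AuxS.{u} (cP4r 1 3) s230 0 a230_1 := (AuxS.up x230 c230_1 :)
theorem n230 : Sound.{u} (cP4r 1 3) s230 0 :=
  (x230_1.k1 c230_0 :)
theorem x301 : AuxS.{u} (cP4r 1 3) s301 0 a301 := aux_base3 tw173 rfl b301
theorem x301_1 : AuxS.{u} (cP4r 1 3) s301 0 a301_1 := (AuxS.up x301 c301_1 :)
theorem n301 : Sound.{u} (cP4r 1 3) s301 0 :=
  (x301_1.k1 c301_0 :)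
theorem x302 : AuxS.{u} (cP4r 1 3) s302 0 a302 := aux_base3 tw173 rfl b302
theorem x302_1 : AuxS.{u} (cP4r 1 3) s302 0 a302_1 := (AuxS.up x302 c302_1 :)
theorem n302 : Sound.{u} (cP4r 1 3) s302 0 :=
  (x302_1.k1 c302_0 :)
theorem x303 : AuxS.{u} (cP4r 1 3) s303 0 a303 := aux_base3 tw173 rfl b303
theorem x303_1 : AuxS.{u} (cP4r 1 3) s303 0 a303_1 := (AuxS.up x303 c303_1 :)
theorem n303 : Sound.{u} (cP4r 1 3) s303 0 :=
  (x303_1.k1 c303_0 :)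
theorem x304 : AuxS.{u} (cP4r 1 3) s304 0 a304 := aux_base3 tw173 rfl b304
theorem x304_1 : AuxS.{u} (cP4r 1 3) s304 0 a304_1 := (AuxS.up x304 c304_1 :)
theorem n304 : Sound.{u} (cP4r 1 3) s304 0 :=
  (x304_1.k1 c304_0 :)
theorem x299 : AuxS.{u} (cP4r 1 3) s299 0 a299 := aux_base3 tw173 rfl b299
theorem x299_1 : AuxS.{u} (cP4r 1 3) s299 0 a299_1 := x299
theorem x299_2 : AuxS.{u} (cP4r 1 3) s299 0 a299_2 := x299_1
theorem x299_3 : AuxS.{u} (cP4r 1 3) s299 0 a299_3 := x299_2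
theorem n299 : Sound.{u} (cP4r 1 3) s299 0 :=
  (x299_3.rho (AllS.cons n301 (AllS.cons n302 (AllS.cons n303 (AllS.cons n304 AllS.nil)))) c299_0 :)
theorem x300 : AuxS.{u} (cP4r 1 3) s300 0 a300 := aux_base3 tw174 rfl b300
theorem x300_1 : AuxS.{u} (cP4r 1 3) s300 0 a300_1 := (AuxS.up x300 c300_1 :)
theorem n300 : Sound.{u} (cP4r 1 3) s300 0 :=
  (x300_1.k1 c300_0 :)
theorem x231 : AuxS.{u} (cP4r 1 3) s231 0 a231 := aux_base3 tw155 rfl b231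
theorem x231_1 : AuxS.{u} (cP4r 1 3) s231 0 a231_1 := x231
theorem x231_2 : AuxS.{u} (cP4r 1 3) s231 0 a231_2 := x231_1
theorem x231_3 : AuxS.{u} (cP4r 1 3) s231 0 a231_3 := x231_2
theorem x231_4 : AuxS.{u} (cP4r 1 3) s231 0 a231_4 := x231_3
theorem p231_0_1 : Phs s231 a231_4 (List.map Prod.fst g231_0) [s299, s300] ct231_0 v231_0 5 w231_0_1 := (Phs.fin c231_1)
theorem n231 : Sound.{u} (cP4r 1 3) s231 0 :=
  (x231_4.ext2 (fun h => absurd h (by decide)) (AuxS.gam x231_4 c231_0) (AllS.cons n299 (AllS.cons n300 AllS.nil)) c231_3 (Phs.fin (ct := ct231_0) rfl) (Phs.stp c231_2 p231_0_1) :)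
theorem x232 : AuxS.{u} (cP4r 1 3) s232 0 a232 := aux_base3 tw156 rfl b232
theorem x232_1 : AuxS.{u} (cP4r 1 3) s232 0 a232_1 := (AuxS.up x232 c232_1 :)
theorem n232 : Sound.{u} (cP4r 1 3) s232 0 :=
  (x232_1.k1 c232_0 :)
theorem x233 : AuxS.{u} (cP4r 1 3) s233 0 a233 := aux_base3 tw157 rfl b233
theorem x233_1 : AuxS.{u} (cP4r 1 3) s233 0 a233_1 := (AuxS.up x233 c233_1 :)
theorem n233 : Sound.{u} (cP4r 1 3) s233 0 :=
  (x233_1.k1 c233_0 :)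
theorem x234 : AuxS.{u} (cP4r 1 3) s234 0 a234 := aux_base3 tw158 rfl b234
theorem x234_1 : AuxS.{u} (cP4r 1 3) s234 0 a234_1 := (AuxS.up x234 c234_1 :)
theorem n234 : Sound.{u} (cP4r 1 3) s234 0 :=
  (x234_1.k1 c234_0 :)
theorem x8 : AuxS.{u} (cP4r 1 3) s8 0 a8 := aux_base3 tw8 rfl b8
theorem x8_1 : AuxS.{u} (cP4r 1 3) s8 0 a8_1 := (AuxS.up x8 c8_4 :)
theorem p8_0_1 : Phs s8 a8_1 [] [s227, s228, s229, s230, s231, s232, s233, s234] ct8_0 v8_0 4 w8_0_1 := (Phs.fin c8_0)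
theorem p8_0_3 : Phs s8 a8_1 [] [s227, s228, s229, s230, s231, s232, s233, s234] ct8_0 v8_0 1 w8_0_3 := (Phs.stp c8_1 p8_0_1)
theorem n8 : Sound.{u} (cP4r 1 3) s8 0 :=
  (x8_1.ext2 (fun h => absurd h (by decide)) GamS.nil (AllS.cons n227 (AllS.cons n228 (AllS.cons n229 (AllS.cons n230 (AllS.cons n231 (AllS.cons n232 (AllS.cons n233 (AllS.cons n234 AllS.nil)))))))) c8_3 (Phs.stp c8_2 p8_0_3) (Phs.fin (ct := ct8_0) rfl) :)
theorem x9 : AuxS.{u} (cP4r 1 3) s9 0 a9 := aux_base3 tw9 rfl b9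
theorem x9_1 : AuxS.{u} (cP4r 1 3) s9 0 a9_1 := (AuxS.up x9 c9_1 :)
theorem n9 : Sound.{u} (cP4r 1 3) s9 0 :=
  (x9_1.k7 c9_0 :)
theorem x10 : AuxS.{u} (cP4r 1 3) s10 0 a10 := aux_base3 tw10 rfl b10
theorem x10_1 : AuxS.{u} (cP4r 1 3) s10 0 a10_1 := (AuxS.up x10 c10_1 :)
theorem n10 : Sound.{u} (cP4r 1 3) s10 0 :=
  (x10_1.k1 c10_0 :)
theorem x11 : AuxS.{u} (cP4r 1 3) s11 0 a11 := aux_base3 tw11 rfl b11
theorem n11 : Sound.{u} (cP4r 1 3) s11 0 :=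
  (x11.k3 c11_0 :)
theorem x12 : AuxS.{u} (cP4r 1 3) s12 0 a12 := aux_base3 tw12 rfl b12
theorem n12 : Sound.{u} (cP4r 1 3) s12 0 :=
  (x12.k3 c12_0 :)
theorem x13 : AuxS.{u} (cP4r 1 3) s13 0 a13 := aux_base3 tw13 rfl b13
theorem n13 : Sound.{u} (cP4r 1 3) s13 0 :=
  (x13.k3 c13_0 :)
theorem x14 : AuxS.{u} (cP4r 1 3) s14 0 a14 := aux_base3 tw14 rfl b14
theorem n14 : Sound.{u} (cP4r 1 3) s14 0 :=
  (x14.k3 c14_0 :)
theorem x15 : AuxS.{u} (cP4r 1 3) s15 0 a15 := aux_base3 tw15 rfl b15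
theorem n15 : Sound.{u} (cP4r 1 3) s15 0 :=
  (x15.k3 c15_0 :)
theorem x16 : AuxS.{u} (cP4r 1 3) s16 0 a16 := aux_base3 tw16 rfl b16
theorem n16 : Sound.{u} (cP4r 1 3) s16 0 :=
  (x16.k3 c16_0 :)
theorem x383 : AuxS.{u} (cP4r 1 3) s383 0 a383 := aux_base3 tw219 rfl b383
theorem x383_1 : AuxS.{u} (cP4r 1 3) s383 0 a383_1 := (AuxS.up x383 c383_1 :)
theorem x383_2 : AuxS.{u} (cP4r 1 3) s383 0 a383_2 := x383_1
theorem n383 : Sound.{u} (cP4r 1 3) s383 0 :=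
  (x383_2.k7 c383_0 :)
theorem x384 : AuxS.{u} (cP4r 1 3) s384 0 a384 := aux_base3 tw219 rfl b384
theorem x384_1 : AuxS.{u} (cP4r 1 3) s384 0 a384_1 := (AuxS.up x384 c384_1 :)
theorem x384_2 : AuxS.{u} (cP4r 1 3) s384 0 a384_2 := x384_1
theorem n384 : Sound.{u} (cP4r 1 3) s384 0 :=
  (x384_2.k7 c384_0 :)
theorem x385 : AuxS.{u} (cP4r 1 3) s385 0 a385 := aux_base3 tw219 rfl b385
theorem x385_1 : AuxS.{u} (cP4r 1 3) s385 0 a385_1 := (AuxS.up x385 c385_1 :)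
theorem x385_2 : AuxS.{u} (cP4r 1 3) s385 0 a385_2 := x385_1
theorem n385 : Sound.{u} (cP4r 1 3) s385 0 :=
  (x385_2.k7 c385_0 :)
theorem x386 : AuxS.{u} (cP4r 1 3) s386 0 a386 := aux_base3 tw219 rfl b386
theorem x386_1 : AuxS.{u} (cP4r 1 3) s386 0 a386_1 := (AuxS.up x386 c386_1 :)
theorem x386_2 : AuxS.{u} (cP4r 1 3) s386 0 a386_2 := x386_1
theorem n386 : Sound.{u} (cP4r 1 3) s386 0 :=
  (x386_2.k7 c386_0 :)
theorem x382 : AuxS.{u} (cP4r 1 3) s382 0 a382 := aux_base3 tw219 rfl b382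
theorem x382_1 : AuxS.{u} (cP4r 1 3) s382 0 a382_1 := x382
theorem x382_2 : AuxS.{u} (cP4r 1 3) s382 0 a382_2 := x382_1
theorem x382_3 : AuxS.{u} (cP4r 1 3) s382 0 a382_3 := x382_2
theorem x382_4 : AuxS.{u} (cP4r 1 3) s382 0 a382_4 := x382_3
theorem n382 : Sound.{u} (cP4r 1 3) s382 0 :=
  (x382_4.rho (AllS.cons n383 (AllS.cons n384 (AllS.cons n385 (AllS.cons n386 AllS.nil)))) c382_0 :)
theorem x366 : AuxS.{u} (cP4r 1 3) s366 0 a366 := aux_base3 tw203 rfl b366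
theorem x366_1 : AuxS.{u} (cP4r 1 3) s366 0 a366_1 := x366
theorem x366_2 : AuxS.{u} (cP4r 1 3) s366 0 a366_2 := x366_1
theorem x366_3 : AuxS.{u} (cP4r 1 3) s366 0 a366_3 := x366_2
theorem n366 : Sound.{u} (cP4r 1 3) s366 0 :=
  (x366_3.fr2 (AuxS.gam x366_3 c366_0) (AllS.cons n382 AllS.nil) c366_1 :)
theorem x367 : AuxS.{u} (cP4r 1 3) s367 0 a367 := aux_base3 tw204 rfl b367
theorem x367_1 : AuxS.{u} (cP4r 1 3) s367 0 a367_1 := x367
theorem x367_2 : AuxS.{u} (cP4r 1 3) s367 0 a367_2 := x367_1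
theorem n367 : Sound.{u} (cP4r 1 3) s367 0 :=
  (x367_2.fr2 GamS.nil AllS.nil c367_0 :)
theorem x368 : AuxS.{u} (cP4r 1 3) s368 0 a368 := aux_base3 tw205 rfl b368
theorem x368_1 : AuxS.{u} (cP4r 1 3) s368 0 a368_1 := x368
theorem x368_2 : AuxS.{u} (cP4r 1 3) s368 0 a368_2 := x368_1
theorem n368 : Sound.{u} (cP4r 1 3) s368 0 :=
  (x368_2.fr2 GamS.nil AllS.nil c368_0 :)
theorem x369 : AuxS.{u} (cP4r 1 3) s369 0 a369 := aux_base3 tw206 rfl b369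
theorem x369_1 : AuxS.{u} (cP4r 1 3) s369 0 a369_1 := x369
theorem x369_2 : AuxS.{u} (cP4r 1 3) s369 0 a369_2 := x369_1
theorem n369 : Sound.{u} (cP4r 1 3) s369 0 :=
  (x369_2.fr2 GamS.nil AllS.nil c369_0 :)
theorem x370 : AuxS.{u} (cP4r 1 3) s370 0 a370 := aux_base3 tw207 rfl b370
theorem x370_1 : AuxS.{u} (cP4r 1 3) s370 0 a370_1 := x370
theorem x370_2 : AuxS.{u} (cP4r 1 3) s370 0 a370_2 := x370_1
theorem x370_3 : AuxS.{u} (cP4r 1 3) s370 0 a370_3 := x370_2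
theorem n370 : Sound.{u} (cP4r 1 3) s370 0 :=
  (x370_3.fr2 GamS.nil AllS.nil c370_0 :)
theorem x388 : AuxS.{u} (cP4r 1 3) s388 0 a388 := aux_base3 tw220 rfl b388
theorem x388_1 : AuxS.{u} (cP4r 1 3) s388 0 a388_1 := (AuxS.up x388 c388_1 :)
theorem x388_2 : AuxS.{u} (cP4r 1 3) s388 0 a388_2 := x388_1
theorem n388 : Sound.{u} (cP4r 1 3) s388 0 :=
  (x388_2.k7 c388_0 :)
theorem x389 : AuxS.{u} (cP4r 1 3) s389 0 a389 := aux_base3 tw220 rfl b389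
theorem x389_1 : AuxS.{u} (cP4r 1 3) s389 0 a389_1 := (AuxS.up x389 c389_1 :)
theorem x389_2 : AuxS.{u} (cP4r 1 3) s389 0 a389_2 := x389_1
theorem n389 : Sound.{u} (cP4r 1 3) s389 0 :=
  (x389_2.k7 c389_0 :)
theorem x390 : AuxS.{u} (cP4r 1 3) s390 0 a390 := aux_base3 tw220 rfl b390
theorem x390_1 : AuxS.{u} (cP4r 1 3) s390 0 a390_1 := (AuxS.up x390 c390_1 :)
theorem x390_2 : AuxS.{u} (cP4r 1 3) s390 0 a390_2 := x390_1
theorem n390 : Sound.{u} (cP4r 1 3) s390 0 :=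
  (x390_2.k7 c390_0 :)
theorem x391 : AuxS.{u} (cP4r 1 3) s391 0 a391 := aux_base3 tw220 rfl b391
theorem x391_1 : AuxS.{u} (cP4r 1 3) s391 0 a391_1 := (AuxS.up x391 c391_1 :)
theorem x391_2 : AuxS.{u} (cP4r 1 3) s391 0 a391_2 := x391_1
theorem n391 : Sound.{u} (cP4r 1 3) s391 0 :=
  (x391_2.k7 c391_0 :)
theorem x387 : AuxS.{u} (cP4r 1 3) s387 0 a387 := aux_base3 tw220 rfl b387
theorem x387_1 : AuxS.{u} (cP4r 1 3) s387 0 a387_1 := x387
theorem x387_2 : AuxS.{u} (cP4r 1 3) s387 0 a387_2 := x387_1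
theorem x387_3 : AuxS.{u} (cP4r 1 3) s387 0 a387_3 := x387_2
theorem n387 : Sound.{u} (cP4r 1 3) s387 0 :=
  (x387_3.rho (AllS.cons n388 (AllS.cons n389 (AllS.cons n390 (AllS.cons n391 AllS.nil)))) c387_0 :)
theorem x371 : AuxS.{u} (cP4r 1 3) s371 0 a371 := aux_base3 tw208 rfl b371
theorem x371_1 : AuxS.{u} (cP4r 1 3) s371 0 a371_1 := x371
theorem x371_2 : AuxS.{u} (cP4r 1 3) s371 0 a371_2 := x371_1
theorem x371_3 : AuxS.{u} (cP4r 1 3) s371 0 a371_3 := x371_2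
theorem n371 : Sound.{u} (cP4r 1 3) s371 0 :=
  (x371_3.fr2 (AuxS.gam x371_3 c371_0) (AllS.cons n387 AllS.nil) c371_1 :)
theorem x372 : AuxS.{u} (cP4r 1 3) s372 0 a372 := aux_base3 tw209 rfl b372
theorem x372_1 : AuxS.{u} (cP4r 1 3) s372 0 a372_1 := x372
theorem x372_2 : AuxS.{u} (cP4r 1 3) s372 0 a372_2 := x372_1
theorem n372 : Sound.{u} (cP4r 1 3) s372 0 :=
  (x372_2.fr2 GamS.nil AllS.nil c372_0 :)
theorem x373 : AuxS.{u} (cP4r 1 3) s373 0 a373 := aux_base3 tw210 rfl b373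
theorem x373_1 : AuxS.{u} (cP4r 1 3) s373 0 a373_1 := x373
theorem x373_2 : AuxS.{u} (cP4r 1 3) s373 0 a373_2 := x373_1
theorem n373 : Sound.{u} (cP4r 1 3) s373 0 :=
  (x373_2.fr2 GamS.nil AllS.nil c373_0 :)
theorem x374 : AuxS.{u} (cP4r 1 3) s374 0 a374 := aux_base3 tw211 rfl b374
theorem x374_1 : AuxS.{u} (cP4r 1 3) s374 0 a374_1 := x374
theorem x374_2 : AuxS.{u} (cP4r 1 3) s374 0 a374_2 := x374_1
theorem x374_3 : AuxS.{u} (cP4r 1 3) s374 0 a374_3 := x374_2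
theorem n374 : Sound.{u} (cP4r 1 3) s374 0 :=
  (x374_3.fr2 GamS.nil AllS.nil c374_0 :)
theorem x375 : AuxS.{u} (cP4r 1 3) s375 0 a375 := aux_base3 tw212 rfl b375
theorem x375_1 : AuxS.{u} (cP4r 1 3) s375 0 a375_1 := x375
theorem x375_2 : AuxS.{u} (cP4r 1 3) s375 0 a375_2 := x375_1
theorem n375 : Sound.{u} (cP4r 1 3) s375 0 :=
  (x375_2.fr2 GamS.nil AllS.nil c375_0 :)
theorem x376 : AuxS.{u} (cP4r 1 3) s376 0 a376 := aux_base3 tw213 rfl b376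
theorem x376_1 : AuxS.{u} (cP4r 1 3) s376 0 a376_1 := x376
theorem x376_2 : AuxS.{u} (cP4r 1 3) s376 0 a376_2 := x376_1
theorem x376_3 : AuxS.{u} (cP4r 1 3) s376 0 a376_3 := x376_2
theorem n376 : Sound.{u} (cP4r 1 3) s376 0 :=
  (x376_3.fr2 GamS.nil AllS.nil c376_0 :)
theorem x377 : AuxS.{u} (cP4r 1 3) s377 0 a377 := aux_base3 tw214 rfl b377
theorem x377_1 : AuxS.{u} (cP4r 1 3) s377 0 a377_1 := x377
theorem x377_2 : AuxS.{u} (cP4r 1 3) s377 0 a377_2 := x377_1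
theorem n377 : Sound.{u} (cP4r 1 3) s377 0 :=
  (x377_2.fr2 GamS.nil AllS.nil c377_0 :)
theorem x378 : AuxS.{u} (cP4r 1 3) s378 0 a378 := aux_base3 tw215 rfl b378
theorem x378_1 : AuxS.{u} (cP4r 1 3) s378 0 a378_1 := x378
theorem x378_2 : AuxS.{u} (cP4r 1 3) s378 0 a378_2 := x378_1
theorem x378_3 : AuxS.{u} (cP4r 1 3) s378 0 a378_3 := x378_2
theorem n378 : Sound.{u} (cP4r 1 3) s378 0 :=
  (x378_3.fr2 GamS.nil AllS.nil c378_0 :)
theorem x379 : AuxS.{u} (cP4r 1 3) s379 0 a379 := aux_base3 tw216 rfl b379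
theorem x379_1 : AuxS.{u} (cP4r 1 3) s379 0 a379_1 := x379
theorem x379_2 : AuxS.{u} (cP4r 1 3) s379 0 a379_2 := x379_1
theorem n379 : Sound.{u} (cP4r 1 3) s379 0 :=
  (x379_2.fr2 GamS.nil AllS.nil c379_0 :)
theorem x380 : AuxS.{u} (cP4r 1 3) s380 0 a380 := aux_base3 tw217 rfl b380
theorem x380_1 : AuxS.{u} (cP4r 1 3) s380 0 a380_1 := x380
theorem x380_2 : AuxS.{u} (cP4r 1 3) s380 0 a380_2 := x380_1
theorem n380 : Sound.{u} (cP4r 1 3) s380 0 :=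
  (x380_2.fr2 GamS.nil AllS.nil c380_0 :)
theorem x381 : AuxS.{u} (cP4r 1 3) s381 0 a381 := aux_base3 tw218 rfl b381
theorem x381_1 : AuxS.{u} (cP4r 1 3) s381 0 a381_1 := x381
theorem x381_2 : AuxS.{u} (cP4r 1 3) s381 0 a381_2 := x381_1
theorem x381_3 : AuxS.{u} (cP4r 1 3) s381 0 a381_3 := x381_2
theorem n381 : Sound.{u} (cP4r 1 3) s381 0 :=
  (x381_3.fr2 GamS.nil AllS.nil c381_0 :)
theorem x334 : AuxS.{u} (cP4r 1 3) s334 0 a334 := aux_base3 tw185 rfl b334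
theorem x334_1 : AuxS.{u} (cP4r 1 3) s334 0 a334_1 := x334
theorem x334_2 : AuxS.{u} (cP4r 1 3) s334 0 a334_2 := x334_1
theorem n334 : Sound.{u} (cP4r 1 3) s334 0 :=
  (x334_2.fr2 GamS.nil (AllS.cons n366 (AllS.cons n367 (AllS.cons n368 (AllS.cons n369 (AllS.cons n370 (AllS.cons n371 (AllS.cons n372 (AllS.cons n373 (AllS.cons n374 (AllS.cons n375 (AllS.cons n376 (AllS.cons n377 (AllS.cons n378 (AllS.cons n379 (AllS.cons n380 (AllS.cons n381 AllS.nil)))))))))))))))) c334_0 :)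
theorem x335 : AuxS.{u} (cP4r 1 3) s335 0 a335 := aux_base3 tw185 rfl b335
theorem n335 : Sound.{u} (cP4r 1 3) s335 0 :=
  (x335.k4 c335_0 :)
theorem x336 : AuxS.{u} (cP4r 1 3) s336 0 a336 := aux_base3 tw185 rfl b336
theorem n336 : Sound.{u} (cP4r 1 3) s336 0 :=
  (x336.k4 c336_0 :)
theorem x337 : AuxS.{u} (cP4r 1 3) s337 0 a337 := aux_base3 tw185 rfl b337
theorem n337 : Sound.{u} (cP4r 1 3) s337 0 :=
  (x337.k4 c337_0 :)
theorem x338 : AuxS.{u} (cP4r 1 3) s338 0 a338 := aux_base3 tw185 rfl b338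
theorem n338 : Sound.{u} (cP4r 1 3) s338 0 :=
  (x338.k4 c338_0 :)
theorem x339 : AuxS.{u} (cP4r 1 3) s339 0 a339 := aux_base3 tw185 rfl b339
theorem n339 : Sound.{u} (cP4r 1 3) s339 0 :=
  (x339.k4 c339_0 :)
theorem x340 : AuxS.{u} (cP4r 1 3) s340 0 a340 := aux_base3 tw185 rfl b340
theorem n340 : Sound.{u} (cP4r 1 3) s340 0 :=
  (x340.k4 c340_0 :)
theorem x341 : AuxS.{u} (cP4r 1 3) s341 0 a341 := aux_base3 tw185 rfl b341
theorem n341 : Sound.{u} (cP4r 1 3) s341 0 :=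
  (x341.k4 c341_0 :)
theorem x342 : AuxS.{u} (cP4r 1 3) s342 0 a342 := aux_base3 tw185 rfl b342
theorem n342 : Sound.{u} (cP4r 1 3) s342 0 :=
  (x342.k4 c342_0 :)
theorem x343 : AuxS.{u} (cP4r 1 3) s343 0 a343 := aux_base3 tw185 rfl b343
theorem n343 : Sound.{u} (cP4r 1 3) s343 0 :=
  (x343.k4 c343_0 :)
theorem x344 : AuxS.{u} (cP4r 1 3) s344 0 a344 := aux_base3 tw185 rfl b344
theorem n344 : Sound.{u} (cP4r 1 3) s344 0 :=
  (x344.k4 c344_0 :)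
theorem x345 : AuxS.{u} (cP4r 1 3) s345 0 a345 := aux_base3 tw185 rfl b345
theorem n345 : Sound.{u} (cP4r 1 3) s345 0 :=
  (x345.k4 c345_0 :)
theorem x346 : AuxS.{u} (cP4r 1 3) s346 0 a346 := aux_base3 tw185 rfl b346
theorem n346 : Sound.{u} (cP4r 1 3) s346 0 :=
  (x346.k4 c346_0 :)
theorem x347 : AuxS.{u} (cP4r 1 3) s347 0 a347 := aux_base3 tw185 rfl b347
theorem n347 : Sound.{u} (cP4r 1 3) s347 0 :=
  (x347.k4 c347_0 :)
theorem x348 : AuxS.{u} (cP4r 1 3) s348 0 a348 := aux_base3 tw185 rfl b348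
theorem n348 : Sound.{u} (cP4r 1 3) s348 0 :=
  (x348.k4 c348_0 :)
theorem x349 : AuxS.{u} (cP4r 1 3) s349 0 a349 := aux_base3 tw185 rfl b349
theorem n349 : Sound.{u} (cP4r 1 3) s349 0 :=
  (x349.k4 c349_0 :)
theorem x350 : AuxS.{u} (cP4r 1 3) s350 0 a350 := aux_base3 tw185 rfl b350
theorem n350 : Sound.{u} (cP4r 1 3) s350 0 :=
  (x350.k4 c350_0 :)
theorem x351 : AuxS.{u} (cP4r 1 3) s351 0 a351 := aux_base3 tw185 rfl b351
theorem n351 : Sound.{u} (cP4r 1 3) s351 0 :=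
  (x351.k4 c351_0 :)
theorem x352 : AuxS.{u} (cP4r 1 3) s352 0 a352 := aux_base3 tw185 rfl b352
theorem n352 : Sound.{u} (cP4r 1 3) s352 0 :=
  (x352.k4 c352_0 :)
theorem x353 : AuxS.{u} (cP4r 1 3) s353 0 a353 := aux_base3 tw185 rfl b353
theorem n353 : Sound.{u} (cP4r 1 3) s353 0 :=
  (x353.k4 c353_0 :)
theorem x354 : AuxS.{u} (cP4r 1 3) s354 0 a354 := aux_base3 tw185 rfl b354
theorem n354 : Sound.{u} (cP4r 1 3) s354 0 :=
  (x354.k4 c354_0 :)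
theorem x355 : AuxS.{u} (cP4r 1 3) s355 0 a355 := aux_base3 tw185 rfl b355
theorem n355 : Sound.{u} (cP4r 1 3) s355 0 :=
  (x355.k4 c355_0 :)
theorem x356 : AuxS.{u} (cP4r 1 3) s356 0 a356 := aux_base3 tw185 rfl b356
theorem n356 : Sound.{u} (cP4r 1 3) s356 0 :=
  (x356.k4 c356_0 :)
theorem x357 : AuxS.{u} (cP4r 1 3) s357 0 a357 := aux_base3 tw185 rfl b357
theorem n357 : Sound.{u} (cP4r 1 3) s357 0 :=
  (x357.k4 c357_0 :)
theorem x358 : AuxS.{u} (cP4r 1 3) s358 0 a358 := aux_base3 tw185 rfl b358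
theorem n358 : Sound.{u} (cP4r 1 3) s358 0 :=
  (x358.k4 c358_0 :)
theorem x359 : AuxS.{u} (cP4r 1 3) s359 0 a359 := aux_base3 tw185 rfl b359
theorem n359 : Sound.{u} (cP4r 1 3) s359 0 :=
  (x359.k4 c359_0 :)
theorem x360 : AuxS.{u} (cP4r 1 3) s360 0 a360 := aux_base3 tw185 rfl b360
theorem n360 : Sound.{u} (cP4r 1 3) s360 0 :=
  (x360.k4 c360_0 :)
theorem x361 : AuxS.{u} (cP4r 1 3) s361 0 a361 := aux_base3 tw185 rfl b361
theorem n361 : Sound.{u} (cP4r 1 3) s361 0 :=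
  (x361.k4 c361_0 :)
theorem x362 : AuxS.{u} (cP4r 1 3) s362 0 a362 := aux_base3 tw185 rfl b362
theorem n362 : Sound.{u} (cP4r 1 3) s362 0 :=
  (x362.k4 c362_0 :)
theorem x363 : AuxS.{u} (cP4r 1 3) s363 0 a363 := aux_base3 tw185 rfl b363
theorem n363 : Sound.{u} (cP4r 1 3) s363 0 :=
  (x363.k4 c363_0 :)
theorem x364 : AuxS.{u} (cP4r 1 3) s364 0 a364 := aux_base3 tw185 rfl b364
theorem n364 : Sound.{u} (cP4r 1 3) s364 0 :=
  (x364.k4 c364_0 :)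
theorem x365 : AuxS.{u} (cP4r 1 3) s365 0 a365 := aux_base3 tw185 rfl b365
theorem n365 : Sound.{u} (cP4r 1 3) s365 0 :=
  (x365.k4 c365_0 :)
theorem x316 : AuxS.{u} (cP4r 1 3) s316 0 a316 := aux_base3 tw185 rfl b316
theorem x316_1 : AuxS.{u} (cP4r 1 3) s316 0 a316_1 := x316
theorem x316_2 : AuxS.{u} (cP4r 1 3) s316 0 a316_2 := x316_1
theorem x316_3 : AuxS.{u} (cP4r 1 3) s316 0 a316_3 := x316_2
theorem n316 : Sound.{u} (cP4r 1 3) s316 0 :=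
  (x316_3.fr (AuxS.gam x316_3 c316_0) (AllS.cons n334 (AllS.cons n335 (AllS.cons n336 (AllS.cons n337 (AllS.cons n338 (AllS.cons n339 (AllS.cons n340 (AllS.cons n341 (AllS.cons n342 (AllS.cons n343 (AllS.cons n344 (AllS.cons n345 (AllS.cons n346 (AllS.cons n347 (AllS.cons n348 (AllS.cons n349 (AllS.cons n350 (AllS.cons n351 (AllS.cons n352 (AllS.cons n353 (AllS.cons n354 (AllS.cons n355 (AllS.cons n356 (AllS.cons n357 (AllS.cons n358 (AllS.cons n359 (AllS.cons n360 (AllS.cons n361 (AllS.cons n362 (AllS.cons n363 (AllS.cons n364 (AllS.cons n365 AllS.nil)))))))))))))))))))))))))))))))) c316_1 :)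
theorem x317 : AuxS.{u} (cP4r 1 3) s317 0 a317 := aux_base3 tw186 rfl b317
theorem x317_1 : AuxS.{u} (cP4r 1 3) s317 0 a317_1 := x317
theorem x317_2 : AuxS.{u} (cP4r 1 3) s317 0 a317_2 := x317_1
theorem x317_3 : AuxS.{u} (cP4r 1 3) s317 0 a317_3 := x317_2
theorem n317 : Sound.{u} (cP4r 1 3) s317 0 :=
  (x317_3.fr GamS.nil AllS.nil c317_0 :)
theorem x318 : AuxS.{u} (cP4r 1 3) s318 0 a318 := aux_base3 tw187 rfl b318
theorem x318_1 : AuxS.{u} (cP4r 1 3) s318 0 a318_1 := x318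
theorem x318_2 : AuxS.{u} (cP4r 1 3) s318 0 a318_2 := x318_1
theorem x318_3 : AuxS.{u} (cP4r 1 3) s318 0 a318_3 := x318_2
theorem n318 : Sound.{u} (cP4r 1 3) s318 0 :=
  (x318_3.fr GamS.nil AllS.nil c318_0 :)
theorem x319 : AuxS.{u} (cP4r 1 3) s319 0 a319 := aux_base3 tw188 rfl b319
theorem x319_1 : AuxS.{u} (cP4r 1 3) s319 0 a319_1 := x319
theorem x319_2 : AuxS.{u} (cP4r 1 3) s319 0 a319_2 := x319_1
theorem x319_3 : AuxS.{u} (cP4r 1 3) s319 0 a319_3 := x319_2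
theorem n319 : Sound.{u} (cP4r 1 3) s319 0 :=
  (x319_3.fr GamS.nil AllS.nil c319_0 :)
theorem x320 : AuxS.{u} (cP4r 1 3) s320 0 a320 := aux_base3 tw189 rfl b320
theorem x320_1 : AuxS.{u} (cP4r 1 3) s320 0 a320_1 := x320
theorem x320_2 : AuxS.{u} (cP4r 1 3) s320 0 a320_2 := x320_1
theorem x320_3 : AuxS.{u} (cP4r 1 3) s320 0 a320_3 := x320_2
theorem x320_4 : AuxS.{u} (cP4r 1 3) s320 0 a320_4 := x320_3
theorem n320 : Sound.{u} (cP4r 1 3) s320 0 :=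
  (x320_4.fr GamS.nil AllS.nil c320_0 :)
theorem x321 : AuxS.{u} (cP4r 1 3) s321 0 a321 := aux_base3 tw190 rfl b321
theorem x321_1 : AuxS.{u} (cP4r 1 3) s321 0 a321_1 := x321
theorem x321_2 : AuxS.{u} (cP4r 1 3) s321 0 a321_2 := x321_1
theorem x321_3 : AuxS.{u} (cP4r 1 3) s321 0 a321_3 := x321_2
theorem x321_4 : AuxS.{u} (cP4r 1 3) s321 0 a321_4 := x321_3
theorem n321 : Sound.{u} (cP4r 1 3) s321 0 :=
  (x321_4.fr GamS.nil AllS.nil c321_0 :)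
theorem x322 : AuxS.{u} (cP4r 1 3) s322 0 a322 := aux_base3 tw191 rfl b322
theorem x322_1 : AuxS.{u} (cP4r 1 3) s322 0 a322_1 := x322
theorem x322_2 : AuxS.{u} (cP4r 1 3) s322 0 a322_2 := x322_1
theorem x322_3 : AuxS.{u} (cP4r 1 3) s322 0 a322_3 := x322_2
theorem x322_4 : AuxS.{u} (cP4r 1 3) s322 0 a322_4 := x322_3
theorem n322 : Sound.{u} (cP4r 1 3) s322 0 :=
  (x322_4.fr GamS.nil AllS.nil c322_0 :)
theorem x323 : AuxS.{u} (cP4r 1 3) s323 0 a323 := aux_base3 tw192 rfl b323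
theorem x323_1 : AuxS.{u} (cP4r 1 3) s323 0 a323_1 := x323
theorem x323_2 : AuxS.{u} (cP4r 1 3) s323 0 a323_2 := x323_1
theorem x323_3 : AuxS.{u} (cP4r 1 3) s323 0 a323_3 := x323_2
theorem x323_4 : AuxS.{u} (cP4r 1 3) s323 0 a323_4 := x323_3
theorem n323 : Sound.{u} (cP4r 1 3) s323 0 :=
  (x323_4.fr GamS.nil AllS.nil c323_0 :)
theorem x324 : AuxS.{u} (cP4r 1 3) s324 0 a324 := aux_base3 tw193 rfl b324
theorem x324_1 : AuxS.{u} (cP4r 1 3) s324 0 a324_1 := x324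
theorem x324_2 : AuxS.{u} (cP4r 1 3) s324 0 a324_2 := x324_1
theorem x324_3 : AuxS.{u} (cP4r 1 3) s324 0 a324_3 := x324_2
theorem n324 : Sound.{u} (cP4r 1 3) s324 0 :=
  (x324_3.fr GamS.nil AllS.nil c324_0 :)
theorem x325 : AuxS.{u} (cP4r 1 3) s325 0 a325 := aux_base3 tw194 rfl b325
theorem x325_1 : AuxS.{u} (cP4r 1 3) s325 0 a325_1 := x325
theorem x325_2 : AuxS.{u} (cP4r 1 3) s325 0 a325_2 := x325_1
theorem x325_3 : AuxS.{u} (cP4r 1 3) s325 0 a325_3 := x325_2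
theorem n325 : Sound.{u} (cP4r 1 3) s325 0 :=
  (x325_3.fr GamS.nil AllS.nil c325_0 :)
theorem x326 : AuxS.{u} (cP4r 1 3) s326 0 a326 := aux_base3 tw195 rfl b326
theorem x326_1 : AuxS.{u} (cP4r 1 3) s326 0 a326_1 := x326
theorem x326_2 : AuxS.{u} (cP4r 1 3) s326 0 a326_2 := x326_1
theorem x326_3 : AuxS.{u} (cP4r 1 3) s326 0 a326_3 := x326_2
theorem n326 : Sound.{u} (cP4r 1 3) s326 0 :=
  (x326_3.fr GamS.nil AllS.nil c326_0 :)
theorem x327 : AuxS.{u} (cP4r 1 3) s327 0 a327 := aux_base3 tw196 rfl b327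
theorem x327_1 : AuxS.{u} (cP4r 1 3) s327 0 a327_1 := x327
theorem x327_2 : AuxS.{u} (cP4r 1 3) s327 0 a327_2 := x327_1
theorem x327_3 : AuxS.{u} (cP4r 1 3) s327 0 a327_3 := x327_2
theorem n327 : Sound.{u} (cP4r 1 3) s327 0 :=
  (x327_3.fr GamS.nil AllS.nil c327_0 :)
theorem x328 : AuxS.{u} (cP4r 1 3) s328 0 a328 := aux_base3 tw197 rfl b328
theorem x328_1 : AuxS.{u} (cP4r 1 3) s328 0 a328_1 := x328
theorem x328_2 : AuxS.{u} (cP4r 1 3) s328 0 a328_2 := x328_1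
theorem x328_3 : AuxS.{u} (cP4r 1 3) s328 0 a328_3 := x328_2
theorem x328_4 : AuxS.{u} (cP4r 1 3) s328 0 a328_4 := x328_3
theorem n328 : Sound.{u} (cP4r 1 3) s328 0 :=
  (x328_4.fr GamS.nil AllS.nil c328_0 :)
theorem x329 : AuxS.{u} (cP4r 1 3) s329 0 a329 := aux_base3 tw198 rfl b329
theorem x329_1 : AuxS.{u} (cP4r 1 3) s329 0 a329_1 := x329
theorem x329_2 : AuxS.{u} (cP4r 1 3) s329 0 a329_2 := x329_1
theorem x329_3 : AuxS.{u} (cP4r 1 3) s329 0 a329_3 := x329_2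
theorem x329_4 : AuxS.{u} (cP4r 1 3) s329 0 a329_4 := x329_3
theorem n329 : Sound.{u} (cP4r 1 3) s329 0 :=
  (x329_4.fr GamS.nil AllS.nil c329_0 :)
theorem x330 : AuxS.{u} (cP4r 1 3) s330 0 a330 := aux_base3 tw199 rfl b330
theorem x330_1 : AuxS.{u} (cP4r 1 3) s330 0 a330_1 := x330
theorem x330_2 : AuxS.{u} (cP4r 1 3) s330 0 a330_2 := x330_1
theorem x330_3 : AuxS.{u} (cP4r 1 3) s330 0 a330_3 := x330_2
theorem x330_4 : AuxS.{u} (cP4r 1 3) s330 0 a330_4 := x330_3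
theorem n330 : Sound.{u} (cP4r 1 3) s330 0 :=
  (x330_4.fr GamS.nil AllS.nil c330_0 :)
theorem x331 : AuxS.{u} (cP4r 1 3) s331 0 a331 := aux_base3 tw200 rfl b331
theorem x331_1 : AuxS.{u} (cP4r 1 3) s331 0 a331_1 := x331
theorem x331_2 : AuxS.{u} (cP4r 1 3) s331 0 a331_2 := x331_1
theorem x331_3 : AuxS.{u} (cP4r 1 3) s331 0 a331_3 := x331_2
theorem x331_4 : AuxS.{u} (cP4r 1 3) s331 0 a331_4 := x331_3
theorem n331 : Sound.{u} (cP4r 1 3) s331 0 :=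
  (x331_4.fr GamS.nil AllS.nil c331_0 :)
theorem x332 : AuxS.{u} (cP4r 1 3) s332 0 a332 := aux_base3 tw201 rfl b332
theorem n332 : Sound.{u} (cP4r 1 3) s332 0 :=
  (x332.k3 c332_0 :)
theorem x333 : AuxS.{u} (cP4r 1 3) s333 0 a333 := aux_base3 tw202 rfl b333
theorem n333 : Sound.{u} (cP4r 1 3) s333 0 :=
  (x333.k3 c333_0 :)
theorem x315 : AuxS.{u} (cP4r 1 3) s315 0 a315 := aux_base3 tw175 rfl b315
theorem x315_1 : AuxS.{u} (cP4r 1 3) s315 0 a315_1 := (AuxS.up x315 c315_6 :)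
theorem x315_2 : AuxS.{u} (cP4r 1 3) s315 0 a315_2 := (AuxS.up2 x315_1 c315_7 :)
theorem x315_3 : AuxS.{u} (cP4r 1 3) s315 0 a315_3 := (AuxS.up x315_2 c315_8 :)
theorem p315_0_1 : Phs s315 a315_3 (List.map Prod.fst g315_0) [s316, s317, s318, s319, s320, s321, s322, s323, s324, s325, s326, s327, s328, s329, s330, s331, s332, s333] ct315_0 v315_0 5 w315_0_1 := (Phs.fin c315_1)
theorem p315_0_3 : Phs s315 a315_3 (List.map Prod.fst g315_0) [s316, s317, s318, s319, s320, s321, s322, s323, s324, s325, s326, s327, s328, s329, s330, s331, s332, s333] ct315_0 v315_0 4 w315_0_3 := (Phs.stp c315_2 p315_0_1)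
theorem p315_0_5 : Phs s315 a315_3 (List.map Prod.fst g315_0) [s316, s317, s318, s319, s320, s321, s322, s323, s324, s325, s326, s327, s328, s329, s330, s331, s332, s333] ct315_0 v315_0 1 w315_0_5 := (Phs.stp c315_3 p315_0_3)
theorem n315 : Sound.{u} (cP4r 1 3) s315 0 :=
  (x315_3.ext2 (fun h => absurd h (by decide)) (AuxS.gam x315_3 c315_0) (AllS.cons n316 (AllS.cons n317 (AllS.cons n318 (AllS.cons n319 (AllS.cons n320 (AllS.cons n321 (AllS.cons n322 (AllS.cons n323 (AllS.cons n324 (AllS.cons n325 (AllS.cons n326 (AllS.cons n327 (AllS.cons n328 (AllS.cons n329 (AllS.cons n330 (AllS.cons n331 (AllS.cons n332 (AllS.cons n333 AllS.nil)))))))))))))))))) c315_5 (Phs.stp c315_4 p315_0_5) (Phs.fin (ct := ct315_0) rfl) :)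
theorem x313 : AuxS.{u} (cP4r 1 3) s313 0 a313 := aux_base3 tw183 rfl b313
theorem x313_1 : AuxS.{u} (cP4r 1 3) s313 0 a313_1 := x313
theorem x313_2 : AuxS.{u} (cP4r 1 3) s313 0 a313_2 := x313_1
theorem n313 : Sound.{u} (cP4r 1 3) s313 0 :=
  (x313_2.jump c313_0 c313_1 n315 :)
theorem x314 : AuxS.{u} (cP4r 1 3) s314 0 a314 := aux_base3 tw184 rfl b314
theorem x314_1 : AuxS.{u} (cP4r 1 3) s314 0 a314_1 := (AuxS.up x314 c314_1 :)
theorem n314 : Sound.{u} (cP4r 1 3) s314 0 :=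
  (x314_1.k1 c314_0 :)
theorem x305 : AuxS.{u} (cP4r 1 3) s305 0 a305 := aux_base3 tw175 rfl b305
theorem x305_1 : AuxS.{u} (cP4r 1 3) s305 0 a305_1 := x305
theorem x305_2 : AuxS.{u} (cP4r 1 3) s305 0 a305_2 := x305_1
theorem p305_0_1 : Phs s305 a305_2 (List.map Prod.fst g305_0) [s313, s314] ct305_0 v305_0 5 w305_0_1 := (Phs.fin c305_1)
theorem n305 : Sound.{u} (cP4r 1 3) s305 0 :=
  (x305_2.ext2 (fun h => absurd h (by decide)) (AuxS.gam x305_2 c305_0) (AllS.cons n313 (AllS.cons n314 AllS.nil)) c305_3 (Phs.fin (ct := ct305_0) rfl) (Phs.stp c305_2 p305_0_1) :)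
theorem x306 : AuxS.{u} (cP4r 1 3) s306 0 a306 := aux_base3 tw176 rfl b306
theorem x306_1 : AuxS.{u} (cP4r 1 3) s306 0 a306_1 := x306
theorem x306_2 : AuxS.{u} (cP4r 1 3) s306 0 a306_2 := x306_1
theorem n306 : Sound.{u} (cP4r 1 3) s306 0 :=
  (x306_2.ext2 (fun h => absurd h (by decide)) GamS.nil AllS.nil c306_1 (Phs.fin (ct := ct306_0) rfl) (Phs.fin c306_0) :)
theorem x307 : AuxS.{u} (cP4r 1 3) s307 0 a307 := aux_base3 tw177 rfl b307
theorem x307_1 : AuxS.{u} (cP4r 1 3) s307 0 a307_1 := (AuxS.up x307 c307_1 :)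
theorem n307 : Sound.{u} (cP4r 1 3) s307 0 :=
  (x307_1.k1 c307_0 :)
theorem x308 : AuxS.{u} (cP4r 1 3) s308 0 a308 := aux_base3 tw178 rfl b308
theorem x308_1 : AuxS.{u} (cP4r 1 3) s308 0 a308_1 := (AuxS.up x308 c308_1 :)
theorem n308 : Sound.{u} (cP4r 1 3) s308 0 :=
  (x308_1.k1 c308_0 :)
theorem x309 : AuxS.{u} (cP4r 1 3) s309 0 a309 := aux_base3 tw179 rfl b309
theorem x309_1 : AuxS.{u} (cP4r 1 3) s309 0 a309_1 := x309
theorem x309_2 : AuxS.{u} (cP4r 1 3) s309 0 a309_2 := x309_1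
theorem n309 : Sound.{u} (cP4r 1 3) s309 0 :=
  (x309_2.ext2 (fun h => absurd h (by decide)) GamS.nil AllS.nil c309_1 (Phs.fin (ct := ct309_0) rfl) (Phs.fin c309_0) :)
theorem x413 : AuxS.{u} (cP4r 1 3) s413 0 a413 := aux_base3 tw223 rfl b413
theorem n413 : Sound.{u} (cP4r 1 3) s413 0 :=
  (x413.k4 c413_0 :)
theorem x414 : AuxS.{u} (cP4r 1 3) s414 0 a414 := aux_base3 tw223 rfl b414
theorem n414 : Sound.{u} (cP4r 1 3) s414 0 :=
  (x414.k4 c414_0 :)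
theorem x415 : AuxS.{u} (cP4r 1 3) s415 0 a415 := aux_base3 tw223 rfl b415
theorem n415 : Sound.{u} (cP4r 1 3) s415 0 :=
  (x415.k4 c415_0 :)
theorem x416 : AuxS.{u} (cP4r 1 3) s416 0 a416 := aux_base3 tw223 rfl b416
theorem n416 : Sound.{u} (cP4r 1 3) s416 0 :=
  (x416.k4 c416_0 :)
theorem x417 : AuxS.{u} (cP4r 1 3) s417 0 a417 := aux_base3 tw223 rfl b417
theorem n417 : Sound.{u} (cP4r 1 3) s417 0 :=
  (x417.k4 c417_0 :)
theorem x418 : AuxS.{u} (cP4r 1 3) s418 0 a418 := aux_base3 tw223 rfl b418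
theorem n418 : Sound.{u} (cP4r 1 3) s418 0 :=
  (x418.k4 c418_0 :)
theorem x419 : AuxS.{u} (cP4r 1 3) s419 0 a419 := aux_base3 tw223 rfl b419
theorem n419 : Sound.{u} (cP4r 1 3) s419 0 :=
  (x419.k4 c419_0 :)
theorem x420 : AuxS.{u} (cP4r 1 3) s420 0 a420 := aux_base3 tw223 rfl b420
theorem n420 : Sound.{u} (cP4r 1 3) s420 0 :=
  (x420.k4 c420_0 :)
theorem x445 : AuxS.{u} (cP4r 1 3) s445 0 a445 := aux_base3 tw241 rfl b445
theorem x445_1 : AuxS.{u} (cP4r 1 3) s445 0 a445_1 := (AuxS.up x445 c445_1 :)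
theorem x445_2 : AuxS.{u} (cP4r 1 3) s445 0 a445_2 := (AuxS.up2 x445_1 c445_2 :)
theorem x445_3 : AuxS.{u} (cP4r 1 3) s445 0 a445_3 := (AuxS.up x445_2 c445_3 :)
theorem x445_4 : AuxS.{u} (cP4r 1 3) s445 0 a445_4 := (AuxS.up2 x445_3 c445_4 :)
theorem n445 : Sound.{u} (cP4r 1 3) s445 0 :=
  (x445_4.k7 c445_0 :)
theorem x446 : AuxS.{u} (cP4r 1 3) s446 0 a446 := aux_base3 tw242 rfl b446
theorem n446 : Sound.{u} (cP4r 1 3) s446 0 :=
  (x446.k4 c446_0 :)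
theorem x421 : AuxS.{u} (cP4r 1 3) s421 0 a421 := aux_base3 tw223 rfl b421
theorem x421_1 : AuxS.{u} (cP4r 1 3) s421 0 a421_1 := x421
theorem n421 : Sound.{u} (cP4r 1 3) s421 0 :=
  (x421_1.fr2 GamS.nil (AllS.cons n445 (AllS.cons n446 AllS.nil)) c421_0 :)
theorem x422 : AuxS.{u} (cP4r 1 3) s422 0 a422 := aux_base3 tw223 rfl b422
theorem n422 : Sound.{u} (cP4r 1 3) s422 0 :=
  (x422.k4 c422_0 :)
theorem x423 : AuxS.{u} (cP4r 1 3) s423 0 a423 := aux_base3 tw223 rfl b423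
theorem n423 : Sound.{u} (cP4r 1 3) s423 0 :=
  (x423.k4 c423_0 :)
theorem x424 : AuxS.{u} (cP4r 1 3) s424 0 a424 := aux_base3 tw223 rfl b424
theorem n424 : Sound.{u} (cP4r 1 3) s424 0 :=
  (x424.k4 c424_0 :)
theorem x425 : AuxS.{u} (cP4r 1 3) s425 0 a425 := aux_base3 tw223 rfl b425
theorem n425 : Sound.{u} (cP4r 1 3) s425 0 :=
  (x425.k4 c425_0 :)
theorem x426 : AuxS.{u} (cP4r 1 3) s426 0 a426 := aux_base3 tw223 rfl b426
theorem n426 : Sound.{u} (cP4r 1 3) s426 0 :=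
  (x426.k4 c426_0 :)
theorem x427 : AuxS.{u} (cP4r 1 3) s427 0 a427 := aux_base3 tw223 rfl b427
theorem n427 : Sound.{u} (cP4r 1 3) s427 0 :=
  (x427.k4 c427_0 :)
theorem x428 : AuxS.{u} (cP4r 1 3) s428 0 a428 := aux_base3 tw223 rfl b428
theorem n428 : Sound.{u} (cP4r 1 3) s428 0 :=
  (x428.k4 c428_0 :)
theorem x429 : AuxS.{u} (cP4r 1 3) s429 0 a429 := aux_base3 tw223 rfl b429
theorem n429 : Sound.{u} (cP4r 1 3) s429 0 :=
  (x429.k4 c429_0 :)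
theorem x430 : AuxS.{u} (cP4r 1 3) s430 0 a430 := aux_base3 tw223 rfl b430
theorem n430 : Sound.{u} (cP4r 1 3) s430 0 :=
  (x430.k4 c430_0 :)
theorem x431 : AuxS.{u} (cP4r 1 3) s431 0 a431 := aux_base3 tw223 rfl b431
theorem n431 : Sound.{u} (cP4r 1 3) s431 0 :=
  (x431.k4 c431_0 :)
theorem x432 : AuxS.{u} (cP4r 1 3) s432 0 a432 := aux_base3 tw223 rfl b432
theorem n432 : Sound.{u} (cP4r 1 3) s432 0 :=
  (x432.k4 c432_0 :)
theorem x433 : AuxS.{u} (cP4r 1 3) s433 0 a433 := aux_base3 tw223 rfl b433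
theorem n433 : Sound.{u} (cP4r 1 3) s433 0 :=
  (x433.k4 c433_0 :)
theorem x434 : AuxS.{u} (cP4r 1 3) s434 0 a434 := aux_base3 tw223 rfl b434
theorem n434 : Sound.{u} (cP4r 1 3) s434 0 :=
  (x434.k4 c434_0 :)
theorem x435 : AuxS.{u} (cP4r 1 3) s435 0 a435 := aux_base3 tw223 rfl b435
theorem n435 : Sound.{u} (cP4r 1 3) s435 0 :=
  (x435.k4 c435_0 :)
theorem x436 : AuxS.{u} (cP4r 1 3) s436 0 a436 := aux_base3 tw223 rfl b436
theorem n436 : Sound.{u} (cP4r 1 3) s436 0 :=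
  (x436.k4 c436_0 :)
theorem x437 : AuxS.{u} (cP4r 1 3) s437 0 a437 := aux_base3 tw223 rfl b437
theorem n437 : Sound.{u} (cP4r 1 3) s437 0 :=
  (x437.k4 c437_0 :)
theorem x438 : AuxS.{u} (cP4r 1 3) s438 0 a438 := aux_base3 tw223 rfl b438
theorem n438 : Sound.{u} (cP4r 1 3) s438 0 :=
  (x438.k4 c438_0 :)
theorem x439 : AuxS.{u} (cP4r 1 3) s439 0 a439 := aux_base3 tw223 rfl b439
theorem n439 : Sound.{u} (cP4r 1 3) s439 0 :=
  (x439.k4 c439_0 :)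
theorem x440 : AuxS.{u} (cP4r 1 3) s440 0 a440 := aux_base3 tw223 rfl b440
theorem n440 : Sound.{u} (cP4r 1 3) s440 0 :=
  (x440.k4 c440_0 :)
theorem x441 : AuxS.{u} (cP4r 1 3) s441 0 a441 := aux_base3 tw223 rfl b441
theorem n441 : Sound.{u} (cP4r 1 3) s441 0 :=
  (x441.k4 c441_0 :)
theorem x442 : AuxS.{u} (cP4r 1 3) s442 0 a442 := aux_base3 tw223 rfl b442
theorem n442 : Sound.{u} (cP4r 1 3) s442 0 :=
  (x442.k4 c442_0 :)
theorem x443 : AuxS.{u} (cP4r 1 3) s443 0 a443 := aux_base3 tw223 rfl b443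
theorem n443 : Sound.{u} (cP4r 1 3) s443 0 :=
  (x443.k4 c443_0 :)
theorem x444 : AuxS.{u} (cP4r 1 3) s444 0 a444 := aux_base3 tw223 rfl b444
theorem n444 : Sound.{u} (cP4r 1 3) s444 0 :=
  (x444.k4 c444_0 :)
theorem x395 : AuxS.{u} (cP4r 1 3) s395 0 a395 := aux_base3 tw223 rfl b395
theorem x395_1 : AuxS.{u} (cP4r 1 3) s395 0 a395_1 := x395
theorem n395 : Sound.{u} (cP4r 1 3) s395 0 :=
  (x395_1.fr (AuxS.gam x395_1 c395_0) (AllS.cons n413 (AllS.cons n414 (AllS.cons n415 (AllS.cons n416 (AllS.cons n417 (AllS.cons n418 (AllS.cons n419 (AllS.cons n420 (AllS.cons n421 (AllS.cons n422 (AllS.cons n423 (AllS.cons n424 (AllS.cons n425 (AllS.cons n426 (AllS.cons n427 (AllS.cons n428 (AllS.cons n429 (AllS.cons n430 (AllS.cons n431 (AllS.cons n432 (AllS.cons n433 (AllS.cons n434 (AllS.cons n435 (AllS.cons n436 (AllS.cons n437 (AllS.cons n438 (AllS.cons n439 (AllS.cons n440 (AllS.cons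 n441 (AllS.cons n442 (AllS.cons n443 (AllS.cons n444 AllS.nil)))))))))))))))))))))))))))))))) c395_1 :)
theorem x396 : AuxS.{u} (cP4r 1 3) s396 0 a396 := aux_base3 tw224 rfl b396
theorem x396_1 : AuxS.{u} (cP4r 1 3) s396 0 a396_1 := x396
theorem n396 : Sound.{u} (cP4r 1 3) s396 0 :=
  (x396_1.fr GamS.nil AllS.nil c396_0 :)
theorem x397 : AuxS.{u} (cP4r 1 3) s397 0 a397 := aux_base3 tw225 rfl b397
theorem x397_1 : AuxS.{u} (cP4r 1 3) s397 0 a397_1 := x397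
theorem n397 : Sound.{u} (cP4r 1 3) s397 0 :=
  (x397_1.fr GamS.nil AllS.nil c397_0 :)
theorem x398 : AuxS.{u} (cP4r 1 3) s398 0 a398 := aux_base3 tw226 rfl b398
theorem x398_1 : AuxS.{u} (cP4r 1 3) s398 0 a398_1 := x398
theorem n398 : Sound.{u} (cP4r 1 3) s398 0 :=
  (x398_1.fr GamS.nil AllS.nil c398_0 :)
theorem x399 : AuxS.{u} (cP4r 1 3) s399 0 a399 := aux_base3 tw227 rfl b399
theorem n399 : Sound.{u} (cP4r 1 3) s399 0 :=
  (x399.k4 c399_0 :)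
theorem x400 : AuxS.{u} (cP4r 1 3) s400 0 a400 := aux_base3 tw228 rfl b400
theorem n400 : Sound.{u} (cP4r 1 3) s400 0 :=
  (x400.k4 c400_0 :)
theorem x401 : AuxS.{u} (cP4r 1 3) s401 0 a401 := aux_base3 tw229 rfl b401
theorem n401 : Sound.{u} (cP4r 1 3) s401 0 :=
  (x401.k4 c401_0 :)
theorem x402 : AuxS.{u} (cP4r 1 3) s402 0 a402 := aux_base3 tw230 rfl b402
theorem n402 : Sound.{u} (cP4r 1 3) s402 0 :=
  (x402.k4 c402_0 :)
theorem x403 : AuxS.{u} (cP4r 1 3) s403 0 a403 := aux_base3 tw231 rfl b403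
theorem x403_1 : AuxS.{u} (cP4r 1 3) s403 0 a403_1 := x403
theorem n403 : Sound.{u} (cP4r 1 3) s403 0 :=
  (x403_1.fr GamS.nil AllS.nil c403_0 :)
theorem x404 : AuxS.{u} (cP4r 1 3) s404 0 a404 := aux_base3 tw232 rfl b404
theorem x404_1 : AuxS.{u} (cP4r 1 3) s404 0 a404_1 := x404
theorem n404 : Sound.{u} (cP4r 1 3) s404 0 :=
  (x404_1.fr GamS.nil AllS.nil c404_0 :)
theorem x405 : AuxS.{u} (cP4r 1 3) s405 0 a405 := aux_base3 tw233 rfl b405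
theorem x405_1 : AuxS.{u} (cP4r 1 3) s405 0 a405_1 := x405
theorem n405 : Sound.{u} (cP4r 1 3) s405 0 :=
  (x405_1.fr GamS.nil AllS.nil c405_0 :)
theorem x406 : AuxS.{u} (cP4r 1 3) s406 0 a406 := aux_base3 tw234 rfl b406
theorem x406_1 : AuxS.{u} (cP4r 1 3) s406 0 a406_1 := x406
theorem n406 : Sound.{u} (cP4r 1 3) s406 0 :=
  (x406_1.fr GamS.nil AllS.nil c406_0 :)
theorem x407 : AuxS.{u} (cP4r 1 3) s407 0 a407 := aux_base3 tw235 rfl b407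
theorem n407 : Sound.{u} (cP4r 1 3) s407 0 :=
  (x407.k4 c407_0 :)
theorem x408 : AuxS.{u} (cP4r 1 3) s408 0 a408 := aux_base3 tw236 rfl b408
theorem n408 : Sound.{u} (cP4r 1 3) s408 0 :=
  (x408.k4 c408_0 :)
theorem x409 : AuxS.{u} (cP4r 1 3) s409 0 a409 := aux_base3 tw237 rfl b409
theorem n409 : Sound.{u} (cP4r 1 3) s409 0 :=
  (x409.k4 c409_0 :)
theorem x410 : AuxS.{u} (cP4r 1 3) s410 0 a410 := aux_base3 tw238 rfl b410
theorem n410 : Sound.{u} (cP4r 1 3) s410 0 :=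
  (x410.k4 c410_0 :)
theorem x411 : AuxS.{u} (cP4r 1 3) s411 0 a411 := aux_base3 tw239 rfl b411
theorem n411 : Sound.{u} (cP4r 1 3) s411 0 :=
  (x411.k3 c411_0 :)
theorem x412 : AuxS.{u} (cP4r 1 3) s412 0 a412 := aux_base3 tw240 rfl b412
theorem n412 : Sound.{u} (cP4r 1 3) s412 0 :=
  (x412.k3 c412_0 :)
theorem x394 : AuxS.{u} (cP4r 1 3) s394 0 a394 := aux_base3 tw180 rfl b394
theorem x394_1 : AuxS.{u} (cP4r 1 3) s394 0 a394_1 := (AuxS.up x394 c394_6 :)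
theorem x394_2 : AuxS.{u} (cP4r 1 3) s394 0 a394_2 := (AuxS.up2 x394_1 c394_7 :)
theorem p394_0_1 : Phs s394 a394_2 (List.map Prod.fst g394_0) [s395, s396, s397, s398, s399, s400, s401, s402, s403, s404, s405, s406, s407, s408, s409, s410, s411, s412] ct394_0 v394_0 5 w394_0_1 := (Phs.fin c394_1)
theorem p394_0_3 : Phs s394 a394_2 (List.map Prod.fst g394_0) [s395, s396, s397, s398, s399, s400, s401, s402, s403, s404, s405, s406, s407, s408, s409, s410, s411, s412] ct394_0 v394_0 4 w394_0_3 := (Phs.stp c394_2 p394_0_1)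
theorem p394_0_5 : Phs s394 a394_2 (List.map Prod.fst g394_0) [s395, s396, s397, s398, s399, s400, s401, s402, s403, s404, s405, s406, s407, s408, s409, s410, s411, s412] ct394_0 v394_0 1 w394_0_5 := (Phs.stp c394_3 p394_0_3)
theorem n394 : Sound.{u} (cP4r 1 3) s394 0 :=
  (x394_2.ext2 (fun h => absurd h (by decide)) (AuxS.gam x394_2 c394_0) (AllS.cons n395 (AllS.cons n396 (AllS.cons n397 (AllS.cons n398 (AllS.cons n399 (AllS.cons n400 (AllS.cons n401 (AllS.cons n402 (AllS.cons n403 (AllS.cons n404 (AllS.cons n405 (AllS.cons n406 (AllS.cons n407 (AllS.cons n408 (AllS.cons n409 (AllS.cons n410 (AllS.cons n411 (AllS.cons n412 AllS.nil)))))))))))))))))) c394_5 (Phs.stp c394_4 p394_0_5) (Phs.fin (ct := ct394_0) rfl) :)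
theorem x392 : AuxS.{u} (cP4r 1 3) s392 0 a392 := aux_base3 tw221 rfl b392
theorem x392_1 : AuxS.{u} (cP4r 1 3) s392 0 a392_1 := x392
theorem n392 : Sound.{u} (cP4r 1 3) s392 0 :=
  (x392_1.jump c392_0 c392_1 n394 :)
theorem x393 : AuxS.{u} (cP4r 1 3) s393 0 a393 := aux_base3 tw222 rfl b393
theorem x393_1 : AuxS.{u} (cP4r 1 3) s393 0 a393_1 := (AuxS.up x393 c393_1 :)
theorem n393 : Sound.{u} (cP4r 1 3) s393 0 :=
  (x393_1.k1 c393_0 :)
theorem x310 : AuxS.{u} (cP4r 1 3) s310 0 a310 := aux_base3 tw180 rfl b310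
theorem x310_1 : AuxS.{u} (cP4r 1 3) s310 0 a310_1 := x310
theorem x310_2 : AuxS.{u} (cP4r 1 3) s310 0 a310_2 := x310_1
theorem p310_0_1 : Phs s310 a310_2 (List.map Prod.fst g310_0) [s392, s393] ct310_0 v310_0 5 w310_0_1 := (Phs.fin c310_1)
theorem n310 : Sound.{u} (cP4r 1 3) s310 0 :=
  (x310_2.ext2 (fun h => absurd h (by decide)) (AuxS.gam x310_2 c310_0) (AllS.cons n392 (AllS.cons n393 AllS.nil)) c310_3 (Phs.fin (ct := ct310_0) rfl) (Phs.stp c310_2 p310_0_1) :)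
theorem x311 : AuxS.{u} (cP4r 1 3) s311 0 a311 := aux_base3 tw181 rfl b311
theorem x311_1 : AuxS.{u} (cP4r 1 3) s311 0 a311_1 := (AuxS.up x311 c311_1 :)
theorem n311 : Sound.{u} (cP4r 1 3) s311 0 :=
  (x311_1.k1 c311_0 :)
theorem x312 : AuxS.{u} (cP4r 1 3) s312 0 a312 := aux_base3 tw182 rfl b312
theorem x312_1 : AuxS.{u} (cP4r 1 3) s312 0 a312_1 := (AuxS.up x312 c312_1 :)
theorem n312 : Sound.{u} (cP4r 1 3) s312 0 :=
  (x312_1.k1 c312_0 :)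
theorem x17 : AuxS.{u} (cP4r 1 3) s17 0 a17 := aux_base3 tw17 rfl b17
theorem x17_1 : AuxS.{u} (cP4r 1 3) s17 0 a17_1 := (AuxS.up x17 c17_4 :)
theorem p17_0_1 : Phs s17 a17_1 [] [s305, s306, s307, s308, s309, s310, s311, s312] ct17_0 v17_0 4 w17_0_1 := (Phs.fin c17_0)
theorem p17_0_3 : Phs s17 a17_1 [] [s305, s306, s307, s308, s309, s310, s311, s312] ct17_0 v17_0 1 w17_0_3 := (Phs.stp c17_1 p17_0_1)
theorem n17 : Sound.{u} (cP4r 1 3) s17 0 :=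
  (x17_1.ext2 (fun h => absurd h (by decide)) GamS.nil (AllS.cons n305 (AllS.cons n306 (AllS.cons n307 (AllS.cons n308 (AllS.cons n309 (AllS.cons n310 (AllS.cons n311 (AllS.cons n312 AllS.nil)))))))) c17_3 (Phs.stp c17_2 p17_0_3) (Phs.fin (ct := ct17_0) rfl) :)
theorem x458 : AuxS.{u} (cP4r 1 3) s458 0 a458 := aux_base3 tw253 rfl b458
theorem x458_1 : AuxS.{u} (cP4r 1 3) s458 0 a458_1 := x458
theorem x458_2 : AuxS.{u} (cP4r 1 3) s458 0 a458_2 := x458_1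
theorem n458 : Sound.{u} (cP4r 1 3) s458 0 :=
  (x458_2.fr GamS.nil AllS.nil c458_0 :)
theorem x459 : AuxS.{u} (cP4r 1 3) s459 0 a459 := aux_base3 tw254 rfl b459
theorem x459_1 : AuxS.{u} (cP4r 1 3) s459 0 a459_1 := x459
theorem x459_2 : AuxS.{u} (cP4r 1 3) s459 0 a459_2 := x459_1
theorem n459 : Sound.{u} (cP4r 1 3) s459 0 :=
  (x459_2.fr GamS.nil AllS.nil c459_0 :)
theorem x460 : AuxS.{u} (cP4r 1 3) s460 0 a460 := aux_base3 tw255 rfl b460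
theorem x460_1 : AuxS.{u} (cP4r 1 3) s460 0 a460_1 := x460
theorem x460_2 : AuxS.{u} (cP4r 1 3) s460 0 a460_2 := x460_1
theorem n460 : Sound.{u} (cP4r 1 3) s460 0 :=
  (x460_2.fr GamS.nil AllS.nil c460_0 :)
theorem x461 : AuxS.{u} (cP4r 1 3) s461 0 a461 := aux_base3 tw256 rfl b461
theorem x461_1 : AuxS.{u} (cP4r 1 3) s461 0 a461_1 := x461
theorem x461_2 : AuxS.{u} (cP4r 1 3) s461 0 a461_2 := x461_1
theorem n461 : Sound.{u} (cP4r 1 3) s461 0 :=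
  (x461_2.fr GamS.nil AllS.nil c461_0 :)
theorem x462 : AuxS.{u} (cP4r 1 3) s462 0 a462 := aux_base3 tw257 rfl b462
theorem x462_1 : AuxS.{u} (cP4r 1 3) s462 0 a462_1 := x462
theorem x462_2 : AuxS.{u} (cP4r 1 3) s462 0 a462_2 := x462_1
theorem n462 : Sound.{u} (cP4r 1 3) s462 0 :=
  (x462_2.fr GamS.nil AllS.nil c462_0 :)
theorem x463 : AuxS.{u} (cP4r 1 3) s463 0 a463 := aux_base3 tw258 rfl b463
theorem x463_1 : AuxS.{u} (cP4r 1 3) s463 0 a463_1 := x463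
theorem x463_2 : AuxS.{u} (cP4r 1 3) s463 0 a463_2 := x463_1
theorem n463 : Sound.{u} (cP4r 1 3) s463 0 :=
  (x463_2.fr GamS.nil AllS.nil c463_0 :)
theorem x464 : AuxS.{u} (cP4r 1 3) s464 0 a464 := aux_base3 tw259 rfl b464
theorem x464_1 : AuxS.{u} (cP4r 1 3) s464 0 a464_1 := x464
theorem x464_2 : AuxS.{u} (cP4r 1 3) s464 0 a464_2 := x464_1
theorem n464 : Sound.{u} (cP4r 1 3) s464 0 :=
  (x464_2.fr GamS.nil AllS.nil c464_0 :)
theorem x465 : AuxS.{u} (cP4r 1 3) s465 0 a465 := aux_base3 tw260 rfl b465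
theorem x465_1 : AuxS.{u} (cP4r 1 3) s465 0 a465_1 := x465
theorem x465_2 : AuxS.{u} (cP4r 1 3) s465 0 a465_2 := x465_1
theorem n465 : Sound.{u} (cP4r 1 3) s465 0 :=
  (x465_2.fr GamS.nil AllS.nil c465_0 :)
theorem x466 : AuxS.{u} (cP4r 1 3) s466 0 a466 := aux_base3 tw261 rfl b466
theorem x466_1 : AuxS.{u} (cP4r 1 3) s466 0 a466_1 := x466
theorem x466_2 : AuxS.{u} (cP4r 1 3) s466 0 a466_2 := x466_1
theorem n466 : Sound.{u} (cP4r 1 3) s466 0 :=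
  (x466_2.fr GamS.nil AllS.nil c466_0 :)
theorem x467 : AuxS.{u} (cP4r 1 3) s467 0 a467 := aux_base3 tw262 rfl b467
theorem x467_1 : AuxS.{u} (cP4r 1 3) s467 0 a467_1 := x467
theorem x467_2 : AuxS.{u} (cP4r 1 3) s467 0 a467_2 := x467_1
theorem n467 : Sound.{u} (cP4r 1 3) s467 0 :=
  (x467_2.fr GamS.nil AllS.nil c467_0 :)
theorem x468 : AuxS.{u} (cP4r 1 3) s468 0 a468 := aux_base3 tw263 rfl b468
theorem x468_1 : AuxS.{u} (cP4r 1 3) s468 0 a468_1 := x468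
theorem x468_2 : AuxS.{u} (cP4r 1 3) s468 0 a468_2 := x468_1
theorem n468 : Sound.{u} (cP4r 1 3) s468 0 :=
  (x468_2.fr GamS.nil AllS.nil c468_0 :)
theorem x469 : AuxS.{u} (cP4r 1 3) s469 0 a469 := aux_base3 tw264 rfl b469
theorem x469_1 : AuxS.{u} (cP4r 1 3) s469 0 a469_1 := x469
theorem x469_2 : AuxS.{u} (cP4r 1 3) s469 0 a469_2 := x469_1
theorem n469 : Sound.{u} (cP4r 1 3) s469 0 :=
  (x469_2.fr GamS.nil AllS.nil c469_0 :)
theorem x470 : AuxS.{u} (cP4r 1 3) s470 0 a470 := aux_base3 tw265 rfl b470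
theorem x470_1 : AuxS.{u} (cP4r 1 3) s470 0 a470_1 := x470
theorem x470_2 : AuxS.{u} (cP4r 1 3) s470 0 a470_2 := x470_1
theorem n470 : Sound.{u} (cP4r 1 3) s470 0 :=
  (x470_2.fr GamS.nil AllS.nil c470_0 :)
theorem x471 : AuxS.{u} (cP4r 1 3) s471 0 a471 := aux_base3 tw266 rfl b471
theorem x471_1 : AuxS.{u} (cP4r 1 3) s471 0 a471_1 := x471
theorem x471_2 : AuxS.{u} (cP4r 1 3) s471 0 a471_2 := x471_1
theorem n471 : Sound.{u} (cP4r 1 3) s471 0 :=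
  (x471_2.fr GamS.nil AllS.nil c471_0 :)
theorem x472 : AuxS.{u} (cP4r 1 3) s472 0 a472 := aux_base3 tw267 rfl b472
theorem x472_1 : AuxS.{u} (cP4r 1 3) s472 0 a472_1 := x472
theorem x472_2 : AuxS.{u} (cP4r 1 3) s472 0 a472_2 := x472_1
theorem n472 : Sound.{u} (cP4r 1 3) s472 0 :=
  (x472_2.fr GamS.nil AllS.nil c472_0 :)
theorem x473 : AuxS.{u} (cP4r 1 3) s473 0 a473 := aux_base3 tw268 rfl b473
theorem x473_1 : AuxS.{u} (cP4r 1 3) s473 0 a473_1 := x473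
theorem x473_2 : AuxS.{u} (cP4r 1 3) s473 0 a473_2 := x473_1
theorem n473 : Sound.{u} (cP4r 1 3) s473 0 :=
  (x473_2.fr GamS.nil AllS.nil c473_0 :)
theorem x474 : AuxS.{u} (cP4r 1 3) s474 0 a474 := aux_base3 tw269 rfl b474
theorem n474 : Sound.{u} (cP4r 1 3) s474 0 :=
  (x474.k3 c474_0 :)
theorem x475 : AuxS.{u} (cP4r 1 3) s475 0 a475 := aux_base3 tw270 rfl b475
theorem n475 : Sound.{u} (cP4r 1 3) s475 0 :=
  (x475.k3 c475_0 :)
theorem x457 : AuxS.{u} (cP4r 1 3) s457 0 a457 := aux_base3 tw243 rfl b457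
theorem x457_1 : AuxS.{u} (cP4r 1 3) s457 0 a457_1 := (AuxS.up x457 c457_6 :)
theorem x457_2 : AuxS.{u} (cP4r 1 3) s457 0 a457_2 := (AuxS.up2 x457_1 c457_7 :)
theorem x457_3 : AuxS.{u} (cP4r 1 3) s457 0 a457_3 := (AuxS.up x457_2 c457_8 :)
theorem p457_0_1 : Phs s457 a457_3 (List.map Prod.fst g457_0) [s458, s459, s460, s461, s462, s463, s464, s465, s466, s467, s468, s469, s470, s471, s472, s473, s474, s475] ct457_0 v457_0 5 w457_0_1 := (Phs.fin c457_1)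
theorem p457_0_3 : Phs s457 a457_3 (List.map Prod.fst g457_0) [s458, s459, s460, s461, s462, s463, s464, s465, s466, s467, s468, s469, s470, s471, s472, s473, s474, s475] ct457_0 v457_0 4 w457_0_3 := (Phs.stp c457_2 p457_0_1)
theorem p457_0_5 : Phs s457 a457_3 (List.map Prod.fst g457_0) [s458, s459, s460, s461, s462, s463, s464, s465, s466, s467, s468, s469, s470, s471, s472, s473, s474, s475] ct457_0 v457_0 1 w457_0_5 := (Phs.stp c457_3 p457_0_3)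
theorem n457 : Sound.{u} (cP4r 1 3) s457 0 :=
  (x457_3.ext2 (fun h => absurd h (by decide)) (AuxS.gam x457_3 c457_0) (AllS.cons n458 (AllS.cons n459 (AllS.cons n460 (AllS.cons n461 (AllS.cons n462 (AllS.cons n463 (AllS.cons n464 (AllS.cons n465 (AllS.cons n466 (AllS.cons n467 (AllS.cons n468 (AllS.cons n469 (AllS.cons n470 (AllS.cons n471 (AllS.cons n472 (AllS.cons n473 (AllS.cons n474 (AllS.cons n475 AllS.nil)))))))))))))))))) c457_5 (Phs.stp c457_4 p457_0_5) (Phs.fin (ct := ct457_0) rfl) :)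
theorem x455 : AuxS.{u} (cP4r 1 3) s455 0 a455 := aux_base3 tw251 rfl b455
theorem x455_1 : AuxS.{u} (cP4r 1 3) s455 0 a455_1 := x455
theorem x455_2 : AuxS.{u} (cP4r 1 3) s455 0 a455_2 := x455_1
theorem n455 : Sound.{u} (cP4r 1 3) s455 0 :=
  (x455_2.jump c455_0 c455_1 n457 :)
theorem x456 : AuxS.{u} (cP4r 1 3) s456 0 a456 := aux_base3 tw252 rfl b456
theorem x456_1 : AuxS.{u} (cP4r 1 3) s456 0 a456_1 := (AuxS.up x456 c456_1 :)
theorem n456 : Sound.{u} (cP4r 1 3) s456 0 :=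
  (x456_1.k1 c456_0 :)
theorem x447 : AuxS.{u} (cP4r 1 3) s447 0 a447 := aux_base3 tw243 rfl b447
theorem x447_1 : AuxS.{u} (cP4r 1 3) s447 0 a447_1 := x447
theorem x447_2 : AuxS.{u} (cP4r 1 3) s447 0 a447_2 := x447_1
theorem p447_0_1 : Phs s447 a447_2 (List.map Prod.fst g447_0) [s455, s456] ct447_0 v447_0 5 w447_0_1 := (Phs.fin c447_1)
theorem n447 : Sound.{u} (cP4r 1 3) s447 0 :=
  (x447_2.ext2 (fun h => absurd h (by decide)) (AuxS.gam x447_2 c447_0) (AllS.cons n455 (AllS.cons n456 AllS.nil)) c447_3 (Phs.fin (ct := ct447_0) rfl) (Phs.stp c447_2 p447_0_1) :)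
theorem x448 : AuxS.{u} (cP4r 1 3) s448 0 a448 := aux_base3 tw244 rfl b448
theorem x448_1 : AuxS.{u} (cP4r 1 3) s448 0 a448_1 := x448
theorem x448_2 : AuxS.{u} (cP4r 1 3) s448 0 a448_2 := x448_1
theorem n448 : Sound.{u} (cP4r 1 3) s448 0 :=
  (x448_2.ext2 (fun h => absurd h (by decide)) GamS.nil AllS.nil c448_1 (Phs.fin (ct := ct448_0) rfl) (Phs.fin c448_0) :)
theorem x449 : AuxS.{u} (cP4r 1 3) s449 0 a449 := aux_base3 tw245 rfl b449
theorem x449_1 : AuxS.{u} (cP4r 1 3) s449 0 a449_1 := (AuxS.up x449 c449_1 :)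
theorem n449 : Sound.{u} (cP4r 1 3) s449 0 :=
  (x449_1.k1 c449_0 :)
theorem x450 : AuxS.{u} (cP4r 1 3) s450 0 a450 := aux_base3 tw246 rfl b450
theorem x450_1 : AuxS.{u} (cP4r 1 3) s450 0 a450_1 := (AuxS.up x450 c450_1 :)
theorem n450 : Sound.{u} (cP4r 1 3) s450 0 :=
  (x450_1.k1 c450_0 :)
theorem x451 : AuxS.{u} (cP4r 1 3) s451 0 a451 := aux_base3 tw247 rfl b451
theorem x451_1 : AuxS.{u} (cP4r 1 3) s451 0 a451_1 := x451
theorem x451_2 : AuxS.{u} (cP4r 1 3) s451 0 a451_2 := x451_1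
theorem n451 : Sound.{u} (cP4r 1 3) s451 0 :=
  (x451_2.ext2 (fun h => absurd h (by decide)) GamS.nil AllS.nil c451_1 (Phs.fin (ct := ct451_0) rfl) (Phs.fin c451_0) :)
theorem x479 : AuxS.{u} (cP4r 1 3) s479 0 a479 := aux_base3 tw273 rfl b479
theorem x479_1 : AuxS.{u} (cP4r 1 3) s479 0 a479_1 := x479
theorem x479_2 : AuxS.{u} (cP4r 1 3) s479 0 a479_2 := x479_1
theorem n479 : Sound.{u} (cP4r 1 3) s479 0 :=
  (x479_2.fr GamS.nil AllS.nil c479_0 :)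
theorem x480 : AuxS.{u} (cP4r 1 3) s480 0 a480 := aux_base3 tw274 rfl b480
theorem x480_1 : AuxS.{u} (cP4r 1 3) s480 0 a480_1 := x480
theorem x480_2 : AuxS.{u} (cP4r 1 3) s480 0 a480_2 := x480_1
theorem n480 : Sound.{u} (cP4r 1 3) s480 0 :=
  (x480_2.fr GamS.nil AllS.nil c480_0 :)
theorem x481 : AuxS.{u} (cP4r 1 3) s481 0 a481 := aux_base3 tw275 rfl b481
theorem x481_1 : AuxS.{u} (cP4r 1 3) s481 0 a481_1 := x481
theorem x481_2 : AuxS.{u} (cP4r 1 3) s481 0 a481_2 := x481_1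
theorem n481 : Sound.{u} (cP4r 1 3) s481 0 :=
  (x481_2.fr GamS.nil AllS.nil c481_0 :)
theorem x482 : AuxS.{u} (cP4r 1 3) s482 0 a482 := aux_base3 tw276 rfl b482
theorem x482_1 : AuxS.{u} (cP4r 1 3) s482 0 a482_1 := x482
theorem x482_2 : AuxS.{u} (cP4r 1 3) s482 0 a482_2 := x482_1
theorem n482 : Sound.{u} (cP4r 1 3) s482 0 :=
  (x482_2.fr GamS.nil AllS.nil c482_0 :)
theorem x483 : AuxS.{u} (cP4r 1 3) s483 0 a483 := aux_base3 tw277 rfl b483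
theorem n483 : Sound.{u} (cP4r 1 3) s483 0 :=
  (x483.k4 c483_0 :)
theorem x484 : AuxS.{u} (cP4r 1 3) s484 0 a484 := aux_base3 tw278 rfl b484
theorem n484 : Sound.{u} (cP4r 1 3) s484 0 :=
  (x484.k4 c484_0 :)
theorem x485 : AuxS.{u} (cP4r 1 3) s485 0 a485 := aux_base3 tw279 rfl b485
theorem n485 : Sound.{u} (cP4r 1 3) s485 0 :=
  (x485.k4 c485_0 :)
theorem x486 : AuxS.{u} (cP4r 1 3) s486 0 a486 := aux_base3 tw280 rfl b486
theorem n486 : Sound.{u} (cP4r 1 3) s486 0 :=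
  (x486.k4 c486_0 :)
theorem x487 : AuxS.{u} (cP4r 1 3) s487 0 a487 := aux_base3 tw281 rfl b487
theorem x487_1 : AuxS.{u} (cP4r 1 3) s487 0 a487_1 := x487
theorem x487_2 : AuxS.{u} (cP4r 1 3) s487 0 a487_2 := x487_1
theorem n487 : Sound.{u} (cP4r 1 3) s487 0 :=
  (x487_2.fr GamS.nil AllS.nil c487_0 :)
theorem x488 : AuxS.{u} (cP4r 1 3) s488 0 a488 := aux_base3 tw282 rfl b488
theorem x488_1 : AuxS.{u} (cP4r 1 3) s488 0 a488_1 := x488
theorem x488_2 : AuxS.{u} (cP4r 1 3) s488 0 a488_2 := x488_1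
theorem n488 : Sound.{u} (cP4r 1 3) s488 0 :=
  (x488_2.fr GamS.nil AllS.nil c488_0 :)
theorem x489 : AuxS.{u} (cP4r 1 3) s489 0 a489 := aux_base3 tw283 rfl b489
theorem x489_1 : AuxS.{u} (cP4r 1 3) s489 0 a489_1 := x489
theorem x489_2 : AuxS.{u} (cP4r 1 3) s489 0 a489_2 := x489_1
theorem n489 : Sound.{u} (cP4r 1 3) s489 0 :=
  (x489_2.fr GamS.nil AllS.nil c489_0 :)
theorem x490 : AuxS.{u} (cP4r 1 3) s490 0 a490 := aux_base3 tw284 rfl b490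
theorem x490_1 : AuxS.{u} (cP4r 1 3) s490 0 a490_1 := x490
theorem x490_2 : AuxS.{u} (cP4r 1 3) s490 0 a490_2 := x490_1
theorem n490 : Sound.{u} (cP4r 1 3) s490 0 :=
  (x490_2.fr GamS.nil AllS.nil c490_0 :)
theorem x491 : AuxS.{u} (cP4r 1 3) s491 0 a491 := aux_base3 tw285 rfl b491
theorem n491 : Sound.{u} (cP4r 1 3) s491 0 :=
  (x491.k4 c491_0 :)
theorem x492 : AuxS.{u} (cP4r 1 3) s492 0 a492 := aux_base3 tw286 rfl b492
theorem n492 : Sound.{u} (cP4r 1 3) s492 0 :=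
  (x492.k4 c492_0 :)
theorem x493 : AuxS.{u} (cP4r 1 3) s493 0 a493 := aux_base3 tw287 rfl b493
theorem n493 : Sound.{u} (cP4r 1 3) s493 0 :=
  (x493.k4 c493_0 :)
theorem x494 : AuxS.{u} (cP4r 1 3) s494 0 a494 := aux_base3 tw288 rfl b494
theorem n494 : Sound.{u} (cP4r 1 3) s494 0 :=
  (x494.k4 c494_0 :)
theorem x495 : AuxS.{u} (cP4r 1 3) s495 0 a495 := aux_base3 tw289 rfl b495
theorem n495 : Sound.{u} (cP4r 1 3) s495 0 :=
  (x495.k3 c495_0 :)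
theorem x496 : AuxS.{u} (cP4r 1 3) s496 0 a496 := aux_base3 tw290 rfl b496
theorem n496 : Sound.{u} (cP4r 1 3) s496 0 :=
  (x496.k3 c496_0 :)
theorem x478 : AuxS.{u} (cP4r 1 3) s478 0 a478 := aux_base3 tw248 rfl b478
theorem x478_1 : AuxS.{u} (cP4r 1 3) s478 0 a478_1 := (AuxS.up x478 c478_6 :)
theorem x478_2 : AuxS.{u} (cP4r 1 3) s478 0 a478_2 := (AuxS.up2 x478_1 c478_7 :)
theorem x478_3 : AuxS.{u} (cP4r 1 3) s478 0 a478_3 := x478_2
theorem p478_0_1 : Phs s478 a478_3 (List.map Prod.fst g478_0) [s479, s480, s481, s482, s483, s484, s485, s486, s487, s488, s489, s490, s491, s492, s493, s494, s495, s496] ct478_0 v478_0 5 w478_0_1 := (Phs.fin c478_1)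
theorem p478_0_3 : Phs s478 a478_3 (List.map Prod.fst g478_0) [s479, s480, s481, s482, s483, s484, s485, s486, s487, s488, s489, s490, s491, s492, s493, s494, s495, s496] ct478_0 v478_0 4 w478_0_3 := (Phs.stp c478_2 p478_0_1)
theorem p478_0_5 : Phs s478 a478_3 (List.map Prod.fst g478_0) [s479, s480, s481, s482, s483, s484, s485, s486, s487, s488, s489, s490, s491, s492, s493, s494, s495, s496] ct478_0 v478_0 1 w478_0_5 := (Phs.stp c478_3 p478_0_3)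
theorem n478 : Sound.{u} (cP4r 1 3) s478 0 :=
  (x478_3.ext2 (fun h => absurd h (by decide)) (AuxS.gam x478_3 c478_0) (AllS.cons n479 (AllS.cons n480 (AllS.cons n481 (AllS.cons n482 (AllS.cons n483 (AllS.cons n484 (AllS.cons n485 (AllS.cons n486 (AllS.cons n487 (AllS.cons n488 (AllS.cons n489 (AllS.cons n490 (AllS.cons n491 (AllS.cons n492 (AllS.cons n493 (AllS.cons n494 (AllS.cons n495 (AllS.cons n496 AllS.nil)))))))))))))))))) c478_5 (Phs.stp c478_4 p478_0_5) (Phs.fin (ct := ct478_0) rfl) :)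
theorem x476 : AuxS.{u} (cP4r 1 3) s476 0 a476 := aux_base3 tw271 rfl b476
theorem x476_1 : AuxS.{u} (cP4r 1 3) s476 0 a476_1 := x476
theorem x476_2 : AuxS.{u} (cP4r 1 3) s476 0 a476_2 := x476_1
theorem n476 : Sound.{u} (cP4r 1 3) s476 0 :=
  (x476_2.jump c476_0 c476_1 n478 :)
theorem x477 : AuxS.{u} (cP4r 1 3) s477 0 a477 := aux_base3 tw272 rfl b477
theorem x477_1 : AuxS.{u} (cP4r 1 3) s477 0 a477_1 := (AuxS.up x477 c477_1 :)
theorem n477 : Sound.{u} (cP4r 1 3) s477 0 :=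
  (x477_1.k1 c477_0 :)
theorem x452 : AuxS.{u} (cP4r 1 3) s452 0 a452 := aux_base3 tw248 rfl b452
theorem x452_1 : AuxS.{u} (cP4r 1 3) s452 0 a452_1 := x452
theorem x452_2 : AuxS.{u} (cP4r 1 3) s452 0 a452_2 := x452_1
theorem p452_0_1 : Phs s452 a452_2 (List.map Prod.fst g452_0) [s476, s477] ct452_0 v452_0 5 w452_0_1 := (Phs.fin c452_1)
theorem n452 : Sound.{u} (cP4r 1 3) s452 0 :=
  (x452_2.ext2 (fun h => absurd h (by decide)) (AuxS.gam x452_2 c452_0) (AllS.cons n476 (AllS.cons n477 AllS.nil)) c452_3 (Phs.fin (ct := ct452_0) rfl) (Phs.stp c452_2 p452_0_1) :)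
theorem x453 : AuxS.{u} (cP4r 1 3) s453 0 a453 := aux_base3 tw249 rfl b453
theorem x453_1 : AuxS.{u} (cP4r 1 3) s453 0 a453_1 := (AuxS.up x453 c453_1 :)
theorem n453 : Sound.{u} (cP4r 1 3) s453 0 :=
  (x453_1.k1 c453_0 :)
theorem x454 : AuxS.{u} (cP4r 1 3) s454 0 a454 := aux_base3 tw250 rfl b454
theorem x454_1 : AuxS.{u} (cP4r 1 3) s454 0 a454_1 := (AuxS.up x454 c454_1 :)
theorem n454 : Sound.{u} (cP4r 1 3) s454 0 :=
  (x454_1.k1 c454_0 :)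
theorem x18 : AuxS.{u} (cP4r 1 3) s18 0 a18 := aux_base3 tw18 rfl b18
theorem x18_1 : AuxS.{u} (cP4r 1 3) s18 0 a18_1 := (AuxS.up x18 c18_4 :)
theorem p18_0_1 : Phs s18 a18_1 [] [s447, s448, s449, s450, s451, s452, s453, s454] ct18_0 v18_0 4 w18_0_1 := (Phs.fin c18_0)
theorem p18_0_3 : Phs s18 a18_1 [] [s447, s448, s449, s450, s451, s452, s453, s454] ct18_0 v18_0 1 w18_0_3 := (Phs.stp c18_1 p18_0_1)
theorem n18 : Sound.{u} (cP4r 1 3) s18 0 :=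
  (x18_1.ext2 (fun h => absurd h (by decide)) GamS.nil (AllS.cons n447 (AllS.cons n448 (AllS.cons n449 (AllS.cons n450 (AllS.cons n451 (AllS.cons n452 (AllS.cons n453 (AllS.cons n454 AllS.nil)))))))) c18_3 (Phs.stp c18_2 p18_0_3) (Phs.fin (ct := ct18_0) rfl) :)
theorem x19 : AuxS.{u} (cP4r 1 3) s19 0 a19 := aux_base3 tw19 rfl b19
theorem n19 : Sound.{u} (cP4r 1 3) s19 0 :=
  (x19.k3 c19_0 :)
theorem x20 : AuxS.{u} (cP4r 1 3) s20 0 a20 := aux_base3 tw20 rfl b20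
theorem n20 : Sound.{u} (cP4r 1 3) s20 0 :=
  (x20.k3 c20_0 :)
theorem x497 : AuxS.{u} (cP4r 1 3) s497 0 a497 := aux_base3 tw291 rfl b497
theorem x497_1 : AuxS.{u} (cP4r 1 3) s497 0 a497_1 := (AuxS.up x497 c497_1 :)
theorem x497_2p : AuxS.{u} (cP4r 1 3) s497 0 a497_2p := (AuxS.up x497_1 c497_2 :)
theorem x497_2 : AuxS.{u} (cP4r 1 3) s497 0 a497_2 := (AuxS.up2 x497_2p c497_3 :)
theorem n497 : Sound.{u} (cP4r 1 3) s497 0 :=
  (x497_2.k7 c497_0 :)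
theorem x498 : AuxS.{u} (cP4r 1 3) s498 0 a498 := aux_base3 tw292 rfl b498
theorem x498_1 : AuxS.{u} (cP4r 1 3) s498 0 a498_1 := (AuxS.up x498 c498_1 :)
theorem n498 : Sound.{u} (cP4r 1 3) s498 0 :=
  (x498_1.k1 c498_0 :)
theorem x499 : AuxS.{u} (cP4r 1 3) s499 0 a499 := aux_base3 tw293 rfl b499
theorem x499_1 : AuxS.{u} (cP4r 1 3) s499 0 a499_1 := (AuxS.up x499 c499_1 :)
theorem n499 : Sound.{u} (cP4r 1 3) s499 0 :=
  (x499_1.k1 c499_0 :)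
theorem x507 : AuxS.{u} (cP4r 1 3) s507 0 a507 := aux_base3 tw299 rfl b507
theorem x507_1 : AuxS.{u} (cP4r 1 3) s507 0 a507_1 := (AuxS.up x507 c507_1 :)
theorem n507 : Sound.{u} (cP4r 1 3) s507 0 :=
  (x507_1.k1 c507_0 :)
theorem x508 : AuxS.{u} (cP4r 1 3) s508 0 a508 := aux_base3 tw299 rfl b508
theorem x508_1 : AuxS.{u} (cP4r 1 3) s508 0 a508_1 := (AuxS.up x508 c508_1 :)
theorem n508 : Sound.{u} (cP4r 1 3) s508 0 :=
  (x508_1.k1 c508_0 :)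
theorem x509 : AuxS.{u} (cP4r 1 3) s509 0 a509 := aux_base3 tw299 rfl b509
theorem x509_1 : AuxS.{u} (cP4r 1 3) s509 0 a509_1 := (AuxS.up x509 c509_1 :)
theorem n509 : Sound.{u} (cP4r 1 3) s509 0 :=
  (x509_1.k1 c509_0 :)
theorem x510 : AuxS.{u} (cP4r 1 3) s510 0 a510 := aux_base3 tw299 rfl b510
theorem x510_1 : AuxS.{u} (cP4r 1 3) s510 0 a510_1 := (AuxS.up x510 c510_1 :)
theorem n510 : Sound.{u} (cP4r 1 3) s510 0 :=
  (x510_1.k1 c510_0 :)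
theorem x505 : AuxS.{u} (cP4r 1 3) s505 0 a505 := aux_base3 tw299 rfl b505
theorem x505_1 : AuxS.{u} (cP4r 1 3) s505 0 a505_1 := x505
theorem x505_2 : AuxS.{u} (cP4r 1 3) s505 0 a505_2 := x505_1
theorem x505_3 : AuxS.{u} (cP4r 1 3) s505 0 a505_3 := x505_2
theorem n505 : Sound.{u} (cP4r 1 3) s505 0 :=
  (x505_3.rho (AllS.cons n507 (AllS.cons n508 (AllS.cons n509 (AllS.cons n510 AllS.nil)))) c505_0 :)
theorem x506 : AuxS.{u} (cP4r 1 3) s506 0 a506 := aux_base3 tw300 rfl b506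
theorem x506_1 : AuxS.{u} (cP4r 1 3) s506 0 a506_1 := (AuxS.up x506 c506_1 :)
theorem n506 : Sound.{u} (cP4r 1 3) s506 0 :=
  (x506_1.k1 c506_0 :)
theorem x500 : AuxS.{u} (cP4r 1 3) s500 0 a500 := aux_base3 tw294 rfl b500
theorem x500_1 : AuxS.{u} (cP4r 1 3) s500 0 a500_1 := x500
theorem x500_2 : AuxS.{u} (cP4r 1 3) s500 0 a500_2 := x500_1
theorem x500_3 : AuxS.{u} (cP4r 1 3) s500 0 a500_3 := x500_2
theorem x500_4 : AuxS.{u} (cP4r 1 3) s500 0 a500_4 := x500_3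
theorem p500_0_1 : Phs s500 a500_4 (List.map Prod.fst g500_0) [s505, s506] ct500_0 v500_0 5 w500_0_1 := (Phs.fin c500_1)
theorem n500 : Sound.{u} (cP4r 1 3) s500 0 :=
  (x500_4.ext2 (fun h => absurd h (by decide)) (AuxS.gam x500_4 c500_0) (AllS.cons n505 (AllS.cons n506 AllS.nil)) c500_3 (Phs.fin (ct := ct500_0) rfl) (Phs.stp c500_2 p500_0_1) :)
theorem x501 : AuxS.{u} (cP4r 1 3) s501 0 a501 := aux_base3 tw295 rfl b501
theorem x501_1 : AuxS.{u} (cP4r 1 3) s501 0 a501_1 := (AuxS.up x501 c501_1 :)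
theorem n501 : Sound.{u} (cP4r 1 3) s501 0 :=
  (x501_1.k1 c501_0 :)
theorem x502 : AuxS.{u} (cP4r 1 3) s502 0 a502 := aux_base3 tw296 rfl b502
theorem x502_1 : AuxS.{u} (cP4r 1 3) s502 0 a502_1 := (AuxS.up x502 c502_1 :)
theorem x502_2p : AuxS.{u} (cP4r 1 3) s502 0 a502_2p := (AuxS.up x502_1 c502_2 :)
theorem x502_2 : AuxS.{u} (cP4r 1 3) s502 0 a502_2 := (AuxS.up2 x502_2p c502_3 :)
theorem n502 : Sound.{u} (cP4r 1 3) s502 0 :=
  (x502_2.k7 c502_0 :)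
theorem x521 : AuxS.{u} (cP4r 1 3) s521 0 a521 := aux_base3 tw308 rfl b521
theorem x521_1 : AuxS.{u} (cP4r 1 3) s521 0 a521_1 := x521
theorem x521_2 : AuxS.{u} (cP4r 1 3) s521 0 a521_2 := x521_1
theorem n521 : Sound.{u} (cP4r 1 3) s521 0 :=
  (x521_2.jump c521_0 c521_1 n245 :)
theorem x522 : AuxS.{u} (cP4r 1 3) s522 0 a522 := aux_base3 tw308 rfl b522
theorem x522_1 : AuxS.{u} (cP4r 1 3) s522 0 a522_1 := x522
theorem x522_2 : AuxS.{u} (cP4r 1 3) s522 0 a522_2 := x522_1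
theorem n522 : Sound.{u} (cP4r 1 3) s522 0 :=
  (x522_2.jump c522_0 c522_1 n245 :)
theorem x523 : AuxS.{u} (cP4r 1 3) s523 0 a523 := aux_base3 tw308 rfl b523
theorem x523_1 : AuxS.{u} (cP4r 1 3) s523 0 a523_1 := x523
theorem x523_2 : AuxS.{u} (cP4r 1 3) s523 0 a523_2 := x523_1
theorem n523 : Sound.{u} (cP4r 1 3) s523 0 :=
  (x523_2.jump c523_0 c523_1 n245 :)
theorem x524 : AuxS.{u} (cP4r 1 3) s524 0 a524 := aux_base3 tw308 rfl b524
theorem x524_1 : AuxS.{u} (cP4r 1 3) s524 0 a524_1 := x524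
theorem x524_2 : AuxS.{u} (cP4r 1 3) s524 0 a524_2 := x524_1
theorem n524 : Sound.{u} (cP4r 1 3) s524 0 :=
  (x524_2.jump c524_0 c524_1 n245 :)
theorem x520 : AuxS.{u} (cP4r 1 3) s520 0 a520 := aux_base3 tw308 rfl b520
theorem x520_1 : AuxS.{u} (cP4r 1 3) s520 0 a520_1 := x520
theorem x520_2 : AuxS.{u} (cP4r 1 3) s520 0 a520_2 := x520_1
theorem n520 : Sound.{u} (cP4r 1 3) s520 0 :=
  (x520_2.rho (AllS.cons n521 (AllS.cons n522 (AllS.cons n523 (AllS.cons n524 AllS.nil)))) c520_0 :)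
theorem x518 : AuxS.{u} (cP4r 1 3) s518 0 a518 := aux_base3 tw305 rfl b518
theorem x518_1 : AuxS.{u} (cP4r 1 3) s518 0 a518_1 := x518
theorem x518_2 : AuxS.{u} (cP4r 1 3) s518 0 a518_2 := x518_1
theorem n518 : Sound.{u} (cP4r 1 3) s518 0 :=
  (x518_2.jump2 c518_0 c518_1 n520 :)
theorem x519 : AuxS.{u} (cP4r 1 3) s519 0 a519 := aux_base3 tw306 rfl b519
theorem x519_1 : AuxS.{u} (cP4r 1 3) s519 0 a519_1 := (AuxS.up x519 c519_1 :)
theorem x519_2 : AuxS.{u} (cP4r 1 3) s519 0 a519_2 := x519_1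
theorem x519_3 : AuxS.{u} (cP4r 1 3) s519 0 a519_3 := (AuxS.up2 x519_2 c519_2 :)
theorem n519 : Sound.{u} (cP4r 1 3) s519 0 :=
  (x519_3.k7 c519_0 :)
theorem x516 : AuxS.{u} (cP4r 1 3) s516 0 a516 := aux_base3 tw303 rfl b516
theorem x516_1 : AuxS.{u} (cP4r 1 3) s516 0 a516_1 := x516
theorem x516_2 : AuxS.{u} (cP4r 1 3) s516 0 a516_2 := x516_1
theorem x516_3 : AuxS.{u} (cP4r 1 3) s516 0 a516_3 := x516_2
theorem x516_4 : AuxS.{u} (cP4r 1 3) s516 0 a516_4 := x516_3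
theorem n516 : Sound.{u} (cP4r 1 3) s516 0 :=
  (x516_4.fr2 GamS.nil (AllS.cons n518 (AllS.cons n519 AllS.nil)) c516_0 :)
theorem x517 : AuxS.{u} (cP4r 1 3) s517 0 a517 := aux_base3 tw303 rfl b517
theorem n517 : Sound.{u} (cP4r 1 3) s517 0 :=
  (x517.k4 c517_0 :)
theorem x514 : AuxS.{u} (cP4r 1 3) s514 0 a514 := aux_base3 tw303 rfl b514
theorem x514_1 : AuxS.{u} (cP4r 1 3) s514 0 a514_1 := x514
theorem x514_2 : AuxS.{u} (cP4r 1 3) s514 0 a514_2 := x514_1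
theorem n514 : Sound.{u} (cP4r 1 3) s514 0 :=
  (x514_2.fr GamS.nil (AllS.cons n516 (AllS.cons n517 AllS.nil)) c514_0 :)
theorem x525 : AuxS.{u} (cP4r 1 3) s525 0 a525 := aux_base3 tw304 rfl b525
theorem n525 : Sound.{u} (cP4r 1 3) s525 0 :=
  (x525.k4 c525_0 :)
theorem x530 : AuxS.{u} (cP4r 1 3) s530 0 a530 := aux_base3 tw312 rfl b530
theorem x530_1 : AuxS.{u} (cP4r 1 3) s530 0 a530_1 := x530
theorem x530_2 : AuxS.{u} (cP4r 1 3) s530 0 a530_2 := x530_1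
theorem n530 : Sound.{u} (cP4r 1 3) s530 0 :=
  (x530_2.jump c530_0 c530_1 n266 :)
theorem x531 : AuxS.{u} (cP4r 1 3) s531 0 a531 := aux_base3 tw312 rfl b531
theorem x531_1 : AuxS.{u} (cP4r 1 3) s531 0 a531_1 := x531
theorem x531_2 : AuxS.{u} (cP4r 1 3) s531 0 a531_2 := x531_1
theorem n531 : Sound.{u} (cP4r 1 3) s531 0 :=
  (x531_2.jump c531_0 c531_1 n266 :)
theorem x532 : AuxS.{u} (cP4r 1 3) s532 0 a532 := aux_base3 tw312 rfl b532
theorem x532_1 : AuxS.{u} (cP4r 1 3) s532 0 a532_1 := x532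
theorem x532_2 : AuxS.{u} (cP4r 1 3) s532 0 a532_2 := x532_1
theorem n532 : Sound.{u} (cP4r 1 3) s532 0 :=
  (x532_2.jump c532_0 c532_1 n266 :)
theorem x533 : AuxS.{u} (cP4r 1 3) s533 0 a533 := aux_base3 tw312 rfl b533
theorem x533_1 : AuxS.{u} (cP4r 1 3) s533 0 a533_1 := x533
theorem x533_2 : AuxS.{u} (cP4r 1 3) s533 0 a533_2 := x533_1
theorem n533 : Sound.{u} (cP4r 1 3) s533 0 :=
  (x533_2.jump c533_0 c533_1 n266 :)
theorem x529 : AuxS.{u} (cP4r 1 3) s529 0 a529 := aux_base3 tw312 rfl b529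
theorem x529_1 : AuxS.{u} (cP4r 1 3) s529 0 a529_1 := x529
theorem x529_2 : AuxS.{u} (cP4r 1 3) s529 0 a529_2 := x529_1
theorem n529 : Sound.{u} (cP4r 1 3) s529 0 :=
  (x529_2.rho (AllS.cons n530 (AllS.cons n531 (AllS.cons n532 (AllS.cons n533 AllS.nil)))) c529_0 :)
theorem x527 : AuxS.{u} (cP4r 1 3) s527 0 a527 := aux_base3 tw309 rfl b527
theorem x527_1 : AuxS.{u} (cP4r 1 3) s527 0 a527_1 := x527
theorem x527_2 : AuxS.{u} (cP4r 1 3) s527 0 a527_2 := x527_1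
theorem n527 : Sound.{u} (cP4r 1 3) s527 0 :=
  (x527_2.jump2 c527_0 c527_1 n529 :)
theorem x535 : AuxS.{u} (cP4r 1 3) s535 0 a535 := aux_base3 tw314 rfl b535
theorem x535_1 : AuxS.{u} (cP4r 1 3) s535 0 a535_1 := x535
theorem x535_2 : AuxS.{u} (cP4r 1 3) s535 0 a535_2 := x535_1
theorem n535 : Sound.{u} (cP4r 1 3) s535 0 :=
  (x535_2.jump c535_0 c535_1 n283 :)
theorem x536 : AuxS.{u} (cP4r 1 3) s536 0 a536 := aux_base3 tw314 rfl b536
theorem x536_1 : AuxS.{u} (cP4r 1 3) s536 0 a536_1 := x536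
theorem x536_2 : AuxS.{u} (cP4r 1 3) s536 0 a536_2 := x536_1
theorem n536 : Sound.{u} (cP4r 1 3) s536 0 :=
  (x536_2.jump c536_0 c536_1 n283 :)
theorem x537 : AuxS.{u} (cP4r 1 3) s537 0 a537 := aux_base3 tw314 rfl b537
theorem x537_1 : AuxS.{u} (cP4r 1 3) s537 0 a537_1 := x537
theorem x537_2 : AuxS.{u} (cP4r 1 3) s537 0 a537_2 := x537_1
theorem n537 : Sound.{u} (cP4r 1 3) s537 0 :=
  (x537_2.jump c537_0 c537_1 n283 :)
theorem x538 : AuxS.{u} (cP4r 1 3) s538 0 a538 := aux_base3 tw314 rfl b538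
theorem x538_1 : AuxS.{u} (cP4r 1 3) s538 0 a538_1 := x538
theorem x538_2 : AuxS.{u} (cP4r 1 3) s538 0 a538_2 := x538_1
theorem n538 : Sound.{u} (cP4r 1 3) s538 0 :=
  (x538_2.jump c538_0 c538_1 n283 :)
theorem x534 : AuxS.{u} (cP4r 1 3) s534 0 a534 := aux_base3 tw314 rfl b534
theorem x534_1 : AuxS.{u} (cP4r 1 3) s534 0 a534_1 := x534
theorem x534_2 : AuxS.{u} (cP4r 1 3) s534 0 a534_2 := x534_1
theorem n534 : Sound.{u} (cP4r 1 3) s534 0 :=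
  (x534_2.rho (AllS.cons n535 (AllS.cons n536 (AllS.cons n537 (AllS.cons n538 AllS.nil)))) c534_0 :)
theorem x528 : AuxS.{u} (cP4r 1 3) s528 0 a528 := aux_base3 tw310 rfl b528
theorem x528_1 : AuxS.{u} (cP4r 1 3) s528 0 a528_1 := x528
theorem x528_2 : AuxS.{u} (cP4r 1 3) s528 0 a528_2 := x528_1
theorem n528 : Sound.{u} (cP4r 1 3) s528 0 :=
  (x528_2.jump2 c528_0 c528_1 n534 :)
theorem x526 : AuxS.{u} (cP4r 1 3) s526 0 a526 := aux_base3 tw304 rfl b526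
theorem x526_1 : AuxS.{u} (cP4r 1 3) s526 0 a526_1 := x526
theorem x526_2 : AuxS.{u} (cP4r 1 3) s526 0 a526_2 := x526_1
theorem x526_3 : AuxS.{u} (cP4r 1 3) s526 0 a526_3 := x526_2
theorem x526_4 : AuxS.{u} (cP4r 1 3) s526 0 a526_4 := x526_3
theorem n526 : Sound.{u} (cP4r 1 3) s526 0 :=
  (x526_4.fr2 GamS.nil (AllS.cons n527 (AllS.cons n528 AllS.nil)) c526_0 :)
theorem x515 : AuxS.{u} (cP4r 1 3) s515 0 a515 := aux_base3 tw304 rfl b515
theorem x515_1 : AuxS.{u} (cP4r 1 3) s515 0 a515_1 := x515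
theorem x515_2 : AuxS.{u} (cP4r 1 3) s515 0 a515_2 := x515_1
theorem n515 : Sound.{u} (cP4r 1 3) s515 0 :=
  (x515_2.fr GamS.nil (AllS.cons n525 (AllS.cons n526 AllS.nil)) c515_0 :)
theorem x513 : AuxS.{u} (cP4r 1 3) s513 0 a513 := aux_base3 tw297 rfl b513
theorem x513_1 : AuxS.{u} (cP4r 1 3) s513 0 a513_1 := (AuxS.up x513 c513_6 :)
theorem x513_2 : AuxS.{u} (cP4r 1 3) s513 0 a513_2 := x513_1
theorem p513_0_1 : Phs s513 a513_2 (List.map Prod.fst g513_0) [s514, s515] ct513_0 v513_0 5 w513_0_1 := (Phs.fin c513_1)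
theorem p513_0_3 : Phs s513 a513_2 (List.map Prod.fst g513_0) [s514, s515] ct513_0 v513_0 4 w513_0_3 := (Phs.stp c513_2 p513_0_1)
theorem p513_0_5 : Phs s513 a513_2 (List.map Prod.fst g513_0) [s514, s515] ct513_0 v513_0 1 w513_0_5 := (Phs.stp c513_3 p513_0_3)
theorem n513 : Sound.{u} (cP4r 1 3) s513 0 :=
  (x513_2.ext2 (fun h => absurd h (by decide)) (AuxS.gam x513_2 c513_0) (AllS.cons n514 (AllS.cons n515 AllS.nil)) c513_5 (Phs.stp c513_4 p513_0_5) (Phs.fin (ct := ct513_0) rfl) :)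
theorem x511 : AuxS.{u} (cP4r 1 3) s511 0 a511 := aux_base3 tw301 rfl b511
theorem x511_1 : AuxS.{u} (cP4r 1 3) s511 0 a511_1 := x511
theorem x511_2 : AuxS.{u} (cP4r 1 3) s511 0 a511_2 := x511_1
theorem n511 : Sound.{u} (cP4r 1 3) s511 0 :=
  (x511_2.jump c511_0 c511_1 n513 :)
theorem x512 : AuxS.{u} (cP4r 1 3) s512 0 a512 := aux_base3 tw302 rfl b512
theorem x512_1 : AuxS.{u} (cP4r 1 3) s512 0 a512_1 := (AuxS.up x512 c512_1 :)
theorem n512 : Sound.{u} (cP4r 1 3) s512 0 :=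
  (x512_1.k1 c512_0 :)
theorem x503 : AuxS.{u} (cP4r 1 3) s503 0 a503 := aux_base3 tw297 rfl b503
theorem x503_1 : AuxS.{u} (cP4r 1 3) s503 0 a503_1 := x503
theorem x503_2 : AuxS.{u} (cP4r 1 3) s503 0 a503_2 := x503_1
theorem p503_0_1 : Phs s503 a503_2 (List.map Prod.fst g503_0) [s511, s512] ct503_0 v503_0 5 w503_0_1 := (Phs.fin c503_1)
theorem n503 : Sound.{u} (cP4r 1 3) s503 0 :=
  (x503_2.ext2 (fun h => absurd h (by decide)) (AuxS.gam x503_2 c503_0) (AllS.cons n511 (AllS.cons n512 AllS.nil)) c503_3 (Phs.fin (ct := ct503_0) rfl) (Phs.stp c503_2 p503_0_1) :)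
theorem x504 : AuxS.{u} (cP4r 1 3) s504 0 a504 := aux_base3 tw298 rfl b504
theorem x504_1 : AuxS.{u} (cP4r 1 3) s504 0 a504_1 := (AuxS.up x504 c504_1 :)
theorem n504 : Sound.{u} (cP4r 1 3) s504 0 :=
  (x504_1.k1 c504_0 :)
theorem x21 : AuxS.{u} (cP4r 1 3) s21 0 a21 := aux_base3 tw21 rfl b21
theorem x21_1 : AuxS.{u} (cP4r 1 3) s21 0 a21_1 := (AuxS.up x21 c21_4 :)
theorem p21_0_1 : Phs s21 a21_1 [] [s497, s498, s499, s500, s501, s502, s503, s504] ct21_0 v21_0 4 w21_0_1 := (Phs.fin c21_0)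
theorem p21_0_3 : Phs s21 a21_1 [] [s497, s498, s499, s500, s501, s502, s503, s504] ct21_0 v21_0 1 w21_0_3 := (Phs.stp c21_1 p21_0_1)
theorem n21 : Sound.{u} (cP4r 1 3) s21 0 :=
  (x21_1.ext2 (fun h => absurd h (by decide)) GamS.nil (AllS.cons n497 (AllS.cons n498 (AllS.cons n499 (AllS.cons n500 (AllS.cons n501 (AllS.cons n502 (AllS.cons n503 (AllS.cons n504 AllS.nil)))))))) c21_3 (Phs.stp c21_2 p21_0_3) (Phs.fin (ct := ct21_0) rfl) :)
theorem x22 : AuxS.{u} (cP4r 1 3) s22 0 a22 := aux_base3 tw22 rfl b22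
theorem x22_1 : AuxS.{u} (cP4r 1 3) s22 0 a22_1 := (AuxS.up x22 c22_1 :)
theorem n22 : Sound.{u} (cP4r 1 3) s22 0 :=
  (x22_1.k1 c22_0 :)
theorem x23 : AuxS.{u} (cP4r 1 3) s23 0 a23 := aux_base3 tw23 rfl b23
theorem n23 : Sound.{u} (cP4r 1 3) s23 0 :=
  (x23.k3 c23_0 :)
theorem x24 : AuxS.{u} (cP4r 1 3) s24 0 a24 := aux_base3 tw24 rfl b24
theorem n24 : Sound.{u} (cP4r 1 3) s24 0 :=
  (x24.k3 c24_0 :)
theorem x617 : AuxS.{u} (cP4r 1 3) s617 0 a617 := aux_base3 tw359 rfl b617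
theorem x617_1 : AuxS.{u} (cP4r 1 3) s617 0 a617_1 := (AuxS.up x617 c617_1 :)
theorem x617_2 : AuxS.{u} (cP4r 1 3) s617 0 a617_2 := x617_1
theorem n617 : Sound.{u} (cP4r 1 3) s617 0 :=
  (x617_2.k7 c617_0 :)
theorem x618 : AuxS.{u} (cP4r 1 3) s618 0 a618 := aux_base3 tw359 rfl b618
theorem x618_1 : AuxS.{u} (cP4r 1 3) s618 0 a618_1 := (AuxS.up x618 c618_1 :)
theorem x618_2 : AuxS.{u} (cP4r 1 3) s618 0 a618_2 := x618_1
theorem n618 : Sound.{u} (cP4r 1 3) s618 0 :=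
  (x618_2.k7 c618_0 :)
theorem x619 : AuxS.{u} (cP4r 1 3) s619 0 a619 := aux_base3 tw359 rfl b619
theorem x619_1 : AuxS.{u} (cP4r 1 3) s619 0 a619_1 := (AuxS.up x619 c619_1 :)
theorem x619_2 : AuxS.{u} (cP4r 1 3) s619 0 a619_2 := x619_1
theorem n619 : Sound.{u} (cP4r 1 3) s619 0 :=
  (x619_2.k7 c619_0 :)
theorem x620 : AuxS.{u} (cP4r 1 3) s620 0 a620 := aux_base3 tw359 rfl b620
theorem x620_1 : AuxS.{u} (cP4r 1 3) s620 0 a620_1 := (AuxS.up x620 c620_1 :)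
theorem x620_2 : AuxS.{u} (cP4r 1 3) s620 0 a620_2 := x620_1
theorem n620 : Sound.{u} (cP4r 1 3) s620 0 :=
  (x620_2.k7 c620_0 :)
theorem x616 : AuxS.{u} (cP4r 1 3) s616 0 a616 := aux_base3 tw359 rfl b616
theorem x616_1 : AuxS.{u} (cP4r 1 3) s616 0 a616_1 := x616
theorem x616_2 : AuxS.{u} (cP4r 1 3) s616 0 a616_2 := x616_1
theorem x616_3 : AuxS.{u} (cP4r 1 3) s616 0 a616_3 := x616_2
theorem x616_4 : AuxS.{u} (cP4r 1 3) s616 0 a616_4 := x616_3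
theorem n616 : Sound.{u} (cP4r 1 3) s616 0 :=
  (x616_4.rho (AllS.cons n617 (AllS.cons n618 (AllS.cons n619 (AllS.cons n620 AllS.nil)))) c616_0 :)
theorem x600 : AuxS.{u} (cP4r 1 3) s600 0 a600 := aux_base3 tw343 rfl b600
theorem x600_1 : AuxS.{u} (cP4r 1 3) s600 0 a600_1 := x600
theorem x600_2 : AuxS.{u} (cP4r 1 3) s600 0 a600_2 := x600_1
theorem x600_3 : AuxS.{u} (cP4r 1 3) s600 0 a600_3 := x600_2
theorem n600 : Sound.{u} (cP4r 1 3) s600 0 :=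
  (x600_3.fr2 (AuxS.gam x600_3 c600_0) (AllS.cons n616 AllS.nil) c600_1 :)
theorem x601 : AuxS.{u} (cP4r 1 3) s601 0 a601 := aux_base3 tw344 rfl b601
theorem x601_1 : AuxS.{u} (cP4r 1 3) s601 0 a601_1 := x601
theorem x601_2 : AuxS.{u} (cP4r 1 3) s601 0 a601_2 := x601_1
theorem n601 : Sound.{u} (cP4r 1 3) s601 0 :=
  (x601_2.fr2 GamS.nil AllS.nil c601_0 :)
theorem x602 : AuxS.{u} (cP4r 1 3) s602 0 a602 := aux_base3 tw345 rfl b602
theorem x602_1 : AuxS.{u} (cP4r 1 3) s602 0 a602_1 := x602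
theorem x602_2 : AuxS.{u} (cP4r 1 3) s602 0 a602_2 := x602_1
theorem n602 : Sound.{u} (cP4r 1 3) s602 0 :=
  (x602_2.fr2 GamS.nil AllS.nil c602_0 :)
theorem x603 : AuxS.{u} (cP4r 1 3) s603 0 a603 := aux_base3 tw346 rfl b603
theorem x603_1 : AuxS.{u} (cP4r 1 3) s603 0 a603_1 := x603
theorem x603_2 : AuxS.{u} (cP4r 1 3) s603 0 a603_2 := x603_1
theorem n603 : Sound.{u} (cP4r 1 3) s603 0 :=
  (x603_2.fr2 GamS.nil AllS.nil c603_0 :)
theorem x604 : AuxS.{u} (cP4r 1 3) s604 0 a604 := aux_base3 tw347 rfl b604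
theorem x604_1 : AuxS.{u} (cP4r 1 3) s604 0 a604_1 := x604
theorem x604_2 : AuxS.{u} (cP4r 1 3) s604 0 a604_2 := x604_1
theorem x604_3 : AuxS.{u} (cP4r 1 3) s604 0 a604_3 := x604_2
theorem n604 : Sound.{u} (cP4r 1 3) s604 0 :=
  (x604_3.fr2 GamS.nil AllS.nil c604_0 :)
theorem x622 : AuxS.{u} (cP4r 1 3) s622 0 a622 := aux_base3 tw360 rfl b622
theorem x622_1 : AuxS.{u} (cP4r 1 3) s622 0 a622_1 := (AuxS.up x622 c622_1 :)
theorem x622_2 : AuxS.{u} (cP4r 1 3) s622 0 a622_2 := x622_1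
theorem n622 : Sound.{u} (cP4r 1 3) s622 0 :=
  (x622_2.k7 c622_0 :)
theorem x623 : AuxS.{u} (cP4r 1 3) s623 0 a623 := aux_base3 tw360 rfl b623
theorem x623_1 : AuxS.{u} (cP4r 1 3) s623 0 a623_1 := (AuxS.up x623 c623_1 :)
theorem x623_2 : AuxS.{u} (cP4r 1 3) s623 0 a623_2 := x623_1
theorem n623 : Sound.{u} (cP4r 1 3) s623 0 :=
  (x623_2.k7 c623_0 :)
theorem x624 : AuxS.{u} (cP4r 1 3) s624 0 a624 := aux_base3 tw360 rfl b624
theorem x624_1 : AuxS.{u} (cP4r 1 3) s624 0 a624_1 := (AuxS.up x624 c624_1 :)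
theorem x624_2 : AuxS.{u} (cP4r 1 3) s624 0 a624_2 := x624_1
theorem n624 : Sound.{u} (cP4r 1 3) s624 0 :=
  (x624_2.k7 c624_0 :)
theorem x625 : AuxS.{u} (cP4r 1 3) s625 0 a625 := aux_base3 tw360 rfl b625
theorem x625_1 : AuxS.{u} (cP4r 1 3) s625 0 a625_1 := (AuxS.up x625 c625_1 :)
theorem x625_2 : AuxS.{u} (cP4r 1 3) s625 0 a625_2 := x625_1
theorem n625 : Sound.{u} (cP4r 1 3) s625 0 :=
  (x625_2.k7 c625_0 :)
theorem x621 : AuxS.{u} (cP4r 1 3) s621 0 a621 := aux_base3 tw360 rfl b621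
theorem x621_1 : AuxS.{u} (cP4r 1 3) s621 0 a621_1 := x621
theorem x621_2 : AuxS.{u} (cP4r 1 3) s621 0 a621_2 := x621_1
theorem x621_3 : AuxS.{u} (cP4r 1 3) s621 0 a621_3 := x621_2
theorem n621 : Sound.{u} (cP4r 1 3) s621 0 :=
  (x621_3.rho (AllS.cons n622 (AllS.cons n623 (AllS.cons n624 (AllS.cons n625 AllS.nil)))) c621_0 :)
theorem x605 : AuxS.{u} (cP4r 1 3) s605 0 a605 := aux_base3 tw348 rfl b605
theorem x605_1 : AuxS.{u} (cP4r 1 3) s605 0 a605_1 := x605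
theorem x605_2 : AuxS.{u} (cP4r 1 3) s605 0 a605_2 := x605_1
theorem x605_3 : AuxS.{u} (cP4r 1 3) s605 0 a605_3 := x605_2
theorem n605 : Sound.{u} (cP4r 1 3) s605 0 :=
  (x605_3.fr2 (AuxS.gam x605_3 c605_0) (AllS.cons n621 AllS.nil) c605_1 :)
theorem x606 : AuxS.{u} (cP4r 1 3) s606 0 a606 := aux_base3 tw349 rfl b606
theorem x606_1 : AuxS.{u} (cP4r 1 3) s606 0 a606_1 := x606
theorem x606_2 : AuxS.{u} (cP4r 1 3) s606 0 a606_2 := x606_1
theorem n606 : Sound.{u} (cP4r 1 3) s606 0 :=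
  (x606_2.fr2 GamS.nil AllS.nil c606_0 :)
theorem x607 : AuxS.{u} (cP4r 1 3) s607 0 a607 := aux_base3 tw350 rfl b607
theorem x607_1 : AuxS.{u} (cP4r 1 3) s607 0 a607_1 := x607
theorem x607_2 : AuxS.{u} (cP4r 1 3) s607 0 a607_2 := x607_1
theorem n607 : Sound.{u} (cP4r 1 3) s607 0 :=
  (x607_2.fr2 GamS.nil AllS.nil c607_0 :)
theorem x608 : AuxS.{u} (cP4r 1 3) s608 0 a608 := aux_base3 tw351 rfl b608
theorem x608_1 : AuxS.{u} (cP4r 1 3) s608 0 a608_1 := x608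
theorem x608_2 : AuxS.{u} (cP4r 1 3) s608 0 a608_2 := x608_1
theorem x608_3 : AuxS.{u} (cP4r 1 3) s608 0 a608_3 := x608_2
theorem n608 : Sound.{u} (cP4r 1 3) s608 0 :=
  (x608_3.fr2 GamS.nil AllS.nil c608_0 :)
theorem x609 : AuxS.{u} (cP4r 1 3) s609 0 a609 := aux_base3 tw352 rfl b609
theorem x609_1 : AuxS.{u} (cP4r 1 3) s609 0 a609_1 := x609
theorem x609_2 : AuxS.{u} (cP4r 1 3) s609 0 a609_2 := x609_1
theorem n609 : Sound.{u} (cP4r 1 3) s609 0 :=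
  (x609_2.fr2 GamS.nil AllS.nil c609_0 :)
theorem x610 : AuxS.{u} (cP4r 1 3) s610 0 a610 := aux_base3 tw353 rfl b610
theorem x610_1 : AuxS.{u} (cP4r 1 3) s610 0 a610_1 := x610
theorem x610_2 : AuxS.{u} (cP4r 1 3) s610 0 a610_2 := x610_1
theorem x610_3 : AuxS.{u} (cP4r 1 3) s610 0 a610_3 := x610_2
theorem n610 : Sound.{u} (cP4r 1 3) s610 0 :=
  (x610_3.fr2 GamS.nil AllS.nil c610_0 :)
theorem x611 : AuxS.{u} (cP4r 1 3) s611 0 a611 := aux_base3 tw354 rfl b611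
theorem x611_1 : AuxS.{u} (cP4r 1 3) s611 0 a611_1 := x611
theorem x611_2 : AuxS.{u} (cP4r 1 3) s611 0 a611_2 := x611_1
theorem n611 : Sound.{u} (cP4r 1 3) s611 0 :=
  (x611_2.fr2 GamS.nil AllS.nil c611_0 :)
theorem x612 : AuxS.{u} (cP4r 1 3) s612 0 a612 := aux_base3 tw355 rfl b612
theorem x612_1 : AuxS.{u} (cP4r 1 3) s612 0 a612_1 := x612
theorem x612_2 : AuxS.{u} (cP4r 1 3) s612 0 a612_2 := x612_1
theorem x612_3 : AuxS.{u} (cP4r 1 3) s612 0 a612_3 := x612_2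
theorem n612 : Sound.{u} (cP4r 1 3) s612 0 :=
  (x612_3.fr2 GamS.nil AllS.nil c612_0 :)
theorem x613 : AuxS.{u} (cP4r 1 3) s613 0 a613 := aux_base3 tw356 rfl b613
theorem x613_1 : AuxS.{u} (cP4r 1 3) s613 0 a613_1 := x613
theorem x613_2 : AuxS.{u} (cP4r 1 3) s613 0 a613_2 := x613_1
theorem n613 : Sound.{u} (cP4r 1 3) s613 0 :=
  (x613_2.fr2 GamS.nil AllS.nil c613_0 :)
theorem x614 : AuxS.{u} (cP4r 1 3) s614 0 a614 := aux_base3 tw357 rfl b614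
theorem x614_1 : AuxS.{u} (cP4r 1 3) s614 0 a614_1 := x614
theorem x614_2 : AuxS.{u} (cP4r 1 3) s614 0 a614_2 := x614_1
theorem n614 : Sound.{u} (cP4r 1 3) s614 0 :=
  (x614_2.fr2 GamS.nil AllS.nil c614_0 :)
theorem x615 : AuxS.{u} (cP4r 1 3) s615 0 a615 := aux_base3 tw358 rfl b615
theorem x615_1 : AuxS.{u} (cP4r 1 3) s615 0 a615_1 := x615
theorem x615_2 : AuxS.{u} (cP4r 1 3) s615 0 a615_2 := x615_1
theorem x615_3 : AuxS.{u} (cP4r 1 3) s615 0 a615_3 := x615_2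
theorem n615 : Sound.{u} (cP4r 1 3) s615 0 :=
  (x615_3.fr2 GamS.nil AllS.nil c615_0 :)
theorem x568 : AuxS.{u} (cP4r 1 3) s568 0 a568 := aux_base3 tw325 rfl b568
theorem x568_1 : AuxS.{u} (cP4r 1 3) s568 0 a568_1 := x568
theorem x568_2 : AuxS.{u} (cP4r 1 3) s568 0 a568_2 := x568_1
theorem n568 : Sound.{u} (cP4r 1 3) s568 0 :=
  (x568_2.fr2 GamS.nil (AllS.cons n600 (AllS.cons n601 (AllS.cons n602 (AllS.cons n603 (AllS.cons n604 (AllS.cons n605 (AllS.cons n606 (AllS.cons n607 (AllS.cons n608 (AllS.cons n609 (AllS.cons n610 (AllS.cons n611 (AllS.cons n612 (AllS.cons n613 (AllS.cons n614 (AllS.cons n615 AllS.nil)))))))))))))))) c568_0 :)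
theorem x569 : AuxS.{u} (cP4r 1 3) s569 0 a569 := aux_base3 tw325 rfl b569
theorem n569 : Sound.{u} (cP4r 1 3) s569 0 :=
  (x569.k4 c569_0 :)
theorem x570 : AuxS.{u} (cP4r 1 3) s570 0 a570 := aux_base3 tw325 rfl b570
theorem n570 : Sound.{u} (cP4r 1 3) s570 0 :=
  (x570.k4 c570_0 :)
theorem x571 : AuxS.{u} (cP4r 1 3) s571 0 a571 := aux_base3 tw325 rfl b571
theorem n571 : Sound.{u} (cP4r 1 3) s571 0 :=
  (x571.k4 c571_0 :)
theorem x572 : AuxS.{u} (cP4r 1 3) s572 0 a572 := aux_base3 tw325 rfl b572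
theorem n572 : Sound.{u} (cP4r 1 3) s572 0 :=
  (x572.k4 c572_0 :)
theorem x573 : AuxS.{u} (cP4r 1 3) s573 0 a573 := aux_base3 tw325 rfl b573
theorem n573 : Sound.{u} (cP4r 1 3) s573 0 :=
  (x573.k4 c573_0 :)
theorem x574 : AuxS.{u} (cP4r 1 3) s574 0 a574 := aux_base3 tw325 rfl b574
theorem n574 : Sound.{u} (cP4r 1 3) s574 0 :=
  (x574.k4 c574_0 :)
theorem x575 : AuxS.{u} (cP4r 1 3) s575 0 a575 := aux_base3 tw325 rfl b575
theorem n575 : Sound.{u} (cP4r 1 3) s575 0 :=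
  (x575.k4 c575_0 :)
theorem x576 : AuxS.{u} (cP4r 1 3) s576 0 a576 := aux_base3 tw325 rfl b576
theorem n576 : Sound.{u} (cP4r 1 3) s576 0 :=
  (x576.k4 c576_0 :)
theorem x577 : AuxS.{u} (cP4r 1 3) s577 0 a577 := aux_base3 tw325 rfl b577
theorem n577 : Sound.{u} (cP4r 1 3) s577 0 :=
  (x577.k4 c577_0 :)
theorem x578 : AuxS.{u} (cP4r 1 3) s578 0 a578 := aux_base3 tw325 rfl b578
theorem n578 : Sound.{u} (cP4r 1 3) s578 0 :=
  (x578.k4 c578_0 :)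
theorem x579 : AuxS.{u} (cP4r 1 3) s579 0 a579 := aux_base3 tw325 rfl b579
theorem n579 : Sound.{u} (cP4r 1 3) s579 0 :=
  (x579.k4 c579_0 :)
theorem x580 : AuxS.{u} (cP4r 1 3) s580 0 a580 := aux_base3 tw325 rfl b580
theorem n580 : Sound.{u} (cP4r 1 3) s580 0 :=
  (x580.k4 c580_0 :)
theorem x581 : AuxS.{u} (cP4r 1 3) s581 0 a581 := aux_base3 tw325 rfl b581
theorem n581 : Sound.{u} (cP4r 1 3) s581 0 :=
  (x581.k4 c581_0 :)
theorem x582 : AuxS.{u} (cP4r 1 3) s582 0 a582 := aux_base3 tw325 rfl b582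
theorem n582 : Sound.{u} (cP4r 1 3) s582 0 :=
  (x582.k4 c582_0 :)
theorem x583 : AuxS.{u} (cP4r 1 3) s583 0 a583 := aux_base3 tw325 rfl b583
theorem n583 : Sound.{u} (cP4r 1 3) s583 0 :=
  (x583.k4 c583_0 :)
theorem x584 : AuxS.{u} (cP4r 1 3) s584 0 a584 := aux_base3 tw325 rfl b584
theorem n584 : Sound.{u} (cP4r 1 3) s584 0 :=
  (x584.k4 c584_0 :)
theorem x585 : AuxS.{u} (cP4r 1 3) s585 0 a585 := aux_base3 tw325 rfl b585
theorem n585 : Sound.{u} (cP4r 1 3) s585 0 :=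
  (x585.k4 c585_0 :)
theorem x586 : AuxS.{u} (cP4r 1 3) s586 0 a586 := aux_base3 tw325 rfl b586
theorem n586 : Sound.{u} (cP4r 1 3) s586 0 :=
  (x586.k4 c586_0 :)
theorem x587 : AuxS.{u} (cP4r 1 3) s587 0 a587 := aux_base3 tw325 rfl b587
theorem n587 : Sound.{u} (cP4r 1 3) s587 0 :=
  (x587.k4 c587_0 :)
theorem x588 : AuxS.{u} (cP4r 1 3) s588 0 a588 := aux_base3 tw325 rfl b588
theorem n588 : Sound.{u} (cP4r 1 3) s588 0 :=
  (x588.k4 c588_0 :)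
theorem x589 : AuxS.{u} (cP4r 1 3) s589 0 a589 := aux_base3 tw325 rfl b589
theorem n589 : Sound.{u} (cP4r 1 3) s589 0 :=
  (x589.k4 c589_0 :)
theorem x590 : AuxS.{u} (cP4r 1 3) s590 0 a590 := aux_base3 tw325 rfl b590
theorem n590 : Sound.{u} (cP4r 1 3) s590 0 :=
  (x590.k4 c590_0 :)
theorem x591 : AuxS.{u} (cP4r 1 3) s591 0 a591 := aux_base3 tw325 rfl b591
theorem n591 : Sound.{u} (cP4r 1 3) s591 0 :=
  (x591.k4 c591_0 :)
theorem x592 : AuxS.{u} (cP4r 1 3) s592 0 a592 := aux_base3 tw325 rfl b592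
theorem n592 : Sound.{u} (cP4r 1 3) s592 0 :=
  (x592.k4 c592_0 :)
theorem x593 : AuxS.{u} (cP4r 1 3) s593 0 a593 := aux_base3 tw325 rfl b593
theorem n593 : Sound.{u} (cP4r 1 3) s593 0 :=
  (x593.k4 c593_0 :)
theorem x594 : AuxS.{u} (cP4r 1 3) s594 0 a594 := aux_base3 tw325 rfl b594
theorem n594 : Sound.{u} (cP4r 1 3) s594 0 :=
  (x594.k4 c594_0 :)
theorem x595 : AuxS.{u} (cP4r 1 3) s595 0 a595 := aux_base3 tw325 rfl b595
theorem n595 : Sound.{u} (cP4r 1 3) s595 0 :=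
  (x595.k4 c595_0 :)
theorem x596 : AuxS.{u} (cP4r 1 3) s596 0 a596 := aux_base3 tw325 rfl b596
theorem n596 : Sound.{u} (cP4r 1 3) s596 0 :=
  (x596.k4 c596_0 :)
theorem x597 : AuxS.{u} (cP4r 1 3) s597 0 a597 := aux_base3 tw325 rfl b597
theorem n597 : Sound.{u} (cP4r 1 3) s597 0 :=
  (x597.k4 c597_0 :)
theorem x598 : AuxS.{u} (cP4r 1 3) s598 0 a598 := aux_base3 tw325 rfl b598
theorem n598 : Sound.{u} (cP4r 1 3) s598 0 :=
  (x598.k4 c598_0 :)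
theorem x599 : AuxS.{u} (cP4r 1 3) s599 0 a599 := aux_base3 tw325 rfl b599
theorem n599 : Sound.{u} (cP4r 1 3) s599 0 :=
  (x599.k4 c599_0 :)
theorem x550 : AuxS.{u} (cP4r 1 3) s550 0 a550 := aux_base3 tw325 rfl b550
theorem x550_1 : AuxS.{u} (cP4r 1 3) s550 0 a550_1 := x550
theorem x550_2 : AuxS.{u} (cP4r 1 3) s550 0 a550_2 := x550_1
theorem x550_3 : AuxS.{u} (cP4r 1 3) s550 0 a550_3 := x550_2
theorem n550 : Sound.{u} (cP4r 1 3) s550 0 :=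
  (x550_3.fr (AuxS.gam x550_3 c550_0) (AllS.cons n568 (AllS.cons n569 (AllS.cons n570 (AllS.cons n571 (AllS.cons n572 (AllS.cons n573 (AllS.cons n574 (AllS.cons n575 (AllS.cons n576 (AllS.cons n577 (AllS.cons n578 (AllS.cons n579 (AllS.cons n580 (AllS.cons n581 (AllS.cons n582 (AllS.cons n583 (AllS.cons n584 (AllS.cons n585 (AllS.cons n586 (AllS.cons n587 (AllS.cons n588 (AllS.cons n589 (AllS.cons n590 (AllS.cons n591 (AllS.cons n592 (AllS.cons n593 (AllS.cons n594 (AllS.cons n595 (AllS.cons n596 (AllS.cons n597 (AllS.cons n598 (AllS.cons n599 AllS.nil)))))))))))))))))))))))))))))))) c550_1 :)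
theorem x551 : AuxS.{u} (cP4r 1 3) s551 0 a551 := aux_base3 tw326 rfl b551
theorem x551_1 : AuxS.{u} (cP4r 1 3) s551 0 a551_1 := x551
theorem x551_2 : AuxS.{u} (cP4r 1 3) s551 0 a551_2 := x551_1
theorem x551_3 : AuxS.{u} (cP4r 1 3) s551 0 a551_3 := x551_2
theorem n551 : Sound.{u} (cP4r 1 3) s551 0 :=
  (x551_3.fr GamS.nil AllS.nil c551_0 :)
theorem x552 : AuxS.{u} (cP4r 1 3) s552 0 a552 := aux_base3 tw327 rfl b552
theorem x552_1 : AuxS.{u} (cP4r 1 3) s552 0 a552_1 := x552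
theorem x552_2 : AuxS.{u} (cP4r 1 3) s552 0 a552_2 := x552_1
theorem x552_3 : AuxS.{u} (cP4r 1 3) s552 0 a552_3 := x552_2
theorem n552 : Sound.{u} (cP4r 1 3) s552 0 :=
  (x552_3.fr GamS.nil AllS.nil c552_0 :)
theorem x553 : AuxS.{u} (cP4r 1 3) s553 0 a553 := aux_base3 tw328 rfl b553
theorem x553_1 : AuxS.{u} (cP4r 1 3) s553 0 a553_1 := x553
theorem x553_2 : AuxS.{u} (cP4r 1 3) s553 0 a553_2 := x553_1
theorem x553_3 : AuxS.{u} (cP4r 1 3) s553 0 a553_3 := x553_2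
theorem n553 : Sound.{u} (cP4r 1 3) s553 0 :=
  (x553_3.fr GamS.nil AllS.nil c553_0 :)
theorem x554 : AuxS.{u} (cP4r 1 3) s554 0 a554 := aux_base3 tw329 rfl b554
theorem x554_1 : AuxS.{u} (cP4r 1 3) s554 0 a554_1 := x554
theorem x554_2 : AuxS.{u} (cP4r 1 3) s554 0 a554_2 := x554_1
theorem x554_3 : AuxS.{u} (cP4r 1 3) s554 0 a554_3 := x554_2
theorem x554_4 : AuxS.{u} (cP4r 1 3) s554 0 a554_4 := x554_3
theorem n554 : Sound.{u} (cP4r 1 3) s554 0 :=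
  (x554_4.fr GamS.nil AllS.nil c554_0 :)
theorem x555 : AuxS.{u} (cP4r 1 3) s555 0 a555 := aux_base3 tw330 rfl b555
theorem x555_1 : AuxS.{u} (cP4r 1 3) s555 0 a555_1 := x555
theorem x555_2 : AuxS.{u} (cP4r 1 3) s555 0 a555_2 := x555_1
theorem x555_3 : AuxS.{u} (cP4r 1 3) s555 0 a555_3 := x555_2
theorem x555_4 : AuxS.{u} (cP4r 1 3) s555 0 a555_4 := x555_3
theorem n555 : Sound.{u} (cP4r 1 3) s555 0 :=
  (x555_4.fr GamS.nil AllS.nil c555_0 :)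
theorem x556 : AuxS.{u} (cP4r 1 3) s556 0 a556 := aux_base3 tw331 rfl b556
theorem x556_1 : AuxS.{u} (cP4r 1 3) s556 0 a556_1 := x556
theorem x556_2 : AuxS.{u} (cP4r 1 3) s556 0 a556_2 := x556_1
theorem x556_3 : AuxS.{u} (cP4r 1 3) s556 0 a556_3 := x556_2
theorem x556_4 : AuxS.{u} (cP4r 1 3) s556 0 a556_4 := x556_3
theorem n556 : Sound.{u} (cP4r 1 3) s556 0 :=
  (x556_4.fr GamS.nil AllS.nil c556_0 :)
theorem x557 : AuxS.{u} (cP4r 1 3) s557 0 a557 := aux_base3 tw332 rfl b557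
theorem x557_1 : AuxS.{u} (cP4r 1 3) s557 0 a557_1 := x557
theorem x557_2 : AuxS.{u} (cP4r 1 3) s557 0 a557_2 := x557_1
theorem x557_3 : AuxS.{u} (cP4r 1 3) s557 0 a557_3 := x557_2
theorem x557_4 : AuxS.{u} (cP4r 1 3) s557 0 a557_4 := x557_3
theorem n557 : Sound.{u} (cP4r 1 3) s557 0 :=
  (x557_4.fr GamS.nil AllS.nil c557_0 :)
theorem x558 : AuxS.{u} (cP4r 1 3) s558 0 a558 := aux_base3 tw333 rfl b558
theorem x558_1 : AuxS.{u} (cP4r 1 3) s558 0 a558_1 := x558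
theorem x558_2 : AuxS.{u} (cP4r 1 3) s558 0 a558_2 := x558_1
theorem x558_3 : AuxS.{u} (cP4r 1 3) s558 0 a558_3 := x558_2
theorem n558 : Sound.{u} (cP4r 1 3) s558 0 :=
  (x558_3.fr GamS.nil AllS.nil c558_0 :)
theorem x559 : AuxS.{u} (cP4r 1 3) s559 0 a559 := aux_base3 tw334 rfl b559
theorem x559_1 : AuxS.{u} (cP4r 1 3) s559 0 a559_1 := x559
theorem x559_2 : AuxS.{u} (cP4r 1 3) s559 0 a559_2 := x559_1
theorem x559_3 : AuxS.{u} (cP4r 1 3) s559 0 a559_3 := x559_2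
theorem n559 : Sound.{u} (cP4r 1 3) s559 0 :=
  (x559_3.fr GamS.nil AllS.nil c559_0 :)
theorem x560 : AuxS.{u} (cP4r 1 3) s560 0 a560 := aux_base3 tw335 rfl b560
theorem x560_1 : AuxS.{u} (cP4r 1 3) s560 0 a560_1 := x560
theorem x560_2 : AuxS.{u} (cP4r 1 3) s560 0 a560_2 := x560_1
theorem x560_3 : AuxS.{u} (cP4r 1 3) s560 0 a560_3 := x560_2
theorem n560 : Sound.{u} (cP4r 1 3) s560 0 :=
  (x560_3.fr GamS.nil AllS.nil c560_0 :)
theorem x561 : AuxS.{u} (cP4r 1 3) s561 0 a561 := aux_base3 tw336 rfl b561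
theorem x561_1 : AuxS.{u} (cP4r 1 3) s561 0 a561_1 := x561
theorem x561_2 : AuxS.{u} (cP4r 1 3) s561 0 a561_2 := x561_1
theorem x561_3 : AuxS.{u} (cP4r 1 3) s561 0 a561_3 := x561_2
theorem n561 : Sound.{u} (cP4r 1 3) s561 0 :=
  (x561_3.fr GamS.nil AllS.nil c561_0 :)
theorem x562 : AuxS.{u} (cP4r 1 3) s562 0 a562 := aux_base3 tw337 rfl b562
theorem x562_1 : AuxS.{u} (cP4r 1 3) s562 0 a562_1 := x562
theorem x562_2 : AuxS.{u} (cP4r 1 3) s562 0 a562_2 := x562_1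
theorem x562_3 : AuxS.{u} (cP4r 1 3) s562 0 a562_3 := x562_2
theorem x562_4 : AuxS.{u} (cP4r 1 3) s562 0 a562_4 := x562_3
theorem n562 : Sound.{u} (cP4r 1 3) s562 0 :=
  (x562_4.fr GamS.nil AllS.nil c562_0 :)
theorem x563 : AuxS.{u} (cP4r 1 3) s563 0 a563 := aux_base3 tw338 rfl b563
theorem x563_1 : AuxS.{u} (cP4r 1 3) s563 0 a563_1 := x563
theorem x563_2 : AuxS.{u} (cP4r 1 3) s563 0 a563_2 := x563_1
theorem x563_3 : AuxS.{u} (cP4r 1 3) s563 0 a563_3 := x563_2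
theorem x563_4 : AuxS.{u} (cP4r 1 3) s563 0 a563_4 := x563_3
theorem n563 : Sound.{u} (cP4r 1 3) s563 0 :=
  (x563_4.fr GamS.nil AllS.nil c563_0 :)
theorem x564 : AuxS.{u} (cP4r 1 3) s564 0 a564 := aux_base3 tw339 rfl b564
theorem x564_1 : AuxS.{u} (cP4r 1 3) s564 0 a564_1 := x564
theorem x564_2 : AuxS.{u} (cP4r 1 3) s564 0 a564_2 := x564_1
theorem x564_3 : AuxS.{u} (cP4r 1 3) s564 0 a564_3 := x564_2
theorem x564_4 : AuxS.{u} (cP4r 1 3) s564 0 a564_4 := x564_3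
theorem n564 : Sound.{u} (cP4r 1 3) s564 0 :=
  (x564_4.fr GamS.nil AllS.nil c564_0 :)
theorem x565 : AuxS.{u} (cP4r 1 3) s565 0 a565 := aux_base3 tw340 rfl b565
theorem x565_1 : AuxS.{u} (cP4r 1 3) s565 0 a565_1 := x565
theorem x565_2 : AuxS.{u} (cP4r 1 3) s565 0 a565_2 := x565_1
theorem x565_3 : AuxS.{u} (cP4r 1 3) s565 0 a565_3 := x565_2
theorem x565_4 : AuxS.{u} (cP4r 1 3) s565 0 a565_4 := x565_3
theorem n565 : Sound.{u} (cP4r 1 3) s565 0 :=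
  (x565_4.fr GamS.nil AllS.nil c565_0 :)
theorem x566 : AuxS.{u} (cP4r 1 3) s566 0 a566 := aux_base3 tw341 rfl b566
theorem n566 : Sound.{u} (cP4r 1 3) s566 0 :=
  (x566.k3 c566_0 :)
theorem x567 : AuxS.{u} (cP4r 1 3) s567 0 a567 := aux_base3 tw342 rfl b567
theorem n567 : Sound.{u} (cP4r 1 3) s567 0 :=
  (x567.k3 c567_0 :)
theorem x549 : AuxS.{u} (cP4r 1 3) s549 0 a549 := aux_base3 tw315 rfl b549
theorem x549_1 : AuxS.{u} (cP4r 1 3) s549 0 a549_1 := (AuxS.up x549 c549_6 :)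
theorem x549_2 : AuxS.{u} (cP4r 1 3) s549 0 a549_2 := (AuxS.up2 x549_1 c549_7 :)
theorem x549_3 : AuxS.{u} (cP4r 1 3) s549 0 a549_3 := (AuxS.up x549_2 c549_8 :)
theorem p549_0_1 : Phs s549 a549_3 (List.map Prod.fst g549_0) [s550, s551, s552, s553, s554, s555, s556, s557, s558, s559, s560, s561, s562, s563, s564, s565, s566, s567] ct549_0 v549_0 5 w549_0_1 := (Phs.fin c549_1)
theorem p549_0_3 : Phs s549 a549_3 (List.map Prod.fst g549_0) [s550, s551, s552, s553, s554, s555, s556, s557, s558, s559, s560, s561, s562, s563, s564, s565, s566, s567] ct549_0 v549_0 4 w549_0_3 := (Phs.stp c549_2 p549_0_1)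
theorem p549_0_5 : Phs s549 a549_3 (List.map Prod.fst g549_0) [s550, s551, s552, s553, s554, s555, s556, s557, s558, s559, s560, s561, s562, s563, s564, s565, s566, s567] ct549_0 v549_0 1 w549_0_5 := (Phs.stp c549_3 p549_0_3)
theorem n549 : Sound.{u} (cP4r 1 3) s549 0 :=
  (x549_3.ext2 (fun h => absurd h (by decide)) (AuxS.gam x549_3 c549_0) (AllS.cons n550 (AllS.cons n551 (AllS.cons n552 (AllS.cons n553 (AllS.cons n554 (AllS.cons n555 (AllS.cons n556 (AllS.cons n557 (AllS.cons n558 (AllS.cons n559 (AllS.cons n560 (AllS.cons n561 (AllS.cons n562 (AllS.cons n563 (AllS.cons n564 (AllS.cons n565 (AllS.cons n566 (AllS.cons n567 AllS.nil)))))))))))))))))) c549_5 (Phs.stp c549_4 p549_0_5) (Phs.fin (ct := ct549_0) rfl) :)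
theorem x547 : AuxS.{u} (cP4r 1 3) s547 0 a547 := aux_base3 tw323 rfl b547
theorem x547_1 : AuxS.{u} (cP4r 1 3) s547 0 a547_1 := x547
theorem x547_2 : AuxS.{u} (cP4r 1 3) s547 0 a547_2 := x547_1
theorem n547 : Sound.{u} (cP4r 1 3) s547 0 :=
  (x547_2.jump c547_0 c547_1 n549 :)
theorem x548 : AuxS.{u} (cP4r 1 3) s548 0 a548 := aux_base3 tw324 rfl b548
theorem x548_1 : AuxS.{u} (cP4r 1 3) s548 0 a548_1 := (AuxS.up x548 c548_1 :)
theorem n548 : Sound.{u} (cP4r 1 3) s548 0 :=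
  (x548_1.k1 c548_0 :)
theorem x539 : AuxS.{u} (cP4r 1 3) s539 0 a539 := aux_base3 tw315 rfl b539
theorem x539_1 : AuxS.{u} (cP4r 1 3) s539 0 a539_1 := x539
theorem x539_2 : AuxS.{u} (cP4r 1 3) s539 0 a539_2 := x539_1
theorem p539_0_1 : Phs s539 a539_2 (List.map Prod.fst g539_0) [s547, s548] ct539_0 v539_0 5 w539_0_1 := (Phs.fin c539_1)
theorem n539 : Sound.{u} (cP4r 1 3) s539 0 :=
  (x539_2.ext2 (fun h => absurd h (by decide)) (AuxS.gam x539_2 c539_0) (AllS.cons n547 (AllS.cons n548 AllS.nil)) c539_3 (Phs.fin (ct := ct539_0) rfl) (Phs.stp c539_2 p539_0_1) :)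
theorem x540 : AuxS.{u} (cP4r 1 3) s540 0 a540 := aux_base3 tw316 rfl b540
theorem x540_1 : AuxS.{u} (cP4r 1 3) s540 0 a540_1 := x540
theorem x540_2 : AuxS.{u} (cP4r 1 3) s540 0 a540_2 := x540_1
theorem n540 : Sound.{u} (cP4r 1 3) s540 0 :=
  (x540_2.ext2 (fun h => absurd h (by decide)) GamS.nil AllS.nil c540_1 (Phs.fin (ct := ct540_0) rfl) (Phs.fin c540_0) :)
theorem x541 : AuxS.{u} (cP4r 1 3) s541 0 a541 := aux_base3 tw317 rfl b541
theorem x541_1 : AuxS.{u} (cP4r 1 3) s541 0 a541_1 := (AuxS.up x541 c541_1 :)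
theorem n541 : Sound.{u} (cP4r 1 3) s541 0 :=
  (x541_1.k1 c541_0 :)
theorem x542 : AuxS.{u} (cP4r 1 3) s542 0 a542 := aux_base3 tw318 rfl b542
theorem x542_1 : AuxS.{u} (cP4r 1 3) s542 0 a542_1 := (AuxS.up x542 c542_1 :)
theorem n542 : Sound.{u} (cP4r 1 3) s542 0 :=
  (x542_1.k1 c542_0 :)
theorem x543 : AuxS.{u} (cP4r 1 3) s543 0 a543 := aux_base3 tw319 rfl b543
theorem x543_1 : AuxS.{u} (cP4r 1 3) s543 0 a543_1 := x543
theorem x543_2 : AuxS.{u} (cP4r 1 3) s543 0 a543_2 := x543_1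
theorem n543 : Sound.{u} (cP4r 1 3) s543 0 :=
  (x543_2.ext2 (fun h => absurd h (by decide)) GamS.nil AllS.nil c543_1 (Phs.fin (ct := ct543_0) rfl) (Phs.fin c543_0) :)
theorem x647 : AuxS.{u} (cP4r 1 3) s647 0 a647 := aux_base3 tw363 rfl b647
theorem n647 : Sound.{u} (cP4r 1 3) s647 0 :=
  (x647.k4 c647_0 :)
theorem x648 : AuxS.{u} (cP4r 1 3) s648 0 a648 := aux_base3 tw363 rfl b648
theorem n648 : Sound.{u} (cP4r 1 3) s648 0 :=
  (x648.k4 c648_0 :)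
theorem x649 : AuxS.{u} (cP4r 1 3) s649 0 a649 := aux_base3 tw363 rfl b649
theorem n649 : Sound.{u} (cP4r 1 3) s649 0 :=
  (x649.k4 c649_0 :)
theorem x650 : AuxS.{u} (cP4r 1 3) s650 0 a650 := aux_base3 tw363 rfl b650
theorem n650 : Sound.{u} (cP4r 1 3) s650 0 :=
  (x650.k4 c650_0 :)
theorem x651 : AuxS.{u} (cP4r 1 3) s651 0 a651 := aux_base3 tw363 rfl b651
theorem n651 : Sound.{u} (cP4r 1 3) s651 0 :=
  (x651.k4 c651_0 :)
theorem x679 : AuxS.{u} (cP4r 1 3) s679 0 a679 := aux_base3 tw381 rfl b679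
theorem x679_1 : AuxS.{u} (cP4r 1 3) s679 0 a679_1 := (AuxS.up x679 c679_1 :)
theorem x679_2 : AuxS.{u} (cP4r 1 3) s679 0 a679_2 := (AuxS.up2 x679_1 c679_2 :)
theorem x679_3 : AuxS.{u} (cP4r 1 3) s679 0 a679_3 := (AuxS.up x679_2 c679_3 :)
theorem x679_4 : AuxS.{u} (cP4r 1 3) s679 0 a679_4 := (AuxS.up2 x679_3 c679_4 :)
theorem n679 : Sound.{u} (cP4r 1 3) s679 0 :=
  (x679_4.k7 c679_0 :)
theorem x680 : AuxS.{u} (cP4r 1 3) s680 0 a680 := aux_base3 tw382 rfl b680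
theorem n680 : Sound.{u} (cP4r 1 3) s680 0 :=
  (x680.k4 c680_0 :)
theorem x652 : AuxS.{u} (cP4r 1 3) s652 0 a652 := aux_base3 tw363 rfl b652
theorem x652_1 : AuxS.{u} (cP4r 1 3) s652 0 a652_1 := x652
theorem n652 : Sound.{u} (cP4r 1 3) s652 0 :=
  (x652_1.fr2 GamS.nil (AllS.cons n679 (AllS.cons n680 AllS.nil)) c652_0 :)
theorem x653 : AuxS.{u} (cP4r 1 3) s653 0 a653 := aux_base3 tw363 rfl b653
theorem n653 : Sound.{u} (cP4r 1 3) s653 0 :=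
  (x653.k4 c653_0 :)
theorem x654 : AuxS.{u} (cP4r 1 3) s654 0 a654 := aux_base3 tw363 rfl b654
theorem n654 : Sound.{u} (cP4r 1 3) s654 0 :=
  (x654.k4 c654_0 :)
theorem x655 : AuxS.{u} (cP4r 1 3) s655 0 a655 := aux_base3 tw363 rfl b655
theorem n655 : Sound.{u} (cP4r 1 3) s655 0 :=
  (x655.k4 c655_0 :)
theorem x656 : AuxS.{u} (cP4r 1 3) s656 0 a656 := aux_base3 tw363 rfl b656
theorem n656 : Sound.{u} (cP4r 1 3) s656 0 :=
  (x656.k4 c656_0 :)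
theorem x657 : AuxS.{u} (cP4r 1 3) s657 0 a657 := aux_base3 tw363 rfl b657
theorem n657 : Sound.{u} (cP4r 1 3) s657 0 :=
  (x657.k4 c657_0 :)
theorem x658 : AuxS.{u} (cP4r 1 3) s658 0 a658 := aux_base3 tw363 rfl b658
theorem n658 : Sound.{u} (cP4r 1 3) s658 0 :=
  (x658.k4 c658_0 :)
theorem x659 : AuxS.{u} (cP4r 1 3) s659 0 a659 := aux_base3 tw363 rfl b659
theorem n659 : Sound.{u} (cP4r 1 3) s659 0 :=
  (x659.k4 c659_0 :)
theorem x660 : AuxS.{u} (cP4r 1 3) s660 0 a660 := aux_base3 tw363 rfl b660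
theorem n660 : Sound.{u} (cP4r 1 3) s660 0 :=
  (x660.k4 c660_0 :)
theorem x661 : AuxS.{u} (cP4r 1 3) s661 0 a661 := aux_base3 tw363 rfl b661
theorem n661 : Sound.{u} (cP4r 1 3) s661 0 :=
  (x661.k4 c661_0 :)
theorem x662 : AuxS.{u} (cP4r 1 3) s662 0 a662 := aux_base3 tw363 rfl b662
theorem n662 : Sound.{u} (cP4r 1 3) s662 0 :=
  (x662.k4 c662_0 :)
theorem x663 : AuxS.{u} (cP4r 1 3) s663 0 a663 := aux_base3 tw363 rfl b663
theorem n663 : Sound.{u} (cP4r 1 3) s663 0 :=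
  (x663.k4 c663_0 :)
theorem x664 : AuxS.{u} (cP4r 1 3) s664 0 a664 := aux_base3 tw363 rfl b664
theorem n664 : Sound.{u} (cP4r 1 3) s664 0 :=
  (x664.k4 c664_0 :)
theorem x665 : AuxS.{u} (cP4r 1 3) s665 0 a665 := aux_base3 tw363 rfl b665
theorem n665 : Sound.{u} (cP4r 1 3) s665 0 :=
  (x665.k4 c665_0 :)
theorem x666 : AuxS.{u} (cP4r 1 3) s666 0 a666 := aux_base3 tw363 rfl b666
theorem n666 : Sound.{u} (cP4r 1 3) s666 0 :=
  (x666.k4 c666_0 :)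
theorem x667 : AuxS.{u} (cP4r 1 3) s667 0 a667 := aux_base3 tw363 rfl b667
theorem n667 : Sound.{u} (cP4r 1 3) s667 0 :=
  (x667.k4 c667_0 :)
theorem x668 : AuxS.{u} (cP4r 1 3) s668 0 a668 := aux_base3 tw363 rfl b668
theorem n668 : Sound.{u} (cP4r 1 3) s668 0 :=
  (x668.k4 c668_0 :)
theorem x669 : AuxS.{u} (cP4r 1 3) s669 0 a669 := aux_base3 tw363 rfl b669
theorem n669 : Sound.{u} (cP4r 1 3) s669 0 :=
  (x669.k4 c669_0 :)
theorem x670 : AuxS.{u} (cP4r 1 3) s670 0 a670 := aux_base3 tw363 rfl b670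
theorem n670 : Sound.{u} (cP4r 1 3) s670 0 :=
  (x670.k4 c670_0 :)
theorem x671 : AuxS.{u} (cP4r 1 3) s671 0 a671 := aux_base3 tw363 rfl b671
theorem n671 : Sound.{u} (cP4r 1 3) s671 0 :=
  (x671.k4 c671_0 :)
theorem x672 : AuxS.{u} (cP4r 1 3) s672 0 a672 := aux_base3 tw363 rfl b672
theorem n672 : Sound.{u} (cP4r 1 3) s672 0 :=
  (x672.k4 c672_0 :)
theorem x673 : AuxS.{u} (cP4r 1 3) s673 0 a673 := aux_base3 tw363 rfl b673
theorem n673 : Sound.{u} (cP4r 1 3) s673 0 :=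
  (x673.k4 c673_0 :)
theorem x674 : AuxS.{u} (cP4r 1 3) s674 0 a674 := aux_base3 tw363 rfl b674
theorem n674 : Sound.{u} (cP4r 1 3) s674 0 :=
  (x674.k4 c674_0 :)
theorem x675 : AuxS.{u} (cP4r 1 3) s675 0 a675 := aux_base3 tw363 rfl b675
theorem n675 : Sound.{u} (cP4r 1 3) s675 0 :=
  (x675.k4 c675_0 :)
theorem x676 : AuxS.{u} (cP4r 1 3) s676 0 a676 := aux_base3 tw363 rfl b676
theorem n676 : Sound.{u} (cP4r 1 3) s676 0 :=
  (x676.k4 c676_0 :)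
theorem x677 : AuxS.{u} (cP4r 1 3) s677 0 a677 := aux_base3 tw363 rfl b677
theorem n677 : Sound.{u} (cP4r 1 3) s677 0 :=
  (x677.k4 c677_0 :)
theorem x678 : AuxS.{u} (cP4r 1 3) s678 0 a678 := aux_base3 tw363 rfl b678
theorem n678 : Sound.{u} (cP4r 1 3) s678 0 :=
  (x678.k4 c678_0 :)
theorem x629 : AuxS.{u} (cP4r 1 3) s629 0 a629 := aux_base3 tw363 rfl b629
theorem x629_1 : AuxS.{u} (cP4r 1 3) s629 0 a629_1 := x629
theorem n629 : Sound.{u} (cP4r 1 3) s629 0 :=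
  (x629_1.fr (AuxS.gam x629_1 c629_0) (AllS.cons n647 (AllS.cons n648 (AllS.cons n649 (AllS.cons n650 (AllS.cons n651 (AllS.cons n652 (AllS.cons n653 (AllS.cons n654 (AllS.cons n655 (AllS.cons n656 (AllS.cons n657 (AllS.cons n658 (AllS.cons n659 (AllS.cons n660 (AllS.cons n661 (AllS.cons n662 (AllS.cons n663 (AllS.cons n664 (AllS.cons n665 (AllS.cons n666 (AllS.cons n667 (AllS.cons n668 (AllS.cons n669 (AllS.cons n670 (AllS.cons n671 (AllS.cons n672 (AllS.cons n673 (AllS.cons n674 (AllS.cons n675 (AllS.cons n676 (AllS.cons n677 (AllS.cons n678 AllS.nil)))))))))))))))))))))))))))))))) c629_1 :)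
theorem x630 : AuxS.{u} (cP4r 1 3) s630 0 a630 := aux_base3 tw364 rfl b630
theorem x630_1 : AuxS.{u} (cP4r 1 3) s630 0 a630_1 := x630
theorem n630 : Sound.{u} (cP4r 1 3) s630 0 :=
  (x630_1.fr GamS.nil AllS.nil c630_0 :)
theorem x631 : AuxS.{u} (cP4r 1 3) s631 0 a631 := aux_base3 tw365 rfl b631
theorem x631_1 : AuxS.{u} (cP4r 1 3) s631 0 a631_1 := x631
theorem n631 : Sound.{u} (cP4r 1 3) s631 0 :=
  (x631_1.fr GamS.nil AllS.nil c631_0 :)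
theorem x632 : AuxS.{u} (cP4r 1 3) s632 0 a632 := aux_base3 tw366 rfl b632
theorem x632_1 : AuxS.{u} (cP4r 1 3) s632 0 a632_1 := x632
theorem n632 : Sound.{u} (cP4r 1 3) s632 0 :=
  (x632_1.fr GamS.nil AllS.nil c632_0 :)
theorem x633 : AuxS.{u} (cP4r 1 3) s633 0 a633 := aux_base3 tw367 rfl b633
theorem n633 : Sound.{u} (cP4r 1 3) s633 0 :=
  (x633.k4 c633_0 :)
theorem x634 : AuxS.{u} (cP4r 1 3) s634 0 a634 := aux_base3 tw368 rfl b634
theorem n634 : Sound.{u} (cP4r 1 3) s634 0 :=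
  (x634.k4 c634_0 :)
theorem x635 : AuxS.{u} (cP4r 1 3) s635 0 a635 := aux_base3 tw369 rfl b635
theorem n635 : Sound.{u} (cP4r 1 3) s635 0 :=
  (x635.k4 c635_0 :)
theorem x636 : AuxS.{u} (cP4r 1 3) s636 0 a636 := aux_base3 tw370 rfl b636
theorem n636 : Sound.{u} (cP4r 1 3) s636 0 :=
  (x636.k4 c636_0 :)
theorem x637 : AuxS.{u} (cP4r 1 3) s637 0 a637 := aux_base3 tw371 rfl b637
theorem x637_1 : AuxS.{u} (cP4r 1 3) s637 0 a637_1 := x637
theorem n637 : Sound.{u} (cP4r 1 3) s637 0 :=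
  (x637_1.fr GamS.nil AllS.nil c637_0 :)
theorem x638 : AuxS.{u} (cP4r 1 3) s638 0 a638 := aux_base3 tw372 rfl b638
theorem x638_1 : AuxS.{u} (cP4r 1 3) s638 0 a638_1 := x638
theorem n638 : Sound.{u} (cP4r 1 3) s638 0 :=
  (x638_1.fr GamS.nil AllS.nil c638_0 :)
theorem x639 : AuxS.{u} (cP4r 1 3) s639 0 a639 := aux_base3 tw373 rfl b639
theorem x639_1 : AuxS.{u} (cP4r 1 3) s639 0 a639_1 := x639
theorem n639 : Sound.{u} (cP4r 1 3) s639 0 :=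
  (x639_1.fr GamS.nil AllS.nil c639_0 :)
theorem x640 : AuxS.{u} (cP4r 1 3) s640 0 a640 := aux_base3 tw374 rfl b640
theorem x640_1 : AuxS.{u} (cP4r 1 3) s640 0 a640_1 := x640
theorem n640 : Sound.{u} (cP4r 1 3) s640 0 :=
  (x640_1.fr GamS.nil AllS.nil c640_0 :)
theorem x641 : AuxS.{u} (cP4r 1 3) s641 0 a641 := aux_base3 tw375 rfl b641
theorem n641 : Sound.{u} (cP4r 1 3) s641 0 :=
  (x641.k4 c641_0 :)
theorem x642 : AuxS.{u} (cP4r 1 3) s642 0 a642 := aux_base3 tw376 rfl b642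
theorem n642 : Sound.{u} (cP4r 1 3) s642 0 :=
  (x642.k4 c642_0 :)
theorem x643 : AuxS.{u} (cP4r 1 3) s643 0 a643 := aux_base3 tw377 rfl b643
theorem n643 : Sound.{u} (cP4r 1 3) s643 0 :=
  (x643.k4 c643_0 :)
theorem x644 : AuxS.{u} (cP4r 1 3) s644 0 a644 := aux_base3 tw378 rfl b644
theorem n644 : Sound.{u} (cP4r 1 3) s644 0 :=
  (x644.k4 c644_0 :)
theorem x645 : AuxS.{u} (cP4r 1 3) s645 0 a645 := aux_base3 tw379 rfl b645
theorem n645 : Sound.{u} (cP4r 1 3) s645 0 :=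
  (x645.k3 c645_0 :)
theorem x646 : AuxS.{u} (cP4r 1 3) s646 0 a646 := aux_base3 tw380 rfl b646
theorem n646 : Sound.{u} (cP4r 1 3) s646 0 :=
  (x646.k3 c646_0 :)
theorem x628 : AuxS.{u} (cP4r 1 3) s628 0 a628 := aux_base3 tw320 rfl b628
theorem x628_1 : AuxS.{u} (cP4r 1 3) s628 0 a628_1 := (AuxS.up x628 c628_6 :)
theorem x628_2 : AuxS.{u} (cP4r 1 3) s628 0 a628_2 := (AuxS.up2 x628_1 c628_7 :)
theorem p628_0_1 : Phs s628 a628_2 (List.map Prod.fst g628_0) [s629, s630, s631, s632, s633, s634, s635, s636, s637, s638, s639, s640, s641, s642, s643, s644, s645, s646] ct628_0 v628_0 5 w628_0_1 := (Phs.fin c628_1)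
theorem p628_0_3 : Phs s628 a628_2 (List.map Prod.fst g628_0) [s629, s630, s631, s632, s633, s634, s635, s636, s637, s638, s639, s640, s641, s642, s643, s644, s645, s646] ct628_0 v628_0 4 w628_0_3 := (Phs.stp c628_2 p628_0_1)
theorem p628_0_5 : Phs s628 a628_2 (List.map Prod.fst g628_0) [s629, s630, s631, s632, s633, s634, s635, s636, s637, s638, s639, s640, s641, s642, s643, s644, s645, s646] ct628_0 v628_0 1 w628_0_5 := (Phs.stp c628_3 p628_0_3)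
theorem n628 : Sound.{u} (cP4r 1 3) s628 0 :=
  (x628_2.ext2 (fun h => absurd h (by decide)) (AuxS.gam x628_2 c628_0) (AllS.cons n629 (AllS.cons n630 (AllS.cons n631 (AllS.cons n632 (AllS.cons n633 (AllS.cons n634 (AllS.cons n635 (AllS.cons n636 (AllS.cons n637 (AllS.cons n638 (AllS.cons n639 (AllS.cons n640 (AllS.cons n641 (AllS.cons n642 (AllS.cons n643 (AllS.cons n644 (AllS.cons n645 (AllS.cons n646 AllS.nil)))))))))))))))))) c628_5 (Phs.stp c628_4 p628_0_5) (Phs.fin (ct := ct628_0) rfl) :)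
theorem x626 : AuxS.{u} (cP4r 1 3) s626 0 a626 := aux_base3 tw361 rfl b626
theorem x626_1 : AuxS.{u} (cP4r 1 3) s626 0 a626_1 := x626
theorem n626 : Sound.{u} (cP4r 1 3) s626 0 :=
  (x626_1.jump c626_0 c626_1 n628 :)
theorem x627 : AuxS.{u} (cP4r 1 3) s627 0 a627 := aux_base3 tw362 rfl b627
theorem x627_1 : AuxS.{u} (cP4r 1 3) s627 0 a627_1 := (AuxS.up x627 c627_1 :)
theorem n627 : Sound.{u} (cP4r 1 3) s627 0 :=
  (x627_1.k1 c627_0 :)
theorem x544 : AuxS.{u} (cP4r 1 3) s544 0 a544 := aux_base3 tw320 rfl b544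
theorem x544_1 : AuxS.{u} (cP4r 1 3) s544 0 a544_1 := x544
theorem x544_2 : AuxS.{u} (cP4r 1 3) s544 0 a544_2 := x544_1
theorem p544_0_1 : Phs s544 a544_2 (List.map Prod.fst g544_0) [s626, s627] ct544_0 v544_0 5 w544_0_1 := (Phs.fin c544_1)
theorem n544 : Sound.{u} (cP4r 1 3) s544 0 :=
  (x544_2.ext2 (fun h => absurd h (by decide)) (AuxS.gam x544_2 c544_0) (AllS.cons n626 (AllS.cons n627 AllS.nil)) c544_3 (Phs.fin (ct := ct544_0) rfl) (Phs.stp c544_2 p544_0_1) :)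
theorem x545 : AuxS.{u} (cP4r 1 3) s545 0 a545 := aux_base3 tw321 rfl b545
theorem x545_1 : AuxS.{u} (cP4r 1 3) s545 0 a545_1 := (AuxS.up x545 c545_1 :)
theorem n545 : Sound.{u} (cP4r 1 3) s545 0 :=
  (x545_1.k1 c545_0 :)
theorem x546 : AuxS.{u} (cP4r 1 3) s546 0 a546 := aux_base3 tw322 rfl b546
theorem x546_1 : AuxS.{u} (cP4r 1 3) s546 0 a546_1 := (AuxS.up x546 c546_1 :)
theorem n546 : Sound.{u} (cP4r 1 3) s546 0 :=
  (x546_1.k1 c546_0 :)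
theorem x25 : AuxS.{u} (cP4r 1 3) s25 0 a25 := aux_base3 tw25 rfl b25
theorem x25_1 : AuxS.{u} (cP4r 1 3) s25 0 a25_1 := (AuxS.up x25 c25_4 :)
theorem p25_0_1 : Phs s25 a25_1 [] [s539, s540, s541, s542, s543, s544, s545, s546] ct25_0 v25_0 4 w25_0_1 := (Phs.fin c25_0)
theorem p25_0_3 : Phs s25 a25_1 [] [s539, s540, s541, s542, s543, s544, s545, s546] ct25_0 v25_0 1 w25_0_3 := (Phs.stp c25_1 p25_0_1)
theorem n25 : Sound.{u} (cP4r 1 3) s25 0 :=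
  (x25_1.ext2 (fun h => absurd h (by decide)) GamS.nil (AllS.cons n539 (AllS.cons n540 (AllS.cons n541 (AllS.cons n542 (AllS.cons n543 (AllS.cons n544 (AllS.cons n545 (AllS.cons n546 AllS.nil)))))))) c25_3 (Phs.stp c25_2 p25_0_3) (Phs.fin (ct := ct25_0) rfl) :)
theorem x692 : AuxS.{u} (cP4r 1 3) s692 0 a692 := aux_base3 tw393 rfl b692
theorem x692_1 : AuxS.{u} (cP4r 1 3) s692 0 a692_1 := x692
theorem x692_2 : AuxS.{u} (cP4r 1 3) s692 0 a692_2 := x692_1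
theorem n692 : Sound.{u} (cP4r 1 3) s692 0 :=
  (x692_2.fr GamS.nil AllS.nil c692_0 :)
theorem x693 : AuxS.{u} (cP4r 1 3) s693 0 a693 := aux_base3 tw394 rfl b693
theorem x693_1 : AuxS.{u} (cP4r 1 3) s693 0 a693_1 := x693
theorem x693_2 : AuxS.{u} (cP4r 1 3) s693 0 a693_2 := x693_1
theorem n693 : Sound.{u} (cP4r 1 3) s693 0 :=
  (x693_2.fr GamS.nil AllS.nil c693_0 :)
theorem x694 : AuxS.{u} (cP4r 1 3) s694 0 a694 := aux_base3 tw395 rfl b694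
theorem x694_1 : AuxS.{u} (cP4r 1 3) s694 0 a694_1 := x694
theorem x694_2 : AuxS.{u} (cP4r 1 3) s694 0 a694_2 := x694_1
theorem n694 : Sound.{u} (cP4r 1 3) s694 0 :=
  (x694_2.fr GamS.nil AllS.nil c694_0 :)
theorem x695 : AuxS.{u} (cP4r 1 3) s695 0 a695 := aux_base3 tw396 rfl b695
theorem x695_1 : AuxS.{u} (cP4r 1 3) s695 0 a695_1 := x695
theorem x695_2 : AuxS.{u} (cP4r 1 3) s695 0 a695_2 := x695_1
theorem n695 : Sound.{u} (cP4r 1 3) s695 0 :=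
  (x695_2.fr GamS.nil AllS.nil c695_0 :)
theorem x696 : AuxS.{u} (cP4r 1 3) s696 0 a696 := aux_base3 tw397 rfl b696
theorem x696_1 : AuxS.{u} (cP4r 1 3) s696 0 a696_1 := x696
theorem x696_2 : AuxS.{u} (cP4r 1 3) s696 0 a696_2 := x696_1
theorem n696 : Sound.{u} (cP4r 1 3) s696 0 :=
  (x696_2.fr GamS.nil AllS.nil c696_0 :)
theorem x697 : AuxS.{u} (cP4r 1 3) s697 0 a697 := aux_base3 tw398 rfl b697
theorem x697_1 : AuxS.{u} (cP4r 1 3) s697 0 a697_1 := x697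
theorem x697_2 : AuxS.{u} (cP4r 1 3) s697 0 a697_2 := x697_1
theorem n697 : Sound.{u} (cP4r 1 3) s697 0 :=
  (x697_2.fr GamS.nil AllS.nil c697_0 :)
theorem x698 : AuxS.{u} (cP4r 1 3) s698 0 a698 := aux_base3 tw399 rfl b698
theorem x698_1 : AuxS.{u} (cP4r 1 3) s698 0 a698_1 := x698
theorem x698_2 : AuxS.{u} (cP4r 1 3) s698 0 a698_2 := x698_1
theorem n698 : Sound.{u} (cP4r 1 3) s698 0 :=
  (x698_2.fr GamS.nil AllS.nil c698_0 :)
theorem x699 : AuxS.{u} (cP4r 1 3) s699 0 a699 := aux_base3 tw400 rfl b699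
theorem x699_1 : AuxS.{u} (cP4r 1 3) s699 0 a699_1 := x699
theorem x699_2 : AuxS.{u} (cP4r 1 3) s699 0 a699_2 := x699_1
theorem n699 : Sound.{u} (cP4r 1 3) s699 0 :=
  (x699_2.fr GamS.nil AllS.nil c699_0 :)
theorem x700 : AuxS.{u} (cP4r 1 3) s700 0 a700 := aux_base3 tw401 rfl b700
theorem x700_1 : AuxS.{u} (cP4r 1 3) s700 0 a700_1 := x700
theorem x700_2 : AuxS.{u} (cP4r 1 3) s700 0 a700_2 := x700_1
theorem n700 : Sound.{u} (cP4r 1 3) s700 0 :=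
  (x700_2.fr GamS.nil AllS.nil c700_0 :)
theorem x701 : AuxS.{u} (cP4r 1 3) s701 0 a701 := aux_base3 tw402 rfl b701
theorem x701_1 : AuxS.{u} (cP4r 1 3) s701 0 a701_1 := x701
theorem x701_2 : AuxS.{u} (cP4r 1 3) s701 0 a701_2 := x701_1
theorem n701 : Sound.{u} (cP4r 1 3) s701 0 :=
  (x701_2.fr GamS.nil AllS.nil c701_0 :)
theorem x702 : AuxS.{u} (cP4r 1 3) s702 0 a702 := aux_base3 tw403 rfl b702
theorem x702_1 : AuxS.{u} (cP4r 1 3) s702 0 a702_1 := x702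
theorem x702_2 : AuxS.{u} (cP4r 1 3) s702 0 a702_2 := x702_1
theorem n702 : Sound.{u} (cP4r 1 3) s702 0 :=
  (x702_2.fr GamS.nil AllS.nil c702_0 :)
theorem x703 : AuxS.{u} (cP4r 1 3) s703 0 a703 := aux_base3 tw404 rfl b703
theorem x703_1 : AuxS.{u} (cP4r 1 3) s703 0 a703_1 := x703
theorem x703_2 : AuxS.{u} (cP4r 1 3) s703 0 a703_2 := x703_1
theorem n703 : Sound.{u} (cP4r 1 3) s703 0 :=
  (x703_2.fr GamS.nil AllS.nil c703_0 :)
theorem x704 : AuxS.{u} (cP4r 1 3) s704 0 a704 := aux_base3 tw405 rfl b704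
theorem x704_1 : AuxS.{u} (cP4r 1 3) s704 0 a704_1 := x704
theorem x704_2 : AuxS.{u} (cP4r 1 3) s704 0 a704_2 := x704_1
theorem n704 : Sound.{u} (cP4r 1 3) s704 0 :=
  (x704_2.fr GamS.nil AllS.nil c704_0 :)
theorem x705 : AuxS.{u} (cP4r 1 3) s705 0 a705 := aux_base3 tw406 rfl b705
theorem x705_1 : AuxS.{u} (cP4r 1 3) s705 0 a705_1 := x705
theorem x705_2 : AuxS.{u} (cP4r 1 3) s705 0 a705_2 := x705_1
theorem n705 : Sound.{u} (cP4r 1 3) s705 0 :=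
  (x705_2.fr GamS.nil AllS.nil c705_0 :)
theorem x706 : AuxS.{u} (cP4r 1 3) s706 0 a706 := aux_base3 tw407 rfl b706
theorem x706_1 : AuxS.{u} (cP4r 1 3) s706 0 a706_1 := x706
theorem x706_2 : AuxS.{u} (cP4r 1 3) s706 0 a706_2 := x706_1
theorem n706 : Sound.{u} (cP4r 1 3) s706 0 :=
  (x706_2.fr GamS.nil AllS.nil c706_0 :)
theorem x707 : AuxS.{u} (cP4r 1 3) s707 0 a707 := aux_base3 tw408 rfl b707
theorem x707_1 : AuxS.{u} (cP4r 1 3) s707 0 a707_1 := x707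
theorem x707_2 : AuxS.{u} (cP4r 1 3) s707 0 a707_2 := x707_1
theorem n707 : Sound.{u} (cP4r 1 3) s707 0 :=
  (x707_2.fr GamS.nil AllS.nil c707_0 :)
theorem x708 : AuxS.{u} (cP4r 1 3) s708 0 a708 := aux_base3 tw409 rfl b708
theorem n708 : Sound.{u} (cP4r 1 3) s708 0 :=
  (x708.k3 c708_0 :)
theorem x709 : AuxS.{u} (cP4r 1 3) s709 0 a709 := aux_base3 tw410 rfl b709
theorem n709 : Sound.{u} (cP4r 1 3) s709 0 :=
  (x709.k3 c709_0 :)
theorem x691 : AuxS.{u} (cP4r 1 3) s691 0 a691 := aux_base3 tw383 rfl b691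
theorem x691_1 : AuxS.{u} (cP4r 1 3) s691 0 a691_1 := (AuxS.up x691 c691_6 :)
theorem x691_2 : AuxS.{u} (cP4r 1 3) s691 0 a691_2 := (AuxS.up2 x691_1 c691_7 :)
theorem x691_3 : AuxS.{u} (cP4r 1 3) s691 0 a691_3 := (AuxS.up x691_2 c691_8 :)
theorem p691_0_1 : Phs s691 a691_3 (List.map Prod.fst g691_0) [s692, s693, s694, s695, s696, s697, s698, s699, s700, s701, s702, s703, s704, s705, s706, s707, s708, s709] ct691_0 v691_0 5 w691_0_1 := (Phs.fin c691_1)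
theorem p691_0_3 : Phs s691 a691_3 (List.map Prod.fst g691_0) [s692, s693, s694, s695, s696, s697, s698, s699, s700, s701, s702, s703, s704, s705, s706, s707, s708, s709] ct691_0 v691_0 4 w691_0_3 := (Phs.stp c691_2 p691_0_1)
theorem p691_0_5 : Phs s691 a691_3 (List.map Prod.fst g691_0) [s692, s693, s694, s695, s696, s697, s698, s699, s700, s701, s702, s703, s704, s705, s706, s707, s708, s709] ct691_0 v691_0 1 w691_0_5 := (Phs.stp c691_3 p691_0_3)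
theorem n691 : Sound.{u} (cP4r 1 3) s691 0 :=
  (x691_3.ext2 (fun h => absurd h (by decide)) (AuxS.gam x691_3 c691_0) (AllS.cons n692 (AllS.cons n693 (AllS.cons n694 (AllS.cons n695 (AllS.cons n696 (AllS.cons n697 (AllS.cons n698 (AllS.cons n699 (AllS.cons n700 (AllS.cons n701 (AllS.cons n702 (AllS.cons n703 (AllS.cons n704 (AllS.cons n705 (AllS.cons n706 (AllS.cons n707 (AllS.cons n708 (AllS.cons n709 AllS.nil)))))))))))))))))) c691_5 (Phs.stp c691_4 p691_0_5) (Phs.fin (ct := ct691_0) rfl) :)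
theorem x689 : AuxS.{u} (cP4r 1 3) s689 0 a689 := aux_base3 tw391 rfl b689
theorem x689_1 : AuxS.{u} (cP4r 1 3) s689 0 a689_1 := x689
theorem x689_2 : AuxS.{u} (cP4r 1 3) s689 0 a689_2 := x689_1
theorem n689 : Sound.{u} (cP4r 1 3) s689 0 :=
  (x689_2.jump c689_0 c689_1 n691 :)
theorem x690 : AuxS.{u} (cP4r 1 3) s690 0 a690 := aux_base3 tw392 rfl b690
theorem x690_1 : AuxS.{u} (cP4r 1 3) s690 0 a690_1 := (AuxS.up x690 c690_1 :)
theorem n690 : Sound.{u} (cP4r 1 3) s690 0 :=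
  (x690_1.k1 c690_0 :)
theorem x681 : AuxS.{u} (cP4r 1 3) s681 0 a681 := aux_base3 tw383 rfl b681
theorem x681_1 : AuxS.{u} (cP4r 1 3) s681 0 a681_1 := x681
theorem x681_2 : AuxS.{u} (cP4r 1 3) s681 0 a681_2 := x681_1
theorem p681_0_1 : Phs s681 a681_2 (List.map Prod.fst g681_0) [s689, s690] ct681_0 v681_0 5 w681_0_1 := (Phs.fin c681_1)
theorem n681 : Sound.{u} (cP4r 1 3) s681 0 :=
  (x681_2.ext2 (fun h => absurd h (by decide)) (AuxS.gam x681_2 c681_0) (AllS.cons n689 (AllS.cons n690 AllS.nil)) c681_3 (Phs.fin (ct := ct681_0) rfl) (Phs.stp c681_2 p681_0_1) :)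
theorem x682 : AuxS.{u} (cP4r 1 3) s682 0 a682 := aux_base3 tw384 rfl b682
theorem x682_1 : AuxS.{u} (cP4r 1 3) s682 0 a682_1 := x682
theorem x682_2 : AuxS.{u} (cP4r 1 3) s682 0 a682_2 := x682_1
theorem n682 : Sound.{u} (cP4r 1 3) s682 0 :=
  (x682_2.ext2 (fun h => absurd h (by decide)) GamS.nil AllS.nil c682_1 (Phs.fin (ct := ct682_0) rfl) (Phs.fin c682_0) :)
theorem x683 : AuxS.{u} (cP4r 1 3) s683 0 a683 := aux_base3 tw385 rfl b683
theorem x683_1 : AuxS.{u} (cP4r 1 3) s683 0 a683_1 := (AuxS.up x683 c683_1 :)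
theorem n683 : Sound.{u} (cP4r 1 3) s683 0 :=
  (x683_1.k1 c683_0 :)
theorem x684 : AuxS.{u} (cP4r 1 3) s684 0 a684 := aux_base3 tw386 rfl b684
theorem x684_1 : AuxS.{u} (cP4r 1 3) s684 0 a684_1 := (AuxS.up x684 c684_1 :)
theorem n684 : Sound.{u} (cP4r 1 3) s684 0 :=
  (x684_1.k1 c684_0 :)
theorem x685 : AuxS.{u} (cP4r 1 3) s685 0 a685 := aux_base3 tw387 rfl b685
theorem x685_1 : AuxS.{u} (cP4r 1 3) s685 0 a685_1 := x685
theorem x685_2 : AuxS.{u} (cP4r 1 3) s685 0 a685_2 := x685_1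
theorem n685 : Sound.{u} (cP4r 1 3) s685 0 :=
  (x685_2.ext2 (fun h => absurd h (by decide)) GamS.nil AllS.nil c685_1 (Phs.fin (ct := ct685_0) rfl) (Phs.fin c685_0) :)
theorem x713 : AuxS.{u} (cP4r 1 3) s713 0 a713 := aux_base3 tw413 rfl b713
theorem x713_1 : AuxS.{u} (cP4r 1 3) s713 0 a713_1 := x713
theorem x713_2 : AuxS.{u} (cP4r 1 3) s713 0 a713_2 := x713_1
theorem n713 : Sound.{u} (cP4r 1 3) s713 0 :=
  (x713_2.fr GamS.nil AllS.nil c713_0 :)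
theorem x714 : AuxS.{u} (cP4r 1 3) s714 0 a714 := aux_base3 tw414 rfl b714
theorem x714_1 : AuxS.{u} (cP4r 1 3) s714 0 a714_1 := x714
theorem x714_2 : AuxS.{u} (cP4r 1 3) s714 0 a714_2 := x714_1
theorem n714 : Sound.{u} (cP4r 1 3) s714 0 :=
  (x714_2.fr GamS.nil AllS.nil c714_0 :)
theorem x715 : AuxS.{u} (cP4r 1 3) s715 0 a715 := aux_base3 tw415 rfl b715
theorem x715_1 : AuxS.{u} (cP4r 1 3) s715 0 a715_1 := x715
theorem x715_2 : AuxS.{u} (cP4r 1 3) s715 0 a715_2 := x715_1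
theorem n715 : Sound.{u} (cP4r 1 3) s715 0 :=
  (x715_2.fr GamS.nil AllS.nil c715_0 :)
theorem x716 : AuxS.{u} (cP4r 1 3) s716 0 a716 := aux_base3 tw416 rfl b716
theorem x716_1 : AuxS.{u} (cP4r 1 3) s716 0 a716_1 := x716
theorem x716_2 : AuxS.{u} (cP4r 1 3) s716 0 a716_2 := x716_1
theorem n716 : Sound.{u} (cP4r 1 3) s716 0 :=
  (x716_2.fr GamS.nil AllS.nil c716_0 :)
theorem x717 : AuxS.{u} (cP4r 1 3) s717 0 a717 := aux_base3 tw417 rfl b717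
theorem n717 : Sound.{u} (cP4r 1 3) s717 0 :=
  (x717.k4 c717_0 :)
theorem x718 : AuxS.{u} (cP4r 1 3) s718 0 a718 := aux_base3 tw418 rfl b718
theorem n718 : Sound.{u} (cP4r 1 3) s718 0 :=
  (x718.k4 c718_0 :)
theorem x719 : AuxS.{u} (cP4r 1 3) s719 0 a719 := aux_base3 tw419 rfl b719
theorem n719 : Sound.{u} (cP4r 1 3) s719 0 :=
  (x719.k4 c719_0 :)
theorem x720 : AuxS.{u} (cP4r 1 3) s720 0 a720 := aux_base3 tw420 rfl b720
theorem n720 : Sound.{u} (cP4r 1 3) s720 0 :=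
  (x720.k4 c720_0 :)
theorem x721 : AuxS.{u} (cP4r 1 3) s721 0 a721 := aux_base3 tw421 rfl b721
theorem x721_1 : AuxS.{u} (cP4r 1 3) s721 0 a721_1 := x721
theorem x721_2 : AuxS.{u} (cP4r 1 3) s721 0 a721_2 := x721_1
theorem n721 : Sound.{u} (cP4r 1 3) s721 0 :=
  (x721_2.fr GamS.nil AllS.nil c721_0 :)
theorem x722 : AuxS.{u} (cP4r 1 3) s722 0 a722 := aux_base3 tw422 rfl b722
theorem x722_1 : AuxS.{u} (cP4r 1 3) s722 0 a722_1 := x722
theorem x722_2 : AuxS.{u} (cP4r 1 3) s722 0 a722_2 := x722_1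
theorem n722 : Sound.{u} (cP4r 1 3) s722 0 :=
  (x722_2.fr GamS.nil AllS.nil c722_0 :)
theorem x723 : AuxS.{u} (cP4r 1 3) s723 0 a723 := aux_base3 tw423 rfl b723
theorem x723_1 : AuxS.{u} (cP4r 1 3) s723 0 a723_1 := x723
theorem x723_2 : AuxS.{u} (cP4r 1 3) s723 0 a723_2 := x723_1
theorem n723 : Sound.{u} (cP4r 1 3) s723 0 :=
  (x723_2.fr GamS.nil AllS.nil c723_0 :)
theorem x724 : AuxS.{u} (cP4r 1 3) s724 0 a724 := aux_base3 tw424 rfl b724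
theorem x724_1 : AuxS.{u} (cP4r 1 3) s724 0 a724_1 := x724
theorem x724_2 : AuxS.{u} (cP4r 1 3) s724 0 a724_2 := x724_1
theorem n724 : Sound.{u} (cP4r 1 3) s724 0 :=
  (x724_2.fr GamS.nil AllS.nil c724_0 :)
theorem x725 : AuxS.{u} (cP4r 1 3) s725 0 a725 := aux_base3 tw425 rfl b725
theorem n725 : Sound.{u} (cP4r 1 3) s725 0 :=
  (x725.k4 c725_0 :)
theorem x726 : AuxS.{u} (cP4r 1 3) s726 0 a726 := aux_base3 tw426 rfl b726
theorem n726 : Sound.{u} (cP4r 1 3) s726 0 :=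
  (x726.k4 c726_0 :)
theorem x727 : AuxS.{u} (cP4r 1 3) s727 0 a727 := aux_base3 tw427 rfl b727
theorem n727 : Sound.{u} (cP4r 1 3) s727 0 :=
  (x727.k4 c727_0 :)
theorem x728 : AuxS.{u} (cP4r 1 3) s728 0 a728 := aux_base3 tw428 rfl b728
theorem n728 : Sound.{u} (cP4r 1 3) s728 0 :=
  (x728.k4 c728_0 :)
theorem x729 : AuxS.{u} (cP4r 1 3) s729 0 a729 := aux_base3 tw429 rfl b729
theorem n729 : Sound.{u} (cP4r 1 3) s729 0 :=
  (x729.k3 c729_0 :)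
theorem x730 : AuxS.{u} (cP4r 1 3) s730 0 a730 := aux_base3 tw430 rfl b730
theorem n730 : Sound.{u} (cP4r 1 3) s730 0 :=
  (x730.k3 c730_0 :)
theorem x712 : AuxS.{u} (cP4r 1 3) s712 0 a712 := aux_base3 tw388 rfl b712
theorem x712_1 : AuxS.{u} (cP4r 1 3) s712 0 a712_1 := (AuxS.up x712 c712_6 :)
theorem x712_2 : AuxS.{u} (cP4r 1 3) s712 0 a712_2 := (AuxS.up2 x712_1 c712_7 :)
theorem x712_3 : AuxS.{u} (cP4r 1 3) s712 0 a712_3 := x712_2
theorem p712_0_1 : Phs s712 a712_3 (List.map Prod.fst g712_0) [s713, s714, s715, s716, s717, s718, s719, s720, s721, s722, s723, s724, s725, s726, s727, s728, s729, s730] ct712_0 v712_0 5 w712_0_1 := (Phs.fin c712_1)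
theorem p712_0_3 : Phs s712 a712_3 (List.map Prod.fst g712_0) [s713, s714, s715, s716, s717, s718, s719, s720, s721, s722, s723, s724, s725, s726, s727, s728, s729, s730] ct712_0 v712_0 4 w712_0_3 := (Phs.stp c712_2 p712_0_1)
theorem p712_0_5 : Phs s712 a712_3 (List.map Prod.fst g712_0) [s713, s714, s715, s716, s717, s718, s719, s720, s721, s722, s723, s724, s725, s726, s727, s728, s729, s730] ct712_0 v712_0 1 w712_0_5 := (Phs.stp c712_3 p712_0_3)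
theorem n712 : Sound.{u} (cP4r 1 3) s712 0 :=
  (x712_3.ext2 (fun h => absurd h (by decide)) (AuxS.gam x712_3 c712_0) (AllS.cons n713 (AllS.cons n714 (AllS.cons n715 (AllS.cons n716 (AllS.cons n717 (AllS.cons n718 (AllS.cons n719 (AllS.cons n720 (AllS.cons n721 (AllS.cons n722 (AllS.cons n723 (AllS.cons n724 (AllS.cons n725 (AllS.cons n726 (AllS.cons n727 (AllS.cons n728 (AllS.cons n729 (AllS.cons n730 AllS.nil)))))))))))))))))) c712_5 (Phs.stp c712_4 p712_0_5) (Phs.fin (ct := ct712_0) rfl) :)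
theorem x710 : AuxS.{u} (cP4r 1 3) s710 0 a710 := aux_base3 tw411 rfl b710
theorem x710_1 : AuxS.{u} (cP4r 1 3) s710 0 a710_1 := x710
theorem x710_2 : AuxS.{u} (cP4r 1 3) s710 0 a710_2 := x710_1
theorem n710 : Sound.{u} (cP4r 1 3) s710 0 :=
  (x710_2.jump c710_0 c710_1 n712 :)
theorem x711 : AuxS.{u} (cP4r 1 3) s711 0 a711 := aux_base3 tw412 rfl b711
theorem x711_1 : AuxS.{u} (cP4r 1 3) s711 0 a711_1 := (AuxS.up x711 c711_1 :)
theorem n711 : Sound.{u} (cP4r 1 3) s711 0 :=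
  (x711_1.k1 c711_0 :)
theorem x686 : AuxS.{u} (cP4r 1 3) s686 0 a686 := aux_base3 tw388 rfl b686
theorem x686_1 : AuxS.{u} (cP4r 1 3) s686 0 a686_1 := x686
theorem x686_2 : AuxS.{u} (cP4r 1 3) s686 0 a686_2 := x686_1
theorem p686_0_1 : Phs s686 a686_2 (List.map Prod.fst g686_0) [s710, s711] ct686_0 v686_0 5 w686_0_1 := (Phs.fin c686_1)
theorem n686 : Sound.{u} (cP4r 1 3) s686 0 :=
  (x686_2.ext2 (fun h => absurd h (by decide)) (AuxS.gam x686_2 c686_0) (AllS.cons n710 (AllS.cons n711 AllS.nil)) c686_3 (Phs.fin (ct := ct686_0) rfl) (Phs.stp c686_2 p686_0_1) :)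
theorem x687 : AuxS.{u} (cP4r 1 3) s687 0 a687 := aux_base3 tw389 rfl b687
theorem x687_1 : AuxS.{u} (cP4r 1 3) s687 0 a687_1 := (AuxS.up x687 c687_1 :)
theorem n687 : Sound.{u} (cP4r 1 3) s687 0 :=
  (x687_1.k1 c687_0 :)
theorem x688 : AuxS.{u} (cP4r 1 3) s688 0 a688 := aux_base3 tw390 rfl b688
theorem x688_1 : AuxS.{u} (cP4r 1 3) s688 0 a688_1 := (AuxS.up x688 c688_1 :)
theorem n688 : Sound.{u} (cP4r 1 3) s688 0 :=
  (x688_1.k1 c688_0 :)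
theorem x26 : AuxS.{u} (cP4r 1 3) s26 0 a26 := aux_base3 tw26 rfl b26
theorem x26_1 : AuxS.{u} (cP4r 1 3) s26 0 a26_1 := (AuxS.up x26 c26_4 :)
theorem p26_0_1 : Phs s26 a26_1 [] [s681, s682, s683, s684, s685, s686, s687, s688] ct26_0 v26_0 4 w26_0_1 := (Phs.fin c26_0)
theorem p26_0_3 : Phs s26 a26_1 [] [s681, s682, s683, s684, s685, s686, s687, s688] ct26_0 v26_0 1 w26_0_3 := (Phs.stp c26_1 p26_0_1)
theorem n26 : Sound.{u} (cP4r 1 3) s26 0 :=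
  (x26_1.ext2 (fun h => absurd h (by decide)) GamS.nil (AllS.cons n681 (AllS.cons n682 (AllS.cons n683 (AllS.cons n684 (AllS.cons n685 (AllS.cons n686 (AllS.cons n687 (AllS.cons n688 AllS.nil)))))))) c26_3 (Phs.stp c26_2 p26_0_3) (Phs.fin (ct := ct26_0) rfl) :)
theorem x731 : AuxS.{u} (cP4r 1 3) s731 0 a731 := aux_base3 tw431 rfl b731
theorem x731_1 : AuxS.{u} (cP4r 1 3) s731 0 a731_1 := (AuxS.up x731 c731_1 :)
theorem x731_2p : AuxS.{u} (cP4r 1 3) s731 0 a731_2p := (AuxS.up x731_1 c731_2 :)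
theorem x731_2 : AuxS.{u} (cP4r 1 3) s731 0 a731_2 := (AuxS.up2 x731_2p c731_3 :)
theorem n731 : Sound.{u} (cP4r 1 3) s731 0 :=
  (x731_2.k7 c731_0 :)
theorem x732 : AuxS.{u} (cP4r 1 3) s732 0 a732 := aux_base3 tw432 rfl b732
theorem x732_1 : AuxS.{u} (cP4r 1 3) s732 0 a732_1 := (AuxS.up x732 c732_1 :)
theorem n732 : Sound.{u} (cP4r 1 3) s732 0 :=
  (x732_1.k1 c732_0 :)
theorem x749 : AuxS.{u} (cP4r 1 3) s749 0 a749 := aux_base3 tw446 rfl b749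
theorem x749_1 : AuxS.{u} (cP4r 1 3) s749 0 a749_1 := x749
theorem x749_2 : AuxS.{u} (cP4r 1 3) s749 0 a749_2 := x749_1
theorem n749 : Sound.{u} (cP4r 1 3) s749 0 :=
  (x749_2.jump c749_0 c749_1 n245 :)
theorem x750 : AuxS.{u} (cP4r 1 3) s750 0 a750 := aux_base3 tw446 rfl b750
theorem x750_1 : AuxS.{u} (cP4r 1 3) s750 0 a750_1 := x750
theorem x750_2 : AuxS.{u} (cP4r 1 3) s750 0 a750_2 := x750_1
theorem n750 : Sound.{u} (cP4r 1 3) s750 0 :=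
  (x750_2.jump c750_0 c750_1 n245 :)
theorem x751 : AuxS.{u} (cP4r 1 3) s751 0 a751 := aux_base3 tw446 rfl b751
theorem x751_1 : AuxS.{u} (cP4r 1 3) s751 0 a751_1 := x751
theorem x751_2 : AuxS.{u} (cP4r 1 3) s751 0 a751_2 := x751_1
theorem n751 : Sound.{u} (cP4r 1 3) s751 0 :=
  (x751_2.jump c751_0 c751_1 n245 :)
theorem x752 : AuxS.{u} (cP4r 1 3) s752 0 a752 := aux_base3 tw446 rfl b752
theorem x752_1 : AuxS.{u} (cP4r 1 3) s752 0 a752_1 := x752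
theorem x752_2 : AuxS.{u} (cP4r 1 3) s752 0 a752_2 := x752_1
theorem n752 : Sound.{u} (cP4r 1 3) s752 0 :=
  (x752_2.jump c752_0 c752_1 n245 :)
theorem x748 : AuxS.{u} (cP4r 1 3) s748 0 a748 := aux_base3 tw446 rfl b748
theorem x748_1 : AuxS.{u} (cP4r 1 3) s748 0 a748_1 := x748
theorem x748_2 : AuxS.{u} (cP4r 1 3) s748 0 a748_2 := x748_1
theorem n748 : Sound.{u} (cP4r 1 3) s748 0 :=
  (x748_2.rho (AllS.cons n749 (AllS.cons n750 (AllS.cons n751 (AllS.cons n752 AllS.nil)))) c748_0 :)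
theorem x746 : AuxS.{u} (cP4r 1 3) s746 0 a746 := aux_base3 tw443 rfl b746
theorem x746_1 : AuxS.{u} (cP4r 1 3) s746 0 a746_1 := x746
theorem x746_2 : AuxS.{u} (cP4r 1 3) s746 0 a746_2 := x746_1
theorem n746 : Sound.{u} (cP4r 1 3) s746 0 :=
  (x746_2.jump2 c746_0 c746_1 n748 :)
theorem x747 : AuxS.{u} (cP4r 1 3) s747 0 a747 := aux_base3 tw444 rfl b747
theorem x747_1 : AuxS.{u} (cP4r 1 3) s747 0 a747_1 := (AuxS.up x747 c747_1 :)
theorem x747_2 : AuxS.{u} (cP4r 1 3) s747 0 a747_2 := x747_1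
theorem x747_3 : AuxS.{u} (cP4r 1 3) s747 0 a747_3 := (AuxS.up2 x747_2 c747_2 :)
theorem n747 : Sound.{u} (cP4r 1 3) s747 0 :=
  (x747_3.k7 c747_0 :)
theorem x744 : AuxS.{u} (cP4r 1 3) s744 0 a744 := aux_base3 tw441 rfl b744
theorem x744_1 : AuxS.{u} (cP4r 1 3) s744 0 a744_1 := x744
theorem x744_2 : AuxS.{u} (cP4r 1 3) s744 0 a744_2 := x744_1
theorem x744_3 : AuxS.{u} (cP4r 1 3) s744 0 a744_3 := x744_2
theorem x744_4 : AuxS.{u} (cP4r 1 3) s744 0 a744_4 := x744_3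
theorem n744 : Sound.{u} (cP4r 1 3) s744 0 :=
  (x744_4.fr2 GamS.nil (AllS.cons n746 (AllS.cons n747 AllS.nil)) c744_0 :)
theorem x745 : AuxS.{u} (cP4r 1 3) s745 0 a745 := aux_base3 tw441 rfl b745
theorem n745 : Sound.{u} (cP4r 1 3) s745 0 :=
  (x745.k4 c745_0 :)
theorem x742 : AuxS.{u} (cP4r 1 3) s742 0 a742 := aux_base3 tw441 rfl b742
theorem x742_1 : AuxS.{u} (cP4r 1 3) s742 0 a742_1 := x742
theorem x742_2 : AuxS.{u} (cP4r 1 3) s742 0 a742_2 := x742_1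
theorem n742 : Sound.{u} (cP4r 1 3) s742 0 :=
  (x742_2.fr GamS.nil (AllS.cons n744 (AllS.cons n745 AllS.nil)) c742_0 :)
theorem x753 : AuxS.{u} (cP4r 1 3) s753 0 a753 := aux_base3 tw442 rfl b753
theorem n753 : Sound.{u} (cP4r 1 3) s753 0 :=
  (x753.k4 c753_0 :)
theorem x758 : AuxS.{u} (cP4r 1 3) s758 0 a758 := aux_base3 tw450 rfl b758
theorem x758_1 : AuxS.{u} (cP4r 1 3) s758 0 a758_1 := x758
theorem x758_2 : AuxS.{u} (cP4r 1 3) s758 0 a758_2 := x758_1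
theorem n758 : Sound.{u} (cP4r 1 3) s758 0 :=
  (x758_2.jump c758_0 c758_1 n266 :)
theorem x759 : AuxS.{u} (cP4r 1 3) s759 0 a759 := aux_base3 tw450 rfl b759
theorem x759_1 : AuxS.{u} (cP4r 1 3) s759 0 a759_1 := x759
theorem x759_2 : AuxS.{u} (cP4r 1 3) s759 0 a759_2 := x759_1
theorem n759 : Sound.{u} (cP4r 1 3) s759 0 :=
  (x759_2.jump c759_0 c759_1 n266 :)
theorem x760 : AuxS.{u} (cP4r 1 3) s760 0 a760 := aux_base3 tw450 rfl b760
theorem x760_1 : AuxS.{u} (cP4r 1 3) s760 0 a760_1 := x760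
theorem x760_2 : AuxS.{u} (cP4r 1 3) s760 0 a760_2 := x760_1
theorem n760 : Sound.{u} (cP4r 1 3) s760 0 :=
  (x760_2.jump c760_0 c760_1 n266 :)
theorem x761 : AuxS.{u} (cP4r 1 3) s761 0 a761 := aux_base3 tw450 rfl b761
theorem x761_1 : AuxS.{u} (cP4r 1 3) s761 0 a761_1 := x761
theorem x761_2 : AuxS.{u} (cP4r 1 3) s761 0 a761_2 := x761_1
theorem n761 : Sound.{u} (cP4r 1 3) s761 0 :=
  (x761_2.jump c761_0 c761_1 n266 :)
theorem x757 : AuxS.{u} (cP4r 1 3) s757 0 a757 := aux_base3 tw450 rfl b757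
theorem x757_1 : AuxS.{u} (cP4r 1 3) s757 0 a757_1 := x757
theorem x757_2 : AuxS.{u} (cP4r 1 3) s757 0 a757_2 := x757_1
theorem n757 : Sound.{u} (cP4r 1 3) s757 0 :=
  (x757_2.rho (AllS.cons n758 (AllS.cons n759 (AllS.cons n760 (AllS.cons n761 AllS.nil)))) c757_0 :)
theorem x755 : AuxS.{u} (cP4r 1 3) s755 0 a755 := aux_base3 tw447 rfl b755
theorem x755_1 : AuxS.{u} (cP4r 1 3) s755 0 a755_1 := x755
theorem x755_2 : AuxS.{u} (cP4r 1 3) s755 0 a755_2 := x755_1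
theorem n755 : Sound.{u} (cP4r 1 3) s755 0 :=
  (x755_2.jump2 c755_0 c755_1 n757 :)
theorem x763 : AuxS.{u} (cP4r 1 3) s763 0 a763 := aux_base3 tw452 rfl b763
theorem x763_1 : AuxS.{u} (cP4r 1 3) s763 0 a763_1 := x763
theorem x763_2 : AuxS.{u} (cP4r 1 3) s763 0 a763_2 := x763_1
theorem n763 : Sound.{u} (cP4r 1 3) s763 0 :=
  (x763_2.jump c763_0 c763_1 n283 :)
theorem x764 : AuxS.{u} (cP4r 1 3) s764 0 a764 := aux_base3 tw452 rfl b764
theorem x764_1 : AuxS.{u} (cP4r 1 3) s764 0 a764_1 := x764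
theorem x764_2 : AuxS.{u} (cP4r 1 3) s764 0 a764_2 := x764_1
theorem n764 : Sound.{u} (cP4r 1 3) s764 0 :=
  (x764_2.jump c764_0 c764_1 n283 :)
theorem x765 : AuxS.{u} (cP4r 1 3) s765 0 a765 := aux_base3 tw452 rfl b765
theorem x765_1 : AuxS.{u} (cP4r 1 3) s765 0 a765_1 := x765
theorem x765_2 : AuxS.{u} (cP4r 1 3) s765 0 a765_2 := x765_1
theorem n765 : Sound.{u} (cP4r 1 3) s765 0 :=
  (x765_2.jump c765_0 c765_1 n283 :)
theorem x766 : AuxS.{u} (cP4r 1 3) s766 0 a766 := aux_base3 tw452 rfl b766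
theorem x766_1 : AuxS.{u} (cP4r 1 3) s766 0 a766_1 := x766
theorem x766_2 : AuxS.{u} (cP4r 1 3) s766 0 a766_2 := x766_1
theorem n766 : Sound.{u} (cP4r 1 3) s766 0 :=
  (x766_2.jump c766_0 c766_1 n283 :)
theorem x762 : AuxS.{u} (cP4r 1 3) s762 0 a762 := aux_base3 tw452 rfl b762
theorem x762_1 : AuxS.{u} (cP4r 1 3) s762 0 a762_1 := x762
theorem x762_2 : AuxS.{u} (cP4r 1 3) s762 0 a762_2 := x762_1
theorem n762 : Sound.{u} (cP4r 1 3) s762 0 :=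
  (x762_2.rho (AllS.cons n763 (AllS.cons n764 (AllS.cons n765 (AllS.cons n766 AllS.nil)))) c762_0 :)
theorem x756 : AuxS.{u} (cP4r 1 3) s756 0 a756 := aux_base3 tw448 rfl b756
theorem x756_1 : AuxS.{u} (cP4r 1 3) s756 0 a756_1 := x756
theorem x756_2 : AuxS.{u} (cP4r 1 3) s756 0 a756_2 := x756_1
theorem n756 : Sound.{u} (cP4r 1 3) s756 0 :=
  (x756_2.jump2 c756_0 c756_1 n762 :)
theorem x754 : AuxS.{u} (cP4r 1 3) s754 0 a754 := aux_base3 tw442 rfl b754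
theorem x754_1 : AuxS.{u} (cP4r 1 3) s754 0 a754_1 := x754
theorem x754_2 : AuxS.{u} (cP4r 1 3) s754 0 a754_2 := x754_1
theorem x754_3 : AuxS.{u} (cP4r 1 3) s754 0 a754_3 := x754_2
theorem x754_4 : AuxS.{u} (cP4r 1 3) s754 0 a754_4 := x754_3
theorem n754 : Sound.{u} (cP4r 1 3) s754 0 :=
  (x754_4.fr2 GamS.nil (AllS.cons n755 (AllS.cons n756 AllS.nil)) c754_0 :)
theorem x743 : AuxS.{u} (cP4r 1 3) s743 0 a743 := aux_base3 tw442 rfl b743
theorem x743_1 : AuxS.{u} (cP4r 1 3) s743 0 a743_1 := x743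
theorem x743_2 : AuxS.{u} (cP4r 1 3) s743 0 a743_2 := x743_1
theorem n743 : Sound.{u} (cP4r 1 3) s743 0 :=
  (x743_2.fr GamS.nil (AllS.cons n753 (AllS.cons n754 AllS.nil)) c743_0 :)
theorem x741 : AuxS.{u} (cP4r 1 3) s741 0 a741 := aux_base3 tw433 rfl b741
theorem x741_1 : AuxS.{u} (cP4r 1 3) s741 0 a741_1 := (AuxS.up x741 c741_6 :)
theorem x741_2 : AuxS.{u} (cP4r 1 3) s741 0 a741_2 := x741_1
theorem p741_0_1 : Phs s741 a741_2 (List.map Prod.fst g741_0) [s742, s743] ct741_0 v741_0 5 w741_0_1 := (Phs.fin c741_1)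
theorem p741_0_3 : Phs s741 a741_2 (List.map Prod.fst g741_0) [s742, s743] ct741_0 v741_0 4 w741_0_3 := (Phs.stp c741_2 p741_0_1)
theorem p741_0_5 : Phs s741 a741_2 (List.map Prod.fst g741_0) [s742, s743] ct741_0 v741_0 1 w741_0_5 := (Phs.stp c741_3 p741_0_3)
theorem n741 : Sound.{u} (cP4r 1 3) s741 0 :=
  (x741_2.ext2 (fun h => absurd h (by decide)) (AuxS.gam x741_2 c741_0) (AllS.cons n742 (AllS.cons n743 AllS.nil)) c741_5 (Phs.stp c741_4 p741_0_5) (Phs.fin (ct := ct741_0) rfl) :)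
theorem x739 : AuxS.{u} (cP4r 1 3) s739 0 a739 := aux_base3 tw439 rfl b739
theorem x739_1 : AuxS.{u} (cP4r 1 3) s739 0 a739_1 := x739
theorem x739_2 : AuxS.{u} (cP4r 1 3) s739 0 a739_2 := x739_1
theorem n739 : Sound.{u} (cP4r 1 3) s739 0 :=
  (x739_2.jump c739_0 c739_1 n741 :)
theorem x740 : AuxS.{u} (cP4r 1 3) s740 0 a740 := aux_base3 tw440 rfl b740
theorem x740_1 : AuxS.{u} (cP4r 1 3) s740 0 a740_1 := (AuxS.up x740 c740_1 :)
theorem n740 : Sound.{u} (cP4r 1 3) s740 0 :=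
  (x740_1.k1 c740_0 :)
theorem x733 : AuxS.{u} (cP4r 1 3) s733 0 a733 := aux_base3 tw433 rfl b733
theorem x733_1 : AuxS.{u} (cP4r 1 3) s733 0 a733_1 := x733
theorem x733_2 : AuxS.{u} (cP4r 1 3) s733 0 a733_2 := x733_1
theorem p733_0_1 : Phs s733 a733_2 (List.map Prod.fst g733_0) [s739, s740] ct733_0 v733_0 5 w733_0_1 := (Phs.fin c733_1)
theorem n733 : Sound.{u} (cP4r 1 3) s733 0 :=
  (x733_2.ext2 (fun h => absurd h (by decide)) (AuxS.gam x733_2 c733_0) (AllS.cons n739 (AllS.cons n740 AllS.nil)) c733_3 (Phs.fin (ct := ct733_0) rfl) (Phs.stp c733_2 p733_0_1) :)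
theorem x734 : AuxS.{u} (cP4r 1 3) s734 0 a734 := aux_base3 tw434 rfl b734
theorem x734_1 : AuxS.{u} (cP4r 1 3) s734 0 a734_1 := (AuxS.up x734 c734_1 :)
theorem n734 : Sound.{u} (cP4r 1 3) s734 0 :=
  (x734_1.k1 c734_0 :)
theorem x735 : AuxS.{u} (cP4r 1 3) s735 0 a735 := aux_base3 tw435 rfl b735
theorem x735_1 : AuxS.{u} (cP4r 1 3) s735 0 a735_1 := (AuxS.up x735 c735_1 :)
theorem n735 : Sound.{u} (cP4r 1 3) s735 0 :=
  (x735_1.k1 c735_0 :)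
theorem x736 : AuxS.{u} (cP4r 1 3) s736 0 a736 := aux_base3 tw436 rfl b736
theorem x736_1 : AuxS.{u} (cP4r 1 3) s736 0 a736_1 := (AuxS.up x736 c736_1 :)
theorem x736_2p : AuxS.{u} (cP4r 1 3) s736 0 a736_2p := (AuxS.up x736_1 c736_2 :)
theorem x736_2 : AuxS.{u} (cP4r 1 3) s736 0 a736_2 := (AuxS.up2 x736_2p c736_3 :)
theorem n736 : Sound.{u} (cP4r 1 3) s736 0 :=
  (x736_2.k7 c736_0 :)
theorem x737 : AuxS.{u} (cP4r 1 3) s737 0 a737 := aux_base3 tw437 rfl b737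
theorem x737_1 : AuxS.{u} (cP4r 1 3) s737 0 a737_1 := (AuxS.up x737 c737_1 :)
theorem n737 : Sound.{u} (cP4r 1 3) s737 0 :=
  (x737_1.k1 c737_0 :)
theorem x769 : AuxS.{u} (cP4r 1 3) s769 0 a769 := aux_base3 tw453 rfl b769
theorem x769_1 : AuxS.{u} (cP4r 1 3) s769 0 a769_1 := (AuxS.up x769 c769_1 :)
theorem n769 : Sound.{u} (cP4r 1 3) s769 0 :=
  (x769_1.k1 c769_0 :)
theorem x770 : AuxS.{u} (cP4r 1 3) s770 0 a770 := aux_base3 tw453 rfl b770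
theorem x770_1 : AuxS.{u} (cP4r 1 3) s770 0 a770_1 := (AuxS.up x770 c770_1 :)
theorem n770 : Sound.{u} (cP4r 1 3) s770 0 :=
  (x770_1.k1 c770_0 :)
theorem x771 : AuxS.{u} (cP4r 1 3) s771 0 a771 := aux_base3 tw453 rfl b771
theorem x771_1 : AuxS.{u} (cP4r 1 3) s771 0 a771_1 := (AuxS.up x771 c771_1 :)
theorem n771 : Sound.{u} (cP4r 1 3) s771 0 :=
  (x771_1.k1 c771_0 :)
theorem x772 : AuxS.{u} (cP4r 1 3) s772 0 a772 := aux_base3 tw453 rfl b772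
theorem x772_1 : AuxS.{u} (cP4r 1 3) s772 0 a772_1 := (AuxS.up x772 c772_1 :)
theorem n772 : Sound.{u} (cP4r 1 3) s772 0 :=
  (x772_1.k1 c772_0 :)
theorem x767 : AuxS.{u} (cP4r 1 3) s767 0 a767 := aux_base3 tw453 rfl b767
theorem x767_1 : AuxS.{u} (cP4r 1 3) s767 0 a767_1 := x767
theorem x767_2 : AuxS.{u} (cP4r 1 3) s767 0 a767_2 := x767_1
theorem x767_3 : AuxS.{u} (cP4r 1 3) s767 0 a767_3 := x767_2
theorem n767 : Sound.{u} (cP4r 1 3) s767 0 :=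
  (x767_3.rho (AllS.cons n769 (AllS.cons n770 (AllS.cons n771 (AllS.cons n772 AllS.nil)))) c767_0 :)
theorem x768 : AuxS.{u} (cP4r 1 3) s768 0 a768 := aux_base3 tw454 rfl b768
theorem x768_1 : AuxS.{u} (cP4r 1 3) s768 0 a768_1 := (AuxS.up x768 c768_1 :)
theorem n768 : Sound.{u} (cP4r 1 3) s768 0 :=
  (x768_1.k1 c768_0 :)
theorem x738 : AuxS.{u} (cP4r 1 3) s738 0 a738 := aux_base3 tw438 rfl b738
theorem x738_1 : AuxS.{u} (cP4r 1 3) s738 0 a738_1 := x738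
theorem x738_2 : AuxS.{u} (cP4r 1 3) s738 0 a738_2 := x738_1
theorem x738_3 : AuxS.{u} (cP4r 1 3) s738 0 a738_3 := x738_2
theorem x738_4 : AuxS.{u} (cP4r 1 3) s738 0 a738_4 := x738_3
theorem p738_0_1 : Phs s738 a738_4 (List.map Prod.fst g738_0) [s767, s768] ct738_0 v738_0 5 w738_0_1 := (Phs.fin c738_1)
theorem n738 : Sound.{u} (cP4r 1 3) s738 0 :=
  (x738_4.ext2 (fun h => absurd h (by decide)) (AuxS.gam x738_4 c738_0) (AllS.cons n767 (AllS.cons n768 AllS.nil)) c738_3 (Phs.fin (ct := ct738_0) rfl) (Phs.stp c738_2 p738_0_1) :)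
theorem x27 : AuxS.{u} (cP4r 1 3) s27 0 a27 := aux_base3 tw27 rfl b27
theorem x27_1 : AuxS.{u} (cP4r 1 3) s27 0 a27_1 := (AuxS.up x27 c27_4 :)
theorem p27_0_1 : Phs s27 a27_1 [] [s731, s732, s733, s734, s735, s736, s737, s738] ct27_0 v27_0 4 w27_0_1 := (Phs.fin c27_0)
theorem p27_0_3 : Phs s27 a27_1 [] [s731, s732, s733, s734, s735, s736, s737, s738] ct27_0 v27_0 1 w27_0_3 := (Phs.stp c27_1 p27_0_1)
theorem n27 : Sound.{u} (cP4r 1 3) s27 0 :=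
  (x27_1.ext2 (fun h => absurd h (by decide)) GamS.nil (AllS.cons n731 (AllS.cons n732 (AllS.cons n733 (AllS.cons n734 (AllS.cons n735 (AllS.cons n736 (AllS.cons n737 (AllS.cons n738 AllS.nil)))))))) c27_3 (Phs.stp c27_2 p27_0_3) (Phs.fin (ct := ct27_0) rfl) :)
theorem x28 : AuxS.{u} (cP4r 1 3) s28 0 a28 := aux_base3 tw28 rfl b28
theorem x28_1 : AuxS.{u} (cP4r 1 3) s28 0 a28_1 := (AuxS.up x28 c28_1 :)
theorem n28 : Sound.{u} (cP4r 1 3) s28 0 :=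
  (x28_1.k1 c28_0 :)
theorem x29 : AuxS.{u} (cP4r 1 3) s29 0 a29 := aux_base3 tw29 rfl b29
theorem n29 : Sound.{u} (cP4r 1 3) s29 0 :=
  (x29.k3 c29_0 :)
theorem x30 : AuxS.{u} (cP4r 1 3) s30 0 a30 := aux_base3 tw30 rfl b30
theorem n30 : Sound.{u} (cP4r 1 3) s30 0 :=
  (x30.k3 c30_0 :)
theorem x31 : AuxS.{u} (cP4r 1 3) s31 0 a31 := aux_base3 tw31 rfl b31
theorem n31 : Sound.{u} (cP4r 1 3) s31 0 :=
  (x31.k3 c31_0 :)
theorem x32 : AuxS.{u} (cP4r 1 3) s32 0 a32 := aux_base3 tw32 rfl b32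
theorem n32 : Sound.{u} (cP4r 1 3) s32 0 :=
  (x32.k3 c32_0 :)
theorem x0 : AuxS.{u} (cP4r 1 3) s0 0 a0 := aux_base3 tw0 rfl b0
theorem x0_1 : AuxS.{u} (cP4r 1 3) s0 0 a0_1 := (AuxS.up x0 c0_3 :)
theorem p0_0_1 : Phs s0 a0_1 [] [s1, s2, s3, s4, s5, s6, s7, s8, s9, s10, s11, s12, s13, s14, s15, s16, s17, s18, s19, s20, s21, s22, s23, s24, s25, s26, s27, s28, s29, s30, s31, s32] ct0_0 v0_0 2 w0_0_1 := (Phs.fin c0_0)
theorem n0 : Sound.{u} (cP4r 1 3) s0 0 :=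
  (x0_1.ext2 (fun h => absurd h (by decide)) GamS.nil (AllS.cons n1 (AllS.cons n2 (AllS.cons n3 (AllS.cons n4 (AllS.cons n5 (AllS.cons n6 (AllS.cons n7 (AllS.cons n8 (AllS.cons n9 (AllS.cons n10 (AllS.cons n11 (AllS.cons n12 (AllS.cons n13 (AllS.cons n14 (AllS.cons n15 (AllS.cons n16 (AllS.cons n17 (AllS.cons n18 (AllS.cons n19 (AllS.cons n20 (AllS.cons n21 (AllS.cons n22 (AllS.cons n23 (AllS.cons n24 (AllS.cons n25 (AllS.cons n26 (AllS.cons n27 (AllS.cons n28 (AllS.cons n29 (AllS.cons n30 (AllS.cons n31 (AllS.cons n32 AllS.nil)))))))))))))))))))))))))))))))) c0_2 (Phs.stp c0_1 p0_0_1) (Phs.fin (ct := ct0_0) rfl) :)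

theorem main : Sound.{u} (cP4r 1 3) (root 1) 0 := n0

end

end CfsgLib.Dih8.TP13
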