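import Cfsg.Agent.Lib.Dih8.G.TP20C0
import Cfsg.Agent.Lib.Dih8.G.TP20C1
import Cfsg.Agent.Lib.Dih8.G.TP20C2
import Cfsg.Agent.Lib.Dih8.G.TP20C3
import Cfsg.Agent.Lib.Dih8.G.TP20C4
import Cfsg.Agent.Lib.Dih8.G.TP20C5
import Cfsg.Agent.Lib.Dih8.G.TP20C6
import Cfsg.Agent.Lib.Dih8.G.TP20C7
import Cfsg.Agent.Lib.Dih8.Rules

/-! Generated certificates (plans/DIH8.md). -/

set_option autoImplicit false
set_option maxRecDepth 100000
set_option Elab.async false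
set_option maxHeartbeats 0
set_option linter.all false

namespace CfsgLib.Dih8.TP20

noncomputable section

universe u

theorem tw43 : Tow.{u} l43 t43 := tow_of tc43_0 (Rng.zero.step tc43_1) (Rng.zero.step tc43_2)
theorem tw63 : Tow.{u} l63 t63 := tow_of tc63_0 (Rng.zero.step tc63_1) (Rng.zero.step tc63_2)
theorem tw64 : Tow.{u} l64 t64 := tow_of tc64_0 (Rng.zero.step tc64_1) (Rng.zero.step tc64_2)
theorem tw65 : Tow.{u} l65 t65 := tow_of tc65_0 (Rng.zero.step tc65_1) (Rng.zero.step tc65_2)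
theorem tw66 : Tow.{u} l66 t66 := tow_of tc66_0 (Rng.zero.step tc66_1) (Rng.zero.step tc66_2)
theorem tw67 : Tow.{u} l67 t67 := tow_of tc67_0 (Rng.zero.step tc67_1) (Rng.zero.step tc67_2)
theorem tw68 : Tow.{u} l68 t68 := tow_of tc68_0 (Rng.zero.step tc68_1) (Rng.zero.step tc68_2)
theorem tw69 : Tow.{u} l69 t69 := tow_of tc69_0 (Rng.zero.step tc69_1) (Rng.zero.step tc69_2)
theorem tw70 : Tow.{u} l70 t70 := tow_of tc70_0 (Rng.zero.step tc70_1) (Rng.zero.step tc70_2)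
theorem tw71 : Tow.{u} l71 t71 := tow_of tc71_0 (Rng.zero.step tc71_1) (Rng.zero.step tc71_2)
theorem tw72 : Tow.{u} l72 t72 := tow_of tc72_0 (Rng.zero.step tc72_1) (Rng.zero.step tc72_2)
theorem tw79 : Tow.{u} l79 t79 := tow_of tc79_0 (Rng.zero.step tc79_1) (Rng.zero.step tc79_2)
theorem tw73 : Tow.{u} l73 t73 := tow_of tc73_0 (Rng.zero.step tc73_1) (Rng.zero.step tc73_2)
theorem tw74 : Tow.{u} l74 t74 := tow_of tc74_0 (Rng.zero.step tc74_1) (Rng.zero.step tc74_2)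
theorem tw75 : Tow.{u} l75 t75 := tow_of tc75_0 (Rng.zero.step tc75_1) (Rng.zero.step tc75_2)
theorem tw76 : Tow.{u} l76 t76 := tow_of tc76_0 (Rng.zero.step tc76_1) (Rng.zero.step tc76_2)
theorem tw77 : Tow.{u} l77 t77 := tow_of tc77_0 (Rng.zero.step tc77_1) (Rng.zero.step tc77_2)
theorem tw80 : Tow.{u} l80 t80 := tow_of tc80_0 (Rng.zero.step tc80_1) (Rng.zero.step tc80_2)
theorem tw78 : Tow.{u} l78 t78 := tow_of tc78_0 (Rng.zero.step tc78_1) (Rng.zero.step tc78_2)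
theorem tw45 : Tow.{u} l45 t45 := tow_of tc45_0 (Rng.zero.step tc45_1) (Rng.zero.step tc45_2)
theorem tw46 : Tow.{u} l46 t46 := tow_of tc46_0 (Rng.zero.step tc46_1) (Rng.zero.step tc46_2)
theorem tw47 : Tow.{u} l47 t47 := tow_of tc47_0 (Rng.zero.step tc47_1) (Rng.zero.step tc47_2)
theorem tw48 : Tow.{u} l48 t48 := tow_of tc48_0 (Rng.zero.step tc48_1) (Rng.zero.step tc48_2)
theorem tw49 : Tow.{u} l49 t49 := tow_of tc49_0 (Rng.zero.step tc49_1) (Rng.zero.step tc49_2)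
theorem tw50 : Tow.{u} l50 t50 := tow_of tc50_0 (Rng.zero.step tc50_1) (Rng.zero.step tc50_2)
theorem tw51 : Tow.{u} l51 t51 := tow_of tc51_0 (Rng.zero.step tc51_1) (Rng.zero.step tc51_2)
theorem tw52 : Tow.{u} l52 t52 := tow_of tc52_0 (Rng.zero.step tc52_1) (Rng.zero.step tc52_2)
theorem tw53 : Tow.{u} l53 t53 := tow_of tc53_0 (Rng.zero.step tc53_1) (Rng.zero.step tc53_2)
theorem tw54 : Tow.{u} l54 t54 := tow_of tc54_0 (Rng.zero.step tc54_1) (Rng.zero.step tc54_2)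
theorem tw55 : Tow.{u} l55 t55 := tow_of tc55_0 (Rng.zero.step tc55_1) (Rng.zero.step tc55_2)
theorem tw56 : Tow.{u} l56 t56 := tow_of tc56_0 (Rng.zero.step tc56_1) (Rng.zero.step tc56_2)
theorem tw57 : Tow.{u} l57 t57 := tow_of tc57_0 (Rng.zero.step tc57_1) (Rng.zero.step tc57_2)
theorem tw58 : Tow.{u} l58 t58 := tow_of tc58_0 (Rng.zero.step tc58_1) (Rng.zero.step tc58_2)
theorem tw59 : Tow.{u} l59 t59 := tow_of tc59_0 (Rng.zero.step tc59_1) (Rng.zero.step tc59_2)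
theorem tw60 : Tow.{u} l60 t60 := tow_of tc60_0 (Rng.zero.step tc60_1) (Rng.zero.step tc60_2)
theorem tw61 : Tow.{u} l61 t61 := tow_of tc61_0 (Rng.zero.step tc61_1) (Rng.zero.step tc61_2)
theorem tw62 : Tow.{u} l62 t62 := tow_of tc62_0 (Rng.zero.step tc62_1) (Rng.zero.step tc62_2)
theorem tw33 : Tow.{u} l33 t33 := tow_of tc33_0 (Rng.zero.step tc33_1) (Rng.zero.step tc33_2)
theorem tw44 : Tow.{u} l44 t44 := tow_of tc44_0 (Rng.zero.step tc44_1) (Rng.zero.step tc44_2)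
theorem tw81 : Tow.{u} l81 t81 := tow_of tc81_0 (Rng.zero.step tc81_1) (Rng.zero.step tc81_2)
theorem tw83 : Tow.{u} l83 t83 := tow_of tc83_0 (Rng.zero.step tc83_1) (Rng.zero.step tc83_2)
theorem tw84 : Tow.{u} l84 t84 := tow_of tc84_0 (Rng.zero.step tc84_1) (Rng.zero.step tc84_2)
theorem tw85 : Tow.{u} l85 t85 := tow_of tc85_0 (Rng.zero.step tc85_1) (Rng.zero.step tc85_2)
theorem tw86 : Tow.{u} l86 t86 := tow_of tc86_0 (Rng.zero.step tc86_1) (Rng.zero.step tc86_2)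
theorem tw87 : Tow.{u} l87 t87 := tow_of tc87_0 (Rng.zero.step tc87_1) (Rng.zero.step tc87_2)
theorem tw88 : Tow.{u} l88 t88 := tow_of tc88_0 (Rng.zero.step tc88_1) (Rng.zero.step tc88_2)
theorem tw89 : Tow.{u} l89 t89 := tow_of tc89_0 (Rng.zero.step tc89_1) (Rng.zero.step tc89_2)
theorem tw90 : Tow.{u} l90 t90 := tow_of tc90_0 (Rng.zero.step tc90_1) (Rng.zero.step tc90_2)
theorem tw91 : Tow.{u} l91 t91 := tow_of tc91_0 (Rng.zero.step tc91_1) (Rng.zero.step tc91_2)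
theorem tw92 : Tow.{u} l92 t92 := tow_of tc92_0 (Rng.zero.step tc92_1) (Rng.zero.step tc92_2)
theorem tw93 : Tow.{u} l93 t93 := tow_of tc93_0 (Rng.zero.step tc93_1) (Rng.zero.step tc93_2)
theorem tw94 : Tow.{u} l94 t94 := tow_of tc94_0 (Rng.zero.step tc94_1) (Rng.zero.step tc94_2)
theorem tw95 : Tow.{u} l95 t95 := tow_of tc95_0 (Rng.zero.step tc95_1) (Rng.zero.step tc95_2)
theorem tw96 : Tow.{u} l96 t96 := tow_of tc96_0 (Rng.zero.step tc96_1) (Rng.zero.step tc96_2)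
theorem tw97 : Tow.{u} l97 t97 := tow_of tc97_0 (Rng.zero.step tc97_1) (Rng.zero.step tc97_2)
theorem tw98 : Tow.{u} l98 t98 := tow_of tc98_0 (Rng.zero.step tc98_1) (Rng.zero.step tc98_2)
theorem tw99 : Tow.{u} l99 t99 := tow_of tc99_0 (Rng.zero.step tc99_1) (Rng.zero.step tc99_2)
theorem tw100 : Tow.{u} l100 t100 := tow_of tc100_0 (Rng.zero.step tc100_1) (Rng.zero.step tc100_2)
theorem tw34 : Tow.{u} l34 t34 := tow_of tc34_0 (Rng.zero.step tc34_1) (Rng.zero.step tc34_2)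
theorem tw82 : Tow.{u} l82 t82 := tow_of tc82_0 (Rng.zero.step tc82_1) (Rng.zero.step tc82_2)
theorem tw35 : Tow.{u} l35 t35 := tow_of tc35_0 (Rng.zero.step tc35_1) (Rng.zero.step tc35_2)
theorem tw36 : Tow.{u} l36 t36 := tow_of tc36_0 (Rng.zero.step tc36_1) (Rng.zero.step tc36_2)
theorem tw37 : Tow.{u} l37 t37 := tow_of tc37_0 (Rng.zero.step tc37_1) (Rng.zero.step tc37_2)
theorem tw38 : Tow.{u} l38 t38 := tow_of tc38_0 (Rng.zero.step tc38_1) (Rng.zero.step tc38_2)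
theorem tw101 : Tow.{u} l101 t101 := tow_of tc101_0 (Rng.zero.step tc101_1) (Rng.zero.step tc101_2)
theorem tw103 : Tow.{u} l103 t103 := tow_of tc103_0 (Rng.zero.step tc103_1) (Rng.zero.step tc103_2)
theorem tw121 : Tow.{u} l121 t121 := tow_of tc121_0 (Rng.zero.step tc121_1) (Rng.zero.step tc121_2)
theorem tw122 : Tow.{u} l122 t122 := tow_of tc122_0 (Rng.zero.step tc122_1) (Rng.zero.step tc122_2)
theorem tw104 : Tow.{u} l104 t104 := tow_of tc104_0 (Rng.zero.step tc104_1) (Rng.zero.step tc104_2)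
theorem tw105 : Tow.{u} l105 t105 := tow_of tc105_0 (Rng.zero.step tc105_1) (Rng.zero.step tc105_2)
theorem tw106 : Tow.{u} l106 t106 := tow_of tc106_0 (Rng.zero.step tc106_1) (Rng.zero.step tc106_2)
theorem tw107 : Tow.{u} l107 t107 := tow_of tc107_0 (Rng.zero.step tc107_1) (Rng.zero.step tc107_2)
theorem tw108 : Tow.{u} l108 t108 := tow_of tc108_0 (Rng.zero.step tc108_1) (Rng.zero.step tc108_2)
theorem tw109 : Tow.{u} l109 t109 := tow_of tc109_0 (Rng.zero.step tc109_1) (Rng.zero.step tc109_2)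
theorem tw110 : Tow.{u} l110 t110 := tow_of tc110_0 (Rng.zero.step tc110_1) (Rng.zero.step tc110_2)
theorem tw111 : Tow.{u} l111 t111 := tow_of tc111_0 (Rng.zero.step tc111_1) (Rng.zero.step tc111_2)
theorem tw112 : Tow.{u} l112 t112 := tow_of tc112_0 (Rng.zero.step tc112_1) (Rng.zero.step tc112_2)
theorem tw113 : Tow.{u} l113 t113 := tow_of tc113_0 (Rng.zero.step tc113_1) (Rng.zero.step tc113_2)
theorem tw114 : Tow.{u} l114 t114 := tow_of tc114_0 (Rng.zero.step tc114_1) (Rng.zero.step tc114_2)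
theorem tw115 : Tow.{u} l115 t115 := tow_of tc115_0 (Rng.zero.step tc115_1) (Rng.zero.step tc115_2)
theorem tw116 : Tow.{u} l116 t116 := tow_of tc116_0 (Rng.zero.step tc116_1) (Rng.zero.step tc116_2)
theorem tw117 : Tow.{u} l117 t117 := tow_of tc117_0 (Rng.zero.step tc117_1) (Rng.zero.step tc117_2)
theorem tw118 : Tow.{u} l118 t118 := tow_of tc118_0 (Rng.zero.step tc118_1) (Rng.zero.step tc118_2)
theorem tw119 : Tow.{u} l119 t119 := tow_of tc119_0 (Rng.zero.step tc119_1) (Rng.zero.step tc119_2)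
theorem tw120 : Tow.{u} l120 t120 := tow_of tc120_0 (Rng.zero.step tc120_1) (Rng.zero.step tc120_2)
theorem tw39 : Tow.{u} l39 t39 := tow_of tc39_0 (Rng.zero.step tc39_1) (Rng.zero.step tc39_2)
theorem tw102 : Tow.{u} l102 t102 := tow_of tc102_0 (Rng.zero.step tc102_1) (Rng.zero.step tc102_2)
theorem tw123 : Tow.{u} l123 t123 := tow_of tc123_0 (Rng.zero.step tc123_1) (Rng.zero.step tc123_2)
theorem tw125 : Tow.{u} l125 t125 := tow_of tc125_0 (Rng.zero.step tc125_1) (Rng.zero.step tc125_2)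
theorem tw126 : Tow.{u} l126 t126 := tow_of tc126_0 (Rng.zero.step tc126_1) (Rng.zero.step tc126_2)
theorem tw127 : Tow.{u} l127 t127 := tow_of tc127_0 (Rng.zero.step tc127_1) (Rng.zero.step tc127_2)
theorem tw128 : Tow.{u} l128 t128 := tow_of tc128_0 (Rng.zero.step tc128_1) (Rng.zero.step tc128_2)
theorem tw129 : Tow.{u} l129 t129 := tow_of tc129_0 (Rng.zero.step tc129_1) (Rng.zero.step tc129_2)
theorem tw130 : Tow.{u} l130 t130 := tow_of tc130_0 (Rng.zero.step tc130_1) (Rng.zero.step tc130_2)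
theorem tw131 : Tow.{u} l131 t131 := tow_of tc131_0 (Rng.zero.step tc131_1) (Rng.zero.step tc131_2)
theorem tw132 : Tow.{u} l132 t132 := tow_of tc132_0 (Rng.zero.step tc132_1) (Rng.zero.step tc132_2)
theorem tw133 : Tow.{u} l133 t133 := tow_of tc133_0 (Rng.zero.step tc133_1) (Rng.zero.step tc133_2)
theorem tw134 : Tow.{u} l134 t134 := tow_of tc134_0 (Rng.zero.step tc134_1) (Rng.zero.step tc134_2)
theorem tw135 : Tow.{u} l135 t135 := tow_of tc135_0 (Rng.zero.step tc135_1) (Rng.zero.step tc135_2)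
theorem tw136 : Tow.{u} l136 t136 := tow_of tc136_0 (Rng.zero.step tc136_1) (Rng.zero.step tc136_2)
theorem tw137 : Tow.{u} l137 t137 := tow_of tc137_0 (Rng.zero.step tc137_1) (Rng.zero.step tc137_2)
theorem tw138 : Tow.{u} l138 t138 := tow_of tc138_0 (Rng.zero.step tc138_1) (Rng.zero.step tc138_2)
theorem tw139 : Tow.{u} l139 t139 := tow_of tc139_0 (Rng.zero.step tc139_1) (Rng.zero.step tc139_2)
theorem tw140 : Tow.{u} l140 t140 := tow_of tc140_0 (Rng.zero.step tc140_1) (Rng.zero.step tc140_2)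
theorem tw141 : Tow.{u} l141 t141 := tow_of tc141_0 (Rng.zero.step tc141_1) (Rng.zero.step tc141_2)
theorem tw142 : Tow.{u} l142 t142 := tow_of tc142_0 (Rng.zero.step tc142_1) (Rng.zero.step tc142_2)
theorem tw40 : Tow.{u} l40 t40 := tow_of tc40_0 (Rng.zero.step tc40_1) (Rng.zero.step tc40_2)
theorem tw124 : Tow.{u} l124 t124 := tow_of tc124_0 (Rng.zero.step tc124_1) (Rng.zero.step tc124_2)
theorem tw41 : Tow.{u} l41 t41 := tow_of tc41_0 (Rng.zero.step tc41_1) (Rng.zero.step tc41_2)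
theorem tw42 : Tow.{u} l42 t42 := tow_of tc42_0 (Rng.zero.step tc42_1) (Rng.zero.step tc42_2)
theorem tw1 : Tow.{u} l1 t1 := tow_of tc1_0 (Rng.zero.step tc1_1) (Rng.zero.step tc1_2)
theorem tw2 : Tow.{u} l2 t2 := tow_of tc2_0 (Rng.zero.step tc2_1) (Rng.zero.step tc2_2)
theorem tw3 : Tow.{u} l3 t3 := tow_of tc3_0 (Rng.zero.step tc3_1) (Rng.zero.step tc3_2)
theorem tw4 : Tow.{u} l4 t4 := tow_of tc4_0 (Rng.zero.step tc4_1) (Rng.zero.step tc4_2)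
theorem tw5 : Tow.{u} l5 t5 := tow_of tc5_0 (Rng.zero.step tc5_1) (Rng.zero.step tc5_2)
theorem tw6 : Tow.{u} l6 t6 := tow_of tc6_0 (Rng.zero.step tc6_1) (Rng.zero.step tc6_2)
theorem tw143 : Tow.{u} l143 t143 := tow_of tc143_0 (Rng.zero.step tc143_1) (Rng.zero.step tc143_2)
theorem tw144 : Tow.{u} l144 t144 := tow_of tc144_0 (Rng.zero.step tc144_1) (Rng.zero.step tc144_2)
theorem tw145 : Tow.{u} l145 t145 := tow_of tc145_0 (Rng.zero.step tc145_1) (Rng.zero.step tc145_2)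
theorem tw146 : Tow.{u} l146 t146 := tow_of tc146_0 (Rng.zero.step tc146_1) (Rng.zero.step tc146_2)
theorem tw147 : Tow.{u} l147 t147 := tow_of tc147_0 (Rng.zero.step tc147_1) (Rng.zero.step tc147_2)
theorem tw148 : Tow.{u} l148 t148 := tow_of tc148_0 (Rng.zero.step tc148_1) (Rng.zero.step tc148_2)
theorem tw149 : Tow.{u} l149 t149 := tow_of tc149_0 (Rng.zero.step tc149_1) (Rng.zero.step tc149_2)
theorem tw150 : Tow.{u} l150 t150 := tow_of tc150_0 (Rng.zero.step tc150_1) (Rng.zero.step tc150_2)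
theorem tw7 : Tow.{u} l7 t7 := tow_of tc7_0 (Rng.zero.step tc7_1) (Rng.zero.step tc7_2)
theorem tw151 : Tow.{u} l151 t151 := tow_of tc151_0 (Rng.zero.step tc151_1) (Rng.zero.step tc151_2)
theorem tw152 : Tow.{u} l152 t152 := tow_of tc152_0 (Rng.zero.step tc152_1) (Rng.zero.step tc152_2)
theorem tw159 : Tow.{u} l159 t159 := tow_of tc159_0 (Rng.zero.step tc159_1) (Rng.zero.step tc159_2)
theorem tw163 : Tow.{u} l163 t163 := tow_of tc163_0 (Rng.zero.step tc163_1) (Rng.zero.step tc163_2)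
theorem tw164 : Tow.{u} l164 t164 := tow_of tc164_0 (Rng.zero.step tc164_1) (Rng.zero.step tc164_2)
theorem tw161 : Tow.{u} l161 t161 := tow_of tc161_0 (Rng.zero.step tc161_1) (Rng.zero.step tc161_2)
theorem tw165 : Tow.{u} l165 t165 := tow_of tc165_0 (Rng.zero.step tc165_1) (Rng.zero.step tc165_2)
theorem tw166 : Tow.{u} l166 t166 := tow_of tc166_0 (Rng.zero.step tc166_1) (Rng.zero.step tc166_2)
theorem tw162 : Tow.{u} l162 t162 := tow_of tc162_0 (Rng.zero.step tc162_1) (Rng.zero.step tc162_2)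
theorem tw153 : Tow.{u} l153 t153 := tow_of tc153_0 (Rng.zero.step tc153_1) (Rng.zero.step tc153_2)
theorem tw160 : Tow.{u} l160 t160 := tow_of tc160_0 (Rng.zero.step tc160_1) (Rng.zero.step tc160_2)
theorem tw154 : Tow.{u} l154 t154 := tow_of tc154_0 (Rng.zero.step tc154_1) (Rng.zero.step tc154_2)
theorem tw167 : Tow.{u} l167 t167 := tow_of tc167_0 (Rng.zero.step tc167_1) (Rng.zero.step tc167_2)
theorem tw155 : Tow.{u} l155 t155 := tow_of tc155_0 (Rng.zero.step tc155_1) (Rng.zero.step tc155_2)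
theorem tw168 : Tow.{u} l168 t168 := tow_of tc168_0 (Rng.zero.step tc168_1) (Rng.zero.step tc168_2)
theorem tw156 : Tow.{u} l156 t156 := tow_of tc156_0 (Rng.zero.step tc156_1) (Rng.zero.step tc156_2)
theorem tw157 : Tow.{u} l157 t157 := tow_of tc157_0 (Rng.zero.step tc157_1) (Rng.zero.step tc157_2)
theorem tw158 : Tow.{u} l158 t158 := tow_of tc158_0 (Rng.zero.step tc158_1) (Rng.zero.step tc158_2)
theorem tw8 : Tow.{u} l8 t8 := tow_of tc8_0 (Rng.zero.step tc8_1) (Rng.zero.step tc8_2)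
theorem tw9 : Tow.{u} l9 t9 := tow_of tc9_0 (Rng.zero.step tc9_1) (Rng.zero.step tc9_2)
theorem tw10 : Tow.{u} l10 t10 := tow_of tc10_0 (Rng.zero.step tc10_1) (Rng.zero.step tc10_2)
theorem tw11 : Tow.{u} l11 t11 := tow_of tc11_0 (Rng.zero.step tc11_1) (Rng.zero.step tc11_2)
theorem tw12 : Tow.{u} l12 t12 := tow_of tc12_0 (Rng.zero.step tc12_1) (Rng.zero.step tc12_2)
theorem tw13 : Tow.{u} l13 t13 := tow_of tc13_0 (Rng.zero.step tc13_1) (Rng.zero.step tc13_2)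
theorem tw14 : Tow.{u} l14 t14 := tow_of tc14_0 (Rng.zero.step tc14_1) (Rng.zero.step tc14_2)
theorem tw15 : Tow.{u} l15 t15 := tow_of tc15_0 (Rng.zero.step tc15_1) (Rng.zero.step tc15_2)
theorem tw16 : Tow.{u} l16 t16 := tow_of tc16_0 (Rng.zero.step tc16_1) (Rng.zero.step tc16_2)
theorem tw177 : Tow.{u} l177 t177 := tow_of tc177_0 (Rng.zero.step tc177_1) (Rng.zero.step tc177_2)
theorem tw197 : Tow.{u} l197 t197 := tow_of tc197_0 (Rng.zero.step tc197_1) (Rng.zero.step tc197_2)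
theorem tw198 : Tow.{u} l198 t198 := tow_of tc198_0 (Rng.zero.step tc198_1) (Rng.zero.step tc198_2)
theorem tw199 : Tow.{u} l199 t199 := tow_of tc199_0 (Rng.zero.step tc199_1) (Rng.zero.step tc199_2)
theorem tw200 : Tow.{u} l200 t200 := tow_of tc200_0 (Rng.zero.step tc200_1) (Rng.zero.step tc200_2)
theorem tw201 : Tow.{u} l201 t201 := tow_of tc201_0 (Rng.zero.step tc201_1) (Rng.zero.step tc201_2)
theorem tw202 : Tow.{u} l202 t202 := tow_of tc202_0 (Rng.zero.step tc202_1) (Rng.zero.step tc202_2)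
theorem tw203 : Tow.{u} l203 t203 := tow_of tc203_0 (Rng.zero.step tc203_1) (Rng.zero.step tc203_2)
theorem tw204 : Tow.{u} l204 t204 := tow_of tc204_0 (Rng.zero.step tc204_1) (Rng.zero.step tc204_2)
theorem tw205 : Tow.{u} l205 t205 := tow_of tc205_0 (Rng.zero.step tc205_1) (Rng.zero.step tc205_2)
theorem tw206 : Tow.{u} l206 t206 := tow_of tc206_0 (Rng.zero.step tc206_1) (Rng.zero.step tc206_2)
theorem tw213 : Tow.{u} l213 t213 := tow_of tc213_0 (Rng.zero.step tc213_1) (Rng.zero.step tc213_2)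
theorem tw207 : Tow.{u} l207 t207 := tow_of tc207_0 (Rng.zero.step tc207_1) (Rng.zero.step tc207_2)
theorem tw208 : Tow.{u} l208 t208 := tow_of tc208_0 (Rng.zero.step tc208_1) (Rng.zero.step tc208_2)
theorem tw209 : Tow.{u} l209 t209 := tow_of tc209_0 (Rng.zero.step tc209_1) (Rng.zero.step tc209_2)
theorem tw210 : Tow.{u} l210 t210 := tow_of tc210_0 (Rng.zero.step tc210_1) (Rng.zero.step tc210_2)
theorem tw211 : Tow.{u} l211 t211 := tow_of tc211_0 (Rng.zero.step tc211_1) (Rng.zero.step tc211_2)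
theorem tw214 : Tow.{u} l214 t214 := tow_of tc214_0 (Rng.zero.step tc214_1) (Rng.zero.step tc214_2)
theorem tw212 : Tow.{u} l212 t212 := tow_of tc212_0 (Rng.zero.step tc212_1) (Rng.zero.step tc212_2)
theorem tw179 : Tow.{u} l179 t179 := tow_of tc179_0 (Rng.zero.step tc179_1) (Rng.zero.step tc179_2)
theorem tw180 : Tow.{u} l180 t180 := tow_of tc180_0 (Rng.zero.step tc180_1) (Rng.zero.step tc180_2)
theorem tw181 : Tow.{u} l181 t181 := tow_of tc181_0 (Rng.zero.step tc181_1) (Rng.zero.step tc181_2)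
theorem tw182 : Tow.{u} l182 t182 := tow_of tc182_0 (Rng.zero.step tc182_1) (Rng.zero.step tc182_2)
theorem tw183 : Tow.{u} l183 t183 := tow_of tc183_0 (Rng.zero.step tc183_1) (Rng.zero.step tc183_2)
theorem tw184 : Tow.{u} l184 t184 := tow_of tc184_0 (Rng.zero.step tc184_1) (Rng.zero.step tc184_2)
theorem tw185 : Tow.{u} l185 t185 := tow_of tc185_0 (Rng.zero.step tc185_1) (Rng.zero.step tc185_2)
theorem tw186 : Tow.{u} l186 t186 := tow_of tc186_0 (Rng.zero.step tc186_1) (Rng.zero.step tc186_2)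
theorem tw187 : Tow.{u} l187 t187 := tow_of tc187_0 (Rng.zero.step tc187_1) (Rng.zero.step tc187_2)
theorem tw188 : Tow.{u} l188 t188 := tow_of tc188_0 (Rng.zero.step tc188_1) (Rng.zero.step tc188_2)
theorem tw189 : Tow.{u} l189 t189 := tow_of tc189_0 (Rng.zero.step tc189_1) (Rng.zero.step tc189_2)
theorem tw190 : Tow.{u} l190 t190 := tow_of tc190_0 (Rng.zero.step tc190_1) (Rng.zero.step tc190_2)
theorem tw191 : Tow.{u} l191 t191 := tow_of tc191_0 (Rng.zero.step tc191_1) (Rng.zero.step tc191_2)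
theorem tw192 : Tow.{u} l192 t192 := tow_of tc192_0 (Rng.zero.step tc192_1) (Rng.zero.step tc192_2)
theorem tw193 : Tow.{u} l193 t193 := tow_of tc193_0 (Rng.zero.step tc193_1) (Rng.zero.step tc193_2)
theorem tw194 : Tow.{u} l194 t194 := tow_of tc194_0 (Rng.zero.step tc194_1) (Rng.zero.step tc194_2)
theorem tw195 : Tow.{u} l195 t195 := tow_of tc195_0 (Rng.zero.step tc195_1) (Rng.zero.step tc195_2)
theorem tw196 : Tow.{u} l196 t196 := tow_of tc196_0 (Rng.zero.step tc196_1) (Rng.zero.step tc196_2)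
theorem tw169 : Tow.{u} l169 t169 := tow_of tc169_0 (Rng.zero.step tc169_1) (Rng.zero.step tc169_2)
theorem tw178 : Tow.{u} l178 t178 := tow_of tc178_0 (Rng.zero.step tc178_1) (Rng.zero.step tc178_2)
theorem tw170 : Tow.{u} l170 t170 := tow_of tc170_0 (Rng.zero.step tc170_1) (Rng.zero.step tc170_2)
theorem tw171 : Tow.{u} l171 t171 := tow_of tc171_0 (Rng.zero.step tc171_1) (Rng.zero.step tc171_2)
theorem tw172 : Tow.{u} l172 t172 := tow_of tc172_0 (Rng.zero.step tc172_1) (Rng.zero.step tc172_2)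
theorem tw173 : Tow.{u} l173 t173 := tow_of tc173_0 (Rng.zero.step tc173_1) (Rng.zero.step tc173_2)
theorem tw215 : Tow.{u} l215 t215 := tow_of tc215_0 (Rng.zero.step tc215_1) (Rng.zero.step tc215_2)
theorem tw217 : Tow.{u} l217 t217 := tow_of tc217_0 (Rng.zero.step tc217_1) (Rng.zero.step tc217_2)
theorem tw235 : Tow.{u} l235 t235 := tow_of tc235_0 (Rng.zero.step tc235_1) (Rng.zero.step tc235_2)
theorem tw236 : Tow.{u} l236 t236 := tow_of tc236_0 (Rng.zero.step tc236_1) (Rng.zero.step tc236_2)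
theorem tw218 : Tow.{u} l218 t218 := tow_of tc218_0 (Rng.zero.step tc218_1) (Rng.zero.step tc218_2)
theorem tw219 : Tow.{u} l219 t219 := tow_of tc219_0 (Rng.zero.step tc219_1) (Rng.zero.step tc219_2)
theorem tw220 : Tow.{u} l220 t220 := tow_of tc220_0 (Rng.zero.step tc220_1) (Rng.zero.step tc220_2)
theorem tw221 : Tow.{u} l221 t221 := tow_of tc221_0 (Rng.zero.step tc221_1) (Rng.zero.step tc221_2)
theorem tw222 : Tow.{u} l222 t222 := tow_of tc222_0 (Rng.zero.step tc222_1) (Rng.zero.step tc222_2)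
theorem tw223 : Tow.{u} l223 t223 := tow_of tc223_0 (Rng.zero.step tc223_1) (Rng.zero.step tc223_2)
theorem tw224 : Tow.{u} l224 t224 := tow_of tc224_0 (Rng.zero.step tc224_1) (Rng.zero.step tc224_2)
theorem tw225 : Tow.{u} l225 t225 := tow_of tc225_0 (Rng.zero.step tc225_1) (Rng.zero.step tc225_2)
theorem tw226 : Tow.{u} l226 t226 := tow_of tc226_0 (Rng.zero.step tc226_1) (Rng.zero.step tc226_2)
theorem tw227 : Tow.{u} l227 t227 := tow_of tc227_0 (Rng.zero.step tc227_1) (Rng.zero.step tc227_2)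
theorem tw228 : Tow.{u} l228 t228 := tow_of tc228_0 (Rng.zero.step tc228_1) (Rng.zero.step tc228_2)
theorem tw229 : Tow.{u} l229 t229 := tow_of tc229_0 (Rng.zero.step tc229_1) (Rng.zero.step tc229_2)
theorem tw230 : Tow.{u} l230 t230 := tow_of tc230_0 (Rng.zero.step tc230_1) (Rng.zero.step tc230_2)
theorem tw231 : Tow.{u} l231 t231 := tow_of tc231_0 (Rng.zero.step tc231_1) (Rng.zero.step tc231_2)
theorem tw232 : Tow.{u} l232 t232 := tow_of tc232_0 (Rng.zero.step tc232_1) (Rng.zero.step tc232_2)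
theorem tw233 : Tow.{u} l233 t233 := tow_of tc233_0 (Rng.zero.step tc233_1) (Rng.zero.step tc233_2)
theorem tw234 : Tow.{u} l234 t234 := tow_of tc234_0 (Rng.zero.step tc234_1) (Rng.zero.step tc234_2)
theorem tw174 : Tow.{u} l174 t174 := tow_of tc174_0 (Rng.zero.step tc174_1) (Rng.zero.step tc174_2)
theorem tw216 : Tow.{u} l216 t216 := tow_of tc216_0 (Rng.zero.step tc216_1) (Rng.zero.step tc216_2)
theorem tw175 : Tow.{u} l175 t175 := tow_of tc175_0 (Rng.zero.step tc175_1) (Rng.zero.step tc175_2)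
theorem tw176 : Tow.{u} l176 t176 := tow_of tc176_0 (Rng.zero.step tc176_1) (Rng.zero.step tc176_2)
theorem tw17 : Tow.{u} l17 t17 := tow_of tc17_0 (Rng.zero.step tc17_1) (Rng.zero.step tc17_2)
theorem tw245 : Tow.{u} l245 t245 := tow_of tc245_0 (Rng.zero.step tc245_1) (Rng.zero.step tc245_2)
theorem tw247 : Tow.{u} l247 t247 := tow_of tc247_0 (Rng.zero.step tc247_1) (Rng.zero.step tc247_2)
theorem tw248 : Tow.{u} l248 t248 := tow_of tc248_0 (Rng.zero.step tc248_1) (Rng.zero.step tc248_2)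
theorem tw249 : Tow.{u} l249 t249 := tow_of tc249_0 (Rng.zero.step tc249_1) (Rng.zero.step tc249_2)
theorem tw250 : Tow.{u} l250 t250 := tow_of tc250_0 (Rng.zero.step tc250_1) (Rng.zero.step tc250_2)
theorem tw251 : Tow.{u} l251 t251 := tow_of tc251_0 (Rng.zero.step tc251_1) (Rng.zero.step tc251_2)
theorem tw252 : Tow.{u} l252 t252 := tow_of tc252_0 (Rng.zero.step tc252_1) (Rng.zero.step tc252_2)
theorem tw253 : Tow.{u} l253 t253 := tow_of tc253_0 (Rng.zero.step tc253_1) (Rng.zero.step tc253_2)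
theorem tw254 : Tow.{u} l254 t254 := tow_of tc254_0 (Rng.zero.step tc254_1) (Rng.zero.step tc254_2)
theorem tw255 : Tow.{u} l255 t255 := tow_of tc255_0 (Rng.zero.step tc255_1) (Rng.zero.step tc255_2)
theorem tw256 : Tow.{u} l256 t256 := tow_of tc256_0 (Rng.zero.step tc256_1) (Rng.zero.step tc256_2)
theorem tw257 : Tow.{u} l257 t257 := tow_of tc257_0 (Rng.zero.step tc257_1) (Rng.zero.step tc257_2)
theorem tw258 : Tow.{u} l258 t258 := tow_of tc258_0 (Rng.zero.step tc258_1) (Rng.zero.step tc258_2)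
theorem tw259 : Tow.{u} l259 t259 := tow_of tc259_0 (Rng.zero.step tc259_1) (Rng.zero.step tc259_2)
theorem tw260 : Tow.{u} l260 t260 := tow_of tc260_0 (Rng.zero.step tc260_1) (Rng.zero.step tc260_2)
theorem tw261 : Tow.{u} l261 t261 := tow_of tc261_0 (Rng.zero.step tc261_1) (Rng.zero.step tc261_2)
theorem tw262 : Tow.{u} l262 t262 := tow_of tc262_0 (Rng.zero.step tc262_1) (Rng.zero.step tc262_2)
theorem tw263 : Tow.{u} l263 t263 := tow_of tc263_0 (Rng.zero.step tc263_1) (Rng.zero.step tc263_2)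
theorem tw264 : Tow.{u} l264 t264 := tow_of tc264_0 (Rng.zero.step tc264_1) (Rng.zero.step tc264_2)
theorem tw237 : Tow.{u} l237 t237 := tow_of tc237_0 (Rng.zero.step tc237_1) (Rng.zero.step tc237_2)
theorem tw246 : Tow.{u} l246 t246 := tow_of tc246_0 (Rng.zero.step tc246_1) (Rng.zero.step tc246_2)
theorem tw238 : Tow.{u} l238 t238 := tow_of tc238_0 (Rng.zero.step tc238_1) (Rng.zero.step tc238_2)
theorem tw239 : Tow.{u} l239 t239 := tow_of tc239_0 (Rng.zero.step tc239_1) (Rng.zero.step tc239_2)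
theorem tw240 : Tow.{u} l240 t240 := tow_of tc240_0 (Rng.zero.step tc240_1) (Rng.zero.step tc240_2)
theorem tw241 : Tow.{u} l241 t241 := tow_of tc241_0 (Rng.zero.step tc241_1) (Rng.zero.step tc241_2)
theorem tw265 : Tow.{u} l265 t265 := tow_of tc265_0 (Rng.zero.step tc265_1) (Rng.zero.step tc265_2)
theorem tw267 : Tow.{u} l267 t267 := tow_of tc267_0 (Rng.zero.step tc267_1) (Rng.zero.step tc267_2)
theorem tw268 : Tow.{u} l268 t268 := tow_of tc268_0 (Rng.zero.step tc268_1) (Rng.zero.step tc268_2)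
theorem tw269 : Tow.{u} l269 t269 := tow_of tc269_0 (Rng.zero.step tc269_1) (Rng.zero.step tc269_2)
theorem tw270 : Tow.{u} l270 t270 := tow_of tc270_0 (Rng.zero.step tc270_1) (Rng.zero.step tc270_2)
theorem tw271 : Tow.{u} l271 t271 := tow_of tc271_0 (Rng.zero.step tc271_1) (Rng.zero.step tc271_2)
theorem tw272 : Tow.{u} l272 t272 := tow_of tc272_0 (Rng.zero.step tc272_1) (Rng.zero.step tc272_2)
theorem tw273 : Tow.{u} l273 t273 := tow_of tc273_0 (Rng.zero.step tc273_1) (Rng.zero.step tc273_2)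
theorem tw274 : Tow.{u} l274 t274 := tow_of tc274_0 (Rng.zero.step tc274_1) (Rng.zero.step tc274_2)
theorem tw275 : Tow.{u} l275 t275 := tow_of tc275_0 (Rng.zero.step tc275_1) (Rng.zero.step tc275_2)
theorem tw276 : Tow.{u} l276 t276 := tow_of tc276_0 (Rng.zero.step tc276_1) (Rng.zero.step tc276_2)
theorem tw277 : Tow.{u} l277 t277 := tow_of tc277_0 (Rng.zero.step tc277_1) (Rng.zero.step tc277_2)
theorem tw278 : Tow.{u} l278 t278 := tow_of tc278_0 (Rng.zero.step tc278_1) (Rng.zero.step tc278_2)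
theorem tw279 : Tow.{u} l279 t279 := tow_of tc279_0 (Rng.zero.step tc279_1) (Rng.zero.step tc279_2)
theorem tw280 : Tow.{u} l280 t280 := tow_of tc280_0 (Rng.zero.step tc280_1) (Rng.zero.step tc280_2)
theorem tw281 : Tow.{u} l281 t281 := tow_of tc281_0 (Rng.zero.step tc281_1) (Rng.zero.step tc281_2)
theorem tw282 : Tow.{u} l282 t282 := tow_of tc282_0 (Rng.zero.step tc282_1) (Rng.zero.step tc282_2)
theorem tw283 : Tow.{u} l283 t283 := tow_of tc283_0 (Rng.zero.step tc283_1) (Rng.zero.step tc283_2)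
theorem tw284 : Tow.{u} l284 t284 := tow_of tc284_0 (Rng.zero.step tc284_1) (Rng.zero.step tc284_2)
theorem tw242 : Tow.{u} l242 t242 := tow_of tc242_0 (Rng.zero.step tc242_1) (Rng.zero.step tc242_2)
theorem tw266 : Tow.{u} l266 t266 := tow_of tc266_0 (Rng.zero.step tc266_1) (Rng.zero.step tc266_2)
theorem tw243 : Tow.{u} l243 t243 := tow_of tc243_0 (Rng.zero.step tc243_1) (Rng.zero.step tc243_2)
theorem tw244 : Tow.{u} l244 t244 := tow_of tc244_0 (Rng.zero.step tc244_1) (Rng.zero.step tc244_2)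
theorem tw18 : Tow.{u} l18 t18 := tow_of tc18_0 (Rng.zero.step tc18_1) (Rng.zero.step tc18_2)
theorem tw19 : Tow.{u} l19 t19 := tow_of tc19_0 (Rng.zero.step tc19_1) (Rng.zero.step tc19_2)
theorem tw20 : Tow.{u} l20 t20 := tow_of tc20_0 (Rng.zero.step tc20_1) (Rng.zero.step tc20_2)
theorem tw285 : Tow.{u} l285 t285 := tow_of tc285_0 (Rng.zero.step tc285_1) (Rng.zero.step tc285_2)
theorem tw286 : Tow.{u} l286 t286 := tow_of tc286_0 (Rng.zero.step tc286_1) (Rng.zero.step tc286_2)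
theorem tw287 : Tow.{u} l287 t287 := tow_of tc287_0 (Rng.zero.step tc287_1) (Rng.zero.step tc287_2)
theorem tw293 : Tow.{u} l293 t293 := tow_of tc293_0 (Rng.zero.step tc293_1) (Rng.zero.step tc293_2)
theorem tw288 : Tow.{u} l288 t288 := tow_of tc288_0 (Rng.zero.step tc288_1) (Rng.zero.step tc288_2)
theorem tw294 : Tow.{u} l294 t294 := tow_of tc294_0 (Rng.zero.step tc294_1) (Rng.zero.step tc294_2)
theorem tw289 : Tow.{u} l289 t289 := tow_of tc289_0 (Rng.zero.step tc289_1) (Rng.zero.step tc289_2)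
theorem tw290 : Tow.{u} l290 t290 := tow_of tc290_0 (Rng.zero.step tc290_1) (Rng.zero.step tc290_2)
theorem tw295 : Tow.{u} l295 t295 := tow_of tc295_0 (Rng.zero.step tc295_1) (Rng.zero.step tc295_2)
theorem tw299 : Tow.{u} l299 t299 := tow_of tc299_0 (Rng.zero.step tc299_1) (Rng.zero.step tc299_2)
theorem tw300 : Tow.{u} l300 t300 := tow_of tc300_0 (Rng.zero.step tc300_1) (Rng.zero.step tc300_2)
theorem tw297 : Tow.{u} l297 t297 := tow_of tc297_0 (Rng.zero.step tc297_1) (Rng.zero.step tc297_2)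
theorem tw298 : Tow.{u} l298 t298 := tow_of tc298_0 (Rng.zero.step tc298_1) (Rng.zero.step tc298_2)
theorem tw301 : Tow.{u} l301 t301 := tow_of tc301_0 (Rng.zero.step tc301_1) (Rng.zero.step tc301_2)
theorem tw302 : Tow.{u} l302 t302 := tow_of tc302_0 (Rng.zero.step tc302_1) (Rng.zero.step tc302_2)
theorem tw291 : Tow.{u} l291 t291 := tow_of tc291_0 (Rng.zero.step tc291_1) (Rng.zero.step tc291_2)
theorem tw296 : Tow.{u} l296 t296 := tow_of tc296_0 (Rng.zero.step tc296_1) (Rng.zero.step tc296_2)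
theorem tw292 : Tow.{u} l292 t292 := tow_of tc292_0 (Rng.zero.step tc292_1) (Rng.zero.step tc292_2)
theorem tw21 : Tow.{u} l21 t21 := tow_of tc21_0 (Rng.zero.step tc21_1) (Rng.zero.step tc21_2)
theorem tw22 : Tow.{u} l22 t22 := tow_of tc22_0 (Rng.zero.step tc22_1) (Rng.zero.step tc22_2)
theorem tw23 : Tow.{u} l23 t23 := tow_of tc23_0 (Rng.zero.step tc23_1) (Rng.zero.step tc23_2)
theorem tw24 : Tow.{u} l24 t24 := tow_of tc24_0 (Rng.zero.step tc24_1) (Rng.zero.step tc24_2)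
theorem tw311 : Tow.{u} l311 t311 := tow_of tc311_0 (Rng.zero.step tc311_1) (Rng.zero.step tc311_2)
theorem tw331 : Tow.{u} l331 t331 := tow_of tc331_0 (Rng.zero.step tc331_1) (Rng.zero.step tc331_2)
theorem tw332 : Tow.{u} l332 t332 := tow_of tc332_0 (Rng.zero.step tc332_1) (Rng.zero.step tc332_2)
theorem tw333 : Tow.{u} l333 t333 := tow_of tc333_0 (Rng.zero.step tc333_1) (Rng.zero.step tc333_2)
theorem tw334 : Tow.{u} l334 t334 := tow_of tc334_0 (Rng.zero.step tc334_1) (Rng.zero.step tc334_2)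
theorem tw335 : Tow.{u} l335 t335 := tow_of tc335_0 (Rng.zero.step tc335_1) (Rng.zero.step tc335_2)
theorem tw336 : Tow.{u} l336 t336 := tow_of tc336_0 (Rng.zero.step tc336_1) (Rng.zero.step tc336_2)
theorem tw337 : Tow.{u} l337 t337 := tow_of tc337_0 (Rng.zero.step tc337_1) (Rng.zero.step tc337_2)
theorem tw338 : Tow.{u} l338 t338 := tow_of tc338_0 (Rng.zero.step tc338_1) (Rng.zero.step tc338_2)
theorem tw339 : Tow.{u} l339 t339 := tow_of tc339_0 (Rng.zero.step tc339_1) (Rng.zero.step tc339_2)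
theorem tw340 : Tow.{u} l340 t340 := tow_of tc340_0 (Rng.zero.step tc340_1) (Rng.zero.step tc340_2)
theorem tw347 : Tow.{u} l347 t347 := tow_of tc347_0 (Rng.zero.step tc347_1) (Rng.zero.step tc347_2)
theorem tw341 : Tow.{u} l341 t341 := tow_of tc341_0 (Rng.zero.step tc341_1) (Rng.zero.step tc341_2)
theorem tw342 : Tow.{u} l342 t342 := tow_of tc342_0 (Rng.zero.step tc342_1) (Rng.zero.step tc342_2)
theorem tw343 : Tow.{u} l343 t343 := tow_of tc343_0 (Rng.zero.step tc343_1) (Rng.zero.step tc343_2)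
theorem tw344 : Tow.{u} l344 t344 := tow_of tc344_0 (Rng.zero.step tc344_1) (Rng.zero.step tc344_2)
theorem tw345 : Tow.{u} l345 t345 := tow_of tc345_0 (Rng.zero.step tc345_1) (Rng.zero.step tc345_2)
theorem tw348 : Tow.{u} l348 t348 := tow_of tc348_0 (Rng.zero.step tc348_1) (Rng.zero.step tc348_2)
theorem tw346 : Tow.{u} l346 t346 := tow_of tc346_0 (Rng.zero.step tc346_1) (Rng.zero.step tc346_2)
theorem tw313 : Tow.{u} l313 t313 := tow_of tc313_0 (Rng.zero.step tc313_1) (Rng.zero.step tc313_2)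
theorem tw314 : Tow.{u} l314 t314 := tow_of tc314_0 (Rng.zero.step tc314_1) (Rng.zero.step tc314_2)
theorem tw315 : Tow.{u} l315 t315 := tow_of tc315_0 (Rng.zero.step tc315_1) (Rng.zero.step tc315_2)
theorem tw316 : Tow.{u} l316 t316 := tow_of tc316_0 (Rng.zero.step tc316_1) (Rng.zero.step tc316_2)
theorem tw317 : Tow.{u} l317 t317 := tow_of tc317_0 (Rng.zero.step tc317_1) (Rng.zero.step tc317_2)
theorem tw318 : Tow.{u} l318 t318 := tow_of tc318_0 (Rng.zero.step tc318_1) (Rng.zero.step tc318_2)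
theorem tw319 : Tow.{u} l319 t319 := tow_of tc319_0 (Rng.zero.step tc319_1) (Rng.zero.step tc319_2)
theorem tw320 : Tow.{u} l320 t320 := tow_of tc320_0 (Rng.zero.step tc320_1) (Rng.zero.step tc320_2)
theorem tw321 : Tow.{u} l321 t321 := tow_of tc321_0 (Rng.zero.step tc321_1) (Rng.zero.step tc321_2)
theorem tw322 : Tow.{u} l322 t322 := tow_of tc322_0 (Rng.zero.step tc322_1) (Rng.zero.step tc322_2)
theorem tw323 : Tow.{u} l323 t323 := tow_of tc323_0 (Rng.zero.step tc323_1) (Rng.zero.step tc323_2)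
theorem tw324 : Tow.{u} l324 t324 := tow_of tc324_0 (Rng.zero.step tc324_1) (Rng.zero.step tc324_2)
theorem tw325 : Tow.{u} l325 t325 := tow_of tc325_0 (Rng.zero.step tc325_1) (Rng.zero.step tc325_2)
theorem tw326 : Tow.{u} l326 t326 := tow_of tc326_0 (Rng.zero.step tc326_1) (Rng.zero.step tc326_2)
theorem tw327 : Tow.{u} l327 t327 := tow_of tc327_0 (Rng.zero.step tc327_1) (Rng.zero.step tc327_2)
theorem tw328 : Tow.{u} l328 t328 := tow_of tc328_0 (Rng.zero.step tc328_1) (Rng.zero.step tc328_2)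
theorem tw329 : Tow.{u} l329 t329 := tow_of tc329_0 (Rng.zero.step tc329_1) (Rng.zero.step tc329_2)
theorem tw330 : Tow.{u} l330 t330 := tow_of tc330_0 (Rng.zero.step tc330_1) (Rng.zero.step tc330_2)
theorem tw303 : Tow.{u} l303 t303 := tow_of tc303_0 (Rng.zero.step tc303_1) (Rng.zero.step tc303_2)
theorem tw312 : Tow.{u} l312 t312 := tow_of tc312_0 (Rng.zero.step tc312_1) (Rng.zero.step tc312_2)
theorem tw304 : Tow.{u} l304 t304 := tow_of tc304_0 (Rng.zero.step tc304_1) (Rng.zero.step tc304_2)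
theorem tw305 : Tow.{u} l305 t305 := tow_of tc305_0 (Rng.zero.step tc305_1) (Rng.zero.step tc305_2)
theorem tw306 : Tow.{u} l306 t306 := tow_of tc306_0 (Rng.zero.step tc306_1) (Rng.zero.step tc306_2)
theorem tw307 : Tow.{u} l307 t307 := tow_of tc307_0 (Rng.zero.step tc307_1) (Rng.zero.step tc307_2)
theorem tw349 : Tow.{u} l349 t349 := tow_of tc349_0 (Rng.zero.step tc349_1) (Rng.zero.step tc349_2)
theorem tw351 : Tow.{u} l351 t351 := tow_of tc351_0 (Rng.zero.step tc351_1) (Rng.zero.step tc351_2)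
theorem tw369 : Tow.{u} l369 t369 := tow_of tc369_0 (Rng.zero.step tc369_1) (Rng.zero.step tc369_2)
theorem tw370 : Tow.{u} l370 t370 := tow_of tc370_0 (Rng.zero.step tc370_1) (Rng.zero.step tc370_2)
theorem tw352 : Tow.{u} l352 t352 := tow_of tc352_0 (Rng.zero.step tc352_1) (Rng.zero.step tc352_2)
theorem tw353 : Tow.{u} l353 t353 := tow_of tc353_0 (Rng.zero.step tc353_1) (Rng.zero.step tc353_2)
theorem tw354 : Tow.{u} l354 t354 := tow_of tc354_0 (Rng.zero.step tc354_1) (Rng.zero.step tc354_2)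
theorem tw355 : Tow.{u} l355 t355 := tow_of tc355_0 (Rng.zero.step tc355_1) (Rng.zero.step tc355_2)
theorem tw356 : Tow.{u} l356 t356 := tow_of tc356_0 (Rng.zero.step tc356_1) (Rng.zero.step tc356_2)
theorem tw357 : Tow.{u} l357 t357 := tow_of tc357_0 (Rng.zero.step tc357_1) (Rng.zero.step tc357_2)
theorem tw358 : Tow.{u} l358 t358 := tow_of tc358_0 (Rng.zero.step tc358_1) (Rng.zero.step tc358_2)
theorem tw359 : Tow.{u} l359 t359 := tow_of tc359_0 (Rng.zero.step tc359_1) (Rng.zero.step tc359_2)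
theorem tw360 : Tow.{u} l360 t360 := tow_of tc360_0 (Rng.zero.step tc360_1) (Rng.zero.step tc360_2)
theorem tw361 : Tow.{u} l361 t361 := tow_of tc361_0 (Rng.zero.step tc361_1) (Rng.zero.step tc361_2)
theorem tw362 : Tow.{u} l362 t362 := tow_of tc362_0 (Rng.zero.step tc362_1) (Rng.zero.step tc362_2)
theorem tw363 : Tow.{u} l363 t363 := tow_of tc363_0 (Rng.zero.step tc363_1) (Rng.zero.step tc363_2)
theorem tw364 : Tow.{u} l364 t364 := tow_of tc364_0 (Rng.zero.step tc364_1) (Rng.zero.step tc364_2)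
theorem tw365 : Tow.{u} l365 t365 := tow_of tc365_0 (Rng.zero.step tc365_1) (Rng.zero.step tc365_2)
theorem tw366 : Tow.{u} l366 t366 := tow_of tc366_0 (Rng.zero.step tc366_1) (Rng.zero.step tc366_2)
theorem tw367 : Tow.{u} l367 t367 := tow_of tc367_0 (Rng.zero.step tc367_1) (Rng.zero.step tc367_2)
theorem tw368 : Tow.{u} l368 t368 := tow_of tc368_0 (Rng.zero.step tc368_1) (Rng.zero.step tc368_2)
theorem tw308 : Tow.{u} l308 t308 := tow_of tc308_0 (Rng.zero.step tc308_1) (Rng.zero.step tc308_2)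
theorem tw350 : Tow.{u} l350 t350 := tow_of tc350_0 (Rng.zero.step tc350_1) (Rng.zero.step tc350_2)
theorem tw309 : Tow.{u} l309 t309 := tow_of tc309_0 (Rng.zero.step tc309_1) (Rng.zero.step tc309_2)
theorem tw310 : Tow.{u} l310 t310 := tow_of tc310_0 (Rng.zero.step tc310_1) (Rng.zero.step tc310_2)
theorem tw25 : Tow.{u} l25 t25 := tow_of tc25_0 (Rng.zero.step tc25_1) (Rng.zero.step tc25_2)
theorem tw379 : Tow.{u} l379 t379 := tow_of tc379_0 (Rng.zero.step tc379_1) (Rng.zero.step tc379_2)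
theorem tw381 : Tow.{u} l381 t381 := tow_of tc381_0 (Rng.zero.step tc381_1) (Rng.zero.step tc381_2)
theorem tw382 : Tow.{u} l382 t382 := tow_of tc382_0 (Rng.zero.step tc382_1) (Rng.zero.step tc382_2)
theorem tw383 : Tow.{u} l383 t383 := tow_of tc383_0 (Rng.zero.step tc383_1) (Rng.zero.step tc383_2)
theorem tw384 : Tow.{u} l384 t384 := tow_of tc384_0 (Rng.zero.step tc384_1) (Rng.zero.step tc384_2)
theorem tw385 : Tow.{u} l385 t385 := tow_of tc385_0 (Rng.zero.step tc385_1) (Rng.zero.step tc385_2)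
theorem tw386 : Tow.{u} l386 t386 := tow_of tc386_0 (Rng.zero.step tc386_1) (Rng.zero.step tc386_2)
theorem tw387 : Tow.{u} l387 t387 := tow_of tc387_0 (Rng.zero.step tc387_1) (Rng.zero.step tc387_2)
theorem tw388 : Tow.{u} l388 t388 := tow_of tc388_0 (Rng.zero.step tc388_1) (Rng.zero.step tc388_2)
theorem tw389 : Tow.{u} l389 t389 := tow_of tc389_0 (Rng.zero.step tc389_1) (Rng.zero.step tc389_2)
theorem tw390 : Tow.{u} l390 t390 := tow_of tc390_0 (Rng.zero.step tc390_1) (Rng.zero.step tc390_2)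
theorem tw391 : Tow.{u} l391 t391 := tow_of tc391_0 (Rng.zero.step tc391_1) (Rng.zero.step tc391_2)
theorem tw392 : Tow.{u} l392 t392 := tow_of tc392_0 (Rng.zero.step tc392_1) (Rng.zero.step tc392_2)
theorem tw393 : Tow.{u} l393 t393 := tow_of tc393_0 (Rng.zero.step tc393_1) (Rng.zero.step tc393_2)
theorem tw394 : Tow.{u} l394 t394 := tow_of tc394_0 (Rng.zero.step tc394_1) (Rng.zero.step tc394_2)
theorem tw395 : Tow.{u} l395 t395 := tow_of tc395_0 (Rng.zero.step tc395_1) (Rng.zero.step tc395_2)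
theorem tw396 : Tow.{u} l396 t396 := tow_of tc396_0 (Rng.zero.step tc396_1) (Rng.zero.step tc396_2)
theorem tw397 : Tow.{u} l397 t397 := tow_of tc397_0 (Rng.zero.step tc397_1) (Rng.zero.step tc397_2)
theorem tw398 : Tow.{u} l398 t398 := tow_of tc398_0 (Rng.zero.step tc398_1) (Rng.zero.step tc398_2)
theorem tw371 : Tow.{u} l371 t371 := tow_of tc371_0 (Rng.zero.step tc371_1) (Rng.zero.step tc371_2)
theorem tw380 : Tow.{u} l380 t380 := tow_of tc380_0 (Rng.zero.step tc380_1) (Rng.zero.step tc380_2)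
theorem tw372 : Tow.{u} l372 t372 := tow_of tc372_0 (Rng.zero.step tc372_1) (Rng.zero.step tc372_2)
theorem tw373 : Tow.{u} l373 t373 := tow_of tc373_0 (Rng.zero.step tc373_1) (Rng.zero.step tc373_2)
theorem tw374 : Tow.{u} l374 t374 := tow_of tc374_0 (Rng.zero.step tc374_1) (Rng.zero.step tc374_2)
theorem tw375 : Tow.{u} l375 t375 := tow_of tc375_0 (Rng.zero.step tc375_1) (Rng.zero.step tc375_2)
theorem tw399 : Tow.{u} l399 t399 := tow_of tc399_0 (Rng.zero.step tc399_1) (Rng.zero.step tc399_2)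
theorem tw401 : Tow.{u} l401 t401 := tow_of tc401_0 (Rng.zero.step tc401_1) (Rng.zero.step tc401_2)
theorem tw402 : Tow.{u} l402 t402 := tow_of tc402_0 (Rng.zero.step tc402_1) (Rng.zero.step tc402_2)
theorem tw403 : Tow.{u} l403 t403 := tow_of tc403_0 (Rng.zero.step tc403_1) (Rng.zero.step tc403_2)
theorem tw404 : Tow.{u} l404 t404 := tow_of tc404_0 (Rng.zero.step tc404_1) (Rng.zero.step tc404_2)
theorem tw405 : Tow.{u} l405 t405 := tow_of tc405_0 (Rng.zero.step tc405_1) (Rng.zero.step tc405_2)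
theorem tw406 : Tow.{u} l406 t406 := tow_of tc406_0 (Rng.zero.step tc406_1) (Rng.zero.step tc406_2)
theorem tw407 : Tow.{u} l407 t407 := tow_of tc407_0 (Rng.zero.step tc407_1) (Rng.zero.step tc407_2)
theorem tw408 : Tow.{u} l408 t408 := tow_of tc408_0 (Rng.zero.step tc408_1) (Rng.zero.step tc408_2)
theorem tw409 : Tow.{u} l409 t409 := tow_of tc409_0 (Rng.zero.step tc409_1) (Rng.zero.step tc409_2)
theorem tw410 : Tow.{u} l410 t410 := tow_of tc410_0 (Rng.zero.step tc410_1) (Rng.zero.step tc410_2)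
theorem tw411 : Tow.{u} l411 t411 := tow_of tc411_0 (Rng.zero.step tc411_1) (Rng.zero.step tc411_2)
theorem tw412 : Tow.{u} l412 t412 := tow_of tc412_0 (Rng.zero.step tc412_1) (Rng.zero.step tc412_2)
theorem tw413 : Tow.{u} l413 t413 := tow_of tc413_0 (Rng.zero.step tc413_1) (Rng.zero.step tc413_2)
theorem tw414 : Tow.{u} l414 t414 := tow_of tc414_0 (Rng.zero.step tc414_1) (Rng.zero.step tc414_2)
theorem tw415 : Tow.{u} l415 t415 := tow_of tc415_0 (Rng.zero.step tc415_1) (Rng.zero.step tc415_2)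
theorem tw416 : Tow.{u} l416 t416 := tow_of tc416_0 (Rng.zero.step tc416_1) (Rng.zero.step tc416_2)
theorem tw417 : Tow.{u} l417 t417 := tow_of tc417_0 (Rng.zero.step tc417_1) (Rng.zero.step tc417_2)
theorem tw418 : Tow.{u} l418 t418 := tow_of tc418_0 (Rng.zero.step tc418_1) (Rng.zero.step tc418_2)
theorem tw376 : Tow.{u} l376 t376 := tow_of tc376_0 (Rng.zero.step tc376_1) (Rng.zero.step tc376_2)
theorem tw400 : Tow.{u} l400 t400 := tow_of tc400_0 (Rng.zero.step tc400_1) (Rng.zero.step tc400_2)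
theorem tw377 : Tow.{u} l377 t377 := tow_of tc377_0 (Rng.zero.step tc377_1) (Rng.zero.step tc377_2)
theorem tw378 : Tow.{u} l378 t378 := tow_of tc378_0 (Rng.zero.step tc378_1) (Rng.zero.step tc378_2)
theorem tw26 : Tow.{u} l26 t26 := tow_of tc26_0 (Rng.zero.step tc26_1) (Rng.zero.step tc26_2)
theorem tw419 : Tow.{u} l419 t419 := tow_of tc419_0 (Rng.zero.step tc419_1) (Rng.zero.step tc419_2)
theorem tw420 : Tow.{u} l420 t420 := tow_of tc420_0 (Rng.zero.step tc420_1) (Rng.zero.step tc420_2)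
theorem tw427 : Tow.{u} l427 t427 := tow_of tc427_0 (Rng.zero.step tc427_1) (Rng.zero.step tc427_2)
theorem tw431 : Tow.{u} l431 t431 := tow_of tc431_0 (Rng.zero.step tc431_1) (Rng.zero.step tc431_2)
theorem tw432 : Tow.{u} l432 t432 := tow_of tc432_0 (Rng.zero.step tc432_1) (Rng.zero.step tc432_2)
theorem tw429 : Tow.{u} l429 t429 := tow_of tc429_0 (Rng.zero.step tc429_1) (Rng.zero.step tc429_2)
theorem tw430 : Tow.{u} l430 t430 := tow_of tc430_0 (Rng.zero.step tc430_1) (Rng.zero.step tc430_2)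
theorem tw433 : Tow.{u} l433 t433 := tow_of tc433_0 (Rng.zero.step tc433_1) (Rng.zero.step tc433_2)
theorem tw434 : Tow.{u} l434 t434 := tow_of tc434_0 (Rng.zero.step tc434_1) (Rng.zero.step tc434_2)
theorem tw421 : Tow.{u} l421 t421 := tow_of tc421_0 (Rng.zero.step tc421_1) (Rng.zero.step tc421_2)
theorem tw428 : Tow.{u} l428 t428 := tow_of tc428_0 (Rng.zero.step tc428_1) (Rng.zero.step tc428_2)
theorem tw422 : Tow.{u} l422 t422 := tow_of tc422_0 (Rng.zero.step tc422_1) (Rng.zero.step tc422_2)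
theorem tw423 : Tow.{u} l423 t423 := tow_of tc423_0 (Rng.zero.step tc423_1) (Rng.zero.step tc423_2)
theorem tw424 : Tow.{u} l424 t424 := tow_of tc424_0 (Rng.zero.step tc424_1) (Rng.zero.step tc424_2)
theorem tw425 : Tow.{u} l425 t425 := tow_of tc425_0 (Rng.zero.step tc425_1) (Rng.zero.step tc425_2)
theorem tw435 : Tow.{u} l435 t435 := tow_of tc435_0 (Rng.zero.step tc435_1) (Rng.zero.step tc435_2)
theorem tw426 : Tow.{u} l426 t426 := tow_of tc426_0 (Rng.zero.step tc426_1) (Rng.zero.step tc426_2)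
theorem tw436 : Tow.{u} l436 t436 := tow_of tc436_0 (Rng.zero.step tc436_1) (Rng.zero.step tc436_2)
theorem tw27 : Tow.{u} l27 t27 := tow_of tc27_0 (Rng.zero.step tc27_1) (Rng.zero.step tc27_2)
theorem tw28 : Tow.{u} l28 t28 := tow_of tc28_0 (Rng.zero.step tc28_1) (Rng.zero.step tc28_2)
theorem tw29 : Tow.{u} l29 t29 := tow_of tc29_0 (Rng.zero.step tc29_1) (Rng.zero.step tc29_2)
theorem tw30 : Tow.{u} l30 t30 := tow_of tc30_0 (Rng.zero.step tc30_1) (Rng.zero.step tc30_2)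
theorem tw31 : Tow.{u} l31 t31 := tow_of tc31_0 (Rng.zero.step tc31_1) (Rng.zero.step tc31_2)
theorem tw32 : Tow.{u} l32 t32 := tow_of tc32_0 (Rng.zero.step tc32_1) (Rng.zero.step tc32_2)
theorem tw0 : Tow.{u} [] t0 := tow_of tc0_0 (Rng.zero.step tc0_1) (Rng.zero.step tc0_2)
theorem x43 : AuxS.{u} (cP4r 2 0) s43 0 a43 := aux_base3 tw43 rfl b43
theorem x43_1 : AuxS.{u} (cP4r 2 0) s43 0 a43_1 := (AuxS.up x43 c43_1 :)
theorem x43_2 : AuxS.{u} (cP4r 2 0) s43 0 a43_2 := (AuxS.up2 x43_1 c43_2 :)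
theorem n43 : Sound.{u} (cP4r 2 0) s43 0 :=
  (x43_2.k7 c43_0 :)
theorem x96 : AuxS.{u} (cP4r 2 0) s96 0 a96 := aux_base3 tw63 rfl b96
theorem x96_1 : AuxS.{u} (cP4r 2 0) s96 0 a96_1 := x96
theorem x96_2 : AuxS.{u} (cP4r 2 0) s96 0 a96_2 := x96_1
theorem x96_3 : AuxS.{u} (cP4r 2 0) s96 0 a96_3 := x96_2
theorem n96 : Sound.{u} (cP4r 2 0) s96 0 :=
  (x96_3.fr2 GamS.nil AllS.nil c96_0 :)
theorem x97 : AuxS.{u} (cP4r 2 0) s97 0 a97 := aux_base3 tw64 rfl b97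
theorem x97_1 : AuxS.{u} (cP4r 2 0) s97 0 a97_1 := x97
theorem x97_2 : AuxS.{u} (cP4r 2 0) s97 0 a97_2 := x97_1
theorem n97 : Sound.{u} (cP4r 2 0) s97 0 :=
  (x97_2.fr2 GamS.nil AllS.nil c97_0 :)
theorem x98 : AuxS.{u} (cP4r 2 0) s98 0 a98 := aux_base3 tw65 rfl b98
theorem x98_1 : AuxS.{u} (cP4r 2 0) s98 0 a98_1 := x98
theorem x98_2 : AuxS.{u} (cP4r 2 0) s98 0 a98_2 := x98_1
theorem n98 : Sound.{u} (cP4r 2 0) s98 0 :=
  (x98_2.fr2 GamS.nil AllS.nil c98_0 :)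
theorem x99 : AuxS.{u} (cP4r 2 0) s99 0 a99 := aux_base3 tw66 rfl b99
theorem x99_1 : AuxS.{u} (cP4r 2 0) s99 0 a99_1 := x99
theorem x99_2 : AuxS.{u} (cP4r 2 0) s99 0 a99_2 := x99_1
theorem n99 : Sound.{u} (cP4r 2 0) s99 0 :=
  (x99_2.fr2 GamS.nil AllS.nil c99_0 :)
theorem x100 : AuxS.{u} (cP4r 2 0) s100 0 a100 := aux_base3 tw67 rfl b100
theorem x100_1 : AuxS.{u} (cP4r 2 0) s100 0 a100_1 := x100
theorem x100_2 : AuxS.{u} (cP4r 2 0) s100 0 a100_2 := x100_1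
theorem n100 : Sound.{u} (cP4r 2 0) s100 0 :=
  (x100_2.fr2 GamS.nil AllS.nil c100_0 :)
theorem x101 : AuxS.{u} (cP4r 2 0) s101 0 a101 := aux_base3 tw68 rfl b101
theorem x101_1 : AuxS.{u} (cP4r 2 0) s101 0 a101_1 := x101
theorem x101_2 : AuxS.{u} (cP4r 2 0) s101 0 a101_2 := x101_1
theorem x101_3 : AuxS.{u} (cP4r 2 0) s101 0 a101_3 := x101_2
theorem n101 : Sound.{u} (cP4r 2 0) s101 0 :=
  (x101_3.fr2 GamS.nil AllS.nil c101_0 :)
theorem x102 : AuxS.{u} (cP4r 2 0) s102 0 a102 := aux_base3 tw69 rfl b102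
theorem x102_1 : AuxS.{u} (cP4r 2 0) s102 0 a102_1 := x102
theorem x102_2 : AuxS.{u} (cP4r 2 0) s102 0 a102_2 := x102_1
theorem n102 : Sound.{u} (cP4r 2 0) s102 0 :=
  (x102_2.fr2 GamS.nil AllS.nil c102_0 :)
theorem x103 : AuxS.{u} (cP4r 2 0) s103 0 a103 := aux_base3 tw70 rfl b103
theorem x103_1 : AuxS.{u} (cP4r 2 0) s103 0 a103_1 := x103
theorem x103_2 : AuxS.{u} (cP4r 2 0) s103 0 a103_2 := x103_1
theorem n103 : Sound.{u} (cP4r 2 0) s103 0 :=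
  (x103_2.fr2 GamS.nil AllS.nil c103_0 :)
theorem x104 : AuxS.{u} (cP4r 2 0) s104 0 a104 := aux_base3 tw71 rfl b104
theorem x104_1 : AuxS.{u} (cP4r 2 0) s104 0 a104_1 := x104
theorem x104_2 : AuxS.{u} (cP4r 2 0) s104 0 a104_2 := x104_1
theorem n104 : Sound.{u} (cP4r 2 0) s104 0 :=
  (x104_2.fr2 GamS.nil AllS.nil c104_0 :)
theorem x105 : AuxS.{u} (cP4r 2 0) s105 0 a105 := aux_base3 tw72 rfl b105
theorem x105_1 : AuxS.{u} (cP4r 2 0) s105 0 a105_1 := x105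
theorem x105_2 : AuxS.{u} (cP4r 2 0) s105 0 a105_2 := x105_1
theorem n105 : Sound.{u} (cP4r 2 0) s105 0 :=
  (x105_2.fr2 GamS.nil AllS.nil c105_0 :)
theorem x117 : AuxS.{u} (cP4r 2 0) s117 0 a117 := aux_base3 tw79 rfl b117
theorem n117 : Sound.{u} (cP4r 2 0) s117 0 :=
  (x117.k4 c117_0 :)
theorem x118 : AuxS.{u} (cP4r 2 0) s118 0 a118 := aux_base3 tw79 rfl b118
theorem n118 : Sound.{u} (cP4r 2 0) s118 0 :=
  (x118.k4 c118_0 :)
theorem x119 : AuxS.{u} (cP4r 2 0) s119 0 a119 := aux_base3 tw79 rfl b119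
theorem x119_1 : AuxS.{u} (cP4r 2 0) s119 0 a119_1 := (AuxS.up x119 c119_4 :)
theorem x119_2 : AuxS.{u} (cP4r 2 0) s119 0 a119_2 := (AuxS.up x119_1 c119_5 :)
theorem x119_L0_1 : AuxS.{u} (cP4r 2 0) s119 (0 + 2) a119_L0_1 := (AuxS.hp (x119_2.lam 0) c119_1 :)
theorem n119 : Sound.{u} (cP4r 2 0) s119 0 :=
  (x119_2.spl c119_0 (AllM.cons (x119_L0_1.tp c119_2 :) AllM.nil) ((x119_2.weaken 1).ext2 (fun _ => rfl) GamS.nil AllS.nil c119_3 (Phs.fin (ct := ct119_3) rfl) (Phs.fin (ct := ct119_3) rfl)) :)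
theorem x120 : AuxS.{u} (cP4r 2 0) s120 0 a120 := aux_base3 tw79 rfl b120
theorem n120 : Sound.{u} (cP4r 2 0) s120 0 :=
  (x120.k4 c120_0 :)
theorem x121 : AuxS.{u} (cP4r 2 0) s121 0 a121 := aux_base3 tw79 rfl b121
theorem n121 : Sound.{u} (cP4r 2 0) s121 0 :=
  (x121.k4 c121_0 :)
theorem x122 : AuxS.{u} (cP4r 2 0) s122 0 a122 := aux_base3 tw79 rfl b122
theorem n122 : Sound.{u} (cP4r 2 0) s122 0 :=
  (x122.k4 c122_0 :)
theorem x123 : AuxS.{u} (cP4r 2 0) s123 0 a123 := aux_base3 tw79 rfl b123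
theorem n123 : Sound.{u} (cP4r 2 0) s123 0 :=
  (x123.k4 c123_0 :)
theorem x124 : AuxS.{u} (cP4r 2 0) s124 0 a124 := aux_base3 tw79 rfl b124
theorem n124 : Sound.{u} (cP4r 2 0) s124 0 :=
  (x124.k4 c124_0 :)
theorem x125 : AuxS.{u} (cP4r 2 0) s125 0 a125 := aux_base3 tw79 rfl b125
theorem n125 : Sound.{u} (cP4r 2 0) s125 0 :=
  (x125.k4 c125_0 :)
theorem x126 : AuxS.{u} (cP4r 2 0) s126 0 a126 := aux_base3 tw79 rfl b126
theorem n126 : Sound.{u} (cP4r 2 0) s126 0 :=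
  (x126.k4 c126_0 :)
theorem x127 : AuxS.{u} (cP4r 2 0) s127 0 a127 := aux_base3 tw79 rfl b127
theorem n127 : Sound.{u} (cP4r 2 0) s127 0 :=
  (x127.k4 c127_0 :)
theorem x128 : AuxS.{u} (cP4r 2 0) s128 0 a128 := aux_base3 tw79 rfl b128
theorem n128 : Sound.{u} (cP4r 2 0) s128 0 :=
  (x128.k4 c128_0 :)
theorem x129 : AuxS.{u} (cP4r 2 0) s129 0 a129 := aux_base3 tw79 rfl b129
theorem n129 : Sound.{u} (cP4r 2 0) s129 0 :=
  (x129.k4 c129_0 :)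
theorem x130 : AuxS.{u} (cP4r 2 0) s130 0 a130 := aux_base3 tw79 rfl b130
theorem n130 : Sound.{u} (cP4r 2 0) s130 0 :=
  (x130.k4 c130_0 :)
theorem x131 : AuxS.{u} (cP4r 2 0) s131 0 a131 := aux_base3 tw79 rfl b131
theorem n131 : Sound.{u} (cP4r 2 0) s131 0 :=
  (x131.k4 c131_0 :)
theorem x132 : AuxS.{u} (cP4r 2 0) s132 0 a132 := aux_base3 tw79 rfl b132
theorem n132 : Sound.{u} (cP4r 2 0) s132 0 :=
  (x132.k4 c132_0 :)
theorem x133 : AuxS.{u} (cP4r 2 0) s133 0 a133 := aux_base3 tw79 rfl b133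
theorem n133 : Sound.{u} (cP4r 2 0) s133 0 :=
  (x133.k4 c133_0 :)
theorem x134 : AuxS.{u} (cP4r 2 0) s134 0 a134 := aux_base3 tw79 rfl b134
theorem n134 : Sound.{u} (cP4r 2 0) s134 0 :=
  (x134.k4 c134_0 :)
theorem x135 : AuxS.{u} (cP4r 2 0) s135 0 a135 := aux_base3 tw79 rfl b135
theorem n135 : Sound.{u} (cP4r 2 0) s135 0 :=
  (x135.k4 c135_0 :)
theorem x136 : AuxS.{u} (cP4r 2 0) s136 0 a136 := aux_base3 tw79 rfl b136
theorem n136 : Sound.{u} (cP4r 2 0) s136 0 :=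
  (x136.k4 c136_0 :)
theorem x137 : AuxS.{u} (cP4r 2 0) s137 0 a137 := aux_base3 tw79 rfl b137
theorem n137 : Sound.{u} (cP4r 2 0) s137 0 :=
  (x137.k4 c137_0 :)
theorem x138 : AuxS.{u} (cP4r 2 0) s138 0 a138 := aux_base3 tw79 rfl b138
theorem n138 : Sound.{u} (cP4r 2 0) s138 0 :=
  (x138.k4 c138_0 :)
theorem x139 : AuxS.{u} (cP4r 2 0) s139 0 a139 := aux_base3 tw79 rfl b139
theorem n139 : Sound.{u} (cP4r 2 0) s139 0 :=
  (x139.k4 c139_0 :)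
theorem x140 : AuxS.{u} (cP4r 2 0) s140 0 a140 := aux_base3 tw79 rfl b140
theorem n140 : Sound.{u} (cP4r 2 0) s140 0 :=
  (x140.k4 c140_0 :)
theorem x141 : AuxS.{u} (cP4r 2 0) s141 0 a141 := aux_base3 tw79 rfl b141
theorem n141 : Sound.{u} (cP4r 2 0) s141 0 :=
  (x141.k4 c141_0 :)
theorem x142 : AuxS.{u} (cP4r 2 0) s142 0 a142 := aux_base3 tw79 rfl b142
theorem n142 : Sound.{u} (cP4r 2 0) s142 0 :=
  (x142.k4 c142_0 :)
theorem x143 : AuxS.{u} (cP4r 2 0) s143 0 a143 := aux_base3 tw79 rfl b143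
theorem n143 : Sound.{u} (cP4r 2 0) s143 0 :=
  (x143.k4 c143_0 :)
theorem x144 : AuxS.{u} (cP4r 2 0) s144 0 a144 := aux_base3 tw79 rfl b144
theorem n144 : Sound.{u} (cP4r 2 0) s144 0 :=
  (x144.k4 c144_0 :)
theorem x145 : AuxS.{u} (cP4r 2 0) s145 0 a145 := aux_base3 tw79 rfl b145
theorem n145 : Sound.{u} (cP4r 2 0) s145 0 :=
  (x145.k4 c145_0 :)
theorem x146 : AuxS.{u} (cP4r 2 0) s146 0 a146 := aux_base3 tw79 rfl b146
theorem n146 : Sound.{u} (cP4r 2 0) s146 0 :=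
  (x146.k4 c146_0 :)
theorem x147 : AuxS.{u} (cP4r 2 0) s147 0 a147 := aux_base3 tw79 rfl b147
theorem n147 : Sound.{u} (cP4r 2 0) s147 0 :=
  (x147.k4 c147_0 :)
theorem x148 : AuxS.{u} (cP4r 2 0) s148 0 a148 := aux_base3 tw79 rfl b148
theorem n148 : Sound.{u} (cP4r 2 0) s148 0 :=
  (x148.k4 c148_0 :)
theorem x149 : AuxS.{u} (cP4r 2 0) s149 0 a149 := aux_base3 tw79 rfl b149
theorem n149 : Sound.{u} (cP4r 2 0) s149 0 :=
  (x149.k4 c149_0 :)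
theorem x150 : AuxS.{u} (cP4r 2 0) s150 0 a150 := aux_base3 tw79 rfl b150
theorem n150 : Sound.{u} (cP4r 2 0) s150 0 :=
  (x150.k4 c150_0 :)
theorem x151 : AuxS.{u} (cP4r 2 0) s151 0 a151 := aux_base3 tw79 rfl b151
theorem n151 : Sound.{u} (cP4r 2 0) s151 0 :=
  (x151.k4 c151_0 :)
theorem x152 : AuxS.{u} (cP4r 2 0) s152 0 a152 := aux_base3 tw79 rfl b152
theorem n152 : Sound.{u} (cP4r 2 0) s152 0 :=
  (x152.k4 c152_0 :)
theorem x153 : AuxS.{u} (cP4r 2 0) s153 0 a153 := aux_base3 tw79 rfl b153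
theorem n153 : Sound.{u} (cP4r 2 0) s153 0 :=
  (x153.k4 c153_0 :)
theorem x154 : AuxS.{u} (cP4r 2 0) s154 0 a154 := aux_base3 tw79 rfl b154
theorem n154 : Sound.{u} (cP4r 2 0) s154 0 :=
  (x154.k4 c154_0 :)
theorem x155 : AuxS.{u} (cP4r 2 0) s155 0 a155 := aux_base3 tw79 rfl b155
theorem n155 : Sound.{u} (cP4r 2 0) s155 0 :=
  (x155.k4 c155_0 :)
theorem x156 : AuxS.{u} (cP4r 2 0) s156 0 a156 := aux_base3 tw79 rfl b156
theorem n156 : Sound.{u} (cP4r 2 0) s156 0 :=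
  (x156.k4 c156_0 :)
theorem x157 : AuxS.{u} (cP4r 2 0) s157 0 a157 := aux_base3 tw79 rfl b157
theorem n157 : Sound.{u} (cP4r 2 0) s157 0 :=
  (x157.k4 c157_0 :)
theorem x158 : AuxS.{u} (cP4r 2 0) s158 0 a158 := aux_base3 tw79 rfl b158
theorem n158 : Sound.{u} (cP4r 2 0) s158 0 :=
  (x158.k4 c158_0 :)
theorem x159 : AuxS.{u} (cP4r 2 0) s159 0 a159 := aux_base3 tw79 rfl b159
theorem x159_1 : AuxS.{u} (cP4r 2 0) s159 0 a159_1 := (AuxS.up x159 c159_4 :)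
theorem x159_2 : AuxS.{u} (cP4r 2 0) s159 0 a159_2 := (AuxS.up x159_1 c159_5 :)
theorem x159_L0_1 : AuxS.{u} (cP4r 2 0) s159 (0 + 2) a159_L0_1 := (AuxS.hp (x159_2.lam 0) c159_1 :)
theorem n159 : Sound.{u} (cP4r 2 0) s159 0 :=
  (x159_2.spl c159_0 (AllM.cons (x159_L0_1.tp c159_2 :) AllM.nil) ((x159_2.weaken 1).ext2 (fun _ => rfl) GamS.nil AllS.nil c159_3 (Phs.fin (ct := ct159_3) rfl) (Phs.fin (ct := ct159_3) rfl)) :)
theorem x160 : AuxS.{u} (cP4r 2 0) s160 0 a160 := aux_base3 tw79 rfl b160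
theorem n160 : Sound.{u} (cP4r 2 0) s160 0 :=
  (x160.k4 c160_0 :)
theorem x161 : AuxS.{u} (cP4r 2 0) s161 0 a161 := aux_base3 tw79 rfl b161
theorem n161 : Sound.{u} (cP4r 2 0) s161 0 :=
  (x161.k4 c161_0 :)
theorem x162 : AuxS.{u} (cP4r 2 0) s162 0 a162 := aux_base3 tw79 rfl b162
theorem n162 : Sound.{u} (cP4r 2 0) s162 0 :=
  (x162.k4 c162_0 :)
theorem x163 : AuxS.{u} (cP4r 2 0) s163 0 a163 := aux_base3 tw79 rfl b163
theorem n163 : Sound.{u} (cP4r 2 0) s163 0 :=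
  (x163.k4 c163_0 :)
theorem x164 : AuxS.{u} (cP4r 2 0) s164 0 a164 := aux_base3 tw79 rfl b164
theorem n164 : Sound.{u} (cP4r 2 0) s164 0 :=
  (x164.k4 c164_0 :)
theorem x165 : AuxS.{u} (cP4r 2 0) s165 0 a165 := aux_base3 tw79 rfl b165
theorem n165 : Sound.{u} (cP4r 2 0) s165 0 :=
  (x165.k4 c165_0 :)
theorem x166 : AuxS.{u} (cP4r 2 0) s166 0 a166 := aux_base3 tw79 rfl b166
theorem n166 : Sound.{u} (cP4r 2 0) s166 0 :=
  (x166.k4 c166_0 :)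
theorem x167 : AuxS.{u} (cP4r 2 0) s167 0 a167 := aux_base3 tw79 rfl b167
theorem n167 : Sound.{u} (cP4r 2 0) s167 0 :=
  (x167.k4 c167_0 :)
theorem x168 : AuxS.{u} (cP4r 2 0) s168 0 a168 := aux_base3 tw79 rfl b168
theorem n168 : Sound.{u} (cP4r 2 0) s168 0 :=
  (x168.k4 c168_0 :)
theorem x169 : AuxS.{u} (cP4r 2 0) s169 0 a169 := aux_base3 tw79 rfl b169
theorem n169 : Sound.{u} (cP4r 2 0) s169 0 :=
  (x169.k4 c169_0 :)
theorem x170 : AuxS.{u} (cP4r 2 0) s170 0 a170 := aux_base3 tw79 rfl b170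
theorem n170 : Sound.{u} (cP4r 2 0) s170 0 :=
  (x170.k4 c170_0 :)
theorem x171 : AuxS.{u} (cP4r 2 0) s171 0 a171 := aux_base3 tw79 rfl b171
theorem n171 : Sound.{u} (cP4r 2 0) s171 0 :=
  (x171.k4 c171_0 :)
theorem x172 : AuxS.{u} (cP4r 2 0) s172 0 a172 := aux_base3 tw79 rfl b172
theorem n172 : Sound.{u} (cP4r 2 0) s172 0 :=
  (x172.k4 c172_0 :)
theorem x173 : AuxS.{u} (cP4r 2 0) s173 0 a173 := aux_base3 tw79 rfl b173
theorem n173 : Sound.{u} (cP4r 2 0) s173 0 :=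
  (x173.k4 c173_0 :)
theorem x174 : AuxS.{u} (cP4r 2 0) s174 0 a174 := aux_base3 tw79 rfl b174
theorem n174 : Sound.{u} (cP4r 2 0) s174 0 :=
  (x174.k4 c174_0 :)
theorem x175 : AuxS.{u} (cP4r 2 0) s175 0 a175 := aux_base3 tw79 rfl b175
theorem n175 : Sound.{u} (cP4r 2 0) s175 0 :=
  (x175.k4 c175_0 :)
theorem x176 : AuxS.{u} (cP4r 2 0) s176 0 a176 := aux_base3 tw79 rfl b176
theorem n176 : Sound.{u} (cP4r 2 0) s176 0 :=
  (x176.k4 c176_0 :)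
theorem x177 : AuxS.{u} (cP4r 2 0) s177 0 a177 := aux_base3 tw79 rfl b177
theorem n177 : Sound.{u} (cP4r 2 0) s177 0 :=
  (x177.k4 c177_0 :)
theorem x178 : AuxS.{u} (cP4r 2 0) s178 0 a178 := aux_base3 tw79 rfl b178
theorem n178 : Sound.{u} (cP4r 2 0) s178 0 :=
  (x178.k4 c178_0 :)
theorem x179 : AuxS.{u} (cP4r 2 0) s179 0 a179 := aux_base3 tw79 rfl b179
theorem n179 : Sound.{u} (cP4r 2 0) s179 0 :=
  (x179.k4 c179_0 :)
theorem x180 : AuxS.{u} (cP4r 2 0) s180 0 a180 := aux_base3 tw79 rfl b180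
theorem n180 : Sound.{u} (cP4r 2 0) s180 0 :=
  (x180.k4 c180_0 :)
theorem x181 : AuxS.{u} (cP4r 2 0) s181 0 a181 := aux_base3 tw79 rfl b181
theorem n181 : Sound.{u} (cP4r 2 0) s181 0 :=
  (x181.k4 c181_0 :)
theorem x182 : AuxS.{u} (cP4r 2 0) s182 0 a182 := aux_base3 tw79 rfl b182
theorem n182 : Sound.{u} (cP4r 2 0) s182 0 :=
  (x182.k4 c182_0 :)
theorem x183 : AuxS.{u} (cP4r 2 0) s183 0 a183 := aux_base3 tw79 rfl b183
theorem n183 : Sound.{u} (cP4r 2 0) s183 0 :=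
  (x183.k4 c183_0 :)
theorem x184 : AuxS.{u} (cP4r 2 0) s184 0 a184 := aux_base3 tw79 rfl b184
theorem n184 : Sound.{u} (cP4r 2 0) s184 0 :=
  (x184.k4 c184_0 :)
theorem x185 : AuxS.{u} (cP4r 2 0) s185 0 a185 := aux_base3 tw79 rfl b185
theorem n185 : Sound.{u} (cP4r 2 0) s185 0 :=
  (x185.k4 c185_0 :)
theorem x186 : AuxS.{u} (cP4r 2 0) s186 0 a186 := aux_base3 tw79 rfl b186
theorem n186 : Sound.{u} (cP4r 2 0) s186 0 :=
  (x186.k4 c186_0 :)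
theorem x187 : AuxS.{u} (cP4r 2 0) s187 0 a187 := aux_base3 tw79 rfl b187
theorem n187 : Sound.{u} (cP4r 2 0) s187 0 :=
  (x187.k4 c187_0 :)
theorem x188 : AuxS.{u} (cP4r 2 0) s188 0 a188 := aux_base3 tw79 rfl b188
theorem x188_1 : AuxS.{u} (cP4r 2 0) s188 0 a188_1 := (AuxS.up x188 c188_4 :)
theorem x188_2 : AuxS.{u} (cP4r 2 0) s188 0 a188_2 := (AuxS.up x188_1 c188_5 :)
theorem x188_L0_1 : AuxS.{u} (cP4r 2 0) s188 (0 + 2) a188_L0_1 := (AuxS.hp (x188_2.lam 0) c188_1 :)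
theorem n188 : Sound.{u} (cP4r 2 0) s188 0 :=
  (x188_2.spl c188_0 (AllM.cons (x188_L0_1.tp c188_2 :) AllM.nil) ((x188_2.weaken 1).ext2 (fun _ => rfl) GamS.nil AllS.nil c188_3 (Phs.fin (ct := ct188_3) rfl) (Phs.fin (ct := ct188_3) rfl)) :)
theorem x189 : AuxS.{u} (cP4r 2 0) s189 0 a189 := aux_base3 tw79 rfl b189
theorem n189 : Sound.{u} (cP4r 2 0) s189 0 :=
  (x189.k4 c189_0 :)
theorem x190 : AuxS.{u} (cP4r 2 0) s190 0 a190 := aux_base3 tw79 rfl b190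
theorem n190 : Sound.{u} (cP4r 2 0) s190 0 :=
  (x190.k4 c190_0 :)
theorem x191 : AuxS.{u} (cP4r 2 0) s191 0 a191 := aux_base3 tw79 rfl b191
theorem n191 : Sound.{u} (cP4r 2 0) s191 0 :=
  (x191.k4 c191_0 :)
theorem x192 : AuxS.{u} (cP4r 2 0) s192 0 a192 := aux_base3 tw79 rfl b192
theorem n192 : Sound.{u} (cP4r 2 0) s192 0 :=
  (x192.k4 c192_0 :)
theorem x193 : AuxS.{u} (cP4r 2 0) s193 0 a193 := aux_base3 tw79 rfl b193
theorem n193 : Sound.{u} (cP4r 2 0) s193 0 :=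
  (x193.k4 c193_0 :)
theorem x194 : AuxS.{u} (cP4r 2 0) s194 0 a194 := aux_base3 tw79 rfl b194
theorem n194 : Sound.{u} (cP4r 2 0) s194 0 :=
  (x194.k4 c194_0 :)
theorem x195 : AuxS.{u} (cP4r 2 0) s195 0 a195 := aux_base3 tw79 rfl b195
theorem n195 : Sound.{u} (cP4r 2 0) s195 0 :=
  (x195.k4 c195_0 :)
theorem x196 : AuxS.{u} (cP4r 2 0) s196 0 a196 := aux_base3 tw79 rfl b196
theorem n196 : Sound.{u} (cP4r 2 0) s196 0 :=
  (x196.k4 c196_0 :)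
theorem x197 : AuxS.{u} (cP4r 2 0) s197 0 a197 := aux_base3 tw79 rfl b197
theorem n197 : Sound.{u} (cP4r 2 0) s197 0 :=
  (x197.k4 c197_0 :)
theorem x198 : AuxS.{u} (cP4r 2 0) s198 0 a198 := aux_base3 tw79 rfl b198
theorem n198 : Sound.{u} (cP4r 2 0) s198 0 :=
  (x198.k4 c198_0 :)
theorem x199 : AuxS.{u} (cP4r 2 0) s199 0 a199 := aux_base3 tw79 rfl b199
theorem n199 : Sound.{u} (cP4r 2 0) s199 0 :=
  (x199.k4 c199_0 :)
theorem x200 : AuxS.{u} (cP4r 2 0) s200 0 a200 := aux_base3 tw79 rfl b200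
theorem n200 : Sound.{u} (cP4r 2 0) s200 0 :=
  (x200.k4 c200_0 :)
theorem x201 : AuxS.{u} (cP4r 2 0) s201 0 a201 := aux_base3 tw79 rfl b201
theorem n201 : Sound.{u} (cP4r 2 0) s201 0 :=
  (x201.k4 c201_0 :)
theorem x202 : AuxS.{u} (cP4r 2 0) s202 0 a202 := aux_base3 tw79 rfl b202
theorem n202 : Sound.{u} (cP4r 2 0) s202 0 :=
  (x202.k4 c202_0 :)
theorem x203 : AuxS.{u} (cP4r 2 0) s203 0 a203 := aux_base3 tw79 rfl b203
theorem n203 : Sound.{u} (cP4r 2 0) s203 0 :=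
  (x203.k4 c203_0 :)
theorem x204 : AuxS.{u} (cP4r 2 0) s204 0 a204 := aux_base3 tw79 rfl b204
theorem n204 : Sound.{u} (cP4r 2 0) s204 0 :=
  (x204.k4 c204_0 :)
theorem x205 : AuxS.{u} (cP4r 2 0) s205 0 a205 := aux_base3 tw79 rfl b205
theorem n205 : Sound.{u} (cP4r 2 0) s205 0 :=
  (x205.k4 c205_0 :)
theorem x206 : AuxS.{u} (cP4r 2 0) s206 0 a206 := aux_base3 tw79 rfl b206
theorem n206 : Sound.{u} (cP4r 2 0) s206 0 :=
  (x206.k4 c206_0 :)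
theorem x207 : AuxS.{u} (cP4r 2 0) s207 0 a207 := aux_base3 tw79 rfl b207
theorem n207 : Sound.{u} (cP4r 2 0) s207 0 :=
  (x207.k4 c207_0 :)
theorem x208 : AuxS.{u} (cP4r 2 0) s208 0 a208 := aux_base3 tw79 rfl b208
theorem n208 : Sound.{u} (cP4r 2 0) s208 0 :=
  (x208.k4 c208_0 :)
theorem x209 : AuxS.{u} (cP4r 2 0) s209 0 a209 := aux_base3 tw79 rfl b209
theorem n209 : Sound.{u} (cP4r 2 0) s209 0 :=
  (x209.k4 c209_0 :)
theorem x210 : AuxS.{u} (cP4r 2 0) s210 0 a210 := aux_base3 tw79 rfl b210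
theorem n210 : Sound.{u} (cP4r 2 0) s210 0 :=
  (x210.k4 c210_0 :)
theorem x211 : AuxS.{u} (cP4r 2 0) s211 0 a211 := aux_base3 tw79 rfl b211
theorem n211 : Sound.{u} (cP4r 2 0) s211 0 :=
  (x211.k4 c211_0 :)
theorem x212 : AuxS.{u} (cP4r 2 0) s212 0 a212 := aux_base3 tw79 rfl b212
theorem n212 : Sound.{u} (cP4r 2 0) s212 0 :=
  (x212.k4 c212_0 :)
theorem x213 : AuxS.{u} (cP4r 2 0) s213 0 a213 := aux_base3 tw79 rfl b213
theorem n213 : Sound.{u} (cP4r 2 0) s213 0 :=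
  (x213.k4 c213_0 :)
theorem x214 : AuxS.{u} (cP4r 2 0) s214 0 a214 := aux_base3 tw79 rfl b214
theorem n214 : Sound.{u} (cP4r 2 0) s214 0 :=
  (x214.k4 c214_0 :)
theorem x215 : AuxS.{u} (cP4r 2 0) s215 0 a215 := aux_base3 tw79 rfl b215
theorem n215 : Sound.{u} (cP4r 2 0) s215 0 :=
  (x215.k4 c215_0 :)
theorem x216 : AuxS.{u} (cP4r 2 0) s216 0 a216 := aux_base3 tw79 rfl b216
theorem n216 : Sound.{u} (cP4r 2 0) s216 0 :=
  (x216.k4 c216_0 :)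
theorem x217 : AuxS.{u} (cP4r 2 0) s217 0 a217 := aux_base3 tw79 rfl b217
theorem n217 : Sound.{u} (cP4r 2 0) s217 0 :=
  (x217.k4 c217_0 :)
theorem x218 : AuxS.{u} (cP4r 2 0) s218 0 a218 := aux_base3 tw79 rfl b218
theorem n218 : Sound.{u} (cP4r 2 0) s218 0 :=
  (x218.k4 c218_0 :)
theorem x219 : AuxS.{u} (cP4r 2 0) s219 0 a219 := aux_base3 tw79 rfl b219
theorem n219 : Sound.{u} (cP4r 2 0) s219 0 :=
  (x219.k4 c219_0 :)
theorem x220 : AuxS.{u} (cP4r 2 0) s220 0 a220 := aux_base3 tw79 rfl b220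
theorem n220 : Sound.{u} (cP4r 2 0) s220 0 :=
  (x220.k4 c220_0 :)
theorem x221 : AuxS.{u} (cP4r 2 0) s221 0 a221 := aux_base3 tw79 rfl b221
theorem n221 : Sound.{u} (cP4r 2 0) s221 0 :=
  (x221.k4 c221_0 :)
theorem x222 : AuxS.{u} (cP4r 2 0) s222 0 a222 := aux_base3 tw79 rfl b222
theorem n222 : Sound.{u} (cP4r 2 0) s222 0 :=
  (x222.k4 c222_0 :)
theorem x223 : AuxS.{u} (cP4r 2 0) s223 0 a223 := aux_base3 tw79 rfl b223
theorem n223 : Sound.{u} (cP4r 2 0) s223 0 :=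
  (x223.k4 c223_0 :)
theorem x224 : AuxS.{u} (cP4r 2 0) s224 0 a224 := aux_base3 tw79 rfl b224
theorem n224 : Sound.{u} (cP4r 2 0) s224 0 :=
  (x224.k4 c224_0 :)
theorem x225 : AuxS.{u} (cP4r 2 0) s225 0 a225 := aux_base3 tw79 rfl b225
theorem n225 : Sound.{u} (cP4r 2 0) s225 0 :=
  (x225.k4 c225_0 :)
theorem x226 : AuxS.{u} (cP4r 2 0) s226 0 a226 := aux_base3 tw79 rfl b226
theorem n226 : Sound.{u} (cP4r 2 0) s226 0 :=
  (x226.k4 c226_0 :)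
theorem x227 : AuxS.{u} (cP4r 2 0) s227 0 a227 := aux_base3 tw79 rfl b227
theorem n227 : Sound.{u} (cP4r 2 0) s227 0 :=
  (x227.k4 c227_0 :)
theorem x228 : AuxS.{u} (cP4r 2 0) s228 0 a228 := aux_base3 tw79 rfl b228
theorem x228_1 : AuxS.{u} (cP4r 2 0) s228 0 a228_1 := (AuxS.up x228 c228_4 :)
theorem x228_2 : AuxS.{u} (cP4r 2 0) s228 0 a228_2 := (AuxS.up x228_1 c228_5 :)
theorem x228_L0_1 : AuxS.{u} (cP4r 2 0) s228 (0 + 2) a228_L0_1 := (AuxS.hp (x228_2.lam 0) c228_1 :)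
theorem n228 : Sound.{u} (cP4r 2 0) s228 0 :=
  (x228_2.spl c228_0 (AllM.cons (x228_L0_1.tp c228_2 :) AllM.nil) ((x228_2.weaken 1).ext2 (fun _ => rfl) GamS.nil AllS.nil c228_3 (Phs.fin (ct := ct228_3) rfl) (Phs.fin (ct := ct228_3) rfl)) :)
theorem x229 : AuxS.{u} (cP4r 2 0) s229 0 a229 := aux_base3 tw79 rfl b229
theorem n229 : Sound.{u} (cP4r 2 0) s229 0 :=
  (x229.k4 c229_0 :)
theorem x230 : AuxS.{u} (cP4r 2 0) s230 0 a230 := aux_base3 tw79 rfl b230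
theorem n230 : Sound.{u} (cP4r 2 0) s230 0 :=
  (x230.k4 c230_0 :)
theorem x231 : AuxS.{u} (cP4r 2 0) s231 0 a231 := aux_base3 tw79 rfl b231
theorem n231 : Sound.{u} (cP4r 2 0) s231 0 :=
  (x231.k4 c231_0 :)
theorem x232 : AuxS.{u} (cP4r 2 0) s232 0 a232 := aux_base3 tw79 rfl b232
theorem n232 : Sound.{u} (cP4r 2 0) s232 0 :=
  (x232.k4 c232_0 :)
theorem x233 : AuxS.{u} (cP4r 2 0) s233 0 a233 := aux_base3 tw79 rfl b233
theorem n233 : Sound.{u} (cP4r 2 0) s233 0 :=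
  (x233.k4 c233_0 :)
theorem x234 : AuxS.{u} (cP4r 2 0) s234 0 a234 := aux_base3 tw79 rfl b234
theorem n234 : Sound.{u} (cP4r 2 0) s234 0 :=
  (x234.k4 c234_0 :)
theorem x235 : AuxS.{u} (cP4r 2 0) s235 0 a235 := aux_base3 tw79 rfl b235
theorem n235 : Sound.{u} (cP4r 2 0) s235 0 :=
  (x235.k4 c235_0 :)
theorem x236 : AuxS.{u} (cP4r 2 0) s236 0 a236 := aux_base3 tw79 rfl b236
theorem n236 : Sound.{u} (cP4r 2 0) s236 0 :=
  (x236.k4 c236_0 :)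
theorem x237 : AuxS.{u} (cP4r 2 0) s237 0 a237 := aux_base3 tw79 rfl b237
theorem n237 : Sound.{u} (cP4r 2 0) s237 0 :=
  (x237.k4 c237_0 :)
theorem x238 : AuxS.{u} (cP4r 2 0) s238 0 a238 := aux_base3 tw79 rfl b238
theorem n238 : Sound.{u} (cP4r 2 0) s238 0 :=
  (x238.k4 c238_0 :)
theorem x239 : AuxS.{u} (cP4r 2 0) s239 0 a239 := aux_base3 tw79 rfl b239
theorem n239 : Sound.{u} (cP4r 2 0) s239 0 :=
  (x239.k4 c239_0 :)
theorem x240 : AuxS.{u} (cP4r 2 0) s240 0 a240 := aux_base3 tw79 rfl b240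
theorem n240 : Sound.{u} (cP4r 2 0) s240 0 :=
  (x240.k4 c240_0 :)
theorem x241 : AuxS.{u} (cP4r 2 0) s241 0 a241 := aux_base3 tw79 rfl b241
theorem n241 : Sound.{u} (cP4r 2 0) s241 0 :=
  (x241.k4 c241_0 :)
theorem x242 : AuxS.{u} (cP4r 2 0) s242 0 a242 := aux_base3 tw79 rfl b242
theorem n242 : Sound.{u} (cP4r 2 0) s242 0 :=
  (x242.k4 c242_0 :)
theorem x243 : AuxS.{u} (cP4r 2 0) s243 0 a243 := aux_base3 tw79 rfl b243
theorem n243 : Sound.{u} (cP4r 2 0) s243 0 :=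
  (x243.k4 c243_0 :)
theorem x244 : AuxS.{u} (cP4r 2 0) s244 0 a244 := aux_base3 tw79 rfl b244
theorem n244 : Sound.{u} (cP4r 2 0) s244 0 :=
  (x244.k4 c244_0 :)
theorem x245 : AuxS.{u} (cP4r 2 0) s245 0 a245 := aux_base3 tw79 rfl b245
theorem n245 : Sound.{u} (cP4r 2 0) s245 0 :=
  (x245.k4 c245_0 :)
theorem x246 : AuxS.{u} (cP4r 2 0) s246 0 a246 := aux_base3 tw79 rfl b246
theorem n246 : Sound.{u} (cP4r 2 0) s246 0 :=
  (x246.k4 c246_0 :)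
theorem x247 : AuxS.{u} (cP4r 2 0) s247 0 a247 := aux_base3 tw79 rfl b247
theorem x247_1 : AuxS.{u} (cP4r 2 0) s247 0 a247_1 := (AuxS.up x247 c247_4 :)
theorem x247_2 : AuxS.{u} (cP4r 2 0) s247 0 a247_2 := (AuxS.up x247_1 c247_5 :)
theorem x247_L0_1 : AuxS.{u} (cP4r 2 0) s247 (0 + 2) a247_L0_1 := (AuxS.hp (x247_2.lam 0) c247_1 :)
theorem n247 : Sound.{u} (cP4r 2 0) s247 0 :=
  (x247_2.spl c247_0 (AllM.cons (x247_L0_1.tp c247_2 :) AllM.nil) ((x247_2.weaken 1).ext2 (fun _ => rfl) GamS.nil AllS.nil c247_3 (Phs.fin (ct := ct247_3) rfl) (Phs.fin (ct := ct247_3) rfl)) :)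
theorem x248 : AuxS.{u} (cP4r 2 0) s248 0 a248 := aux_base3 tw79 rfl b248
theorem n248 : Sound.{u} (cP4r 2 0) s248 0 :=
  (x248.k4 c248_0 :)
theorem x249 : AuxS.{u} (cP4r 2 0) s249 0 a249 := aux_base3 tw79 rfl b249
theorem n249 : Sound.{u} (cP4r 2 0) s249 0 :=
  (x249.k4 c249_0 :)
theorem x250 : AuxS.{u} (cP4r 2 0) s250 0 a250 := aux_base3 tw79 rfl b250
theorem n250 : Sound.{u} (cP4r 2 0) s250 0 :=
  (x250.k4 c250_0 :)
theorem x251 : AuxS.{u} (cP4r 2 0) s251 0 a251 := aux_base3 tw79 rfl b251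
theorem n251 : Sound.{u} (cP4r 2 0) s251 0 :=
  (x251.k4 c251_0 :)
theorem x252 : AuxS.{u} (cP4r 2 0) s252 0 a252 := aux_base3 tw79 rfl b252
theorem n252 : Sound.{u} (cP4r 2 0) s252 0 :=
  (x252.k4 c252_0 :)
theorem x253 : AuxS.{u} (cP4r 2 0) s253 0 a253 := aux_base3 tw79 rfl b253
theorem n253 : Sound.{u} (cP4r 2 0) s253 0 :=
  (x253.k4 c253_0 :)
theorem x254 : AuxS.{u} (cP4r 2 0) s254 0 a254 := aux_base3 tw79 rfl b254
theorem n254 : Sound.{u} (cP4r 2 0) s254 0 :=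
  (x254.k4 c254_0 :)
theorem x255 : AuxS.{u} (cP4r 2 0) s255 0 a255 := aux_base3 tw79 rfl b255
theorem n255 : Sound.{u} (cP4r 2 0) s255 0 :=
  (x255.k4 c255_0 :)
theorem x256 : AuxS.{u} (cP4r 2 0) s256 0 a256 := aux_base3 tw79 rfl b256
theorem n256 : Sound.{u} (cP4r 2 0) s256 0 :=
  (x256.k4 c256_0 :)
theorem x257 : AuxS.{u} (cP4r 2 0) s257 0 a257 := aux_base3 tw79 rfl b257
theorem n257 : Sound.{u} (cP4r 2 0) s257 0 :=
  (x257.k4 c257_0 :)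
theorem x258 : AuxS.{u} (cP4r 2 0) s258 0 a258 := aux_base3 tw79 rfl b258
theorem n258 : Sound.{u} (cP4r 2 0) s258 0 :=
  (x258.k4 c258_0 :)
theorem x259 : AuxS.{u} (cP4r 2 0) s259 0 a259 := aux_base3 tw79 rfl b259
theorem n259 : Sound.{u} (cP4r 2 0) s259 0 :=
  (x259.k4 c259_0 :)
theorem x260 : AuxS.{u} (cP4r 2 0) s260 0 a260 := aux_base3 tw79 rfl b260
theorem n260 : Sound.{u} (cP4r 2 0) s260 0 :=
  (x260.k4 c260_0 :)
theorem x261 : AuxS.{u} (cP4r 2 0) s261 0 a261 := aux_base3 tw79 rfl b261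
theorem n261 : Sound.{u} (cP4r 2 0) s261 0 :=
  (x261.k4 c261_0 :)
theorem x262 : AuxS.{u} (cP4r 2 0) s262 0 a262 := aux_base3 tw79 rfl b262
theorem n262 : Sound.{u} (cP4r 2 0) s262 0 :=
  (x262.k4 c262_0 :)
theorem x263 : AuxS.{u} (cP4r 2 0) s263 0 a263 := aux_base3 tw79 rfl b263
theorem n263 : Sound.{u} (cP4r 2 0) s263 0 :=
  (x263.k4 c263_0 :)
theorem x264 : AuxS.{u} (cP4r 2 0) s264 0 a264 := aux_base3 tw79 rfl b264
theorem n264 : Sound.{u} (cP4r 2 0) s264 0 :=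
  (x264.k4 c264_0 :)
theorem x265 : AuxS.{u} (cP4r 2 0) s265 0 a265 := aux_base3 tw79 rfl b265
theorem n265 : Sound.{u} (cP4r 2 0) s265 0 :=
  (x265.k4 c265_0 :)
theorem x266 : AuxS.{u} (cP4r 2 0) s266 0 a266 := aux_base3 tw79 rfl b266
theorem n266 : Sound.{u} (cP4r 2 0) s266 0 :=
  (x266.k4 c266_0 :)
theorem x267 : AuxS.{u} (cP4r 2 0) s267 0 a267 := aux_base3 tw79 rfl b267
theorem n267 : Sound.{u} (cP4r 2 0) s267 0 :=
  (x267.k4 c267_0 :)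
theorem x268 : AuxS.{u} (cP4r 2 0) s268 0 a268 := aux_base3 tw79 rfl b268
theorem n268 : Sound.{u} (cP4r 2 0) s268 0 :=
  (x268.k4 c268_0 :)
theorem x269 : AuxS.{u} (cP4r 2 0) s269 0 a269 := aux_base3 tw79 rfl b269
theorem n269 : Sound.{u} (cP4r 2 0) s269 0 :=
  (x269.k4 c269_0 :)
theorem x270 : AuxS.{u} (cP4r 2 0) s270 0 a270 := aux_base3 tw79 rfl b270
theorem n270 : Sound.{u} (cP4r 2 0) s270 0 :=
  (x270.k4 c270_0 :)
theorem x271 : AuxS.{u} (cP4r 2 0) s271 0 a271 := aux_base3 tw79 rfl b271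
theorem n271 : Sound.{u} (cP4r 2 0) s271 0 :=
  (x271.k4 c271_0 :)
theorem x272 : AuxS.{u} (cP4r 2 0) s272 0 a272 := aux_base3 tw79 rfl b272
theorem n272 : Sound.{u} (cP4r 2 0) s272 0 :=
  (x272.k4 c272_0 :)
theorem x273 : AuxS.{u} (cP4r 2 0) s273 0 a273 := aux_base3 tw79 rfl b273
theorem n273 : Sound.{u} (cP4r 2 0) s273 0 :=
  (x273.k4 c273_0 :)
theorem x274 : AuxS.{u} (cP4r 2 0) s274 0 a274 := aux_base3 tw79 rfl b274
theorem n274 : Sound.{u} (cP4r 2 0) s274 0 :=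
  (x274.k4 c274_0 :)
theorem x275 : AuxS.{u} (cP4r 2 0) s275 0 a275 := aux_base3 tw79 rfl b275
theorem n275 : Sound.{u} (cP4r 2 0) s275 0 :=
  (x275.k4 c275_0 :)
theorem x276 : AuxS.{u} (cP4r 2 0) s276 0 a276 := aux_base3 tw79 rfl b276
theorem n276 : Sound.{u} (cP4r 2 0) s276 0 :=
  (x276.k4 c276_0 :)
theorem x277 : AuxS.{u} (cP4r 2 0) s277 0 a277 := aux_base3 tw79 rfl b277
theorem n277 : Sound.{u} (cP4r 2 0) s277 0 :=
  (x277.k4 c277_0 :)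
theorem x278 : AuxS.{u} (cP4r 2 0) s278 0 a278 := aux_base3 tw79 rfl b278
theorem n278 : Sound.{u} (cP4r 2 0) s278 0 :=
  (x278.k4 c278_0 :)
theorem x279 : AuxS.{u} (cP4r 2 0) s279 0 a279 := aux_base3 tw79 rfl b279
theorem n279 : Sound.{u} (cP4r 2 0) s279 0 :=
  (x279.k4 c279_0 :)
theorem x280 : AuxS.{u} (cP4r 2 0) s280 0 a280 := aux_base3 tw79 rfl b280
theorem n280 : Sound.{u} (cP4r 2 0) s280 0 :=
  (x280.k4 c280_0 :)
theorem x281 : AuxS.{u} (cP4r 2 0) s281 0 a281 := aux_base3 tw79 rfl b281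
theorem n281 : Sound.{u} (cP4r 2 0) s281 0 :=
  (x281.k4 c281_0 :)
theorem x282 : AuxS.{u} (cP4r 2 0) s282 0 a282 := aux_base3 tw79 rfl b282
theorem n282 : Sound.{u} (cP4r 2 0) s282 0 :=
  (x282.k4 c282_0 :)
theorem x283 : AuxS.{u} (cP4r 2 0) s283 0 a283 := aux_base3 tw79 rfl b283
theorem n283 : Sound.{u} (cP4r 2 0) s283 0 :=
  (x283.k4 c283_0 :)
theorem x284 : AuxS.{u} (cP4r 2 0) s284 0 a284 := aux_base3 tw79 rfl b284
theorem n284 : Sound.{u} (cP4r 2 0) s284 0 :=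
  (x284.k4 c284_0 :)
theorem x285 : AuxS.{u} (cP4r 2 0) s285 0 a285 := aux_base3 tw79 rfl b285
theorem n285 : Sound.{u} (cP4r 2 0) s285 0 :=
  (x285.k4 c285_0 :)
theorem x286 : AuxS.{u} (cP4r 2 0) s286 0 a286 := aux_base3 tw79 rfl b286
theorem n286 : Sound.{u} (cP4r 2 0) s286 0 :=
  (x286.k4 c286_0 :)
theorem x287 : AuxS.{u} (cP4r 2 0) s287 0 a287 := aux_base3 tw79 rfl b287
theorem x287_1 : AuxS.{u} (cP4r 2 0) s287 0 a287_1 := x287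
theorem x287_2 : AuxS.{u} (cP4r 2 0) s287 0 a287_2 := x287_1
theorem n287 : Sound.{u} (cP4r 2 0) s287 0 :=
  (x287_2.jump c287_0 c287_1 n247 :)
theorem x288 : AuxS.{u} (cP4r 2 0) s288 0 a288 := aux_base3 tw79 rfl b288
theorem n288 : Sound.{u} (cP4r 2 0) s288 0 :=
  (x288.k4 c288_0 :)
theorem x289 : AuxS.{u} (cP4r 2 0) s289 0 a289 := aux_base3 tw79 rfl b289
theorem n289 : Sound.{u} (cP4r 2 0) s289 0 :=
  (x289.k4 c289_0 :)
theorem x290 : AuxS.{u} (cP4r 2 0) s290 0 a290 := aux_base3 tw79 rfl b290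
theorem n290 : Sound.{u} (cP4r 2 0) s290 0 :=
  (x290.k4 c290_0 :)
theorem x291 : AuxS.{u} (cP4r 2 0) s291 0 a291 := aux_base3 tw79 rfl b291
theorem n291 : Sound.{u} (cP4r 2 0) s291 0 :=
  (x291.k4 c291_0 :)
theorem x292 : AuxS.{u} (cP4r 2 0) s292 0 a292 := aux_base3 tw79 rfl b292
theorem n292 : Sound.{u} (cP4r 2 0) s292 0 :=
  (x292.k4 c292_0 :)
theorem x293 : AuxS.{u} (cP4r 2 0) s293 0 a293 := aux_base3 tw79 rfl b293
theorem n293 : Sound.{u} (cP4r 2 0) s293 0 :=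
  (x293.k4 c293_0 :)
theorem x294 : AuxS.{u} (cP4r 2 0) s294 0 a294 := aux_base3 tw79 rfl b294
theorem n294 : Sound.{u} (cP4r 2 0) s294 0 :=
  (x294.k4 c294_0 :)
theorem x295 : AuxS.{u} (cP4r 2 0) s295 0 a295 := aux_base3 tw79 rfl b295
theorem n295 : Sound.{u} (cP4r 2 0) s295 0 :=
  (x295.k4 c295_0 :)
theorem x296 : AuxS.{u} (cP4r 2 0) s296 0 a296 := aux_base3 tw79 rfl b296
theorem n296 : Sound.{u} (cP4r 2 0) s296 0 :=
  (x296.k4 c296_0 :)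
theorem x297 : AuxS.{u} (cP4r 2 0) s297 0 a297 := aux_base3 tw79 rfl b297
theorem n297 : Sound.{u} (cP4r 2 0) s297 0 :=
  (x297.k4 c297_0 :)
theorem x298 : AuxS.{u} (cP4r 2 0) s298 0 a298 := aux_base3 tw79 rfl b298
theorem n298 : Sound.{u} (cP4r 2 0) s298 0 :=
  (x298.k4 c298_0 :)
theorem x299 : AuxS.{u} (cP4r 2 0) s299 0 a299 := aux_base3 tw79 rfl b299
theorem n299 : Sound.{u} (cP4r 2 0) s299 0 :=
  (x299.k4 c299_0 :)
theorem x300 : AuxS.{u} (cP4r 2 0) s300 0 a300 := aux_base3 tw79 rfl b300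
theorem n300 : Sound.{u} (cP4r 2 0) s300 0 :=
  (x300.k4 c300_0 :)
theorem x301 : AuxS.{u} (cP4r 2 0) s301 0 a301 := aux_base3 tw79 rfl b301
theorem n301 : Sound.{u} (cP4r 2 0) s301 0 :=
  (x301.k4 c301_0 :)
theorem x302 : AuxS.{u} (cP4r 2 0) s302 0 a302 := aux_base3 tw79 rfl b302
theorem n302 : Sound.{u} (cP4r 2 0) s302 0 :=
  (x302.k4 c302_0 :)
theorem x303 : AuxS.{u} (cP4r 2 0) s303 0 a303 := aux_base3 tw79 rfl b303
theorem n303 : Sound.{u} (cP4r 2 0) s303 0 :=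
  (x303.k4 c303_0 :)
theorem x304 : AuxS.{u} (cP4r 2 0) s304 0 a304 := aux_base3 tw79 rfl b304
theorem n304 : Sound.{u} (cP4r 2 0) s304 0 :=
  (x304.k4 c304_0 :)
theorem x305 : AuxS.{u} (cP4r 2 0) s305 0 a305 := aux_base3 tw79 rfl b305
theorem n305 : Sound.{u} (cP4r 2 0) s305 0 :=
  (x305.k4 c305_0 :)
theorem x306 : AuxS.{u} (cP4r 2 0) s306 0 a306 := aux_base3 tw79 rfl b306
theorem n306 : Sound.{u} (cP4r 2 0) s306 0 :=
  (x306.k4 c306_0 :)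
theorem x307 : AuxS.{u} (cP4r 2 0) s307 0 a307 := aux_base3 tw79 rfl b307
theorem n307 : Sound.{u} (cP4r 2 0) s307 0 :=
  (x307.k4 c307_0 :)
theorem x308 : AuxS.{u} (cP4r 2 0) s308 0 a308 := aux_base3 tw79 rfl b308
theorem n308 : Sound.{u} (cP4r 2 0) s308 0 :=
  (x308.k4 c308_0 :)
theorem x309 : AuxS.{u} (cP4r 2 0) s309 0 a309 := aux_base3 tw79 rfl b309
theorem n309 : Sound.{u} (cP4r 2 0) s309 0 :=
  (x309.k4 c309_0 :)
theorem x310 : AuxS.{u} (cP4r 2 0) s310 0 a310 := aux_base3 tw79 rfl b310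
theorem n310 : Sound.{u} (cP4r 2 0) s310 0 :=
  (x310.k4 c310_0 :)
theorem x311 : AuxS.{u} (cP4r 2 0) s311 0 a311 := aux_base3 tw79 rfl b311
theorem n311 : Sound.{u} (cP4r 2 0) s311 0 :=
  (x311.k4 c311_0 :)
theorem x312 : AuxS.{u} (cP4r 2 0) s312 0 a312 := aux_base3 tw79 rfl b312
theorem n312 : Sound.{u} (cP4r 2 0) s312 0 :=
  (x312.k4 c312_0 :)
theorem x313 : AuxS.{u} (cP4r 2 0) s313 0 a313 := aux_base3 tw79 rfl b313
theorem n313 : Sound.{u} (cP4r 2 0) s313 0 :=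
  (x313.k4 c313_0 :)
theorem x314 : AuxS.{u} (cP4r 2 0) s314 0 a314 := aux_base3 tw79 rfl b314
theorem n314 : Sound.{u} (cP4r 2 0) s314 0 :=
  (x314.k4 c314_0 :)
theorem x315 : AuxS.{u} (cP4r 2 0) s315 0 a315 := aux_base3 tw79 rfl b315
theorem n315 : Sound.{u} (cP4r 2 0) s315 0 :=
  (x315.k4 c315_0 :)
theorem x316 : AuxS.{u} (cP4r 2 0) s316 0 a316 := aux_base3 tw79 rfl b316
theorem x316_1 : AuxS.{u} (cP4r 2 0) s316 0 a316_1 := x316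
theorem x316_2 : AuxS.{u} (cP4r 2 0) s316 0 a316_2 := x316_1
theorem n316 : Sound.{u} (cP4r 2 0) s316 0 :=
  (x316_2.jump c316_0 c316_1 n247 :)
theorem x317 : AuxS.{u} (cP4r 2 0) s317 0 a317 := aux_base3 tw79 rfl b317
theorem n317 : Sound.{u} (cP4r 2 0) s317 0 :=
  (x317.k4 c317_0 :)
theorem x318 : AuxS.{u} (cP4r 2 0) s318 0 a318 := aux_base3 tw79 rfl b318
theorem n318 : Sound.{u} (cP4r 2 0) s318 0 :=
  (x318.k4 c318_0 :)
theorem x319 : AuxS.{u} (cP4r 2 0) s319 0 a319 := aux_base3 tw79 rfl b319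
theorem n319 : Sound.{u} (cP4r 2 0) s319 0 :=
  (x319.k4 c319_0 :)
theorem x320 : AuxS.{u} (cP4r 2 0) s320 0 a320 := aux_base3 tw79 rfl b320
theorem n320 : Sound.{u} (cP4r 2 0) s320 0 :=
  (x320.k4 c320_0 :)
theorem x321 : AuxS.{u} (cP4r 2 0) s321 0 a321 := aux_base3 tw79 rfl b321
theorem n321 : Sound.{u} (cP4r 2 0) s321 0 :=
  (x321.k4 c321_0 :)
theorem x322 : AuxS.{u} (cP4r 2 0) s322 0 a322 := aux_base3 tw79 rfl b322
theorem n322 : Sound.{u} (cP4r 2 0) s322 0 :=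
  (x322.k4 c322_0 :)
theorem x323 : AuxS.{u} (cP4r 2 0) s323 0 a323 := aux_base3 tw79 rfl b323
theorem n323 : Sound.{u} (cP4r 2 0) s323 0 :=
  (x323.k4 c323_0 :)
theorem x324 : AuxS.{u} (cP4r 2 0) s324 0 a324 := aux_base3 tw79 rfl b324
theorem n324 : Sound.{u} (cP4r 2 0) s324 0 :=
  (x324.k4 c324_0 :)
theorem x325 : AuxS.{u} (cP4r 2 0) s325 0 a325 := aux_base3 tw79 rfl b325
theorem n325 : Sound.{u} (cP4r 2 0) s325 0 :=
  (x325.k4 c325_0 :)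
theorem x326 : AuxS.{u} (cP4r 2 0) s326 0 a326 := aux_base3 tw79 rfl b326
theorem n326 : Sound.{u} (cP4r 2 0) s326 0 :=
  (x326.k4 c326_0 :)
theorem x327 : AuxS.{u} (cP4r 2 0) s327 0 a327 := aux_base3 tw79 rfl b327
theorem n327 : Sound.{u} (cP4r 2 0) s327 0 :=
  (x327.k4 c327_0 :)
theorem x328 : AuxS.{u} (cP4r 2 0) s328 0 a328 := aux_base3 tw79 rfl b328
theorem n328 : Sound.{u} (cP4r 2 0) s328 0 :=
  (x328.k4 c328_0 :)
theorem x329 : AuxS.{u} (cP4r 2 0) s329 0 a329 := aux_base3 tw79 rfl b329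
theorem n329 : Sound.{u} (cP4r 2 0) s329 0 :=
  (x329.k4 c329_0 :)
theorem x330 : AuxS.{u} (cP4r 2 0) s330 0 a330 := aux_base3 tw79 rfl b330
theorem n330 : Sound.{u} (cP4r 2 0) s330 0 :=
  (x330.k4 c330_0 :)
theorem x331 : AuxS.{u} (cP4r 2 0) s331 0 a331 := aux_base3 tw79 rfl b331
theorem n331 : Sound.{u} (cP4r 2 0) s331 0 :=
  (x331.k4 c331_0 :)
theorem x332 : AuxS.{u} (cP4r 2 0) s332 0 a332 := aux_base3 tw79 rfl b332
theorem n332 : Sound.{u} (cP4r 2 0) s332 0 :=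
  (x332.k4 c332_0 :)
theorem x333 : AuxS.{u} (cP4r 2 0) s333 0 a333 := aux_base3 tw79 rfl b333
theorem n333 : Sound.{u} (cP4r 2 0) s333 0 :=
  (x333.k4 c333_0 :)
theorem x334 : AuxS.{u} (cP4r 2 0) s334 0 a334 := aux_base3 tw79 rfl b334
theorem n334 : Sound.{u} (cP4r 2 0) s334 0 :=
  (x334.k4 c334_0 :)
theorem x335 : AuxS.{u} (cP4r 2 0) s335 0 a335 := aux_base3 tw79 rfl b335
theorem n335 : Sound.{u} (cP4r 2 0) s335 0 :=
  (x335.k4 c335_0 :)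
theorem x336 : AuxS.{u} (cP4r 2 0) s336 0 a336 := aux_base3 tw79 rfl b336
theorem n336 : Sound.{u} (cP4r 2 0) s336 0 :=
  (x336.k4 c336_0 :)
theorem x337 : AuxS.{u} (cP4r 2 0) s337 0 a337 := aux_base3 tw79 rfl b337
theorem n337 : Sound.{u} (cP4r 2 0) s337 0 :=
  (x337.k4 c337_0 :)
theorem x338 : AuxS.{u} (cP4r 2 0) s338 0 a338 := aux_base3 tw79 rfl b338
theorem n338 : Sound.{u} (cP4r 2 0) s338 0 :=
  (x338.k4 c338_0 :)
theorem x339 : AuxS.{u} (cP4r 2 0) s339 0 a339 := aux_base3 tw79 rfl b339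
theorem n339 : Sound.{u} (cP4r 2 0) s339 0 :=
  (x339.k4 c339_0 :)
theorem x340 : AuxS.{u} (cP4r 2 0) s340 0 a340 := aux_base3 tw79 rfl b340
theorem n340 : Sound.{u} (cP4r 2 0) s340 0 :=
  (x340.k4 c340_0 :)
theorem x341 : AuxS.{u} (cP4r 2 0) s341 0 a341 := aux_base3 tw79 rfl b341
theorem n341 : Sound.{u} (cP4r 2 0) s341 0 :=
  (x341.k4 c341_0 :)
theorem x342 : AuxS.{u} (cP4r 2 0) s342 0 a342 := aux_base3 tw79 rfl b342
theorem n342 : Sound.{u} (cP4r 2 0) s342 0 :=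
  (x342.k4 c342_0 :)
theorem x343 : AuxS.{u} (cP4r 2 0) s343 0 a343 := aux_base3 tw79 rfl b343
theorem n343 : Sound.{u} (cP4r 2 0) s343 0 :=
  (x343.k4 c343_0 :)
theorem x344 : AuxS.{u} (cP4r 2 0) s344 0 a344 := aux_base3 tw79 rfl b344
theorem n344 : Sound.{u} (cP4r 2 0) s344 0 :=
  (x344.k4 c344_0 :)
theorem x345 : AuxS.{u} (cP4r 2 0) s345 0 a345 := aux_base3 tw79 rfl b345
theorem n345 : Sound.{u} (cP4r 2 0) s345 0 :=
  (x345.k4 c345_0 :)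
theorem x346 : AuxS.{u} (cP4r 2 0) s346 0 a346 := aux_base3 tw79 rfl b346
theorem n346 : Sound.{u} (cP4r 2 0) s346 0 :=
  (x346.k4 c346_0 :)
theorem x347 : AuxS.{u} (cP4r 2 0) s347 0 a347 := aux_base3 tw79 rfl b347
theorem n347 : Sound.{u} (cP4r 2 0) s347 0 :=
  (x347.k4 c347_0 :)
theorem x348 : AuxS.{u} (cP4r 2 0) s348 0 a348 := aux_base3 tw79 rfl b348
theorem n348 : Sound.{u} (cP4r 2 0) s348 0 :=
  (x348.k4 c348_0 :)
theorem x349 : AuxS.{u} (cP4r 2 0) s349 0 a349 := aux_base3 tw79 rfl b349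
theorem n349 : Sound.{u} (cP4r 2 0) s349 0 :=
  (x349.k4 c349_0 :)
theorem x350 : AuxS.{u} (cP4r 2 0) s350 0 a350 := aux_base3 tw79 rfl b350
theorem n350 : Sound.{u} (cP4r 2 0) s350 0 :=
  (x350.k4 c350_0 :)
theorem x351 : AuxS.{u} (cP4r 2 0) s351 0 a351 := aux_base3 tw79 rfl b351
theorem n351 : Sound.{u} (cP4r 2 0) s351 0 :=
  (x351.k4 c351_0 :)
theorem x352 : AuxS.{u} (cP4r 2 0) s352 0 a352 := aux_base3 tw79 rfl b352
theorem n352 : Sound.{u} (cP4r 2 0) s352 0 :=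
  (x352.k4 c352_0 :)
theorem x353 : AuxS.{u} (cP4r 2 0) s353 0 a353 := aux_base3 tw79 rfl b353
theorem n353 : Sound.{u} (cP4r 2 0) s353 0 :=
  (x353.k4 c353_0 :)
theorem x354 : AuxS.{u} (cP4r 2 0) s354 0 a354 := aux_base3 tw79 rfl b354
theorem n354 : Sound.{u} (cP4r 2 0) s354 0 :=
  (x354.k4 c354_0 :)
theorem x355 : AuxS.{u} (cP4r 2 0) s355 0 a355 := aux_base3 tw79 rfl b355
theorem n355 : Sound.{u} (cP4r 2 0) s355 0 :=
  (x355.k4 c355_0 :)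
theorem x356 : AuxS.{u} (cP4r 2 0) s356 0 a356 := aux_base3 tw79 rfl b356
theorem x356_1 : AuxS.{u} (cP4r 2 0) s356 0 a356_1 := x356
theorem x356_2 : AuxS.{u} (cP4r 2 0) s356 0 a356_2 := x356_1
theorem n356 : Sound.{u} (cP4r 2 0) s356 0 :=
  (x356_2.jump c356_0 c356_1 n247 :)
theorem x357 : AuxS.{u} (cP4r 2 0) s357 0 a357 := aux_base3 tw79 rfl b357
theorem n357 : Sound.{u} (cP4r 2 0) s357 0 :=
  (x357.k4 c357_0 :)
theorem x358 : AuxS.{u} (cP4r 2 0) s358 0 a358 := aux_base3 tw79 rfl b358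
theorem n358 : Sound.{u} (cP4r 2 0) s358 0 :=
  (x358.k4 c358_0 :)
theorem x359 : AuxS.{u} (cP4r 2 0) s359 0 a359 := aux_base3 tw79 rfl b359
theorem n359 : Sound.{u} (cP4r 2 0) s359 0 :=
  (x359.k4 c359_0 :)
theorem x360 : AuxS.{u} (cP4r 2 0) s360 0 a360 := aux_base3 tw79 rfl b360
theorem n360 : Sound.{u} (cP4r 2 0) s360 0 :=
  (x360.k4 c360_0 :)
theorem x361 : AuxS.{u} (cP4r 2 0) s361 0 a361 := aux_base3 tw79 rfl b361
theorem n361 : Sound.{u} (cP4r 2 0) s361 0 :=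
  (x361.k4 c361_0 :)
theorem x362 : AuxS.{u} (cP4r 2 0) s362 0 a362 := aux_base3 tw79 rfl b362
theorem n362 : Sound.{u} (cP4r 2 0) s362 0 :=
  (x362.k4 c362_0 :)
theorem x363 : AuxS.{u} (cP4r 2 0) s363 0 a363 := aux_base3 tw79 rfl b363
theorem n363 : Sound.{u} (cP4r 2 0) s363 0 :=
  (x363.k4 c363_0 :)
theorem x364 : AuxS.{u} (cP4r 2 0) s364 0 a364 := aux_base3 tw79 rfl b364
theorem n364 : Sound.{u} (cP4r 2 0) s364 0 :=
  (x364.k4 c364_0 :)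
theorem x365 : AuxS.{u} (cP4r 2 0) s365 0 a365 := aux_base3 tw79 rfl b365
theorem n365 : Sound.{u} (cP4r 2 0) s365 0 :=
  (x365.k4 c365_0 :)
theorem x366 : AuxS.{u} (cP4r 2 0) s366 0 a366 := aux_base3 tw79 rfl b366
theorem n366 : Sound.{u} (cP4r 2 0) s366 0 :=
  (x366.k4 c366_0 :)
theorem x367 : AuxS.{u} (cP4r 2 0) s367 0 a367 := aux_base3 tw79 rfl b367
theorem n367 : Sound.{u} (cP4r 2 0) s367 0 :=
  (x367.k4 c367_0 :)
theorem x368 : AuxS.{u} (cP4r 2 0) s368 0 a368 := aux_base3 tw79 rfl b368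
theorem n368 : Sound.{u} (cP4r 2 0) s368 0 :=
  (x368.k4 c368_0 :)
theorem x369 : AuxS.{u} (cP4r 2 0) s369 0 a369 := aux_base3 tw79 rfl b369
theorem n369 : Sound.{u} (cP4r 2 0) s369 0 :=
  (x369.k4 c369_0 :)
theorem x370 : AuxS.{u} (cP4r 2 0) s370 0 a370 := aux_base3 tw79 rfl b370
theorem n370 : Sound.{u} (cP4r 2 0) s370 0 :=
  (x370.k4 c370_0 :)
theorem x371 : AuxS.{u} (cP4r 2 0) s371 0 a371 := aux_base3 tw79 rfl b371
theorem n371 : Sound.{u} (cP4r 2 0) s371 0 :=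
  (x371.k4 c371_0 :)
theorem x372 : AuxS.{u} (cP4r 2 0) s372 0 a372 := aux_base3 tw79 rfl b372
theorem n372 : Sound.{u} (cP4r 2 0) s372 0 :=
  (x372.k4 c372_0 :)
theorem x113 : AuxS.{u} (cP4r 2 0) s113 0 a113 := aux_base3 tw79 rfl b113
theorem x113_1 : AuxS.{u} (cP4r 2 0) s113 0 a113_1 := x113
theorem x113_2 : AuxS.{u} (cP4r 2 0) s113 0 a113_2 := x113_1
theorem n113 : Sound.{u} (cP4r 2 0) s113 0 :=
  (x113_2.fr GamS.nil (AllS.cons n117 (AllS.cons n118 (AllS.cons n119 (AllS.cons n120 (AllS.cons n121 (AllS.cons n122 (AllS.cons n123 (AllS.cons n124 (AllS.cons n125 (AllS.cons n126 (AllS.cons n127 (AllS.cons n128 (AllS.cons n129 (AllS.cons n130 (AllS.cons n131 (AllS.cons n132 (AllS.cons n133 (AllS.cons n134 (AllS.cons n135 (AllS.cons n136 (AllS.cons n137 (AllS.cons n138 (AllS.cons n139 (AllS.cons n140 (AllS.cons n141 (AllS.cons n142 (AllS.cons n143 (AllS.cons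 n144 (AllS.cons n145 (AllS.cons n146 (AllS.cons n147 (AllS.cons n148 (AllS.cons n149 (AllS.cons n150 (AllS.cons n151 (AllS.cons n152 (AllS.cons n153 (AllS.cons n154 (AllS.cons n155 (AllS.cons n156 (AllS.cons n157 (AllS.cons n158 (AllS.cons n159 (AllS.cons n160 (AllS.cons n161 (AllS.cons n162 (AllS.cons n163 (AllS.cons n164 (AllS.cons n165 (AllS.cons n166 (AllS.cons n167 (AllS.cons n168 (AllS.cons n169 (AllS.cons n170 (AllS.cons n171 (AllS.cons n172 (AllS.cons n173 (AllS.cons n174 (AllS.cons n175 (AllS.cons n176 (AllS.cons n177 (AllS.cons n178 (AllS.cons n179 (AllS.cons n180 (AllS.cons n181 (AllS.cons n182 (AllS.cons n183 (AllS.cons n184 (AllS.cons n185 (AllS.cons n186 (AllS.cons n187 (AllS.cons n188 (AllS.cons n189 (AllS.cons n190 (AllS.cons n191 (AllS.cons n192 (AllS.cons n193 (AllS.cons n194 (AllS.cons n195 (AllS.cons n196 (AllS.cons n197 (AllS.cons n198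 (AllS.cons n199 (AllS.cons n200 (AllS.cons n201 (AllS.cons n202 (AllS.cons n203 (AllS.cons n204 (AllS.cons n205 (AllS.cons n206 (AllS.cons n207 (AllS.cons n208 (AllS.cons n209 (AllS.cons n210 (AllS.cons n211 (AllS.cons n212 (AllS.cons n213 (AllS.cons n214 (AllS.cons n215 (AllS.cons n216 (AllS.cons n217 (AllS.cons n218 (AllS.cons n219 (AllS.cons n220 (AllS.cons n221 (AllS.cons n222 (AllS.cons n223 (AllS.cons n224 (AllS.cons n225 (AllS.cons n226 (AllS.cons n227 (AllS.cons n228 (AllS.cons n229 (AllS.cons n230 (AllS.cons n231 (AllS.cons n232 (AllS.cons n233 (AllS.cons n234 (AllS.cons n235 (AllS.cons n236 (AllS.cons n237 (AllS.cons n238 (AllS.cons n239 (AllS.cons n240 (AllS.cons n241 (AllS.cons n242 (AllS.cons n243 (AllS.cons n244 (AllS.cons n245 (AllS.cons n246 (AllS.cons n247 (AllS.cons n248 (AllS.cons n249 (AllS.cons n250 (AllS.cons n251 (AllS.cons n252 (AllS.cons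 n253 (AllS.cons n254 (AllS.cons n255 (AllS.cons n256 (AllS.cons n257 (AllS.cons n258 (AllS.cons n259 (AllS.cons n260 (AllS.cons n261 (AllS.cons n262 (AllS.cons n263 (AllS.cons n264 (AllS.cons n265 (AllS.cons n266 (AllS.cons n267 (AllS.cons n268 (AllS.cons n269 (AllS.cons n270 (AllS.cons n271 (AllS.cons n272 (AllS.cons n273 (AllS.cons n274 (AllS.cons n275 (AllS.cons n276 (AllS.cons n277 (AllS.cons n278 (AllS.cons n279 (AllS.cons n280 (AllS.cons n281 (AllS.cons n282 (AllS.cons n283 (AllS.cons n284 (AllS.cons n285 (AllS.cons n286 (AllS.cons n287 (AllS.cons n288 (AllS.cons n289 (AllS.cons n290 (AllS.cons n291 (AllS.cons n292 (AllS.cons n293 (AllS.cons n294 (AllS.cons n295 (AllS.cons n296 (AllS.cons n297 (AllS.cons n298 (AllS.cons n299 (AllS.cons n300 (AllS.cons n301 (AllS.cons n302 (AllS.cons n303 (AllS.cons n304 (AllS.cons n305 (AllS.cons n306 (AllS.cons n307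 (AllS.cons n308 (AllS.cons n309 (AllS.cons n310 (AllS.cons n311 (AllS.cons n312 (AllS.cons n313 (AllS.cons n314 (AllS.cons n315 (AllS.cons n316 (AllS.cons n317 (AllS.cons n318 (AllS.cons n319 (AllS.cons n320 (AllS.cons n321 (AllS.cons n322 (AllS.cons n323 (AllS.cons n324 (AllS.cons n325 (AllS.cons n326 (AllS.cons n327 (AllS.cons n328 (AllS.cons n329 (AllS.cons n330 (AllS.cons n331 (AllS.cons n332 (AllS.cons n333 (AllS.cons n334 (AllS.cons n335 (AllS.cons n336 (AllS.cons n337 (AllS.cons n338 (AllS.cons n339 (AllS.cons n340 (AllS.cons n341 (AllS.cons n342 (AllS.cons n343 (AllS.cons n344 (AllS.cons n345 (AllS.cons n346 (AllS.cons n347 (AllS.cons n348 (AllS.cons n349 (AllS.cons n350 (AllS.cons n351 (AllS.cons n352 (AllS.cons n353 (AllS.cons n354 (AllS.cons n355 (AllS.cons n356 (AllS.cons n357 (AllS.cons n358 (AllS.cons n359 (AllS.cons n360 (AllS.cons n361 (AllS.cons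 n362 (AllS.cons n363 (AllS.cons n364 (AllS.cons n365 (AllS.cons n366 (AllS.cons n367 (AllS.cons n368 (AllS.cons n369 (AllS.cons n370 (AllS.cons n371 (AllS.cons n372 AllS.nil)))))))))))))))))))))))))))))))))))))))))))))))))))))))))))))))))))))))))))))))))))))))))))))))))))))))))))))))))))))))))))))))))))))))))))))))))))))))))))))))))))))))))))))))))))))))))))))))))))))))))))))))))))))))))))))))))))))))))))))))))))))))))))))))) c113_0 :)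
theorem x373 : AuxS.{u} (cP4r 2 0) s373 0 a373 := aux_base3 tw79 rfl b373
theorem n373 : Sound.{u} (cP4r 2 0) s373 0 :=
  (x373.k4 c373_0 :)
theorem x374 : AuxS.{u} (cP4r 2 0) s374 0 a374 := aux_base3 tw79 rfl b374
theorem n374 : Sound.{u} (cP4r 2 0) s374 0 :=
  (x374.k4 c374_0 :)
theorem x375 : AuxS.{u} (cP4r 2 0) s375 0 a375 := aux_base3 tw79 rfl b375
theorem x375_1 : AuxS.{u} (cP4r 2 0) s375 0 a375_1 := (AuxS.up x375 c375_4 :)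
theorem x375_2 : AuxS.{u} (cP4r 2 0) s375 0 a375_2 := (AuxS.up x375_1 c375_5 :)
theorem x375_L0_1 : AuxS.{u} (cP4r 2 0) s375 (0 + 2) a375_L0_1 := (AuxS.hp (x375_2.lam 0) c375_1 :)
theorem n375 : Sound.{u} (cP4r 2 0) s375 0 :=
  (x375_2.spl c375_0 (AllM.cons (x375_L0_1.tp c375_2 :) AllM.nil) ((x375_2.weaken 1).ext2 (fun _ => rfl) GamS.nil AllS.nil c375_3 (Phs.fin (ct := ct375_3) rfl) (Phs.fin (ct := ct375_3) rfl)) :)
theorem x376 : AuxS.{u} (cP4r 2 0) s376 0 a376 := aux_base3 tw79 rfl b376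
theorem n376 : Sound.{u} (cP4r 2 0) s376 0 :=
  (x376.k4 c376_0 :)
theorem x377 : AuxS.{u} (cP4r 2 0) s377 0 a377 := aux_base3 tw79 rfl b377
theorem n377 : Sound.{u} (cP4r 2 0) s377 0 :=
  (x377.k4 c377_0 :)
theorem x378 : AuxS.{u} (cP4r 2 0) s378 0 a378 := aux_base3 tw79 rfl b378
theorem n378 : Sound.{u} (cP4r 2 0) s378 0 :=
  (x378.k4 c378_0 :)
theorem x379 : AuxS.{u} (cP4r 2 0) s379 0 a379 := aux_base3 tw79 rfl b379
theorem n379 : Sound.{u} (cP4r 2 0) s379 0 :=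
  (x379.k4 c379_0 :)
theorem x380 : AuxS.{u} (cP4r 2 0) s380 0 a380 := aux_base3 tw79 rfl b380
theorem n380 : Sound.{u} (cP4r 2 0) s380 0 :=
  (x380.k4 c380_0 :)
theorem x381 : AuxS.{u} (cP4r 2 0) s381 0 a381 := aux_base3 tw79 rfl b381
theorem n381 : Sound.{u} (cP4r 2 0) s381 0 :=
  (x381.k4 c381_0 :)
theorem x382 : AuxS.{u} (cP4r 2 0) s382 0 a382 := aux_base3 tw79 rfl b382
theorem n382 : Sound.{u} (cP4r 2 0) s382 0 :=
  (x382.k4 c382_0 :)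
theorem x383 : AuxS.{u} (cP4r 2 0) s383 0 a383 := aux_base3 tw79 rfl b383
theorem n383 : Sound.{u} (cP4r 2 0) s383 0 :=
  (x383.k4 c383_0 :)
theorem x384 : AuxS.{u} (cP4r 2 0) s384 0 a384 := aux_base3 tw79 rfl b384
theorem n384 : Sound.{u} (cP4r 2 0) s384 0 :=
  (x384.k4 c384_0 :)
theorem x385 : AuxS.{u} (cP4r 2 0) s385 0 a385 := aux_base3 tw79 rfl b385
theorem n385 : Sound.{u} (cP4r 2 0) s385 0 :=
  (x385.k4 c385_0 :)
theorem x386 : AuxS.{u} (cP4r 2 0) s386 0 a386 := aux_base3 tw79 rfl b386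
theorem n386 : Sound.{u} (cP4r 2 0) s386 0 :=
  (x386.k4 c386_0 :)
theorem x387 : AuxS.{u} (cP4r 2 0) s387 0 a387 := aux_base3 tw79 rfl b387
theorem n387 : Sound.{u} (cP4r 2 0) s387 0 :=
  (x387.k4 c387_0 :)
theorem x388 : AuxS.{u} (cP4r 2 0) s388 0 a388 := aux_base3 tw79 rfl b388
theorem n388 : Sound.{u} (cP4r 2 0) s388 0 :=
  (x388.k4 c388_0 :)
theorem x389 : AuxS.{u} (cP4r 2 0) s389 0 a389 := aux_base3 tw79 rfl b389
theorem n389 : Sound.{u} (cP4r 2 0) s389 0 :=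
  (x389.k4 c389_0 :)
theorem x390 : AuxS.{u} (cP4r 2 0) s390 0 a390 := aux_base3 tw79 rfl b390
theorem n390 : Sound.{u} (cP4r 2 0) s390 0 :=
  (x390.k4 c390_0 :)
theorem x391 : AuxS.{u} (cP4r 2 0) s391 0 a391 := aux_base3 tw79 rfl b391
theorem n391 : Sound.{u} (cP4r 2 0) s391 0 :=
  (x391.k4 c391_0 :)
theorem x392 : AuxS.{u} (cP4r 2 0) s392 0 a392 := aux_base3 tw79 rfl b392
theorem n392 : Sound.{u} (cP4r 2 0) s392 0 :=
  (x392.k4 c392_0 :)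
theorem x393 : AuxS.{u} (cP4r 2 0) s393 0 a393 := aux_base3 tw79 rfl b393
theorem n393 : Sound.{u} (cP4r 2 0) s393 0 :=
  (x393.k4 c393_0 :)
theorem x394 : AuxS.{u} (cP4r 2 0) s394 0 a394 := aux_base3 tw79 rfl b394
theorem n394 : Sound.{u} (cP4r 2 0) s394 0 :=
  (x394.k4 c394_0 :)
theorem x395 : AuxS.{u} (cP4r 2 0) s395 0 a395 := aux_base3 tw79 rfl b395
theorem n395 : Sound.{u} (cP4r 2 0) s395 0 :=
  (x395.k4 c395_0 :)
theorem x396 : AuxS.{u} (cP4r 2 0) s396 0 a396 := aux_base3 tw79 rfl b396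
theorem n396 : Sound.{u} (cP4r 2 0) s396 0 :=
  (x396.k4 c396_0 :)
theorem x397 : AuxS.{u} (cP4r 2 0) s397 0 a397 := aux_base3 tw79 rfl b397
theorem n397 : Sound.{u} (cP4r 2 0) s397 0 :=
  (x397.k4 c397_0 :)
theorem x398 : AuxS.{u} (cP4r 2 0) s398 0 a398 := aux_base3 tw79 rfl b398
theorem n398 : Sound.{u} (cP4r 2 0) s398 0 :=
  (x398.k4 c398_0 :)
theorem x399 : AuxS.{u} (cP4r 2 0) s399 0 a399 := aux_base3 tw79 rfl b399
theorem n399 : Sound.{u} (cP4r 2 0) s399 0 :=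
  (x399.k4 c399_0 :)
theorem x400 : AuxS.{u} (cP4r 2 0) s400 0 a400 := aux_base3 tw79 rfl b400
theorem n400 : Sound.{u} (cP4r 2 0) s400 0 :=
  (x400.k4 c400_0 :)
theorem x401 : AuxS.{u} (cP4r 2 0) s401 0 a401 := aux_base3 tw79 rfl b401
theorem n401 : Sound.{u} (cP4r 2 0) s401 0 :=
  (x401.k4 c401_0 :)
theorem x402 : AuxS.{u} (cP4r 2 0) s402 0 a402 := aux_base3 tw79 rfl b402
theorem n402 : Sound.{u} (cP4r 2 0) s402 0 :=
  (x402.k4 c402_0 :)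
theorem x403 : AuxS.{u} (cP4r 2 0) s403 0 a403 := aux_base3 tw79 rfl b403
theorem n403 : Sound.{u} (cP4r 2 0) s403 0 :=
  (x403.k4 c403_0 :)
theorem x404 : AuxS.{u} (cP4r 2 0) s404 0 a404 := aux_base3 tw79 rfl b404
theorem n404 : Sound.{u} (cP4r 2 0) s404 0 :=
  (x404.k4 c404_0 :)
theorem x405 : AuxS.{u} (cP4r 2 0) s405 0 a405 := aux_base3 tw79 rfl b405
theorem n405 : Sound.{u} (cP4r 2 0) s405 0 :=
  (x405.k4 c405_0 :)
theorem x406 : AuxS.{u} (cP4r 2 0) s406 0 a406 := aux_base3 tw79 rfl b406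
theorem n406 : Sound.{u} (cP4r 2 0) s406 0 :=
  (x406.k4 c406_0 :)
theorem x407 : AuxS.{u} (cP4r 2 0) s407 0 a407 := aux_base3 tw79 rfl b407
theorem n407 : Sound.{u} (cP4r 2 0) s407 0 :=
  (x407.k4 c407_0 :)
theorem x408 : AuxS.{u} (cP4r 2 0) s408 0 a408 := aux_base3 tw79 rfl b408
theorem n408 : Sound.{u} (cP4r 2 0) s408 0 :=
  (x408.k4 c408_0 :)
theorem x409 : AuxS.{u} (cP4r 2 0) s409 0 a409 := aux_base3 tw79 rfl b409
theorem n409 : Sound.{u} (cP4r 2 0) s409 0 :=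
  (x409.k4 c409_0 :)
theorem x410 : AuxS.{u} (cP4r 2 0) s410 0 a410 := aux_base3 tw79 rfl b410
theorem n410 : Sound.{u} (cP4r 2 0) s410 0 :=
  (x410.k4 c410_0 :)
theorem x411 : AuxS.{u} (cP4r 2 0) s411 0 a411 := aux_base3 tw79 rfl b411
theorem n411 : Sound.{u} (cP4r 2 0) s411 0 :=
  (x411.k4 c411_0 :)
theorem x412 : AuxS.{u} (cP4r 2 0) s412 0 a412 := aux_base3 tw79 rfl b412
theorem n412 : Sound.{u} (cP4r 2 0) s412 0 :=
  (x412.k4 c412_0 :)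
theorem x413 : AuxS.{u} (cP4r 2 0) s413 0 a413 := aux_base3 tw79 rfl b413
theorem n413 : Sound.{u} (cP4r 2 0) s413 0 :=
  (x413.k4 c413_0 :)
theorem x414 : AuxS.{u} (cP4r 2 0) s414 0 a414 := aux_base3 tw79 rfl b414
theorem n414 : Sound.{u} (cP4r 2 0) s414 0 :=
  (x414.k4 c414_0 :)
theorem x415 : AuxS.{u} (cP4r 2 0) s415 0 a415 := aux_base3 tw79 rfl b415
theorem x415_1 : AuxS.{u} (cP4r 2 0) s415 0 a415_1 := (AuxS.up x415 c415_4 :)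
theorem x415_2 : AuxS.{u} (cP4r 2 0) s415 0 a415_2 := (AuxS.up x415_1 c415_5 :)
theorem x415_L0_1 : AuxS.{u} (cP4r 2 0) s415 (0 + 2) a415_L0_1 := (AuxS.hp (x415_2.lam 0) c415_1 :)
theorem n415 : Sound.{u} (cP4r 2 0) s415 0 :=
  (x415_2.spl c415_0 (AllM.cons (x415_L0_1.tp c415_2 :) AllM.nil) ((x415_2.weaken 1).ext2 (fun _ => rfl) GamS.nil AllS.nil c415_3 (Phs.fin (ct := ct415_3) rfl) (Phs.fin (ct := ct415_3) rfl)) :)
theorem x416 : AuxS.{u} (cP4r 2 0) s416 0 a416 := aux_base3 tw79 rfl b416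
theorem n416 : Sound.{u} (cP4r 2 0) s416 0 :=
  (x416.k4 c416_0 :)
theorem x417 : AuxS.{u} (cP4r 2 0) s417 0 a417 := aux_base3 tw79 rfl b417
theorem n417 : Sound.{u} (cP4r 2 0) s417 0 :=
  (x417.k4 c417_0 :)
theorem x418 : AuxS.{u} (cP4r 2 0) s418 0 a418 := aux_base3 tw79 rfl b418
theorem n418 : Sound.{u} (cP4r 2 0) s418 0 :=
  (x418.k4 c418_0 :)
theorem x419 : AuxS.{u} (cP4r 2 0) s419 0 a419 := aux_base3 tw79 rfl b419
theorem n419 : Sound.{u} (cP4r 2 0) s419 0 :=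
  (x419.k4 c419_0 :)
theorem x420 : AuxS.{u} (cP4r 2 0) s420 0 a420 := aux_base3 tw79 rfl b420
theorem n420 : Sound.{u} (cP4r 2 0) s420 0 :=
  (x420.k4 c420_0 :)
theorem x421 : AuxS.{u} (cP4r 2 0) s421 0 a421 := aux_base3 tw79 rfl b421
theorem n421 : Sound.{u} (cP4r 2 0) s421 0 :=
  (x421.k4 c421_0 :)
theorem x422 : AuxS.{u} (cP4r 2 0) s422 0 a422 := aux_base3 tw79 rfl b422
theorem n422 : Sound.{u} (cP4r 2 0) s422 0 :=
  (x422.k4 c422_0 :)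
theorem x423 : AuxS.{u} (cP4r 2 0) s423 0 a423 := aux_base3 tw79 rfl b423
theorem n423 : Sound.{u} (cP4r 2 0) s423 0 :=
  (x423.k4 c423_0 :)
theorem x424 : AuxS.{u} (cP4r 2 0) s424 0 a424 := aux_base3 tw79 rfl b424
theorem n424 : Sound.{u} (cP4r 2 0) s424 0 :=
  (x424.k4 c424_0 :)
theorem x425 : AuxS.{u} (cP4r 2 0) s425 0 a425 := aux_base3 tw79 rfl b425
theorem n425 : Sound.{u} (cP4r 2 0) s425 0 :=
  (x425.k4 c425_0 :)
theorem x426 : AuxS.{u} (cP4r 2 0) s426 0 a426 := aux_base3 tw79 rfl b426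
theorem n426 : Sound.{u} (cP4r 2 0) s426 0 :=
  (x426.k4 c426_0 :)
theorem x427 : AuxS.{u} (cP4r 2 0) s427 0 a427 := aux_base3 tw79 rfl b427
theorem n427 : Sound.{u} (cP4r 2 0) s427 0 :=
  (x427.k4 c427_0 :)
theorem x428 : AuxS.{u} (cP4r 2 0) s428 0 a428 := aux_base3 tw79 rfl b428
theorem n428 : Sound.{u} (cP4r 2 0) s428 0 :=
  (x428.k4 c428_0 :)
theorem x429 : AuxS.{u} (cP4r 2 0) s429 0 a429 := aux_base3 tw79 rfl b429
theorem n429 : Sound.{u} (cP4r 2 0) s429 0 :=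
  (x429.k4 c429_0 :)
theorem x430 : AuxS.{u} (cP4r 2 0) s430 0 a430 := aux_base3 tw79 rfl b430
theorem n430 : Sound.{u} (cP4r 2 0) s430 0 :=
  (x430.k4 c430_0 :)
theorem x431 : AuxS.{u} (cP4r 2 0) s431 0 a431 := aux_base3 tw79 rfl b431
theorem n431 : Sound.{u} (cP4r 2 0) s431 0 :=
  (x431.k4 c431_0 :)
theorem x432 : AuxS.{u} (cP4r 2 0) s432 0 a432 := aux_base3 tw79 rfl b432
theorem n432 : Sound.{u} (cP4r 2 0) s432 0 :=
  (x432.k4 c432_0 :)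
theorem x433 : AuxS.{u} (cP4r 2 0) s433 0 a433 := aux_base3 tw79 rfl b433
theorem n433 : Sound.{u} (cP4r 2 0) s433 0 :=
  (x433.k4 c433_0 :)
theorem x434 : AuxS.{u} (cP4r 2 0) s434 0 a434 := aux_base3 tw79 rfl b434
theorem n434 : Sound.{u} (cP4r 2 0) s434 0 :=
  (x434.k4 c434_0 :)
theorem x435 : AuxS.{u} (cP4r 2 0) s435 0 a435 := aux_base3 tw79 rfl b435
theorem n435 : Sound.{u} (cP4r 2 0) s435 0 :=
  (x435.k4 c435_0 :)
theorem x436 : AuxS.{u} (cP4r 2 0) s436 0 a436 := aux_base3 tw79 rfl b436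
theorem n436 : Sound.{u} (cP4r 2 0) s436 0 :=
  (x436.k4 c436_0 :)
theorem x437 : AuxS.{u} (cP4r 2 0) s437 0 a437 := aux_base3 tw79 rfl b437
theorem n437 : Sound.{u} (cP4r 2 0) s437 0 :=
  (x437.k4 c437_0 :)
theorem x438 : AuxS.{u} (cP4r 2 0) s438 0 a438 := aux_base3 tw79 rfl b438
theorem n438 : Sound.{u} (cP4r 2 0) s438 0 :=
  (x438.k4 c438_0 :)
theorem x439 : AuxS.{u} (cP4r 2 0) s439 0 a439 := aux_base3 tw79 rfl b439
theorem n439 : Sound.{u} (cP4r 2 0) s439 0 :=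
  (x439.k4 c439_0 :)
theorem x440 : AuxS.{u} (cP4r 2 0) s440 0 a440 := aux_base3 tw79 rfl b440
theorem n440 : Sound.{u} (cP4r 2 0) s440 0 :=
  (x440.k4 c440_0 :)
theorem x441 : AuxS.{u} (cP4r 2 0) s441 0 a441 := aux_base3 tw79 rfl b441
theorem n441 : Sound.{u} (cP4r 2 0) s441 0 :=
  (x441.k4 c441_0 :)
theorem x442 : AuxS.{u} (cP4r 2 0) s442 0 a442 := aux_base3 tw79 rfl b442
theorem n442 : Sound.{u} (cP4r 2 0) s442 0 :=
  (x442.k4 c442_0 :)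
theorem x443 : AuxS.{u} (cP4r 2 0) s443 0 a443 := aux_base3 tw79 rfl b443
theorem n443 : Sound.{u} (cP4r 2 0) s443 0 :=
  (x443.k4 c443_0 :)
theorem x444 : AuxS.{u} (cP4r 2 0) s444 0 a444 := aux_base3 tw79 rfl b444
theorem x444_1 : AuxS.{u} (cP4r 2 0) s444 0 a444_1 := (AuxS.up x444 c444_4 :)
theorem x444_2 : AuxS.{u} (cP4r 2 0) s444 0 a444_2 := (AuxS.up x444_1 c444_5 :)
theorem x444_L0_1 : AuxS.{u} (cP4r 2 0) s444 (0 + 2) a444_L0_1 := (AuxS.hp (x444_2.lam 0) c444_1 :)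
theorem n444 : Sound.{u} (cP4r 2 0) s444 0 :=
  (x444_2.spl c444_0 (AllM.cons (x444_L0_1.tp c444_2 :) AllM.nil) ((x444_2.weaken 1).ext2 (fun _ => rfl) GamS.nil AllS.nil c444_3 (Phs.fin (ct := ct444_3) rfl) (Phs.fin (ct := ct444_3) rfl)) :)
theorem x445 : AuxS.{u} (cP4r 2 0) s445 0 a445 := aux_base3 tw79 rfl b445
theorem n445 : Sound.{u} (cP4r 2 0) s445 0 :=
  (x445.k4 c445_0 :)
theorem x446 : AuxS.{u} (cP4r 2 0) s446 0 a446 := aux_base3 tw79 rfl b446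
theorem n446 : Sound.{u} (cP4r 2 0) s446 0 :=
  (x446.k4 c446_0 :)
theorem x447 : AuxS.{u} (cP4r 2 0) s447 0 a447 := aux_base3 tw79 rfl b447
theorem n447 : Sound.{u} (cP4r 2 0) s447 0 :=
  (x447.k4 c447_0 :)
theorem x448 : AuxS.{u} (cP4r 2 0) s448 0 a448 := aux_base3 tw79 rfl b448
theorem n448 : Sound.{u} (cP4r 2 0) s448 0 :=
  (x448.k4 c448_0 :)
theorem x449 : AuxS.{u} (cP4r 2 0) s449 0 a449 := aux_base3 tw79 rfl b449
theorem n449 : Sound.{u} (cP4r 2 0) s449 0 :=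
  (x449.k4 c449_0 :)
theorem x450 : AuxS.{u} (cP4r 2 0) s450 0 a450 := aux_base3 tw79 rfl b450
theorem n450 : Sound.{u} (cP4r 2 0) s450 0 :=
  (x450.k4 c450_0 :)
theorem x451 : AuxS.{u} (cP4r 2 0) s451 0 a451 := aux_base3 tw79 rfl b451
theorem n451 : Sound.{u} (cP4r 2 0) s451 0 :=
  (x451.k4 c451_0 :)
theorem x452 : AuxS.{u} (cP4r 2 0) s452 0 a452 := aux_base3 tw79 rfl b452
theorem n452 : Sound.{u} (cP4r 2 0) s452 0 :=
  (x452.k4 c452_0 :)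
theorem x453 : AuxS.{u} (cP4r 2 0) s453 0 a453 := aux_base3 tw79 rfl b453
theorem n453 : Sound.{u} (cP4r 2 0) s453 0 :=
  (x453.k4 c453_0 :)
theorem x454 : AuxS.{u} (cP4r 2 0) s454 0 a454 := aux_base3 tw79 rfl b454
theorem n454 : Sound.{u} (cP4r 2 0) s454 0 :=
  (x454.k4 c454_0 :)
theorem x455 : AuxS.{u} (cP4r 2 0) s455 0 a455 := aux_base3 tw79 rfl b455
theorem n455 : Sound.{u} (cP4r 2 0) s455 0 :=
  (x455.k4 c455_0 :)
theorem x456 : AuxS.{u} (cP4r 2 0) s456 0 a456 := aux_base3 tw79 rfl b456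
theorem n456 : Sound.{u} (cP4r 2 0) s456 0 :=
  (x456.k4 c456_0 :)
theorem x457 : AuxS.{u} (cP4r 2 0) s457 0 a457 := aux_base3 tw79 rfl b457
theorem n457 : Sound.{u} (cP4r 2 0) s457 0 :=
  (x457.k4 c457_0 :)
theorem x458 : AuxS.{u} (cP4r 2 0) s458 0 a458 := aux_base3 tw79 rfl b458
theorem n458 : Sound.{u} (cP4r 2 0) s458 0 :=
  (x458.k4 c458_0 :)
theorem x459 : AuxS.{u} (cP4r 2 0) s459 0 a459 := aux_base3 tw79 rfl b459
theorem n459 : Sound.{u} (cP4r 2 0) s459 0 :=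
  (x459.k4 c459_0 :)
theorem x460 : AuxS.{u} (cP4r 2 0) s460 0 a460 := aux_base3 tw79 rfl b460
theorem n460 : Sound.{u} (cP4r 2 0) s460 0 :=
  (x460.k4 c460_0 :)
theorem x461 : AuxS.{u} (cP4r 2 0) s461 0 a461 := aux_base3 tw79 rfl b461
theorem n461 : Sound.{u} (cP4r 2 0) s461 0 :=
  (x461.k4 c461_0 :)
theorem x462 : AuxS.{u} (cP4r 2 0) s462 0 a462 := aux_base3 tw79 rfl b462
theorem n462 : Sound.{u} (cP4r 2 0) s462 0 :=
  (x462.k4 c462_0 :)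
theorem x463 : AuxS.{u} (cP4r 2 0) s463 0 a463 := aux_base3 tw79 rfl b463
theorem n463 : Sound.{u} (cP4r 2 0) s463 0 :=
  (x463.k4 c463_0 :)
theorem x464 : AuxS.{u} (cP4r 2 0) s464 0 a464 := aux_base3 tw79 rfl b464
theorem n464 : Sound.{u} (cP4r 2 0) s464 0 :=
  (x464.k4 c464_0 :)
theorem x465 : AuxS.{u} (cP4r 2 0) s465 0 a465 := aux_base3 tw79 rfl b465
theorem n465 : Sound.{u} (cP4r 2 0) s465 0 :=
  (x465.k4 c465_0 :)
theorem x466 : AuxS.{u} (cP4r 2 0) s466 0 a466 := aux_base3 tw79 rfl b466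
theorem n466 : Sound.{u} (cP4r 2 0) s466 0 :=
  (x466.k4 c466_0 :)
theorem x467 : AuxS.{u} (cP4r 2 0) s467 0 a467 := aux_base3 tw79 rfl b467
theorem n467 : Sound.{u} (cP4r 2 0) s467 0 :=
  (x467.k4 c467_0 :)
theorem x468 : AuxS.{u} (cP4r 2 0) s468 0 a468 := aux_base3 tw79 rfl b468
theorem n468 : Sound.{u} (cP4r 2 0) s468 0 :=
  (x468.k4 c468_0 :)
theorem x469 : AuxS.{u} (cP4r 2 0) s469 0 a469 := aux_base3 tw79 rfl b469
theorem n469 : Sound.{u} (cP4r 2 0) s469 0 :=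
  (x469.k4 c469_0 :)
theorem x470 : AuxS.{u} (cP4r 2 0) s470 0 a470 := aux_base3 tw79 rfl b470
theorem n470 : Sound.{u} (cP4r 2 0) s470 0 :=
  (x470.k4 c470_0 :)
theorem x471 : AuxS.{u} (cP4r 2 0) s471 0 a471 := aux_base3 tw79 rfl b471
theorem n471 : Sound.{u} (cP4r 2 0) s471 0 :=
  (x471.k4 c471_0 :)
theorem x472 : AuxS.{u} (cP4r 2 0) s472 0 a472 := aux_base3 tw79 rfl b472
theorem n472 : Sound.{u} (cP4r 2 0) s472 0 :=
  (x472.k4 c472_0 :)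
theorem x473 : AuxS.{u} (cP4r 2 0) s473 0 a473 := aux_base3 tw79 rfl b473
theorem n473 : Sound.{u} (cP4r 2 0) s473 0 :=
  (x473.k4 c473_0 :)
theorem x474 : AuxS.{u} (cP4r 2 0) s474 0 a474 := aux_base3 tw79 rfl b474
theorem n474 : Sound.{u} (cP4r 2 0) s474 0 :=
  (x474.k4 c474_0 :)
theorem x475 : AuxS.{u} (cP4r 2 0) s475 0 a475 := aux_base3 tw79 rfl b475
theorem n475 : Sound.{u} (cP4r 2 0) s475 0 :=
  (x475.k4 c475_0 :)
theorem x476 : AuxS.{u} (cP4r 2 0) s476 0 a476 := aux_base3 tw79 rfl b476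
theorem n476 : Sound.{u} (cP4r 2 0) s476 0 :=
  (x476.k4 c476_0 :)
theorem x477 : AuxS.{u} (cP4r 2 0) s477 0 a477 := aux_base3 tw79 rfl b477
theorem n477 : Sound.{u} (cP4r 2 0) s477 0 :=
  (x477.k4 c477_0 :)
theorem x478 : AuxS.{u} (cP4r 2 0) s478 0 a478 := aux_base3 tw79 rfl b478
theorem n478 : Sound.{u} (cP4r 2 0) s478 0 :=
  (x478.k4 c478_0 :)
theorem x479 : AuxS.{u} (cP4r 2 0) s479 0 a479 := aux_base3 tw79 rfl b479
theorem n479 : Sound.{u} (cP4r 2 0) s479 0 :=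
  (x479.k4 c479_0 :)
theorem x480 : AuxS.{u} (cP4r 2 0) s480 0 a480 := aux_base3 tw79 rfl b480
theorem n480 : Sound.{u} (cP4r 2 0) s480 0 :=
  (x480.k4 c480_0 :)
theorem x481 : AuxS.{u} (cP4r 2 0) s481 0 a481 := aux_base3 tw79 rfl b481
theorem n481 : Sound.{u} (cP4r 2 0) s481 0 :=
  (x481.k4 c481_0 :)
theorem x482 : AuxS.{u} (cP4r 2 0) s482 0 a482 := aux_base3 tw79 rfl b482
theorem n482 : Sound.{u} (cP4r 2 0) s482 0 :=
  (x482.k4 c482_0 :)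
theorem x483 : AuxS.{u} (cP4r 2 0) s483 0 a483 := aux_base3 tw79 rfl b483
theorem n483 : Sound.{u} (cP4r 2 0) s483 0 :=
  (x483.k4 c483_0 :)
theorem x484 : AuxS.{u} (cP4r 2 0) s484 0 a484 := aux_base3 tw79 rfl b484
theorem x484_1 : AuxS.{u} (cP4r 2 0) s484 0 a484_1 := (AuxS.up x484 c484_4 :)
theorem x484_2 : AuxS.{u} (cP4r 2 0) s484 0 a484_2 := (AuxS.up x484_1 c484_5 :)
theorem x484_L0_1 : AuxS.{u} (cP4r 2 0) s484 (0 + 2) a484_L0_1 := (AuxS.hp (x484_2.lam 0) c484_1 :)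
theorem n484 : Sound.{u} (cP4r 2 0) s484 0 :=
  (x484_2.spl c484_0 (AllM.cons (x484_L0_1.tp c484_2 :) AllM.nil) ((x484_2.weaken 1).ext2 (fun _ => rfl) GamS.nil AllS.nil c484_3 (Phs.fin (ct := ct484_3) rfl) (Phs.fin (ct := ct484_3) rfl)) :)
theorem x485 : AuxS.{u} (cP4r 2 0) s485 0 a485 := aux_base3 tw79 rfl b485
theorem n485 : Sound.{u} (cP4r 2 0) s485 0 :=
  (x485.k4 c485_0 :)
theorem x486 : AuxS.{u} (cP4r 2 0) s486 0 a486 := aux_base3 tw79 rfl b486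
theorem n486 : Sound.{u} (cP4r 2 0) s486 0 :=
  (x486.k4 c486_0 :)
theorem x487 : AuxS.{u} (cP4r 2 0) s487 0 a487 := aux_base3 tw79 rfl b487
theorem n487 : Sound.{u} (cP4r 2 0) s487 0 :=
  (x487.k4 c487_0 :)
theorem x488 : AuxS.{u} (cP4r 2 0) s488 0 a488 := aux_base3 tw79 rfl b488
theorem n488 : Sound.{u} (cP4r 2 0) s488 0 :=
  (x488.k4 c488_0 :)
theorem x489 : AuxS.{u} (cP4r 2 0) s489 0 a489 := aux_base3 tw79 rfl b489
theorem n489 : Sound.{u} (cP4r 2 0) s489 0 :=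
  (x489.k4 c489_0 :)
theorem x490 : AuxS.{u} (cP4r 2 0) s490 0 a490 := aux_base3 tw79 rfl b490
theorem n490 : Sound.{u} (cP4r 2 0) s490 0 :=
  (x490.k4 c490_0 :)
theorem x491 : AuxS.{u} (cP4r 2 0) s491 0 a491 := aux_base3 tw79 rfl b491
theorem n491 : Sound.{u} (cP4r 2 0) s491 0 :=
  (x491.k4 c491_0 :)
theorem x492 : AuxS.{u} (cP4r 2 0) s492 0 a492 := aux_base3 tw79 rfl b492
theorem n492 : Sound.{u} (cP4r 2 0) s492 0 :=
  (x492.k4 c492_0 :)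
theorem x493 : AuxS.{u} (cP4r 2 0) s493 0 a493 := aux_base3 tw79 rfl b493
theorem n493 : Sound.{u} (cP4r 2 0) s493 0 :=
  (x493.k4 c493_0 :)
theorem x494 : AuxS.{u} (cP4r 2 0) s494 0 a494 := aux_base3 tw79 rfl b494
theorem n494 : Sound.{u} (cP4r 2 0) s494 0 :=
  (x494.k4 c494_0 :)
theorem x495 : AuxS.{u} (cP4r 2 0) s495 0 a495 := aux_base3 tw79 rfl b495
theorem n495 : Sound.{u} (cP4r 2 0) s495 0 :=
  (x495.k4 c495_0 :)
theorem x496 : AuxS.{u} (cP4r 2 0) s496 0 a496 := aux_base3 tw79 rfl b496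
theorem n496 : Sound.{u} (cP4r 2 0) s496 0 :=
  (x496.k4 c496_0 :)
theorem x497 : AuxS.{u} (cP4r 2 0) s497 0 a497 := aux_base3 tw79 rfl b497
theorem n497 : Sound.{u} (cP4r 2 0) s497 0 :=
  (x497.k4 c497_0 :)
theorem x498 : AuxS.{u} (cP4r 2 0) s498 0 a498 := aux_base3 tw79 rfl b498
theorem n498 : Sound.{u} (cP4r 2 0) s498 0 :=
  (x498.k4 c498_0 :)
theorem x499 : AuxS.{u} (cP4r 2 0) s499 0 a499 := aux_base3 tw79 rfl b499
theorem n499 : Sound.{u} (cP4r 2 0) s499 0 :=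
  (x499.k4 c499_0 :)
theorem x500 : AuxS.{u} (cP4r 2 0) s500 0 a500 := aux_base3 tw79 rfl b500
theorem n500 : Sound.{u} (cP4r 2 0) s500 0 :=
  (x500.k4 c500_0 :)
theorem x501 : AuxS.{u} (cP4r 2 0) s501 0 a501 := aux_base3 tw79 rfl b501
theorem n501 : Sound.{u} (cP4r 2 0) s501 0 :=
  (x501.k4 c501_0 :)
theorem x502 : AuxS.{u} (cP4r 2 0) s502 0 a502 := aux_base3 tw79 rfl b502
theorem n502 : Sound.{u} (cP4r 2 0) s502 0 :=
  (x502.k4 c502_0 :)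
theorem x503 : AuxS.{u} (cP4r 2 0) s503 0 a503 := aux_base3 tw79 rfl b503
theorem x503_1 : AuxS.{u} (cP4r 2 0) s503 0 a503_1 := (AuxS.up x503 c503_4 :)
theorem x503_2 : AuxS.{u} (cP4r 2 0) s503 0 a503_2 := (AuxS.up x503_1 c503_5 :)
theorem x503_L0_1 : AuxS.{u} (cP4r 2 0) s503 (0 + 2) a503_L0_1 := (AuxS.hp (x503_2.lam 0) c503_1 :)
theorem n503 : Sound.{u} (cP4r 2 0) s503 0 :=
  (x503_2.spl c503_0 (AllM.cons (x503_L0_1.tp c503_2 :) AllM.nil) ((x503_2.weaken 1).ext2 (fun _ => rfl) GamS.nil AllS.nil c503_3 (Phs.fin (ct := ct503_3) rfl) (Phs.fin (ct := ct503_3) rfl)) :)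
theorem x504 : AuxS.{u} (cP4r 2 0) s504 0 a504 := aux_base3 tw79 rfl b504
theorem n504 : Sound.{u} (cP4r 2 0) s504 0 :=
  (x504.k4 c504_0 :)
theorem x505 : AuxS.{u} (cP4r 2 0) s505 0 a505 := aux_base3 tw79 rfl b505
theorem n505 : Sound.{u} (cP4r 2 0) s505 0 :=
  (x505.k4 c505_0 :)
theorem x506 : AuxS.{u} (cP4r 2 0) s506 0 a506 := aux_base3 tw79 rfl b506
theorem n506 : Sound.{u} (cP4r 2 0) s506 0 :=
  (x506.k4 c506_0 :)
theorem x507 : AuxS.{u} (cP4r 2 0) s507 0 a507 := aux_base3 tw79 rfl b507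
theorem n507 : Sound.{u} (cP4r 2 0) s507 0 :=
  (x507.k4 c507_0 :)
theorem x508 : AuxS.{u} (cP4r 2 0) s508 0 a508 := aux_base3 tw79 rfl b508
theorem n508 : Sound.{u} (cP4r 2 0) s508 0 :=
  (x508.k4 c508_0 :)
theorem x509 : AuxS.{u} (cP4r 2 0) s509 0 a509 := aux_base3 tw79 rfl b509
theorem n509 : Sound.{u} (cP4r 2 0) s509 0 :=
  (x509.k4 c509_0 :)
theorem x510 : AuxS.{u} (cP4r 2 0) s510 0 a510 := aux_base3 tw79 rfl b510
theorem n510 : Sound.{u} (cP4r 2 0) s510 0 :=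
  (x510.k4 c510_0 :)
theorem x511 : AuxS.{u} (cP4r 2 0) s511 0 a511 := aux_base3 tw79 rfl b511
theorem n511 : Sound.{u} (cP4r 2 0) s511 0 :=
  (x511.k4 c511_0 :)
theorem x512 : AuxS.{u} (cP4r 2 0) s512 0 a512 := aux_base3 tw79 rfl b512
theorem n512 : Sound.{u} (cP4r 2 0) s512 0 :=
  (x512.k4 c512_0 :)
theorem x513 : AuxS.{u} (cP4r 2 0) s513 0 a513 := aux_base3 tw79 rfl b513
theorem n513 : Sound.{u} (cP4r 2 0) s513 0 :=
  (x513.k4 c513_0 :)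
theorem x514 : AuxS.{u} (cP4r 2 0) s514 0 a514 := aux_base3 tw79 rfl b514
theorem n514 : Sound.{u} (cP4r 2 0) s514 0 :=
  (x514.k4 c514_0 :)
theorem x515 : AuxS.{u} (cP4r 2 0) s515 0 a515 := aux_base3 tw79 rfl b515
theorem n515 : Sound.{u} (cP4r 2 0) s515 0 :=
  (x515.k4 c515_0 :)
theorem x516 : AuxS.{u} (cP4r 2 0) s516 0 a516 := aux_base3 tw79 rfl b516
theorem n516 : Sound.{u} (cP4r 2 0) s516 0 :=
  (x516.k4 c516_0 :)
theorem x517 : AuxS.{u} (cP4r 2 0) s517 0 a517 := aux_base3 tw79 rfl b517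
theorem n517 : Sound.{u} (cP4r 2 0) s517 0 :=
  (x517.k4 c517_0 :)
theorem x518 : AuxS.{u} (cP4r 2 0) s518 0 a518 := aux_base3 tw79 rfl b518
theorem n518 : Sound.{u} (cP4r 2 0) s518 0 :=
  (x518.k4 c518_0 :)
theorem x519 : AuxS.{u} (cP4r 2 0) s519 0 a519 := aux_base3 tw79 rfl b519
theorem n519 : Sound.{u} (cP4r 2 0) s519 0 :=
  (x519.k4 c519_0 :)
theorem x520 : AuxS.{u} (cP4r 2 0) s520 0 a520 := aux_base3 tw79 rfl b520
theorem n520 : Sound.{u} (cP4r 2 0) s520 0 :=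
  (x520.k4 c520_0 :)
theorem x521 : AuxS.{u} (cP4r 2 0) s521 0 a521 := aux_base3 tw79 rfl b521
theorem n521 : Sound.{u} (cP4r 2 0) s521 0 :=
  (x521.k4 c521_0 :)
theorem x522 : AuxS.{u} (cP4r 2 0) s522 0 a522 := aux_base3 tw79 rfl b522
theorem n522 : Sound.{u} (cP4r 2 0) s522 0 :=
  (x522.k4 c522_0 :)
theorem x523 : AuxS.{u} (cP4r 2 0) s523 0 a523 := aux_base3 tw79 rfl b523
theorem n523 : Sound.{u} (cP4r 2 0) s523 0 :=
  (x523.k4 c523_0 :)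
theorem x524 : AuxS.{u} (cP4r 2 0) s524 0 a524 := aux_base3 tw79 rfl b524
theorem n524 : Sound.{u} (cP4r 2 0) s524 0 :=
  (x524.k4 c524_0 :)
theorem x525 : AuxS.{u} (cP4r 2 0) s525 0 a525 := aux_base3 tw79 rfl b525
theorem n525 : Sound.{u} (cP4r 2 0) s525 0 :=
  (x525.k4 c525_0 :)
theorem x526 : AuxS.{u} (cP4r 2 0) s526 0 a526 := aux_base3 tw79 rfl b526
theorem n526 : Sound.{u} (cP4r 2 0) s526 0 :=
  (x526.k4 c526_0 :)
theorem x527 : AuxS.{u} (cP4r 2 0) s527 0 a527 := aux_base3 tw79 rfl b527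
theorem n527 : Sound.{u} (cP4r 2 0) s527 0 :=
  (x527.k4 c527_0 :)
theorem x528 : AuxS.{u} (cP4r 2 0) s528 0 a528 := aux_base3 tw79 rfl b528
theorem n528 : Sound.{u} (cP4r 2 0) s528 0 :=
  (x528.k4 c528_0 :)
theorem x529 : AuxS.{u} (cP4r 2 0) s529 0 a529 := aux_base3 tw79 rfl b529
theorem n529 : Sound.{u} (cP4r 2 0) s529 0 :=
  (x529.k4 c529_0 :)
theorem x530 : AuxS.{u} (cP4r 2 0) s530 0 a530 := aux_base3 tw79 rfl b530
theorem n530 : Sound.{u} (cP4r 2 0) s530 0 :=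
  (x530.k4 c530_0 :)
theorem x531 : AuxS.{u} (cP4r 2 0) s531 0 a531 := aux_base3 tw79 rfl b531
theorem n531 : Sound.{u} (cP4r 2 0) s531 0 :=
  (x531.k4 c531_0 :)
theorem x532 : AuxS.{u} (cP4r 2 0) s532 0 a532 := aux_base3 tw79 rfl b532
theorem n532 : Sound.{u} (cP4r 2 0) s532 0 :=
  (x532.k4 c532_0 :)
theorem x533 : AuxS.{u} (cP4r 2 0) s533 0 a533 := aux_base3 tw79 rfl b533
theorem n533 : Sound.{u} (cP4r 2 0) s533 0 :=
  (x533.k4 c533_0 :)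
theorem x534 : AuxS.{u} (cP4r 2 0) s534 0 a534 := aux_base3 tw79 rfl b534
theorem n534 : Sound.{u} (cP4r 2 0) s534 0 :=
  (x534.k4 c534_0 :)
theorem x535 : AuxS.{u} (cP4r 2 0) s535 0 a535 := aux_base3 tw79 rfl b535
theorem n535 : Sound.{u} (cP4r 2 0) s535 0 :=
  (x535.k4 c535_0 :)
theorem x536 : AuxS.{u} (cP4r 2 0) s536 0 a536 := aux_base3 tw79 rfl b536
theorem n536 : Sound.{u} (cP4r 2 0) s536 0 :=
  (x536.k4 c536_0 :)
theorem x537 : AuxS.{u} (cP4r 2 0) s537 0 a537 := aux_base3 tw79 rfl b537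
theorem n537 : Sound.{u} (cP4r 2 0) s537 0 :=
  (x537.k4 c537_0 :)
theorem x538 : AuxS.{u} (cP4r 2 0) s538 0 a538 := aux_base3 tw79 rfl b538
theorem n538 : Sound.{u} (cP4r 2 0) s538 0 :=
  (x538.k4 c538_0 :)
theorem x539 : AuxS.{u} (cP4r 2 0) s539 0 a539 := aux_base3 tw79 rfl b539
theorem n539 : Sound.{u} (cP4r 2 0) s539 0 :=
  (x539.k4 c539_0 :)
theorem x540 : AuxS.{u} (cP4r 2 0) s540 0 a540 := aux_base3 tw79 rfl b540
theorem n540 : Sound.{u} (cP4r 2 0) s540 0 :=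
  (x540.k4 c540_0 :)
theorem x541 : AuxS.{u} (cP4r 2 0) s541 0 a541 := aux_base3 tw79 rfl b541
theorem n541 : Sound.{u} (cP4r 2 0) s541 0 :=
  (x541.k4 c541_0 :)
theorem x542 : AuxS.{u} (cP4r 2 0) s542 0 a542 := aux_base3 tw79 rfl b542
theorem n542 : Sound.{u} (cP4r 2 0) s542 0 :=
  (x542.k4 c542_0 :)
theorem x543 : AuxS.{u} (cP4r 2 0) s543 0 a543 := aux_base3 tw79 rfl b543
theorem x543_1 : AuxS.{u} (cP4r 2 0) s543 0 a543_1 := x543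
theorem x543_2 : AuxS.{u} (cP4r 2 0) s543 0 a543_2 := x543_1
theorem n543 : Sound.{u} (cP4r 2 0) s543 0 :=
  (x543_2.jump c543_0 c543_1 n503 :)
theorem x544 : AuxS.{u} (cP4r 2 0) s544 0 a544 := aux_base3 tw79 rfl b544
theorem n544 : Sound.{u} (cP4r 2 0) s544 0 :=
  (x544.k4 c544_0 :)
theorem x545 : AuxS.{u} (cP4r 2 0) s545 0 a545 := aux_base3 tw79 rfl b545
theorem n545 : Sound.{u} (cP4r 2 0) s545 0 :=
  (x545.k4 c545_0 :)
theorem x546 : AuxS.{u} (cP4r 2 0) s546 0 a546 := aux_base3 tw79 rfl b546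
theorem n546 : Sound.{u} (cP4r 2 0) s546 0 :=
  (x546.k4 c546_0 :)
theorem x547 : AuxS.{u} (cP4r 2 0) s547 0 a547 := aux_base3 tw79 rfl b547
theorem n547 : Sound.{u} (cP4r 2 0) s547 0 :=
  (x547.k4 c547_0 :)
theorem x548 : AuxS.{u} (cP4r 2 0) s548 0 a548 := aux_base3 tw79 rfl b548
theorem n548 : Sound.{u} (cP4r 2 0) s548 0 :=
  (x548.k4 c548_0 :)
theorem x549 : AuxS.{u} (cP4r 2 0) s549 0 a549 := aux_base3 tw79 rfl b549
theorem n549 : Sound.{u} (cP4r 2 0) s549 0 :=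
  (x549.k4 c549_0 :)
theorem x550 : AuxS.{u} (cP4r 2 0) s550 0 a550 := aux_base3 tw79 rfl b550
theorem n550 : Sound.{u} (cP4r 2 0) s550 0 :=
  (x550.k4 c550_0 :)
theorem x551 : AuxS.{u} (cP4r 2 0) s551 0 a551 := aux_base3 tw79 rfl b551
theorem n551 : Sound.{u} (cP4r 2 0) s551 0 :=
  (x551.k4 c551_0 :)
theorem x552 : AuxS.{u} (cP4r 2 0) s552 0 a552 := aux_base3 tw79 rfl b552
theorem n552 : Sound.{u} (cP4r 2 0) s552 0 :=
  (x552.k4 c552_0 :)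
theorem x553 : AuxS.{u} (cP4r 2 0) s553 0 a553 := aux_base3 tw79 rfl b553
theorem n553 : Sound.{u} (cP4r 2 0) s553 0 :=
  (x553.k4 c553_0 :)
theorem x554 : AuxS.{u} (cP4r 2 0) s554 0 a554 := aux_base3 tw79 rfl b554
theorem n554 : Sound.{u} (cP4r 2 0) s554 0 :=
  (x554.k4 c554_0 :)
theorem x555 : AuxS.{u} (cP4r 2 0) s555 0 a555 := aux_base3 tw79 rfl b555
theorem n555 : Sound.{u} (cP4r 2 0) s555 0 :=
  (x555.k4 c555_0 :)
theorem x556 : AuxS.{u} (cP4r 2 0) s556 0 a556 := aux_base3 tw79 rfl b556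
theorem n556 : Sound.{u} (cP4r 2 0) s556 0 :=
  (x556.k4 c556_0 :)
theorem x557 : AuxS.{u} (cP4r 2 0) s557 0 a557 := aux_base3 tw79 rfl b557
theorem n557 : Sound.{u} (cP4r 2 0) s557 0 :=
  (x557.k4 c557_0 :)
theorem x558 : AuxS.{u} (cP4r 2 0) s558 0 a558 := aux_base3 tw79 rfl b558
theorem n558 : Sound.{u} (cP4r 2 0) s558 0 :=
  (x558.k4 c558_0 :)
theorem x559 : AuxS.{u} (cP4r 2 0) s559 0 a559 := aux_base3 tw79 rfl b559
theorem n559 : Sound.{u} (cP4r 2 0) s559 0 :=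
  (x559.k4 c559_0 :)
theorem x560 : AuxS.{u} (cP4r 2 0) s560 0 a560 := aux_base3 tw79 rfl b560
theorem n560 : Sound.{u} (cP4r 2 0) s560 0 :=
  (x560.k4 c560_0 :)
theorem x561 : AuxS.{u} (cP4r 2 0) s561 0 a561 := aux_base3 tw79 rfl b561
theorem n561 : Sound.{u} (cP4r 2 0) s561 0 :=
  (x561.k4 c561_0 :)
theorem x562 : AuxS.{u} (cP4r 2 0) s562 0 a562 := aux_base3 tw79 rfl b562
theorem n562 : Sound.{u} (cP4r 2 0) s562 0 :=
  (x562.k4 c562_0 :)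
theorem x563 : AuxS.{u} (cP4r 2 0) s563 0 a563 := aux_base3 tw79 rfl b563
theorem n563 : Sound.{u} (cP4r 2 0) s563 0 :=
  (x563.k4 c563_0 :)
theorem x564 : AuxS.{u} (cP4r 2 0) s564 0 a564 := aux_base3 tw79 rfl b564
theorem n564 : Sound.{u} (cP4r 2 0) s564 0 :=
  (x564.k4 c564_0 :)
theorem x565 : AuxS.{u} (cP4r 2 0) s565 0 a565 := aux_base3 tw79 rfl b565
theorem n565 : Sound.{u} (cP4r 2 0) s565 0 :=
  (x565.k4 c565_0 :)
theorem x566 : AuxS.{u} (cP4r 2 0) s566 0 a566 := aux_base3 tw79 rfl b566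
theorem n566 : Sound.{u} (cP4r 2 0) s566 0 :=
  (x566.k4 c566_0 :)
theorem x567 : AuxS.{u} (cP4r 2 0) s567 0 a567 := aux_base3 tw79 rfl b567
theorem n567 : Sound.{u} (cP4r 2 0) s567 0 :=
  (x567.k4 c567_0 :)
theorem x568 : AuxS.{u} (cP4r 2 0) s568 0 a568 := aux_base3 tw79 rfl b568
theorem n568 : Sound.{u} (cP4r 2 0) s568 0 :=
  (x568.k4 c568_0 :)
theorem x569 : AuxS.{u} (cP4r 2 0) s569 0 a569 := aux_base3 tw79 rfl b569
theorem n569 : Sound.{u} (cP4r 2 0) s569 0 :=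
  (x569.k4 c569_0 :)
theorem x570 : AuxS.{u} (cP4r 2 0) s570 0 a570 := aux_base3 tw79 rfl b570
theorem n570 : Sound.{u} (cP4r 2 0) s570 0 :=
  (x570.k4 c570_0 :)
theorem x571 : AuxS.{u} (cP4r 2 0) s571 0 a571 := aux_base3 tw79 rfl b571
theorem n571 : Sound.{u} (cP4r 2 0) s571 0 :=
  (x571.k4 c571_0 :)
theorem x572 : AuxS.{u} (cP4r 2 0) s572 0 a572 := aux_base3 tw79 rfl b572
theorem x572_1 : AuxS.{u} (cP4r 2 0) s572 0 a572_1 := x572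
theorem x572_2 : AuxS.{u} (cP4r 2 0) s572 0 a572_2 := x572_1
theorem n572 : Sound.{u} (cP4r 2 0) s572 0 :=
  (x572_2.jump c572_0 c572_1 n503 :)
theorem x573 : AuxS.{u} (cP4r 2 0) s573 0 a573 := aux_base3 tw79 rfl b573
theorem n573 : Sound.{u} (cP4r 2 0) s573 0 :=
  (x573.k4 c573_0 :)
theorem x574 : AuxS.{u} (cP4r 2 0) s574 0 a574 := aux_base3 tw79 rfl b574
theorem n574 : Sound.{u} (cP4r 2 0) s574 0 :=
  (x574.k4 c574_0 :)
theorem x575 : AuxS.{u} (cP4r 2 0) s575 0 a575 := aux_base3 tw79 rfl b575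
theorem n575 : Sound.{u} (cP4r 2 0) s575 0 :=
  (x575.k4 c575_0 :)
theorem x576 : AuxS.{u} (cP4r 2 0) s576 0 a576 := aux_base3 tw79 rfl b576
theorem n576 : Sound.{u} (cP4r 2 0) s576 0 :=
  (x576.k4 c576_0 :)
theorem x577 : AuxS.{u} (cP4r 2 0) s577 0 a577 := aux_base3 tw79 rfl b577
theorem n577 : Sound.{u} (cP4r 2 0) s577 0 :=
  (x577.k4 c577_0 :)
theorem x578 : AuxS.{u} (cP4r 2 0) s578 0 a578 := aux_base3 tw79 rfl b578
theorem n578 : Sound.{u} (cP4r 2 0) s578 0 :=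
  (x578.k4 c578_0 :)
theorem x579 : AuxS.{u} (cP4r 2 0) s579 0 a579 := aux_base3 tw79 rfl b579
theorem n579 : Sound.{u} (cP4r 2 0) s579 0 :=
  (x579.k4 c579_0 :)
theorem x580 : AuxS.{u} (cP4r 2 0) s580 0 a580 := aux_base3 tw79 rfl b580
theorem n580 : Sound.{u} (cP4r 2 0) s580 0 :=
  (x580.k4 c580_0 :)
theorem x581 : AuxS.{u} (cP4r 2 0) s581 0 a581 := aux_base3 tw79 rfl b581
theorem n581 : Sound.{u} (cP4r 2 0) s581 0 :=
  (x581.k4 c581_0 :)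
theorem x582 : AuxS.{u} (cP4r 2 0) s582 0 a582 := aux_base3 tw79 rfl b582
theorem n582 : Sound.{u} (cP4r 2 0) s582 0 :=
  (x582.k4 c582_0 :)
theorem x583 : AuxS.{u} (cP4r 2 0) s583 0 a583 := aux_base3 tw79 rfl b583
theorem n583 : Sound.{u} (cP4r 2 0) s583 0 :=
  (x583.k4 c583_0 :)
theorem x584 : AuxS.{u} (cP4r 2 0) s584 0 a584 := aux_base3 tw79 rfl b584
theorem n584 : Sound.{u} (cP4r 2 0) s584 0 :=
  (x584.k4 c584_0 :)
theorem x585 : AuxS.{u} (cP4r 2 0) s585 0 a585 := aux_base3 tw79 rfl b585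
theorem n585 : Sound.{u} (cP4r 2 0) s585 0 :=
  (x585.k4 c585_0 :)
theorem x586 : AuxS.{u} (cP4r 2 0) s586 0 a586 := aux_base3 tw79 rfl b586
theorem n586 : Sound.{u} (cP4r 2 0) s586 0 :=
  (x586.k4 c586_0 :)
theorem x587 : AuxS.{u} (cP4r 2 0) s587 0 a587 := aux_base3 tw79 rfl b587
theorem n587 : Sound.{u} (cP4r 2 0) s587 0 :=
  (x587.k4 c587_0 :)
theorem x588 : AuxS.{u} (cP4r 2 0) s588 0 a588 := aux_base3 tw79 rfl b588
theorem n588 : Sound.{u} (cP4r 2 0) s588 0 :=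
  (x588.k4 c588_0 :)
theorem x589 : AuxS.{u} (cP4r 2 0) s589 0 a589 := aux_base3 tw79 rfl b589
theorem n589 : Sound.{u} (cP4r 2 0) s589 0 :=
  (x589.k4 c589_0 :)
theorem x590 : AuxS.{u} (cP4r 2 0) s590 0 a590 := aux_base3 tw79 rfl b590
theorem n590 : Sound.{u} (cP4r 2 0) s590 0 :=
  (x590.k4 c590_0 :)
theorem x591 : AuxS.{u} (cP4r 2 0) s591 0 a591 := aux_base3 tw79 rfl b591
theorem n591 : Sound.{u} (cP4r 2 0) s591 0 :=
  (x591.k4 c591_0 :)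
theorem x592 : AuxS.{u} (cP4r 2 0) s592 0 a592 := aux_base3 tw79 rfl b592
theorem n592 : Sound.{u} (cP4r 2 0) s592 0 :=
  (x592.k4 c592_0 :)
theorem x593 : AuxS.{u} (cP4r 2 0) s593 0 a593 := aux_base3 tw79 rfl b593
theorem n593 : Sound.{u} (cP4r 2 0) s593 0 :=
  (x593.k4 c593_0 :)
theorem x594 : AuxS.{u} (cP4r 2 0) s594 0 a594 := aux_base3 tw79 rfl b594
theorem n594 : Sound.{u} (cP4r 2 0) s594 0 :=
  (x594.k4 c594_0 :)
theorem x595 : AuxS.{u} (cP4r 2 0) s595 0 a595 := aux_base3 tw79 rfl b595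
theorem n595 : Sound.{u} (cP4r 2 0) s595 0 :=
  (x595.k4 c595_0 :)
theorem x596 : AuxS.{u} (cP4r 2 0) s596 0 a596 := aux_base3 tw79 rfl b596
theorem n596 : Sound.{u} (cP4r 2 0) s596 0 :=
  (x596.k4 c596_0 :)
theorem x597 : AuxS.{u} (cP4r 2 0) s597 0 a597 := aux_base3 tw79 rfl b597
theorem n597 : Sound.{u} (cP4r 2 0) s597 0 :=
  (x597.k4 c597_0 :)
theorem x598 : AuxS.{u} (cP4r 2 0) s598 0 a598 := aux_base3 tw79 rfl b598
theorem n598 : Sound.{u} (cP4r 2 0) s598 0 :=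
  (x598.k4 c598_0 :)
theorem x599 : AuxS.{u} (cP4r 2 0) s599 0 a599 := aux_base3 tw79 rfl b599
theorem n599 : Sound.{u} (cP4r 2 0) s599 0 :=
  (x599.k4 c599_0 :)
theorem x600 : AuxS.{u} (cP4r 2 0) s600 0 a600 := aux_base3 tw79 rfl b600
theorem n600 : Sound.{u} (cP4r 2 0) s600 0 :=
  (x600.k4 c600_0 :)
theorem x601 : AuxS.{u} (cP4r 2 0) s601 0 a601 := aux_base3 tw79 rfl b601
theorem n601 : Sound.{u} (cP4r 2 0) s601 0 :=
  (x601.k4 c601_0 :)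
theorem x602 : AuxS.{u} (cP4r 2 0) s602 0 a602 := aux_base3 tw79 rfl b602
theorem n602 : Sound.{u} (cP4r 2 0) s602 0 :=
  (x602.k4 c602_0 :)
theorem x603 : AuxS.{u} (cP4r 2 0) s603 0 a603 := aux_base3 tw79 rfl b603
theorem n603 : Sound.{u} (cP4r 2 0) s603 0 :=
  (x603.k4 c603_0 :)
theorem x604 : AuxS.{u} (cP4r 2 0) s604 0 a604 := aux_base3 tw79 rfl b604
theorem n604 : Sound.{u} (cP4r 2 0) s604 0 :=
  (x604.k4 c604_0 :)
theorem x605 : AuxS.{u} (cP4r 2 0) s605 0 a605 := aux_base3 tw79 rfl b605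
theorem n605 : Sound.{u} (cP4r 2 0) s605 0 :=
  (x605.k4 c605_0 :)
theorem x606 : AuxS.{u} (cP4r 2 0) s606 0 a606 := aux_base3 tw79 rfl b606
theorem n606 : Sound.{u} (cP4r 2 0) s606 0 :=
  (x606.k4 c606_0 :)
theorem x607 : AuxS.{u} (cP4r 2 0) s607 0 a607 := aux_base3 tw79 rfl b607
theorem n607 : Sound.{u} (cP4r 2 0) s607 0 :=
  (x607.k4 c607_0 :)
theorem x608 : AuxS.{u} (cP4r 2 0) s608 0 a608 := aux_base3 tw79 rfl b608
theorem n608 : Sound.{u} (cP4r 2 0) s608 0 :=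
  (x608.k4 c608_0 :)
theorem x609 : AuxS.{u} (cP4r 2 0) s609 0 a609 := aux_base3 tw79 rfl b609
theorem n609 : Sound.{u} (cP4r 2 0) s609 0 :=
  (x609.k4 c609_0 :)
theorem x610 : AuxS.{u} (cP4r 2 0) s610 0 a610 := aux_base3 tw79 rfl b610
theorem n610 : Sound.{u} (cP4r 2 0) s610 0 :=
  (x610.k4 c610_0 :)
theorem x611 : AuxS.{u} (cP4r 2 0) s611 0 a611 := aux_base3 tw79 rfl b611
theorem n611 : Sound.{u} (cP4r 2 0) s611 0 :=
  (x611.k4 c611_0 :)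
theorem x612 : AuxS.{u} (cP4r 2 0) s612 0 a612 := aux_base3 tw79 rfl b612
theorem x612_1 : AuxS.{u} (cP4r 2 0) s612 0 a612_1 := x612
theorem x612_2 : AuxS.{u} (cP4r 2 0) s612 0 a612_2 := x612_1
theorem n612 : Sound.{u} (cP4r 2 0) s612 0 :=
  (x612_2.jump c612_0 c612_1 n503 :)
theorem x613 : AuxS.{u} (cP4r 2 0) s613 0 a613 := aux_base3 tw79 rfl b613
theorem n613 : Sound.{u} (cP4r 2 0) s613 0 :=
  (x613.k4 c613_0 :)
theorem x614 : AuxS.{u} (cP4r 2 0) s614 0 a614 := aux_base3 tw79 rfl b614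
theorem n614 : Sound.{u} (cP4r 2 0) s614 0 :=
  (x614.k4 c614_0 :)
theorem x615 : AuxS.{u} (cP4r 2 0) s615 0 a615 := aux_base3 tw79 rfl b615
theorem n615 : Sound.{u} (cP4r 2 0) s615 0 :=
  (x615.k4 c615_0 :)
theorem x616 : AuxS.{u} (cP4r 2 0) s616 0 a616 := aux_base3 tw79 rfl b616
theorem n616 : Sound.{u} (cP4r 2 0) s616 0 :=
  (x616.k4 c616_0 :)
theorem x617 : AuxS.{u} (cP4r 2 0) s617 0 a617 := aux_base3 tw79 rfl b617
theorem n617 : Sound.{u} (cP4r 2 0) s617 0 :=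
  (x617.k4 c617_0 :)
theorem x618 : AuxS.{u} (cP4r 2 0) s618 0 a618 := aux_base3 tw79 rfl b618
theorem n618 : Sound.{u} (cP4r 2 0) s618 0 :=
  (x618.k4 c618_0 :)
theorem x619 : AuxS.{u} (cP4r 2 0) s619 0 a619 := aux_base3 tw79 rfl b619
theorem n619 : Sound.{u} (cP4r 2 0) s619 0 :=
  (x619.k4 c619_0 :)
theorem x620 : AuxS.{u} (cP4r 2 0) s620 0 a620 := aux_base3 tw79 rfl b620
theorem n620 : Sound.{u} (cP4r 2 0) s620 0 :=
  (x620.k4 c620_0 :)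
theorem x621 : AuxS.{u} (cP4r 2 0) s621 0 a621 := aux_base3 tw79 rfl b621
theorem n621 : Sound.{u} (cP4r 2 0) s621 0 :=
  (x621.k4 c621_0 :)
theorem x622 : AuxS.{u} (cP4r 2 0) s622 0 a622 := aux_base3 tw79 rfl b622
theorem n622 : Sound.{u} (cP4r 2 0) s622 0 :=
  (x622.k4 c622_0 :)
theorem x623 : AuxS.{u} (cP4r 2 0) s623 0 a623 := aux_base3 tw79 rfl b623
theorem n623 : Sound.{u} (cP4r 2 0) s623 0 :=
  (x623.k4 c623_0 :)
theorem x624 : AuxS.{u} (cP4r 2 0) s624 0 a624 := aux_base3 tw79 rfl b624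
theorem n624 : Sound.{u} (cP4r 2 0) s624 0 :=
  (x624.k4 c624_0 :)
theorem x625 : AuxS.{u} (cP4r 2 0) s625 0 a625 := aux_base3 tw79 rfl b625
theorem n625 : Sound.{u} (cP4r 2 0) s625 0 :=
  (x625.k4 c625_0 :)
theorem x626 : AuxS.{u} (cP4r 2 0) s626 0 a626 := aux_base3 tw79 rfl b626
theorem n626 : Sound.{u} (cP4r 2 0) s626 0 :=
  (x626.k4 c626_0 :)
theorem x627 : AuxS.{u} (cP4r 2 0) s627 0 a627 := aux_base3 tw79 rfl b627
theorem n627 : Sound.{u} (cP4r 2 0) s627 0 :=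
  (x627.k4 c627_0 :)
theorem x628 : AuxS.{u} (cP4r 2 0) s628 0 a628 := aux_base3 tw79 rfl b628
theorem n628 : Sound.{u} (cP4r 2 0) s628 0 :=
  (x628.k4 c628_0 :)
theorem x114 : AuxS.{u} (cP4r 2 0) s114 0 a114 := aux_base3 tw79 rfl b114
theorem x114_1 : AuxS.{u} (cP4r 2 0) s114 0 a114_1 := x114
theorem x114_2 : AuxS.{u} (cP4r 2 0) s114 0 a114_2 := x114_1
theorem n114 : Sound.{u} (cP4r 2 0) s114 0 :=
  (x114_2.fr GamS.nil (AllS.cons n373 (AllS.cons n374 (AllS.cons n375 (AllS.cons n376 (AllS.cons n377 (AllS.cons n378 (AllS.cons n379 (AllS.cons n380 (AllS.cons n381 (AllS.cons n382 (AllS.cons n383 (AllS.cons n384 (AllS.cons n385 (AllS.cons n386 (AllS.cons n387 (AllS.cons n388 (AllS.cons n389 (AllS.cons n390 (AllS.cons n391 (AllS.cons n392 (AllS.cons n393 (AllS.cons n394 (AllS.cons n395 (AllS.cons n396 (AllS.cons n397 (AllS.cons n398 (AllS.cons n399 (AllS.cons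 n400 (AllS.cons n401 (AllS.cons n402 (AllS.cons n403 (AllS.cons n404 (AllS.cons n405 (AllS.cons n406 (AllS.cons n407 (AllS.cons n408 (AllS.cons n409 (AllS.cons n410 (AllS.cons n411 (AllS.cons n412 (AllS.cons n413 (AllS.cons n414 (AllS.cons n415 (AllS.cons n416 (AllS.cons n417 (AllS.cons n418 (AllS.cons n419 (AllS.cons n420 (AllS.cons n421 (AllS.cons n422 (AllS.cons n423 (AllS.cons n424 (AllS.cons n425 (AllS.cons n426 (AllS.cons n427 (AllS.cons n428 (AllS.cons n429 (AllS.cons n430 (AllS.cons n431 (AllS.cons n432 (AllS.cons n433 (AllS.cons n434 (AllS.cons n435 (AllS.cons n436 (AllS.cons n437 (AllS.cons n438 (AllS.cons n439 (AllS.cons n440 (AllS.cons n441 (AllS.cons n442 (AllS.cons n443 (AllS.cons n444 (AllS.cons n445 (AllS.cons n446 (AllS.cons n447 (AllS.cons n448 (AllS.cons n449 (AllS.cons n450 (AllS.cons n451 (AllS.cons n452 (AllS.cons n453 (AllS.cons n454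 (AllS.cons n455 (AllS.cons n456 (AllS.cons n457 (AllS.cons n458 (AllS.cons n459 (AllS.cons n460 (AllS.cons n461 (AllS.cons n462 (AllS.cons n463 (AllS.cons n464 (AllS.cons n465 (AllS.cons n466 (AllS.cons n467 (AllS.cons n468 (AllS.cons n469 (AllS.cons n470 (AllS.cons n471 (AllS.cons n472 (AllS.cons n473 (AllS.cons n474 (AllS.cons n475 (AllS.cons n476 (AllS.cons n477 (AllS.cons n478 (AllS.cons n479 (AllS.cons n480 (AllS.cons n481 (AllS.cons n482 (AllS.cons n483 (AllS.cons n484 (AllS.cons n485 (AllS.cons n486 (AllS.cons n487 (AllS.cons n488 (AllS.cons n489 (AllS.cons n490 (AllS.cons n491 (AllS.cons n492 (AllS.cons n493 (AllS.cons n494 (AllS.cons n495 (AllS.cons n496 (AllS.cons n497 (AllS.cons n498 (AllS.cons n499 (AllS.cons n500 (AllS.cons n501 (AllS.cons n502 (AllS.cons n503 (AllS.cons n504 (AllS.cons n505 (AllS.cons n506 (AllS.cons n507 (AllS.cons n508 (AllS.cons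 n509 (AllS.cons n510 (AllS.cons n511 (AllS.cons n512 (AllS.cons n513 (AllS.cons n514 (AllS.cons n515 (AllS.cons n516 (AllS.cons n517 (AllS.cons n518 (AllS.cons n519 (AllS.cons n520 (AllS.cons n521 (AllS.cons n522 (AllS.cons n523 (AllS.cons n524 (AllS.cons n525 (AllS.cons n526 (AllS.cons n527 (AllS.cons n528 (AllS.cons n529 (AllS.cons n530 (AllS.cons n531 (AllS.cons n532 (AllS.cons n533 (AllS.cons n534 (AllS.cons n535 (AllS.cons n536 (AllS.cons n537 (AllS.cons n538 (AllS.cons n539 (AllS.cons n540 (AllS.cons n541 (AllS.cons n542 (AllS.cons n543 (AllS.cons n544 (AllS.cons n545 (AllS.cons n546 (AllS.cons n547 (AllS.cons n548 (AllS.cons n549 (AllS.cons n550 (AllS.cons n551 (AllS.cons n552 (AllS.cons n553 (AllS.cons n554 (AllS.cons n555 (AllS.cons n556 (AllS.cons n557 (AllS.cons n558 (AllS.cons n559 (AllS.cons n560 (AllS.cons n561 (AllS.cons n562 (AllS.cons n563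 (AllS.cons n564 (AllS.cons n565 (AllS.cons n566 (AllS.cons n567 (AllS.cons n568 (AllS.cons n569 (AllS.cons n570 (AllS.cons n571 (AllS.cons n572 (AllS.cons n573 (AllS.cons n574 (AllS.cons n575 (AllS.cons n576 (AllS.cons n577 (AllS.cons n578 (AllS.cons n579 (AllS.cons n580 (AllS.cons n581 (AllS.cons n582 (AllS.cons n583 (AllS.cons n584 (AllS.cons n585 (AllS.cons n586 (AllS.cons n587 (AllS.cons n588 (AllS.cons n589 (AllS.cons n590 (AllS.cons n591 (AllS.cons n592 (AllS.cons n593 (AllS.cons n594 (AllS.cons n595 (AllS.cons n596 (AllS.cons n597 (AllS.cons n598 (AllS.cons n599 (AllS.cons n600 (AllS.cons n601 (AllS.cons n602 (AllS.cons n603 (AllS.cons n604 (AllS.cons n605 (AllS.cons n606 (AllS.cons n607 (AllS.cons n608 (AllS.cons n609 (AllS.cons n610 (AllS.cons n611 (AllS.cons n612 (AllS.cons n613 (AllS.cons n614 (AllS.cons n615 (AllS.cons n616 (AllS.cons n617 (AllS.cons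 n618 (AllS.cons n619 (AllS.cons n620 (AllS.cons n621 (AllS.cons n622 (AllS.cons n623 (AllS.cons n624 (AllS.cons n625 (AllS.cons n626 (AllS.cons n627 (AllS.cons n628 AllS.nil)))))))))))))))))))))))))))))))))))))))))))))))))))))))))))))))))))))))))))))))))))))))))))))))))))))))))))))))))))))))))))))))))))))))))))))))))))))))))))))))))))))))))))))))))))))))))))))))))))))))))))))))))))))))))))))))))))))))))))))))))))))))))))))))) c114_0 :)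
theorem x115 : AuxS.{u} (cP4r 2 0) s115 0 a115 := aux_base3 tw79 rfl b115
theorem x115_1 : AuxS.{u} (cP4r 2 0) s115 0 a115_1 := x115
theorem x115_2 : AuxS.{u} (cP4r 2 0) s115 0 a115_2 := x115_1
theorem n115 : Sound.{u} (cP4r 2 0) s115 0 :=
  (x115_2.jump c115_0 c115_1 n113 :)
theorem x116 : AuxS.{u} (cP4r 2 0) s116 0 a116 := aux_base3 tw79 rfl b116
theorem x116_1 : AuxS.{u} (cP4r 2 0) s116 0 a116_1 := x116
theorem x116_2 : AuxS.{u} (cP4r 2 0) s116 0 a116_2 := x116_1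
theorem n116 : Sound.{u} (cP4r 2 0) s116 0 :=
  (x116_2.jump c116_0 c116_1 n114 :)
theorem x112 : AuxS.{u} (cP4r 2 0) s112 0 a112 := aux_base3 tw79 rfl b112
theorem x112_1 : AuxS.{u} (cP4r 2 0) s112 0 a112_1 := x112
theorem x112_2 : AuxS.{u} (cP4r 2 0) s112 0 a112_2 := x112_1
theorem n112 : Sound.{u} (cP4r 2 0) s112 0 :=
  (x112_2.rho (AllS.cons n113 (AllS.cons n114 (AllS.cons n115 (AllS.cons n116 AllS.nil)))) c112_0 :)
theorem x106 : AuxS.{u} (cP4r 2 0) s106 0 a106 := aux_base3 tw73 rfl b106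
theorem x106_1 : AuxS.{u} (cP4r 2 0) s106 0 a106_1 := x106
theorem x106_2 : AuxS.{u} (cP4r 2 0) s106 0 a106_2 := x106_1
theorem x106_3 : AuxS.{u} (cP4r 2 0) s106 0 a106_3 := x106_2
theorem n106 : Sound.{u} (cP4r 2 0) s106 0 :=
  (x106_3.fr2 (AuxS.gam x106_3 c106_0) (AllS.cons n112 AllS.nil) c106_1 :)
theorem x107 : AuxS.{u} (cP4r 2 0) s107 0 a107 := aux_base3 tw74 rfl b107
theorem x107_1 : AuxS.{u} (cP4r 2 0) s107 0 a107_1 := x107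
theorem x107_2 : AuxS.{u} (cP4r 2 0) s107 0 a107_2 := x107_1
theorem n107 : Sound.{u} (cP4r 2 0) s107 0 :=
  (x107_2.fr2 GamS.nil AllS.nil c107_0 :)
theorem x108 : AuxS.{u} (cP4r 2 0) s108 0 a108 := aux_base3 tw75 rfl b108
theorem x108_1 : AuxS.{u} (cP4r 2 0) s108 0 a108_1 := x108
theorem x108_2 : AuxS.{u} (cP4r 2 0) s108 0 a108_2 := x108_1
theorem n108 : Sound.{u} (cP4r 2 0) s108 0 :=
  (x108_2.fr2 GamS.nil AllS.nil c108_0 :)
theorem x109 : AuxS.{u} (cP4r 2 0) s109 0 a109 := aux_base3 tw76 rfl b109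
theorem x109_1 : AuxS.{u} (cP4r 2 0) s109 0 a109_1 := x109
theorem x109_2 : AuxS.{u} (cP4r 2 0) s109 0 a109_2 := x109_1
theorem n109 : Sound.{u} (cP4r 2 0) s109 0 :=
  (x109_2.fr2 GamS.nil AllS.nil c109_0 :)
theorem x110 : AuxS.{u} (cP4r 2 0) s110 0 a110 := aux_base3 tw77 rfl b110
theorem x110_1 : AuxS.{u} (cP4r 2 0) s110 0 a110_1 := x110
theorem x110_2 : AuxS.{u} (cP4r 2 0) s110 0 a110_2 := x110_1
theorem n110 : Sound.{u} (cP4r 2 0) s110 0 :=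
  (x110_2.fr2 GamS.nil AllS.nil c110_0 :)
theorem x634 : AuxS.{u} (cP4r 2 0) s634 0 a634 := aux_base3 tw80 rfl b634
theorem n634 : Sound.{u} (cP4r 2 0) s634 0 :=
  (x634.k4 c634_0 :)
theorem x635 : AuxS.{u} (cP4r 2 0) s635 0 a635 := aux_base3 tw80 rfl b635
theorem n635 : Sound.{u} (cP4r 2 0) s635 0 :=
  (x635.k4 c635_0 :)
theorem x636 : AuxS.{u} (cP4r 2 0) s636 0 a636 := aux_base3 tw80 rfl b636
theorem x636_1 : AuxS.{u} (cP4r 2 0) s636 0 a636_1 := (AuxS.up x636 c636_4 :)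
theorem x636_2 : AuxS.{u} (cP4r 2 0) s636 0 a636_2 := (AuxS.up x636_1 c636_5 :)
theorem x636_L0_1 : AuxS.{u} (cP4r 2 0) s636 (0 + 2) a636_L0_1 := (AuxS.hp (x636_2.lam 0) c636_1 :)
theorem n636 : Sound.{u} (cP4r 2 0) s636 0 :=
  (x636_2.spl c636_0 (AllM.cons (x636_L0_1.tp c636_2 :) AllM.nil) ((x636_2.weaken 1).ext2 (fun _ => rfl) GamS.nil AllS.nil c636_3 (Phs.fin (ct := ct636_3) rfl) (Phs.fin (ct := ct636_3) rfl)) :)
theorem x637 : AuxS.{u} (cP4r 2 0) s637 0 a637 := aux_base3 tw80 rfl b637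
theorem n637 : Sound.{u} (cP4r 2 0) s637 0 :=
  (x637.k4 c637_0 :)
theorem x638 : AuxS.{u} (cP4r 2 0) s638 0 a638 := aux_base3 tw80 rfl b638
theorem n638 : Sound.{u} (cP4r 2 0) s638 0 :=
  (x638.k4 c638_0 :)
theorem x639 : AuxS.{u} (cP4r 2 0) s639 0 a639 := aux_base3 tw80 rfl b639
theorem n639 : Sound.{u} (cP4r 2 0) s639 0 :=
  (x639.k4 c639_0 :)
theorem x640 : AuxS.{u} (cP4r 2 0) s640 0 a640 := aux_base3 tw80 rfl b640
theorem n640 : Sound.{u} (cP4r 2 0) s640 0 :=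
  (x640.k4 c640_0 :)
theorem x641 : AuxS.{u} (cP4r 2 0) s641 0 a641 := aux_base3 tw80 rfl b641
theorem n641 : Sound.{u} (cP4r 2 0) s641 0 :=
  (x641.k4 c641_0 :)
theorem x642 : AuxS.{u} (cP4r 2 0) s642 0 a642 := aux_base3 tw80 rfl b642
theorem n642 : Sound.{u} (cP4r 2 0) s642 0 :=
  (x642.k4 c642_0 :)
theorem x643 : AuxS.{u} (cP4r 2 0) s643 0 a643 := aux_base3 tw80 rfl b643
theorem n643 : Sound.{u} (cP4r 2 0) s643 0 :=
  (x643.k4 c643_0 :)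
theorem x644 : AuxS.{u} (cP4r 2 0) s644 0 a644 := aux_base3 tw80 rfl b644
theorem n644 : Sound.{u} (cP4r 2 0) s644 0 :=
  (x644.k4 c644_0 :)
theorem x645 : AuxS.{u} (cP4r 2 0) s645 0 a645 := aux_base3 tw80 rfl b645
theorem n645 : Sound.{u} (cP4r 2 0) s645 0 :=
  (x645.k4 c645_0 :)
theorem x646 : AuxS.{u} (cP4r 2 0) s646 0 a646 := aux_base3 tw80 rfl b646
theorem n646 : Sound.{u} (cP4r 2 0) s646 0 :=
  (x646.k4 c646_0 :)
theorem x647 : AuxS.{u} (cP4r 2 0) s647 0 a647 := aux_base3 tw80 rfl b647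
theorem n647 : Sound.{u} (cP4r 2 0) s647 0 :=
  (x647.k4 c647_0 :)
theorem x648 : AuxS.{u} (cP4r 2 0) s648 0 a648 := aux_base3 tw80 rfl b648
theorem n648 : Sound.{u} (cP4r 2 0) s648 0 :=
  (x648.k4 c648_0 :)
theorem x649 : AuxS.{u} (cP4r 2 0) s649 0 a649 := aux_base3 tw80 rfl b649
theorem n649 : Sound.{u} (cP4r 2 0) s649 0 :=
  (x649.k4 c649_0 :)
theorem x650 : AuxS.{u} (cP4r 2 0) s650 0 a650 := aux_base3 tw80 rfl b650
theorem n650 : Sound.{u} (cP4r 2 0) s650 0 :=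
  (x650.k4 c650_0 :)
theorem x651 : AuxS.{u} (cP4r 2 0) s651 0 a651 := aux_base3 tw80 rfl b651
theorem n651 : Sound.{u} (cP4r 2 0) s651 0 :=
  (x651.k4 c651_0 :)
theorem x652 : AuxS.{u} (cP4r 2 0) s652 0 a652 := aux_base3 tw80 rfl b652
theorem n652 : Sound.{u} (cP4r 2 0) s652 0 :=
  (x652.k4 c652_0 :)
theorem x653 : AuxS.{u} (cP4r 2 0) s653 0 a653 := aux_base3 tw80 rfl b653
theorem n653 : Sound.{u} (cP4r 2 0) s653 0 :=
  (x653.k4 c653_0 :)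
theorem x654 : AuxS.{u} (cP4r 2 0) s654 0 a654 := aux_base3 tw80 rfl b654
theorem n654 : Sound.{u} (cP4r 2 0) s654 0 :=
  (x654.k4 c654_0 :)
theorem x655 : AuxS.{u} (cP4r 2 0) s655 0 a655 := aux_base3 tw80 rfl b655
theorem n655 : Sound.{u} (cP4r 2 0) s655 0 :=
  (x655.k4 c655_0 :)
theorem x656 : AuxS.{u} (cP4r 2 0) s656 0 a656 := aux_base3 tw80 rfl b656
theorem n656 : Sound.{u} (cP4r 2 0) s656 0 :=
  (x656.k4 c656_0 :)
theorem x657 : AuxS.{u} (cP4r 2 0) s657 0 a657 := aux_base3 tw80 rfl b657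
theorem n657 : Sound.{u} (cP4r 2 0) s657 0 :=
  (x657.k4 c657_0 :)
theorem x658 : AuxS.{u} (cP4r 2 0) s658 0 a658 := aux_base3 tw80 rfl b658
theorem n658 : Sound.{u} (cP4r 2 0) s658 0 :=
  (x658.k4 c658_0 :)
theorem x659 : AuxS.{u} (cP4r 2 0) s659 0 a659 := aux_base3 tw80 rfl b659
theorem n659 : Sound.{u} (cP4r 2 0) s659 0 :=
  (x659.k4 c659_0 :)
theorem x660 : AuxS.{u} (cP4r 2 0) s660 0 a660 := aux_base3 tw80 rfl b660
theorem n660 : Sound.{u} (cP4r 2 0) s660 0 :=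
  (x660.k4 c660_0 :)
theorem x661 : AuxS.{u} (cP4r 2 0) s661 0 a661 := aux_base3 tw80 rfl b661
theorem n661 : Sound.{u} (cP4r 2 0) s661 0 :=
  (x661.k4 c661_0 :)
theorem x662 : AuxS.{u} (cP4r 2 0) s662 0 a662 := aux_base3 tw80 rfl b662
theorem n662 : Sound.{u} (cP4r 2 0) s662 0 :=
  (x662.k4 c662_0 :)
theorem x663 : AuxS.{u} (cP4r 2 0) s663 0 a663 := aux_base3 tw80 rfl b663
theorem n663 : Sound.{u} (cP4r 2 0) s663 0 :=
  (x663.k4 c663_0 :)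
theorem x664 : AuxS.{u} (cP4r 2 0) s664 0 a664 := aux_base3 tw80 rfl b664
theorem n664 : Sound.{u} (cP4r 2 0) s664 0 :=
  (x664.k4 c664_0 :)
theorem x665 : AuxS.{u} (cP4r 2 0) s665 0 a665 := aux_base3 tw80 rfl b665
theorem n665 : Sound.{u} (cP4r 2 0) s665 0 :=
  (x665.k4 c665_0 :)
theorem x666 : AuxS.{u} (cP4r 2 0) s666 0 a666 := aux_base3 tw80 rfl b666
theorem n666 : Sound.{u} (cP4r 2 0) s666 0 :=
  (x666.k4 c666_0 :)
theorem x667 : AuxS.{u} (cP4r 2 0) s667 0 a667 := aux_base3 tw80 rfl b667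
theorem n667 : Sound.{u} (cP4r 2 0) s667 0 :=
  (x667.k4 c667_0 :)
theorem x668 : AuxS.{u} (cP4r 2 0) s668 0 a668 := aux_base3 tw80 rfl b668
theorem n668 : Sound.{u} (cP4r 2 0) s668 0 :=
  (x668.k4 c668_0 :)
theorem x669 : AuxS.{u} (cP4r 2 0) s669 0 a669 := aux_base3 tw80 rfl b669
theorem n669 : Sound.{u} (cP4r 2 0) s669 0 :=
  (x669.k4 c669_0 :)
theorem x670 : AuxS.{u} (cP4r 2 0) s670 0 a670 := aux_base3 tw80 rfl b670
theorem n670 : Sound.{u} (cP4r 2 0) s670 0 :=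
  (x670.k4 c670_0 :)
theorem x671 : AuxS.{u} (cP4r 2 0) s671 0 a671 := aux_base3 tw80 rfl b671
theorem n671 : Sound.{u} (cP4r 2 0) s671 0 :=
  (x671.k4 c671_0 :)
theorem x672 : AuxS.{u} (cP4r 2 0) s672 0 a672 := aux_base3 tw80 rfl b672
theorem n672 : Sound.{u} (cP4r 2 0) s672 0 :=
  (x672.k4 c672_0 :)
theorem x673 : AuxS.{u} (cP4r 2 0) s673 0 a673 := aux_base3 tw80 rfl b673
theorem n673 : Sound.{u} (cP4r 2 0) s673 0 :=
  (x673.k4 c673_0 :)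
theorem x674 : AuxS.{u} (cP4r 2 0) s674 0 a674 := aux_base3 tw80 rfl b674
theorem n674 : Sound.{u} (cP4r 2 0) s674 0 :=
  (x674.k4 c674_0 :)
theorem x675 : AuxS.{u} (cP4r 2 0) s675 0 a675 := aux_base3 tw80 rfl b675
theorem n675 : Sound.{u} (cP4r 2 0) s675 0 :=
  (x675.k4 c675_0 :)
theorem x676 : AuxS.{u} (cP4r 2 0) s676 0 a676 := aux_base3 tw80 rfl b676
theorem x676_1 : AuxS.{u} (cP4r 2 0) s676 0 a676_1 := x676
theorem x676_2 : AuxS.{u} (cP4r 2 0) s676 0 a676_2 := x676_1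
theorem n676 : Sound.{u} (cP4r 2 0) s676 0 :=
  (x676_2.jump c676_0 c676_1 n113 :)
theorem x677 : AuxS.{u} (cP4r 2 0) s677 0 a677 := aux_base3 tw80 rfl b677
theorem n677 : Sound.{u} (cP4r 2 0) s677 0 :=
  (x677.k4 c677_0 :)
theorem x678 : AuxS.{u} (cP4r 2 0) s678 0 a678 := aux_base3 tw80 rfl b678
theorem n678 : Sound.{u} (cP4r 2 0) s678 0 :=
  (x678.k4 c678_0 :)
theorem x679 : AuxS.{u} (cP4r 2 0) s679 0 a679 := aux_base3 tw80 rfl b679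
theorem n679 : Sound.{u} (cP4r 2 0) s679 0 :=
  (x679.k4 c679_0 :)
theorem x680 : AuxS.{u} (cP4r 2 0) s680 0 a680 := aux_base3 tw80 rfl b680
theorem n680 : Sound.{u} (cP4r 2 0) s680 0 :=
  (x680.k4 c680_0 :)
theorem x681 : AuxS.{u} (cP4r 2 0) s681 0 a681 := aux_base3 tw80 rfl b681
theorem n681 : Sound.{u} (cP4r 2 0) s681 0 :=
  (x681.k4 c681_0 :)
theorem x682 : AuxS.{u} (cP4r 2 0) s682 0 a682 := aux_base3 tw80 rfl b682
theorem n682 : Sound.{u} (cP4r 2 0) s682 0 :=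
  (x682.k4 c682_0 :)
theorem x683 : AuxS.{u} (cP4r 2 0) s683 0 a683 := aux_base3 tw80 rfl b683
theorem n683 : Sound.{u} (cP4r 2 0) s683 0 :=
  (x683.k4 c683_0 :)
theorem x684 : AuxS.{u} (cP4r 2 0) s684 0 a684 := aux_base3 tw80 rfl b684
theorem n684 : Sound.{u} (cP4r 2 0) s684 0 :=
  (x684.k4 c684_0 :)
theorem x685 : AuxS.{u} (cP4r 2 0) s685 0 a685 := aux_base3 tw80 rfl b685
theorem n685 : Sound.{u} (cP4r 2 0) s685 0 :=
  (x685.k4 c685_0 :)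
theorem x686 : AuxS.{u} (cP4r 2 0) s686 0 a686 := aux_base3 tw80 rfl b686
theorem n686 : Sound.{u} (cP4r 2 0) s686 0 :=
  (x686.k4 c686_0 :)
theorem x687 : AuxS.{u} (cP4r 2 0) s687 0 a687 := aux_base3 tw80 rfl b687
theorem n687 : Sound.{u} (cP4r 2 0) s687 0 :=
  (x687.k4 c687_0 :)
theorem x688 : AuxS.{u} (cP4r 2 0) s688 0 a688 := aux_base3 tw80 rfl b688
theorem n688 : Sound.{u} (cP4r 2 0) s688 0 :=
  (x688.k4 c688_0 :)
theorem x689 : AuxS.{u} (cP4r 2 0) s689 0 a689 := aux_base3 tw80 rfl b689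
theorem n689 : Sound.{u} (cP4r 2 0) s689 0 :=
  (x689.k4 c689_0 :)
theorem x690 : AuxS.{u} (cP4r 2 0) s690 0 a690 := aux_base3 tw80 rfl b690
theorem n690 : Sound.{u} (cP4r 2 0) s690 0 :=
  (x690.k4 c690_0 :)
theorem x691 : AuxS.{u} (cP4r 2 0) s691 0 a691 := aux_base3 tw80 rfl b691
theorem n691 : Sound.{u} (cP4r 2 0) s691 0 :=
  (x691.k4 c691_0 :)
theorem x692 : AuxS.{u} (cP4r 2 0) s692 0 a692 := aux_base3 tw80 rfl b692
theorem n692 : Sound.{u} (cP4r 2 0) s692 0 :=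
  (x692.k4 c692_0 :)
theorem x693 : AuxS.{u} (cP4r 2 0) s693 0 a693 := aux_base3 tw80 rfl b693
theorem n693 : Sound.{u} (cP4r 2 0) s693 0 :=
  (x693.k4 c693_0 :)
theorem x694 : AuxS.{u} (cP4r 2 0) s694 0 a694 := aux_base3 tw80 rfl b694
theorem n694 : Sound.{u} (cP4r 2 0) s694 0 :=
  (x694.k4 c694_0 :)
theorem x695 : AuxS.{u} (cP4r 2 0) s695 0 a695 := aux_base3 tw80 rfl b695
theorem n695 : Sound.{u} (cP4r 2 0) s695 0 :=
  (x695.k4 c695_0 :)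
theorem x696 : AuxS.{u} (cP4r 2 0) s696 0 a696 := aux_base3 tw80 rfl b696
theorem n696 : Sound.{u} (cP4r 2 0) s696 0 :=
  (x696.k4 c696_0 :)
theorem x697 : AuxS.{u} (cP4r 2 0) s697 0 a697 := aux_base3 tw80 rfl b697
theorem n697 : Sound.{u} (cP4r 2 0) s697 0 :=
  (x697.k4 c697_0 :)
theorem x698 : AuxS.{u} (cP4r 2 0) s698 0 a698 := aux_base3 tw80 rfl b698
theorem n698 : Sound.{u} (cP4r 2 0) s698 0 :=
  (x698.k4 c698_0 :)
theorem x699 : AuxS.{u} (cP4r 2 0) s699 0 a699 := aux_base3 tw80 rfl b699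
theorem n699 : Sound.{u} (cP4r 2 0) s699 0 :=
  (x699.k4 c699_0 :)
theorem x700 : AuxS.{u} (cP4r 2 0) s700 0 a700 := aux_base3 tw80 rfl b700
theorem n700 : Sound.{u} (cP4r 2 0) s700 0 :=
  (x700.k4 c700_0 :)
theorem x701 : AuxS.{u} (cP4r 2 0) s701 0 a701 := aux_base3 tw80 rfl b701
theorem n701 : Sound.{u} (cP4r 2 0) s701 0 :=
  (x701.k4 c701_0 :)
theorem x702 : AuxS.{u} (cP4r 2 0) s702 0 a702 := aux_base3 tw80 rfl b702
theorem n702 : Sound.{u} (cP4r 2 0) s702 0 :=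
  (x702.k4 c702_0 :)
theorem x703 : AuxS.{u} (cP4r 2 0) s703 0 a703 := aux_base3 tw80 rfl b703
theorem n703 : Sound.{u} (cP4r 2 0) s703 0 :=
  (x703.k4 c703_0 :)
theorem x704 : AuxS.{u} (cP4r 2 0) s704 0 a704 := aux_base3 tw80 rfl b704
theorem n704 : Sound.{u} (cP4r 2 0) s704 0 :=
  (x704.k4 c704_0 :)
theorem x705 : AuxS.{u} (cP4r 2 0) s705 0 a705 := aux_base3 tw80 rfl b705
theorem x705_1 : AuxS.{u} (cP4r 2 0) s705 0 a705_1 := (AuxS.up x705 c705_4 :)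
theorem x705_2 : AuxS.{u} (cP4r 2 0) s705 0 a705_2 := (AuxS.up x705_1 c705_5 :)
theorem x705_L0_1 : AuxS.{u} (cP4r 2 0) s705 (0 + 2) a705_L0_1 := (AuxS.hp (x705_2.lam 0) c705_1 :)
theorem n705 : Sound.{u} (cP4r 2 0) s705 0 :=
  (x705_2.spl c705_0 (AllM.cons (x705_L0_1.tp c705_2 :) AllM.nil) ((x705_2.weaken 1).ext2 (fun _ => rfl) GamS.nil AllS.nil c705_3 (Phs.fin (ct := ct705_3) rfl) (Phs.fin (ct := ct705_3) rfl)) :)
theorem x706 : AuxS.{u} (cP4r 2 0) s706 0 a706 := aux_base3 tw80 rfl b706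
theorem n706 : Sound.{u} (cP4r 2 0) s706 0 :=
  (x706.k4 c706_0 :)
theorem x707 : AuxS.{u} (cP4r 2 0) s707 0 a707 := aux_base3 tw80 rfl b707
theorem n707 : Sound.{u} (cP4r 2 0) s707 0 :=
  (x707.k4 c707_0 :)
theorem x708 : AuxS.{u} (cP4r 2 0) s708 0 a708 := aux_base3 tw80 rfl b708
theorem n708 : Sound.{u} (cP4r 2 0) s708 0 :=
  (x708.k4 c708_0 :)
theorem x709 : AuxS.{u} (cP4r 2 0) s709 0 a709 := aux_base3 tw80 rfl b709
theorem n709 : Sound.{u} (cP4r 2 0) s709 0 :=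
  (x709.k4 c709_0 :)
theorem x710 : AuxS.{u} (cP4r 2 0) s710 0 a710 := aux_base3 tw80 rfl b710
theorem n710 : Sound.{u} (cP4r 2 0) s710 0 :=
  (x710.k4 c710_0 :)
theorem x711 : AuxS.{u} (cP4r 2 0) s711 0 a711 := aux_base3 tw80 rfl b711
theorem n711 : Sound.{u} (cP4r 2 0) s711 0 :=
  (x711.k4 c711_0 :)
theorem x712 : AuxS.{u} (cP4r 2 0) s712 0 a712 := aux_base3 tw80 rfl b712
theorem n712 : Sound.{u} (cP4r 2 0) s712 0 :=
  (x712.k4 c712_0 :)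
theorem x713 : AuxS.{u} (cP4r 2 0) s713 0 a713 := aux_base3 tw80 rfl b713
theorem n713 : Sound.{u} (cP4r 2 0) s713 0 :=
  (x713.k4 c713_0 :)
theorem x714 : AuxS.{u} (cP4r 2 0) s714 0 a714 := aux_base3 tw80 rfl b714
theorem n714 : Sound.{u} (cP4r 2 0) s714 0 :=
  (x714.k4 c714_0 :)
theorem x715 : AuxS.{u} (cP4r 2 0) s715 0 a715 := aux_base3 tw80 rfl b715
theorem n715 : Sound.{u} (cP4r 2 0) s715 0 :=
  (x715.k4 c715_0 :)
theorem x716 : AuxS.{u} (cP4r 2 0) s716 0 a716 := aux_base3 tw80 rfl b716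
theorem n716 : Sound.{u} (cP4r 2 0) s716 0 :=
  (x716.k4 c716_0 :)
theorem x717 : AuxS.{u} (cP4r 2 0) s717 0 a717 := aux_base3 tw80 rfl b717
theorem n717 : Sound.{u} (cP4r 2 0) s717 0 :=
  (x717.k4 c717_0 :)
theorem x718 : AuxS.{u} (cP4r 2 0) s718 0 a718 := aux_base3 tw80 rfl b718
theorem n718 : Sound.{u} (cP4r 2 0) s718 0 :=
  (x718.k4 c718_0 :)
theorem x719 : AuxS.{u} (cP4r 2 0) s719 0 a719 := aux_base3 tw80 rfl b719
theorem n719 : Sound.{u} (cP4r 2 0) s719 0 :=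
  (x719.k4 c719_0 :)
theorem x720 : AuxS.{u} (cP4r 2 0) s720 0 a720 := aux_base3 tw80 rfl b720
theorem n720 : Sound.{u} (cP4r 2 0) s720 0 :=
  (x720.k4 c720_0 :)
theorem x721 : AuxS.{u} (cP4r 2 0) s721 0 a721 := aux_base3 tw80 rfl b721
theorem n721 : Sound.{u} (cP4r 2 0) s721 0 :=
  (x721.k4 c721_0 :)
theorem x722 : AuxS.{u} (cP4r 2 0) s722 0 a722 := aux_base3 tw80 rfl b722
theorem n722 : Sound.{u} (cP4r 2 0) s722 0 :=
  (x722.k4 c722_0 :)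
theorem x723 : AuxS.{u} (cP4r 2 0) s723 0 a723 := aux_base3 tw80 rfl b723
theorem n723 : Sound.{u} (cP4r 2 0) s723 0 :=
  (x723.k4 c723_0 :)
theorem x724 : AuxS.{u} (cP4r 2 0) s724 0 a724 := aux_base3 tw80 rfl b724
theorem n724 : Sound.{u} (cP4r 2 0) s724 0 :=
  (x724.k4 c724_0 :)
theorem x725 : AuxS.{u} (cP4r 2 0) s725 0 a725 := aux_base3 tw80 rfl b725
theorem n725 : Sound.{u} (cP4r 2 0) s725 0 :=
  (x725.k4 c725_0 :)
theorem x726 : AuxS.{u} (cP4r 2 0) s726 0 a726 := aux_base3 tw80 rfl b726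
theorem n726 : Sound.{u} (cP4r 2 0) s726 0 :=
  (x726.k4 c726_0 :)
theorem x727 : AuxS.{u} (cP4r 2 0) s727 0 a727 := aux_base3 tw80 rfl b727
theorem n727 : Sound.{u} (cP4r 2 0) s727 0 :=
  (x727.k4 c727_0 :)
theorem x728 : AuxS.{u} (cP4r 2 0) s728 0 a728 := aux_base3 tw80 rfl b728
theorem n728 : Sound.{u} (cP4r 2 0) s728 0 :=
  (x728.k4 c728_0 :)
theorem x729 : AuxS.{u} (cP4r 2 0) s729 0 a729 := aux_base3 tw80 rfl b729
theorem n729 : Sound.{u} (cP4r 2 0) s729 0 :=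
  (x729.k4 c729_0 :)
theorem x730 : AuxS.{u} (cP4r 2 0) s730 0 a730 := aux_base3 tw80 rfl b730
theorem n730 : Sound.{u} (cP4r 2 0) s730 0 :=
  (x730.k4 c730_0 :)
theorem x731 : AuxS.{u} (cP4r 2 0) s731 0 a731 := aux_base3 tw80 rfl b731
theorem n731 : Sound.{u} (cP4r 2 0) s731 0 :=
  (x731.k4 c731_0 :)
theorem x732 : AuxS.{u} (cP4r 2 0) s732 0 a732 := aux_base3 tw80 rfl b732
theorem n732 : Sound.{u} (cP4r 2 0) s732 0 :=
  (x732.k4 c732_0 :)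
theorem x733 : AuxS.{u} (cP4r 2 0) s733 0 a733 := aux_base3 tw80 rfl b733
theorem n733 : Sound.{u} (cP4r 2 0) s733 0 :=
  (x733.k4 c733_0 :)
theorem x734 : AuxS.{u} (cP4r 2 0) s734 0 a734 := aux_base3 tw80 rfl b734
theorem n734 : Sound.{u} (cP4r 2 0) s734 0 :=
  (x734.k4 c734_0 :)
theorem x735 : AuxS.{u} (cP4r 2 0) s735 0 a735 := aux_base3 tw80 rfl b735
theorem n735 : Sound.{u} (cP4r 2 0) s735 0 :=
  (x735.k4 c735_0 :)
theorem x736 : AuxS.{u} (cP4r 2 0) s736 0 a736 := aux_base3 tw80 rfl b736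
theorem n736 : Sound.{u} (cP4r 2 0) s736 0 :=
  (x736.k4 c736_0 :)
theorem x737 : AuxS.{u} (cP4r 2 0) s737 0 a737 := aux_base3 tw80 rfl b737
theorem n737 : Sound.{u} (cP4r 2 0) s737 0 :=
  (x737.k4 c737_0 :)
theorem x738 : AuxS.{u} (cP4r 2 0) s738 0 a738 := aux_base3 tw80 rfl b738
theorem n738 : Sound.{u} (cP4r 2 0) s738 0 :=
  (x738.k4 c738_0 :)
theorem x739 : AuxS.{u} (cP4r 2 0) s739 0 a739 := aux_base3 tw80 rfl b739
theorem n739 : Sound.{u} (cP4r 2 0) s739 0 :=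
  (x739.k4 c739_0 :)
theorem x740 : AuxS.{u} (cP4r 2 0) s740 0 a740 := aux_base3 tw80 rfl b740
theorem n740 : Sound.{u} (cP4r 2 0) s740 0 :=
  (x740.k4 c740_0 :)
theorem x741 : AuxS.{u} (cP4r 2 0) s741 0 a741 := aux_base3 tw80 rfl b741
theorem n741 : Sound.{u} (cP4r 2 0) s741 0 :=
  (x741.k4 c741_0 :)
theorem x742 : AuxS.{u} (cP4r 2 0) s742 0 a742 := aux_base3 tw80 rfl b742
theorem n742 : Sound.{u} (cP4r 2 0) s742 0 :=
  (x742.k4 c742_0 :)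
theorem x743 : AuxS.{u} (cP4r 2 0) s743 0 a743 := aux_base3 tw80 rfl b743
theorem n743 : Sound.{u} (cP4r 2 0) s743 0 :=
  (x743.k4 c743_0 :)
theorem x744 : AuxS.{u} (cP4r 2 0) s744 0 a744 := aux_base3 tw80 rfl b744
theorem n744 : Sound.{u} (cP4r 2 0) s744 0 :=
  (x744.k4 c744_0 :)
theorem x745 : AuxS.{u} (cP4r 2 0) s745 0 a745 := aux_base3 tw80 rfl b745
theorem x745_1 : AuxS.{u} (cP4r 2 0) s745 0 a745_1 := x745
theorem x745_2 : AuxS.{u} (cP4r 2 0) s745 0 a745_2 := x745_1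
theorem n745 : Sound.{u} (cP4r 2 0) s745 0 :=
  (x745_2.jump c745_0 c745_1 n113 :)
theorem x746 : AuxS.{u} (cP4r 2 0) s746 0 a746 := aux_base3 tw80 rfl b746
theorem n746 : Sound.{u} (cP4r 2 0) s746 0 :=
  (x746.k4 c746_0 :)
theorem x747 : AuxS.{u} (cP4r 2 0) s747 0 a747 := aux_base3 tw80 rfl b747
theorem n747 : Sound.{u} (cP4r 2 0) s747 0 :=
  (x747.k4 c747_0 :)
theorem x748 : AuxS.{u} (cP4r 2 0) s748 0 a748 := aux_base3 tw80 rfl b748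
theorem n748 : Sound.{u} (cP4r 2 0) s748 0 :=
  (x748.k4 c748_0 :)
theorem x749 : AuxS.{u} (cP4r 2 0) s749 0 a749 := aux_base3 tw80 rfl b749
theorem n749 : Sound.{u} (cP4r 2 0) s749 0 :=
  (x749.k4 c749_0 :)
theorem x750 : AuxS.{u} (cP4r 2 0) s750 0 a750 := aux_base3 tw80 rfl b750
theorem n750 : Sound.{u} (cP4r 2 0) s750 0 :=
  (x750.k4 c750_0 :)
theorem x751 : AuxS.{u} (cP4r 2 0) s751 0 a751 := aux_base3 tw80 rfl b751
theorem n751 : Sound.{u} (cP4r 2 0) s751 0 :=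
  (x751.k4 c751_0 :)
theorem x752 : AuxS.{u} (cP4r 2 0) s752 0 a752 := aux_base3 tw80 rfl b752
theorem n752 : Sound.{u} (cP4r 2 0) s752 0 :=
  (x752.k4 c752_0 :)
theorem x753 : AuxS.{u} (cP4r 2 0) s753 0 a753 := aux_base3 tw80 rfl b753
theorem n753 : Sound.{u} (cP4r 2 0) s753 0 :=
  (x753.k4 c753_0 :)
theorem x754 : AuxS.{u} (cP4r 2 0) s754 0 a754 := aux_base3 tw80 rfl b754
theorem n754 : Sound.{u} (cP4r 2 0) s754 0 :=
  (x754.k4 c754_0 :)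
theorem x755 : AuxS.{u} (cP4r 2 0) s755 0 a755 := aux_base3 tw80 rfl b755
theorem n755 : Sound.{u} (cP4r 2 0) s755 0 :=
  (x755.k4 c755_0 :)
theorem x756 : AuxS.{u} (cP4r 2 0) s756 0 a756 := aux_base3 tw80 rfl b756
theorem n756 : Sound.{u} (cP4r 2 0) s756 0 :=
  (x756.k4 c756_0 :)
theorem x757 : AuxS.{u} (cP4r 2 0) s757 0 a757 := aux_base3 tw80 rfl b757
theorem n757 : Sound.{u} (cP4r 2 0) s757 0 :=
  (x757.k4 c757_0 :)
theorem x758 : AuxS.{u} (cP4r 2 0) s758 0 a758 := aux_base3 tw80 rfl b758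
theorem n758 : Sound.{u} (cP4r 2 0) s758 0 :=
  (x758.k4 c758_0 :)
theorem x759 : AuxS.{u} (cP4r 2 0) s759 0 a759 := aux_base3 tw80 rfl b759
theorem n759 : Sound.{u} (cP4r 2 0) s759 0 :=
  (x759.k4 c759_0 :)
theorem x760 : AuxS.{u} (cP4r 2 0) s760 0 a760 := aux_base3 tw80 rfl b760
theorem n760 : Sound.{u} (cP4r 2 0) s760 0 :=
  (x760.k4 c760_0 :)
theorem x761 : AuxS.{u} (cP4r 2 0) s761 0 a761 := aux_base3 tw80 rfl b761
theorem n761 : Sound.{u} (cP4r 2 0) s761 0 :=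
  (x761.k4 c761_0 :)
theorem x762 : AuxS.{u} (cP4r 2 0) s762 0 a762 := aux_base3 tw80 rfl b762
theorem n762 : Sound.{u} (cP4r 2 0) s762 0 :=
  (x762.k4 c762_0 :)
theorem x763 : AuxS.{u} (cP4r 2 0) s763 0 a763 := aux_base3 tw80 rfl b763
theorem n763 : Sound.{u} (cP4r 2 0) s763 0 :=
  (x763.k4 c763_0 :)
theorem x764 : AuxS.{u} (cP4r 2 0) s764 0 a764 := aux_base3 tw80 rfl b764
theorem x764_1 : AuxS.{u} (cP4r 2 0) s764 0 a764_1 := (AuxS.up x764 c764_4 :)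
theorem x764_2 : AuxS.{u} (cP4r 2 0) s764 0 a764_2 := (AuxS.up x764_1 c764_5 :)
theorem x764_L0_1 : AuxS.{u} (cP4r 2 0) s764 (0 + 2) a764_L0_1 := (AuxS.hp (x764_2.lam 0) c764_1 :)
theorem n764 : Sound.{u} (cP4r 2 0) s764 0 :=
  (x764_2.spl c764_0 (AllM.cons (x764_L0_1.tp c764_2 :) AllM.nil) ((x764_2.weaken 1).ext2 (fun _ => rfl) GamS.nil AllS.nil c764_3 (Phs.fin (ct := ct764_3) rfl) (Phs.fin (ct := ct764_3) rfl)) :)
theorem x765 : AuxS.{u} (cP4r 2 0) s765 0 a765 := aux_base3 tw80 rfl b765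
theorem n765 : Sound.{u} (cP4r 2 0) s765 0 :=
  (x765.k4 c765_0 :)
theorem x766 : AuxS.{u} (cP4r 2 0) s766 0 a766 := aux_base3 tw80 rfl b766
theorem n766 : Sound.{u} (cP4r 2 0) s766 0 :=
  (x766.k4 c766_0 :)
theorem x767 : AuxS.{u} (cP4r 2 0) s767 0 a767 := aux_base3 tw80 rfl b767
theorem n767 : Sound.{u} (cP4r 2 0) s767 0 :=
  (x767.k4 c767_0 :)
theorem x768 : AuxS.{u} (cP4r 2 0) s768 0 a768 := aux_base3 tw80 rfl b768
theorem n768 : Sound.{u} (cP4r 2 0) s768 0 :=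
  (x768.k4 c768_0 :)
theorem x769 : AuxS.{u} (cP4r 2 0) s769 0 a769 := aux_base3 tw80 rfl b769
theorem n769 : Sound.{u} (cP4r 2 0) s769 0 :=
  (x769.k4 c769_0 :)
theorem x770 : AuxS.{u} (cP4r 2 0) s770 0 a770 := aux_base3 tw80 rfl b770
theorem n770 : Sound.{u} (cP4r 2 0) s770 0 :=
  (x770.k4 c770_0 :)
theorem x771 : AuxS.{u} (cP4r 2 0) s771 0 a771 := aux_base3 tw80 rfl b771
theorem n771 : Sound.{u} (cP4r 2 0) s771 0 :=
  (x771.k4 c771_0 :)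
theorem x772 : AuxS.{u} (cP4r 2 0) s772 0 a772 := aux_base3 tw80 rfl b772
theorem n772 : Sound.{u} (cP4r 2 0) s772 0 :=
  (x772.k4 c772_0 :)
theorem x773 : AuxS.{u} (cP4r 2 0) s773 0 a773 := aux_base3 tw80 rfl b773
theorem n773 : Sound.{u} (cP4r 2 0) s773 0 :=
  (x773.k4 c773_0 :)
theorem x774 : AuxS.{u} (cP4r 2 0) s774 0 a774 := aux_base3 tw80 rfl b774
theorem n774 : Sound.{u} (cP4r 2 0) s774 0 :=
  (x774.k4 c774_0 :)
theorem x775 : AuxS.{u} (cP4r 2 0) s775 0 a775 := aux_base3 tw80 rfl b775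
theorem n775 : Sound.{u} (cP4r 2 0) s775 0 :=
  (x775.k4 c775_0 :)
theorem x776 : AuxS.{u} (cP4r 2 0) s776 0 a776 := aux_base3 tw80 rfl b776
theorem n776 : Sound.{u} (cP4r 2 0) s776 0 :=
  (x776.k4 c776_0 :)
theorem x777 : AuxS.{u} (cP4r 2 0) s777 0 a777 := aux_base3 tw80 rfl b777
theorem n777 : Sound.{u} (cP4r 2 0) s777 0 :=
  (x777.k4 c777_0 :)
theorem x778 : AuxS.{u} (cP4r 2 0) s778 0 a778 := aux_base3 tw80 rfl b778
theorem n778 : Sound.{u} (cP4r 2 0) s778 0 :=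
  (x778.k4 c778_0 :)
theorem x779 : AuxS.{u} (cP4r 2 0) s779 0 a779 := aux_base3 tw80 rfl b779
theorem n779 : Sound.{u} (cP4r 2 0) s779 0 :=
  (x779.k4 c779_0 :)
theorem x780 : AuxS.{u} (cP4r 2 0) s780 0 a780 := aux_base3 tw80 rfl b780
theorem n780 : Sound.{u} (cP4r 2 0) s780 0 :=
  (x780.k4 c780_0 :)
theorem x781 : AuxS.{u} (cP4r 2 0) s781 0 a781 := aux_base3 tw80 rfl b781
theorem n781 : Sound.{u} (cP4r 2 0) s781 0 :=
  (x781.k4 c781_0 :)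
theorem x782 : AuxS.{u} (cP4r 2 0) s782 0 a782 := aux_base3 tw80 rfl b782
theorem n782 : Sound.{u} (cP4r 2 0) s782 0 :=
  (x782.k4 c782_0 :)
theorem x783 : AuxS.{u} (cP4r 2 0) s783 0 a783 := aux_base3 tw80 rfl b783
theorem n783 : Sound.{u} (cP4r 2 0) s783 0 :=
  (x783.k4 c783_0 :)
theorem x784 : AuxS.{u} (cP4r 2 0) s784 0 a784 := aux_base3 tw80 rfl b784
theorem n784 : Sound.{u} (cP4r 2 0) s784 0 :=
  (x784.k4 c784_0 :)
theorem x785 : AuxS.{u} (cP4r 2 0) s785 0 a785 := aux_base3 tw80 rfl b785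
theorem n785 : Sound.{u} (cP4r 2 0) s785 0 :=
  (x785.k4 c785_0 :)
theorem x786 : AuxS.{u} (cP4r 2 0) s786 0 a786 := aux_base3 tw80 rfl b786
theorem n786 : Sound.{u} (cP4r 2 0) s786 0 :=
  (x786.k4 c786_0 :)
theorem x787 : AuxS.{u} (cP4r 2 0) s787 0 a787 := aux_base3 tw80 rfl b787
theorem n787 : Sound.{u} (cP4r 2 0) s787 0 :=
  (x787.k4 c787_0 :)
theorem x788 : AuxS.{u} (cP4r 2 0) s788 0 a788 := aux_base3 tw80 rfl b788
theorem n788 : Sound.{u} (cP4r 2 0) s788 0 :=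
  (x788.k4 c788_0 :)
theorem x789 : AuxS.{u} (cP4r 2 0) s789 0 a789 := aux_base3 tw80 rfl b789
theorem n789 : Sound.{u} (cP4r 2 0) s789 0 :=
  (x789.k4 c789_0 :)
theorem x790 : AuxS.{u} (cP4r 2 0) s790 0 a790 := aux_base3 tw80 rfl b790
theorem n790 : Sound.{u} (cP4r 2 0) s790 0 :=
  (x790.k4 c790_0 :)
theorem x791 : AuxS.{u} (cP4r 2 0) s791 0 a791 := aux_base3 tw80 rfl b791
theorem n791 : Sound.{u} (cP4r 2 0) s791 0 :=
  (x791.k4 c791_0 :)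
theorem x792 : AuxS.{u} (cP4r 2 0) s792 0 a792 := aux_base3 tw80 rfl b792
theorem n792 : Sound.{u} (cP4r 2 0) s792 0 :=
  (x792.k4 c792_0 :)
theorem x793 : AuxS.{u} (cP4r 2 0) s793 0 a793 := aux_base3 tw80 rfl b793
theorem n793 : Sound.{u} (cP4r 2 0) s793 0 :=
  (x793.k4 c793_0 :)
theorem x794 : AuxS.{u} (cP4r 2 0) s794 0 a794 := aux_base3 tw80 rfl b794
theorem n794 : Sound.{u} (cP4r 2 0) s794 0 :=
  (x794.k4 c794_0 :)
theorem x795 : AuxS.{u} (cP4r 2 0) s795 0 a795 := aux_base3 tw80 rfl b795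
theorem n795 : Sound.{u} (cP4r 2 0) s795 0 :=
  (x795.k4 c795_0 :)
theorem x796 : AuxS.{u} (cP4r 2 0) s796 0 a796 := aux_base3 tw80 rfl b796
theorem n796 : Sound.{u} (cP4r 2 0) s796 0 :=
  (x796.k4 c796_0 :)
theorem x797 : AuxS.{u} (cP4r 2 0) s797 0 a797 := aux_base3 tw80 rfl b797
theorem n797 : Sound.{u} (cP4r 2 0) s797 0 :=
  (x797.k4 c797_0 :)
theorem x798 : AuxS.{u} (cP4r 2 0) s798 0 a798 := aux_base3 tw80 rfl b798
theorem n798 : Sound.{u} (cP4r 2 0) s798 0 :=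
  (x798.k4 c798_0 :)
theorem x799 : AuxS.{u} (cP4r 2 0) s799 0 a799 := aux_base3 tw80 rfl b799
theorem n799 : Sound.{u} (cP4r 2 0) s799 0 :=
  (x799.k4 c799_0 :)
theorem x800 : AuxS.{u} (cP4r 2 0) s800 0 a800 := aux_base3 tw80 rfl b800
theorem n800 : Sound.{u} (cP4r 2 0) s800 0 :=
  (x800.k4 c800_0 :)
theorem x801 : AuxS.{u} (cP4r 2 0) s801 0 a801 := aux_base3 tw80 rfl b801
theorem n801 : Sound.{u} (cP4r 2 0) s801 0 :=
  (x801.k4 c801_0 :)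
theorem x802 : AuxS.{u} (cP4r 2 0) s802 0 a802 := aux_base3 tw80 rfl b802
theorem n802 : Sound.{u} (cP4r 2 0) s802 0 :=
  (x802.k4 c802_0 :)
theorem x803 : AuxS.{u} (cP4r 2 0) s803 0 a803 := aux_base3 tw80 rfl b803
theorem n803 : Sound.{u} (cP4r 2 0) s803 0 :=
  (x803.k4 c803_0 :)
theorem x804 : AuxS.{u} (cP4r 2 0) s804 0 a804 := aux_base3 tw80 rfl b804
theorem x804_1 : AuxS.{u} (cP4r 2 0) s804 0 a804_1 := x804
theorem x804_2 : AuxS.{u} (cP4r 2 0) s804 0 a804_2 := x804_1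
theorem n804 : Sound.{u} (cP4r 2 0) s804 0 :=
  (x804_2.jump c804_0 c804_1 n113 :)
theorem x805 : AuxS.{u} (cP4r 2 0) s805 0 a805 := aux_base3 tw80 rfl b805
theorem n805 : Sound.{u} (cP4r 2 0) s805 0 :=
  (x805.k4 c805_0 :)
theorem x806 : AuxS.{u} (cP4r 2 0) s806 0 a806 := aux_base3 tw80 rfl b806
theorem n806 : Sound.{u} (cP4r 2 0) s806 0 :=
  (x806.k4 c806_0 :)
theorem x807 : AuxS.{u} (cP4r 2 0) s807 0 a807 := aux_base3 tw80 rfl b807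
theorem n807 : Sound.{u} (cP4r 2 0) s807 0 :=
  (x807.k4 c807_0 :)
theorem x808 : AuxS.{u} (cP4r 2 0) s808 0 a808 := aux_base3 tw80 rfl b808
theorem n808 : Sound.{u} (cP4r 2 0) s808 0 :=
  (x808.k4 c808_0 :)
theorem x809 : AuxS.{u} (cP4r 2 0) s809 0 a809 := aux_base3 tw80 rfl b809
theorem n809 : Sound.{u} (cP4r 2 0) s809 0 :=
  (x809.k4 c809_0 :)
theorem x810 : AuxS.{u} (cP4r 2 0) s810 0 a810 := aux_base3 tw80 rfl b810
theorem n810 : Sound.{u} (cP4r 2 0) s810 0 :=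
  (x810.k4 c810_0 :)
theorem x811 : AuxS.{u} (cP4r 2 0) s811 0 a811 := aux_base3 tw80 rfl b811
theorem n811 : Sound.{u} (cP4r 2 0) s811 0 :=
  (x811.k4 c811_0 :)
theorem x812 : AuxS.{u} (cP4r 2 0) s812 0 a812 := aux_base3 tw80 rfl b812
theorem n812 : Sound.{u} (cP4r 2 0) s812 0 :=
  (x812.k4 c812_0 :)
theorem x813 : AuxS.{u} (cP4r 2 0) s813 0 a813 := aux_base3 tw80 rfl b813
theorem n813 : Sound.{u} (cP4r 2 0) s813 0 :=
  (x813.k4 c813_0 :)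
theorem x814 : AuxS.{u} (cP4r 2 0) s814 0 a814 := aux_base3 tw80 rfl b814
theorem n814 : Sound.{u} (cP4r 2 0) s814 0 :=
  (x814.k4 c814_0 :)
theorem x815 : AuxS.{u} (cP4r 2 0) s815 0 a815 := aux_base3 tw80 rfl b815
theorem n815 : Sound.{u} (cP4r 2 0) s815 0 :=
  (x815.k4 c815_0 :)
theorem x816 : AuxS.{u} (cP4r 2 0) s816 0 a816 := aux_base3 tw80 rfl b816
theorem n816 : Sound.{u} (cP4r 2 0) s816 0 :=
  (x816.k4 c816_0 :)
theorem x817 : AuxS.{u} (cP4r 2 0) s817 0 a817 := aux_base3 tw80 rfl b817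
theorem n817 : Sound.{u} (cP4r 2 0) s817 0 :=
  (x817.k4 c817_0 :)
theorem x818 : AuxS.{u} (cP4r 2 0) s818 0 a818 := aux_base3 tw80 rfl b818
theorem n818 : Sound.{u} (cP4r 2 0) s818 0 :=
  (x818.k4 c818_0 :)
theorem x819 : AuxS.{u} (cP4r 2 0) s819 0 a819 := aux_base3 tw80 rfl b819
theorem n819 : Sound.{u} (cP4r 2 0) s819 0 :=
  (x819.k4 c819_0 :)
theorem x820 : AuxS.{u} (cP4r 2 0) s820 0 a820 := aux_base3 tw80 rfl b820
theorem n820 : Sound.{u} (cP4r 2 0) s820 0 :=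
  (x820.k4 c820_0 :)
theorem x821 : AuxS.{u} (cP4r 2 0) s821 0 a821 := aux_base3 tw80 rfl b821
theorem n821 : Sound.{u} (cP4r 2 0) s821 0 :=
  (x821.k4 c821_0 :)
theorem x822 : AuxS.{u} (cP4r 2 0) s822 0 a822 := aux_base3 tw80 rfl b822
theorem n822 : Sound.{u} (cP4r 2 0) s822 0 :=
  (x822.k4 c822_0 :)
theorem x823 : AuxS.{u} (cP4r 2 0) s823 0 a823 := aux_base3 tw80 rfl b823
theorem n823 : Sound.{u} (cP4r 2 0) s823 0 :=
  (x823.k4 c823_0 :)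
theorem x824 : AuxS.{u} (cP4r 2 0) s824 0 a824 := aux_base3 tw80 rfl b824
theorem n824 : Sound.{u} (cP4r 2 0) s824 0 :=
  (x824.k4 c824_0 :)
theorem x825 : AuxS.{u} (cP4r 2 0) s825 0 a825 := aux_base3 tw80 rfl b825
theorem n825 : Sound.{u} (cP4r 2 0) s825 0 :=
  (x825.k4 c825_0 :)
theorem x826 : AuxS.{u} (cP4r 2 0) s826 0 a826 := aux_base3 tw80 rfl b826
theorem n826 : Sound.{u} (cP4r 2 0) s826 0 :=
  (x826.k4 c826_0 :)
theorem x827 : AuxS.{u} (cP4r 2 0) s827 0 a827 := aux_base3 tw80 rfl b827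
theorem n827 : Sound.{u} (cP4r 2 0) s827 0 :=
  (x827.k4 c827_0 :)
theorem x828 : AuxS.{u} (cP4r 2 0) s828 0 a828 := aux_base3 tw80 rfl b828
theorem n828 : Sound.{u} (cP4r 2 0) s828 0 :=
  (x828.k4 c828_0 :)
theorem x829 : AuxS.{u} (cP4r 2 0) s829 0 a829 := aux_base3 tw80 rfl b829
theorem n829 : Sound.{u} (cP4r 2 0) s829 0 :=
  (x829.k4 c829_0 :)
theorem x830 : AuxS.{u} (cP4r 2 0) s830 0 a830 := aux_base3 tw80 rfl b830
theorem n830 : Sound.{u} (cP4r 2 0) s830 0 :=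
  (x830.k4 c830_0 :)
theorem x831 : AuxS.{u} (cP4r 2 0) s831 0 a831 := aux_base3 tw80 rfl b831
theorem n831 : Sound.{u} (cP4r 2 0) s831 0 :=
  (x831.k4 c831_0 :)
theorem x832 : AuxS.{u} (cP4r 2 0) s832 0 a832 := aux_base3 tw80 rfl b832
theorem n832 : Sound.{u} (cP4r 2 0) s832 0 :=
  (x832.k4 c832_0 :)
theorem x833 : AuxS.{u} (cP4r 2 0) s833 0 a833 := aux_base3 tw80 rfl b833
theorem x833_1 : AuxS.{u} (cP4r 2 0) s833 0 a833_1 := x833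
theorem x833_2 : AuxS.{u} (cP4r 2 0) s833 0 a833_2 := x833_1
theorem n833 : Sound.{u} (cP4r 2 0) s833 0 :=
  (x833_2.jump c833_0 c833_1 n764 :)
theorem x834 : AuxS.{u} (cP4r 2 0) s834 0 a834 := aux_base3 tw80 rfl b834
theorem n834 : Sound.{u} (cP4r 2 0) s834 0 :=
  (x834.k4 c834_0 :)
theorem x835 : AuxS.{u} (cP4r 2 0) s835 0 a835 := aux_base3 tw80 rfl b835
theorem n835 : Sound.{u} (cP4r 2 0) s835 0 :=
  (x835.k4 c835_0 :)
theorem x836 : AuxS.{u} (cP4r 2 0) s836 0 a836 := aux_base3 tw80 rfl b836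
theorem n836 : Sound.{u} (cP4r 2 0) s836 0 :=
  (x836.k4 c836_0 :)
theorem x837 : AuxS.{u} (cP4r 2 0) s837 0 a837 := aux_base3 tw80 rfl b837
theorem n837 : Sound.{u} (cP4r 2 0) s837 0 :=
  (x837.k4 c837_0 :)
theorem x838 : AuxS.{u} (cP4r 2 0) s838 0 a838 := aux_base3 tw80 rfl b838
theorem n838 : Sound.{u} (cP4r 2 0) s838 0 :=
  (x838.k4 c838_0 :)
theorem x839 : AuxS.{u} (cP4r 2 0) s839 0 a839 := aux_base3 tw80 rfl b839
theorem n839 : Sound.{u} (cP4r 2 0) s839 0 :=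
  (x839.k4 c839_0 :)
theorem x840 : AuxS.{u} (cP4r 2 0) s840 0 a840 := aux_base3 tw80 rfl b840
theorem n840 : Sound.{u} (cP4r 2 0) s840 0 :=
  (x840.k4 c840_0 :)
theorem x841 : AuxS.{u} (cP4r 2 0) s841 0 a841 := aux_base3 tw80 rfl b841
theorem n841 : Sound.{u} (cP4r 2 0) s841 0 :=
  (x841.k4 c841_0 :)
theorem x842 : AuxS.{u} (cP4r 2 0) s842 0 a842 := aux_base3 tw80 rfl b842
theorem n842 : Sound.{u} (cP4r 2 0) s842 0 :=
  (x842.k4 c842_0 :)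
theorem x843 : AuxS.{u} (cP4r 2 0) s843 0 a843 := aux_base3 tw80 rfl b843
theorem n843 : Sound.{u} (cP4r 2 0) s843 0 :=
  (x843.k4 c843_0 :)
theorem x844 : AuxS.{u} (cP4r 2 0) s844 0 a844 := aux_base3 tw80 rfl b844
theorem n844 : Sound.{u} (cP4r 2 0) s844 0 :=
  (x844.k4 c844_0 :)
theorem x845 : AuxS.{u} (cP4r 2 0) s845 0 a845 := aux_base3 tw80 rfl b845
theorem n845 : Sound.{u} (cP4r 2 0) s845 0 :=
  (x845.k4 c845_0 :)
theorem x846 : AuxS.{u} (cP4r 2 0) s846 0 a846 := aux_base3 tw80 rfl b846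
theorem n846 : Sound.{u} (cP4r 2 0) s846 0 :=
  (x846.k4 c846_0 :)
theorem x847 : AuxS.{u} (cP4r 2 0) s847 0 a847 := aux_base3 tw80 rfl b847
theorem n847 : Sound.{u} (cP4r 2 0) s847 0 :=
  (x847.k4 c847_0 :)
theorem x848 : AuxS.{u} (cP4r 2 0) s848 0 a848 := aux_base3 tw80 rfl b848
theorem n848 : Sound.{u} (cP4r 2 0) s848 0 :=
  (x848.k4 c848_0 :)
theorem x849 : AuxS.{u} (cP4r 2 0) s849 0 a849 := aux_base3 tw80 rfl b849
theorem n849 : Sound.{u} (cP4r 2 0) s849 0 :=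
  (x849.k4 c849_0 :)
theorem x850 : AuxS.{u} (cP4r 2 0) s850 0 a850 := aux_base3 tw80 rfl b850
theorem n850 : Sound.{u} (cP4r 2 0) s850 0 :=
  (x850.k4 c850_0 :)
theorem x851 : AuxS.{u} (cP4r 2 0) s851 0 a851 := aux_base3 tw80 rfl b851
theorem n851 : Sound.{u} (cP4r 2 0) s851 0 :=
  (x851.k4 c851_0 :)
theorem x852 : AuxS.{u} (cP4r 2 0) s852 0 a852 := aux_base3 tw80 rfl b852
theorem n852 : Sound.{u} (cP4r 2 0) s852 0 :=
  (x852.k4 c852_0 :)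
theorem x853 : AuxS.{u} (cP4r 2 0) s853 0 a853 := aux_base3 tw80 rfl b853
theorem n853 : Sound.{u} (cP4r 2 0) s853 0 :=
  (x853.k4 c853_0 :)
theorem x854 : AuxS.{u} (cP4r 2 0) s854 0 a854 := aux_base3 tw80 rfl b854
theorem n854 : Sound.{u} (cP4r 2 0) s854 0 :=
  (x854.k4 c854_0 :)
theorem x855 : AuxS.{u} (cP4r 2 0) s855 0 a855 := aux_base3 tw80 rfl b855
theorem n855 : Sound.{u} (cP4r 2 0) s855 0 :=
  (x855.k4 c855_0 :)
theorem x856 : AuxS.{u} (cP4r 2 0) s856 0 a856 := aux_base3 tw80 rfl b856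
theorem n856 : Sound.{u} (cP4r 2 0) s856 0 :=
  (x856.k4 c856_0 :)
theorem x857 : AuxS.{u} (cP4r 2 0) s857 0 a857 := aux_base3 tw80 rfl b857
theorem n857 : Sound.{u} (cP4r 2 0) s857 0 :=
  (x857.k4 c857_0 :)
theorem x858 : AuxS.{u} (cP4r 2 0) s858 0 a858 := aux_base3 tw80 rfl b858
theorem n858 : Sound.{u} (cP4r 2 0) s858 0 :=
  (x858.k4 c858_0 :)
theorem x859 : AuxS.{u} (cP4r 2 0) s859 0 a859 := aux_base3 tw80 rfl b859
theorem n859 : Sound.{u} (cP4r 2 0) s859 0 :=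
  (x859.k4 c859_0 :)
theorem x860 : AuxS.{u} (cP4r 2 0) s860 0 a860 := aux_base3 tw80 rfl b860
theorem n860 : Sound.{u} (cP4r 2 0) s860 0 :=
  (x860.k4 c860_0 :)
theorem x861 : AuxS.{u} (cP4r 2 0) s861 0 a861 := aux_base3 tw80 rfl b861
theorem n861 : Sound.{u} (cP4r 2 0) s861 0 :=
  (x861.k4 c861_0 :)
theorem x862 : AuxS.{u} (cP4r 2 0) s862 0 a862 := aux_base3 tw80 rfl b862
theorem n862 : Sound.{u} (cP4r 2 0) s862 0 :=
  (x862.k4 c862_0 :)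
theorem x863 : AuxS.{u} (cP4r 2 0) s863 0 a863 := aux_base3 tw80 rfl b863
theorem n863 : Sound.{u} (cP4r 2 0) s863 0 :=
  (x863.k4 c863_0 :)
theorem x864 : AuxS.{u} (cP4r 2 0) s864 0 a864 := aux_base3 tw80 rfl b864
theorem n864 : Sound.{u} (cP4r 2 0) s864 0 :=
  (x864.k4 c864_0 :)
theorem x865 : AuxS.{u} (cP4r 2 0) s865 0 a865 := aux_base3 tw80 rfl b865
theorem n865 : Sound.{u} (cP4r 2 0) s865 0 :=
  (x865.k4 c865_0 :)
theorem x866 : AuxS.{u} (cP4r 2 0) s866 0 a866 := aux_base3 tw80 rfl b866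
theorem n866 : Sound.{u} (cP4r 2 0) s866 0 :=
  (x866.k4 c866_0 :)
theorem x867 : AuxS.{u} (cP4r 2 0) s867 0 a867 := aux_base3 tw80 rfl b867
theorem n867 : Sound.{u} (cP4r 2 0) s867 0 :=
  (x867.k4 c867_0 :)
theorem x868 : AuxS.{u} (cP4r 2 0) s868 0 a868 := aux_base3 tw80 rfl b868
theorem n868 : Sound.{u} (cP4r 2 0) s868 0 :=
  (x868.k4 c868_0 :)
theorem x869 : AuxS.{u} (cP4r 2 0) s869 0 a869 := aux_base3 tw80 rfl b869
theorem n869 : Sound.{u} (cP4r 2 0) s869 0 :=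
  (x869.k4 c869_0 :)
theorem x870 : AuxS.{u} (cP4r 2 0) s870 0 a870 := aux_base3 tw80 rfl b870
theorem n870 : Sound.{u} (cP4r 2 0) s870 0 :=
  (x870.k4 c870_0 :)
theorem x871 : AuxS.{u} (cP4r 2 0) s871 0 a871 := aux_base3 tw80 rfl b871
theorem n871 : Sound.{u} (cP4r 2 0) s871 0 :=
  (x871.k4 c871_0 :)
theorem x872 : AuxS.{u} (cP4r 2 0) s872 0 a872 := aux_base3 tw80 rfl b872
theorem n872 : Sound.{u} (cP4r 2 0) s872 0 :=
  (x872.k4 c872_0 :)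
theorem x873 : AuxS.{u} (cP4r 2 0) s873 0 a873 := aux_base3 tw80 rfl b873
theorem x873_1 : AuxS.{u} (cP4r 2 0) s873 0 a873_1 := x873
theorem x873_2 : AuxS.{u} (cP4r 2 0) s873 0 a873_2 := x873_1
theorem n873 : Sound.{u} (cP4r 2 0) s873 0 :=
  (x873_2.jump c873_0 c873_1 n113 :)
theorem x874 : AuxS.{u} (cP4r 2 0) s874 0 a874 := aux_base3 tw80 rfl b874
theorem n874 : Sound.{u} (cP4r 2 0) s874 0 :=
  (x874.k4 c874_0 :)
theorem x875 : AuxS.{u} (cP4r 2 0) s875 0 a875 := aux_base3 tw80 rfl b875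
theorem n875 : Sound.{u} (cP4r 2 0) s875 0 :=
  (x875.k4 c875_0 :)
theorem x876 : AuxS.{u} (cP4r 2 0) s876 0 a876 := aux_base3 tw80 rfl b876
theorem n876 : Sound.{u} (cP4r 2 0) s876 0 :=
  (x876.k4 c876_0 :)
theorem x877 : AuxS.{u} (cP4r 2 0) s877 0 a877 := aux_base3 tw80 rfl b877
theorem n877 : Sound.{u} (cP4r 2 0) s877 0 :=
  (x877.k4 c877_0 :)
theorem x878 : AuxS.{u} (cP4r 2 0) s878 0 a878 := aux_base3 tw80 rfl b878
theorem n878 : Sound.{u} (cP4r 2 0) s878 0 :=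
  (x878.k4 c878_0 :)
theorem x879 : AuxS.{u} (cP4r 2 0) s879 0 a879 := aux_base3 tw80 rfl b879
theorem n879 : Sound.{u} (cP4r 2 0) s879 0 :=
  (x879.k4 c879_0 :)
theorem x880 : AuxS.{u} (cP4r 2 0) s880 0 a880 := aux_base3 tw80 rfl b880
theorem n880 : Sound.{u} (cP4r 2 0) s880 0 :=
  (x880.k4 c880_0 :)
theorem x881 : AuxS.{u} (cP4r 2 0) s881 0 a881 := aux_base3 tw80 rfl b881
theorem n881 : Sound.{u} (cP4r 2 0) s881 0 :=
  (x881.k4 c881_0 :)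
theorem x882 : AuxS.{u} (cP4r 2 0) s882 0 a882 := aux_base3 tw80 rfl b882
theorem n882 : Sound.{u} (cP4r 2 0) s882 0 :=
  (x882.k4 c882_0 :)
theorem x883 : AuxS.{u} (cP4r 2 0) s883 0 a883 := aux_base3 tw80 rfl b883
theorem n883 : Sound.{u} (cP4r 2 0) s883 0 :=
  (x883.k4 c883_0 :)
theorem x884 : AuxS.{u} (cP4r 2 0) s884 0 a884 := aux_base3 tw80 rfl b884
theorem n884 : Sound.{u} (cP4r 2 0) s884 0 :=
  (x884.k4 c884_0 :)
theorem x885 : AuxS.{u} (cP4r 2 0) s885 0 a885 := aux_base3 tw80 rfl b885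
theorem n885 : Sound.{u} (cP4r 2 0) s885 0 :=
  (x885.k4 c885_0 :)
theorem x886 : AuxS.{u} (cP4r 2 0) s886 0 a886 := aux_base3 tw80 rfl b886
theorem n886 : Sound.{u} (cP4r 2 0) s886 0 :=
  (x886.k4 c886_0 :)
theorem x887 : AuxS.{u} (cP4r 2 0) s887 0 a887 := aux_base3 tw80 rfl b887
theorem n887 : Sound.{u} (cP4r 2 0) s887 0 :=
  (x887.k4 c887_0 :)
theorem x888 : AuxS.{u} (cP4r 2 0) s888 0 a888 := aux_base3 tw80 rfl b888
theorem n888 : Sound.{u} (cP4r 2 0) s888 0 :=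
  (x888.k4 c888_0 :)
theorem x889 : AuxS.{u} (cP4r 2 0) s889 0 a889 := aux_base3 tw80 rfl b889
theorem n889 : Sound.{u} (cP4r 2 0) s889 0 :=
  (x889.k4 c889_0 :)
theorem x630 : AuxS.{u} (cP4r 2 0) s630 0 a630 := aux_base3 tw80 rfl b630
theorem x630_1 : AuxS.{u} (cP4r 2 0) s630 0 a630_1 := x630
theorem x630_2 : AuxS.{u} (cP4r 2 0) s630 0 a630_2 := x630_1
theorem n630 : Sound.{u} (cP4r 2 0) s630 0 :=
  (x630_2.fr GamS.nil (AllS.cons n634 (AllS.cons n635 (AllS.cons n636 (AllS.cons n637 (AllS.cons n638 (AllS.cons n639 (AllS.cons n640 (AllS.cons n641 (AllS.cons n642 (AllS.cons n643 (AllS.cons n644 (AllS.cons n645 (AllS.cons n646 (AllS.cons n647 (AllS.cons n648 (AllS.cons n649 (AllS.cons n650 (AllS.cons n651 (AllS.cons n652 (AllS.cons n653 (AllS.cons n654 (AllS.cons n655 (AllS.cons n656 (AllS.cons n657 (AllS.cons n658 (AllS.cons n659 (AllS.cons n660 (AllS.cons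 n661 (AllS.cons n662 (AllS.cons n663 (AllS.cons n664 (AllS.cons n665 (AllS.cons n666 (AllS.cons n667 (AllS.cons n668 (AllS.cons n669 (AllS.cons n670 (AllS.cons n671 (AllS.cons n672 (AllS.cons n673 (AllS.cons n674 (AllS.cons n675 (AllS.cons n676 (AllS.cons n677 (AllS.cons n678 (AllS.cons n679 (AllS.cons n680 (AllS.cons n681 (AllS.cons n682 (AllS.cons n683 (AllS.cons n684 (AllS.cons n685 (AllS.cons n686 (AllS.cons n687 (AllS.cons n688 (AllS.cons n689 (AllS.cons n690 (AllS.cons n691 (AllS.cons n692 (AllS.cons n693 (AllS.cons n694 (AllS.cons n695 (AllS.cons n696 (AllS.cons n697 (AllS.cons n698 (AllS.cons n699 (AllS.cons n700 (AllS.cons n701 (AllS.cons n702 (AllS.cons n703 (AllS.cons n704 (AllS.cons n705 (AllS.cons n706 (AllS.cons n707 (AllS.cons n708 (AllS.cons n709 (AllS.cons n710 (AllS.cons n711 (AllS.cons n712 (AllS.cons n713 (AllS.cons n714 (AllS.cons n715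 (AllS.cons n716 (AllS.cons n717 (AllS.cons n718 (AllS.cons n719 (AllS.cons n720 (AllS.cons n721 (AllS.cons n722 (AllS.cons n723 (AllS.cons n724 (AllS.cons n725 (AllS.cons n726 (AllS.cons n727 (AllS.cons n728 (AllS.cons n729 (AllS.cons n730 (AllS.cons n731 (AllS.cons n732 (AllS.cons n733 (AllS.cons n734 (AllS.cons n735 (AllS.cons n736 (AllS.cons n737 (AllS.cons n738 (AllS.cons n739 (AllS.cons n740 (AllS.cons n741 (AllS.cons n742 (AllS.cons n743 (AllS.cons n744 (AllS.cons n745 (AllS.cons n746 (AllS.cons n747 (AllS.cons n748 (AllS.cons n749 (AllS.cons n750 (AllS.cons n751 (AllS.cons n752 (AllS.cons n753 (AllS.cons n754 (AllS.cons n755 (AllS.cons n756 (AllS.cons n757 (AllS.cons n758 (AllS.cons n759 (AllS.cons n760 (AllS.cons n761 (AllS.cons n762 (AllS.cons n763 (AllS.cons n764 (AllS.cons n765 (AllS.cons n766 (AllS.cons n767 (AllS.cons n768 (AllS.cons n769 (AllS.cons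 n770 (AllS.cons n771 (AllS.cons n772 (AllS.cons n773 (AllS.cons n774 (AllS.cons n775 (AllS.cons n776 (AllS.cons n777 (AllS.cons n778 (AllS.cons n779 (AllS.cons n780 (AllS.cons n781 (AllS.cons n782 (AllS.cons n783 (AllS.cons n784 (AllS.cons n785 (AllS.cons n786 (AllS.cons n787 (AllS.cons n788 (AllS.cons n789 (AllS.cons n790 (AllS.cons n791 (AllS.cons n792 (AllS.cons n793 (AllS.cons n794 (AllS.cons n795 (AllS.cons n796 (AllS.cons n797 (AllS.cons n798 (AllS.cons n799 (AllS.cons n800 (AllS.cons n801 (AllS.cons n802 (AllS.cons n803 (AllS.cons n804 (AllS.cons n805 (AllS.cons n806 (AllS.cons n807 (AllS.cons n808 (AllS.cons n809 (AllS.cons n810 (AllS.cons n811 (AllS.cons n812 (AllS.cons n813 (AllS.cons n814 (AllS.cons n815 (AllS.cons n816 (AllS.cons n817 (AllS.cons n818 (AllS.cons n819 (AllS.cons n820 (AllS.cons n821 (AllS.cons n822 (AllS.cons n823 (AllS.cons n824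 (AllS.cons n825 (AllS.cons n826 (AllS.cons n827 (AllS.cons n828 (AllS.cons n829 (AllS.cons n830 (AllS.cons n831 (AllS.cons n832 (AllS.cons n833 (AllS.cons n834 (AllS.cons n835 (AllS.cons n836 (AllS.cons n837 (AllS.cons n838 (AllS.cons n839 (AllS.cons n840 (AllS.cons n841 (AllS.cons n842 (AllS.cons n843 (AllS.cons n844 (AllS.cons n845 (AllS.cons n846 (AllS.cons n847 (AllS.cons n848 (AllS.cons n849 (AllS.cons n850 (AllS.cons n851 (AllS.cons n852 (AllS.cons n853 (AllS.cons n854 (AllS.cons n855 (AllS.cons n856 (AllS.cons n857 (AllS.cons n858 (AllS.cons n859 (AllS.cons n860 (AllS.cons n861 (AllS.cons n862 (AllS.cons n863 (AllS.cons n864 (AllS.cons n865 (AllS.cons n866 (AllS.cons n867 (AllS.cons n868 (AllS.cons n869 (AllS.cons n870 (AllS.cons n871 (AllS.cons n872 (AllS.cons n873 (AllS.cons n874 (AllS.cons n875 (AllS.cons n876 (AllS.cons n877 (AllS.cons n878 (AllS.cons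 n879 (AllS.cons n880 (AllS.cons n881 (AllS.cons n882 (AllS.cons n883 (AllS.cons n884 (AllS.cons n885 (AllS.cons n886 (AllS.cons n887 (AllS.cons n888 (AllS.cons n889 AllS.nil)))))))))))))))))))))))))))))))))))))))))))))))))))))))))))))))))))))))))))))))))))))))))))))))))))))))))))))))))))))))))))))))))))))))))))))))))))))))))))))))))))))))))))))))))))))))))))))))))))))))))))))))))))))))))))))))))))))))))))))))))))))))))))))))) c630_0 :)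
theorem x890 : AuxS.{u} (cP4r 2 0) s890 0 a890 := aux_base3 tw80 rfl b890
theorem n890 : Sound.{u} (cP4r 2 0) s890 0 :=
  (x890.k4 c890_0 :)
theorem x891 : AuxS.{u} (cP4r 2 0) s891 0 a891 := aux_base3 tw80 rfl b891
theorem n891 : Sound.{u} (cP4r 2 0) s891 0 :=
  (x891.k4 c891_0 :)
theorem x892 : AuxS.{u} (cP4r 2 0) s892 0 a892 := aux_base3 tw80 rfl b892
theorem x892_1 : AuxS.{u} (cP4r 2 0) s892 0 a892_1 := (AuxS.up x892 c892_4 :)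
theorem x892_2 : AuxS.{u} (cP4r 2 0) s892 0 a892_2 := (AuxS.up x892_1 c892_5 :)
theorem x892_L0_1 : AuxS.{u} (cP4r 2 0) s892 (0 + 2) a892_L0_1 := (AuxS.hp (x892_2.lam 0) c892_1 :)
theorem n892 : Sound.{u} (cP4r 2 0) s892 0 :=
  (x892_2.spl c892_0 (AllM.cons (x892_L0_1.tp c892_2 :) AllM.nil) ((x892_2.weaken 1).ext2 (fun _ => rfl) GamS.nil AllS.nil c892_3 (Phs.fin (ct := ct892_3) rfl) (Phs.fin (ct := ct892_3) rfl)) :)
theorem x893 : AuxS.{u} (cP4r 2 0) s893 0 a893 := aux_base3 tw80 rfl b893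
theorem n893 : Sound.{u} (cP4r 2 0) s893 0 :=
  (x893.k4 c893_0 :)
theorem x894 : AuxS.{u} (cP4r 2 0) s894 0 a894 := aux_base3 tw80 rfl b894
theorem n894 : Sound.{u} (cP4r 2 0) s894 0 :=
  (x894.k4 c894_0 :)
theorem x895 : AuxS.{u} (cP4r 2 0) s895 0 a895 := aux_base3 tw80 rfl b895
theorem n895 : Sound.{u} (cP4r 2 0) s895 0 :=
  (x895.k4 c895_0 :)
theorem x896 : AuxS.{u} (cP4r 2 0) s896 0 a896 := aux_base3 tw80 rfl b896
theorem n896 : Sound.{u} (cP4r 2 0) s896 0 :=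
  (x896.k4 c896_0 :)
theorem x897 : AuxS.{u} (cP4r 2 0) s897 0 a897 := aux_base3 tw80 rfl b897
theorem n897 : Sound.{u} (cP4r 2 0) s897 0 :=
  (x897.k4 c897_0 :)
theorem x898 : AuxS.{u} (cP4r 2 0) s898 0 a898 := aux_base3 tw80 rfl b898
theorem n898 : Sound.{u} (cP4r 2 0) s898 0 :=
  (x898.k4 c898_0 :)
theorem x899 : AuxS.{u} (cP4r 2 0) s899 0 a899 := aux_base3 tw80 rfl b899
theorem n899 : Sound.{u} (cP4r 2 0) s899 0 :=
  (x899.k4 c899_0 :)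
theorem x900 : AuxS.{u} (cP4r 2 0) s900 0 a900 := aux_base3 tw80 rfl b900
theorem n900 : Sound.{u} (cP4r 2 0) s900 0 :=
  (x900.k4 c900_0 :)
theorem x901 : AuxS.{u} (cP4r 2 0) s901 0 a901 := aux_base3 tw80 rfl b901
theorem n901 : Sound.{u} (cP4r 2 0) s901 0 :=
  (x901.k4 c901_0 :)
theorem x902 : AuxS.{u} (cP4r 2 0) s902 0 a902 := aux_base3 tw80 rfl b902
theorem n902 : Sound.{u} (cP4r 2 0) s902 0 :=
  (x902.k4 c902_0 :)
theorem x903 : AuxS.{u} (cP4r 2 0) s903 0 a903 := aux_base3 tw80 rfl b903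
theorem n903 : Sound.{u} (cP4r 2 0) s903 0 :=
  (x903.k4 c903_0 :)
theorem x904 : AuxS.{u} (cP4r 2 0) s904 0 a904 := aux_base3 tw80 rfl b904
theorem n904 : Sound.{u} (cP4r 2 0) s904 0 :=
  (x904.k4 c904_0 :)
theorem x905 : AuxS.{u} (cP4r 2 0) s905 0 a905 := aux_base3 tw80 rfl b905
theorem n905 : Sound.{u} (cP4r 2 0) s905 0 :=
  (x905.k4 c905_0 :)
theorem x906 : AuxS.{u} (cP4r 2 0) s906 0 a906 := aux_base3 tw80 rfl b906
theorem n906 : Sound.{u} (cP4r 2 0) s906 0 :=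
  (x906.k4 c906_0 :)
theorem x907 : AuxS.{u} (cP4r 2 0) s907 0 a907 := aux_base3 tw80 rfl b907
theorem n907 : Sound.{u} (cP4r 2 0) s907 0 :=
  (x907.k4 c907_0 :)
theorem x908 : AuxS.{u} (cP4r 2 0) s908 0 a908 := aux_base3 tw80 rfl b908
theorem n908 : Sound.{u} (cP4r 2 0) s908 0 :=
  (x908.k4 c908_0 :)
theorem x909 : AuxS.{u} (cP4r 2 0) s909 0 a909 := aux_base3 tw80 rfl b909
theorem n909 : Sound.{u} (cP4r 2 0) s909 0 :=
  (x909.k4 c909_0 :)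
theorem x910 : AuxS.{u} (cP4r 2 0) s910 0 a910 := aux_base3 tw80 rfl b910
theorem n910 : Sound.{u} (cP4r 2 0) s910 0 :=
  (x910.k4 c910_0 :)
theorem x911 : AuxS.{u} (cP4r 2 0) s911 0 a911 := aux_base3 tw80 rfl b911
theorem n911 : Sound.{u} (cP4r 2 0) s911 0 :=
  (x911.k4 c911_0 :)
theorem x912 : AuxS.{u} (cP4r 2 0) s912 0 a912 := aux_base3 tw80 rfl b912
theorem n912 : Sound.{u} (cP4r 2 0) s912 0 :=
  (x912.k4 c912_0 :)
theorem x913 : AuxS.{u} (cP4r 2 0) s913 0 a913 := aux_base3 tw80 rfl b913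
theorem n913 : Sound.{u} (cP4r 2 0) s913 0 :=
  (x913.k4 c913_0 :)
theorem x914 : AuxS.{u} (cP4r 2 0) s914 0 a914 := aux_base3 tw80 rfl b914
theorem n914 : Sound.{u} (cP4r 2 0) s914 0 :=
  (x914.k4 c914_0 :)
theorem x915 : AuxS.{u} (cP4r 2 0) s915 0 a915 := aux_base3 tw80 rfl b915
theorem n915 : Sound.{u} (cP4r 2 0) s915 0 :=
  (x915.k4 c915_0 :)
theorem x916 : AuxS.{u} (cP4r 2 0) s916 0 a916 := aux_base3 tw80 rfl b916
theorem n916 : Sound.{u} (cP4r 2 0) s916 0 :=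
  (x916.k4 c916_0 :)
theorem x917 : AuxS.{u} (cP4r 2 0) s917 0 a917 := aux_base3 tw80 rfl b917
theorem n917 : Sound.{u} (cP4r 2 0) s917 0 :=
  (x917.k4 c917_0 :)
theorem x918 : AuxS.{u} (cP4r 2 0) s918 0 a918 := aux_base3 tw80 rfl b918
theorem n918 : Sound.{u} (cP4r 2 0) s918 0 :=
  (x918.k4 c918_0 :)
theorem x919 : AuxS.{u} (cP4r 2 0) s919 0 a919 := aux_base3 tw80 rfl b919
theorem n919 : Sound.{u} (cP4r 2 0) s919 0 :=
  (x919.k4 c919_0 :)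
theorem x920 : AuxS.{u} (cP4r 2 0) s920 0 a920 := aux_base3 tw80 rfl b920
theorem n920 : Sound.{u} (cP4r 2 0) s920 0 :=
  (x920.k4 c920_0 :)
theorem x921 : AuxS.{u} (cP4r 2 0) s921 0 a921 := aux_base3 tw80 rfl b921
theorem n921 : Sound.{u} (cP4r 2 0) s921 0 :=
  (x921.k4 c921_0 :)
theorem x922 : AuxS.{u} (cP4r 2 0) s922 0 a922 := aux_base3 tw80 rfl b922
theorem n922 : Sound.{u} (cP4r 2 0) s922 0 :=
  (x922.k4 c922_0 :)
theorem x923 : AuxS.{u} (cP4r 2 0) s923 0 a923 := aux_base3 tw80 rfl b923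
theorem n923 : Sound.{u} (cP4r 2 0) s923 0 :=
  (x923.k4 c923_0 :)
theorem x924 : AuxS.{u} (cP4r 2 0) s924 0 a924 := aux_base3 tw80 rfl b924
theorem n924 : Sound.{u} (cP4r 2 0) s924 0 :=
  (x924.k4 c924_0 :)
theorem x925 : AuxS.{u} (cP4r 2 0) s925 0 a925 := aux_base3 tw80 rfl b925
theorem n925 : Sound.{u} (cP4r 2 0) s925 0 :=
  (x925.k4 c925_0 :)
theorem x926 : AuxS.{u} (cP4r 2 0) s926 0 a926 := aux_base3 tw80 rfl b926
theorem n926 : Sound.{u} (cP4r 2 0) s926 0 :=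
  (x926.k4 c926_0 :)
theorem x927 : AuxS.{u} (cP4r 2 0) s927 0 a927 := aux_base3 tw80 rfl b927
theorem n927 : Sound.{u} (cP4r 2 0) s927 0 :=
  (x927.k4 c927_0 :)
theorem x928 : AuxS.{u} (cP4r 2 0) s928 0 a928 := aux_base3 tw80 rfl b928
theorem n928 : Sound.{u} (cP4r 2 0) s928 0 :=
  (x928.k4 c928_0 :)
theorem x929 : AuxS.{u} (cP4r 2 0) s929 0 a929 := aux_base3 tw80 rfl b929
theorem n929 : Sound.{u} (cP4r 2 0) s929 0 :=
  (x929.k4 c929_0 :)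
theorem x930 : AuxS.{u} (cP4r 2 0) s930 0 a930 := aux_base3 tw80 rfl b930
theorem n930 : Sound.{u} (cP4r 2 0) s930 0 :=
  (x930.k4 c930_0 :)
theorem x931 : AuxS.{u} (cP4r 2 0) s931 0 a931 := aux_base3 tw80 rfl b931
theorem n931 : Sound.{u} (cP4r 2 0) s931 0 :=
  (x931.k4 c931_0 :)
theorem x932 : AuxS.{u} (cP4r 2 0) s932 0 a932 := aux_base3 tw80 rfl b932
theorem x932_1 : AuxS.{u} (cP4r 2 0) s932 0 a932_1 := x932
theorem x932_2 : AuxS.{u} (cP4r 2 0) s932 0 a932_2 := x932_1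
theorem n932 : Sound.{u} (cP4r 2 0) s932 0 :=
  (x932_2.jump c932_0 c932_1 n114 :)
theorem x933 : AuxS.{u} (cP4r 2 0) s933 0 a933 := aux_base3 tw80 rfl b933
theorem n933 : Sound.{u} (cP4r 2 0) s933 0 :=
  (x933.k4 c933_0 :)
theorem x934 : AuxS.{u} (cP4r 2 0) s934 0 a934 := aux_base3 tw80 rfl b934
theorem n934 : Sound.{u} (cP4r 2 0) s934 0 :=
  (x934.k4 c934_0 :)
theorem x935 : AuxS.{u} (cP4r 2 0) s935 0 a935 := aux_base3 tw80 rfl b935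
theorem n935 : Sound.{u} (cP4r 2 0) s935 0 :=
  (x935.k4 c935_0 :)
theorem x936 : AuxS.{u} (cP4r 2 0) s936 0 a936 := aux_base3 tw80 rfl b936
theorem n936 : Sound.{u} (cP4r 2 0) s936 0 :=
  (x936.k4 c936_0 :)
theorem x937 : AuxS.{u} (cP4r 2 0) s937 0 a937 := aux_base3 tw80 rfl b937
theorem n937 : Sound.{u} (cP4r 2 0) s937 0 :=
  (x937.k4 c937_0 :)
theorem x938 : AuxS.{u} (cP4r 2 0) s938 0 a938 := aux_base3 tw80 rfl b938
theorem n938 : Sound.{u} (cP4r 2 0) s938 0 :=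
  (x938.k4 c938_0 :)
theorem x939 : AuxS.{u} (cP4r 2 0) s939 0 a939 := aux_base3 tw80 rfl b939
theorem n939 : Sound.{u} (cP4r 2 0) s939 0 :=
  (x939.k4 c939_0 :)
theorem x940 : AuxS.{u} (cP4r 2 0) s940 0 a940 := aux_base3 tw80 rfl b940
theorem n940 : Sound.{u} (cP4r 2 0) s940 0 :=
  (x940.k4 c940_0 :)
theorem x941 : AuxS.{u} (cP4r 2 0) s941 0 a941 := aux_base3 tw80 rfl b941
theorem n941 : Sound.{u} (cP4r 2 0) s941 0 :=
  (x941.k4 c941_0 :)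
theorem x942 : AuxS.{u} (cP4r 2 0) s942 0 a942 := aux_base3 tw80 rfl b942
theorem n942 : Sound.{u} (cP4r 2 0) s942 0 :=
  (x942.k4 c942_0 :)
theorem x943 : AuxS.{u} (cP4r 2 0) s943 0 a943 := aux_base3 tw80 rfl b943
theorem n943 : Sound.{u} (cP4r 2 0) s943 0 :=
  (x943.k4 c943_0 :)
theorem x944 : AuxS.{u} (cP4r 2 0) s944 0 a944 := aux_base3 tw80 rfl b944
theorem n944 : Sound.{u} (cP4r 2 0) s944 0 :=
  (x944.k4 c944_0 :)
theorem x945 : AuxS.{u} (cP4r 2 0) s945 0 a945 := aux_base3 tw80 rfl b945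
theorem n945 : Sound.{u} (cP4r 2 0) s945 0 :=
  (x945.k4 c945_0 :)
theorem x946 : AuxS.{u} (cP4r 2 0) s946 0 a946 := aux_base3 tw80 rfl b946
theorem n946 : Sound.{u} (cP4r 2 0) s946 0 :=
  (x946.k4 c946_0 :)
theorem x947 : AuxS.{u} (cP4r 2 0) s947 0 a947 := aux_base3 tw80 rfl b947
theorem n947 : Sound.{u} (cP4r 2 0) s947 0 :=
  (x947.k4 c947_0 :)
theorem x948 : AuxS.{u} (cP4r 2 0) s948 0 a948 := aux_base3 tw80 rfl b948
theorem n948 : Sound.{u} (cP4r 2 0) s948 0 :=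
  (x948.k4 c948_0 :)
theorem x949 : AuxS.{u} (cP4r 2 0) s949 0 a949 := aux_base3 tw80 rfl b949
theorem n949 : Sound.{u} (cP4r 2 0) s949 0 :=
  (x949.k4 c949_0 :)
theorem x950 : AuxS.{u} (cP4r 2 0) s950 0 a950 := aux_base3 tw80 rfl b950
theorem n950 : Sound.{u} (cP4r 2 0) s950 0 :=
  (x950.k4 c950_0 :)
theorem x951 : AuxS.{u} (cP4r 2 0) s951 0 a951 := aux_base3 tw80 rfl b951
theorem n951 : Sound.{u} (cP4r 2 0) s951 0 :=
  (x951.k4 c951_0 :)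
theorem x952 : AuxS.{u} (cP4r 2 0) s952 0 a952 := aux_base3 tw80 rfl b952
theorem n952 : Sound.{u} (cP4r 2 0) s952 0 :=
  (x952.k4 c952_0 :)
theorem x953 : AuxS.{u} (cP4r 2 0) s953 0 a953 := aux_base3 tw80 rfl b953
theorem n953 : Sound.{u} (cP4r 2 0) s953 0 :=
  (x953.k4 c953_0 :)
theorem x954 : AuxS.{u} (cP4r 2 0) s954 0 a954 := aux_base3 tw80 rfl b954
theorem n954 : Sound.{u} (cP4r 2 0) s954 0 :=
  (x954.k4 c954_0 :)
theorem x955 : AuxS.{u} (cP4r 2 0) s955 0 a955 := aux_base3 tw80 rfl b955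
theorem n955 : Sound.{u} (cP4r 2 0) s955 0 :=
  (x955.k4 c955_0 :)
theorem x956 : AuxS.{u} (cP4r 2 0) s956 0 a956 := aux_base3 tw80 rfl b956
theorem n956 : Sound.{u} (cP4r 2 0) s956 0 :=
  (x956.k4 c956_0 :)
theorem x957 : AuxS.{u} (cP4r 2 0) s957 0 a957 := aux_base3 tw80 rfl b957
theorem n957 : Sound.{u} (cP4r 2 0) s957 0 :=
  (x957.k4 c957_0 :)
theorem x958 : AuxS.{u} (cP4r 2 0) s958 0 a958 := aux_base3 tw80 rfl b958
theorem n958 : Sound.{u} (cP4r 2 0) s958 0 :=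
  (x958.k4 c958_0 :)
theorem x959 : AuxS.{u} (cP4r 2 0) s959 0 a959 := aux_base3 tw80 rfl b959
theorem n959 : Sound.{u} (cP4r 2 0) s959 0 :=
  (x959.k4 c959_0 :)
theorem x960 : AuxS.{u} (cP4r 2 0) s960 0 a960 := aux_base3 tw80 rfl b960
theorem n960 : Sound.{u} (cP4r 2 0) s960 0 :=
  (x960.k4 c960_0 :)
theorem x961 : AuxS.{u} (cP4r 2 0) s961 0 a961 := aux_base3 tw80 rfl b961
theorem x961_1 : AuxS.{u} (cP4r 2 0) s961 0 a961_1 := (AuxS.up x961 c961_4 :)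
theorem x961_2 : AuxS.{u} (cP4r 2 0) s961 0 a961_2 := (AuxS.up x961_1 c961_5 :)
theorem x961_L0_1 : AuxS.{u} (cP4r 2 0) s961 (0 + 2) a961_L0_1 := (AuxS.hp (x961_2.lam 0) c961_1 :)
theorem n961 : Sound.{u} (cP4r 2 0) s961 0 :=
  (x961_2.spl c961_0 (AllM.cons (x961_L0_1.tp c961_2 :) AllM.nil) ((x961_2.weaken 1).ext2 (fun _ => rfl) GamS.nil AllS.nil c961_3 (Phs.fin (ct := ct961_3) rfl) (Phs.fin (ct := ct961_3) rfl)) :)
theorem x962 : AuxS.{u} (cP4r 2 0) s962 0 a962 := aux_base3 tw80 rfl b962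
theorem n962 : Sound.{u} (cP4r 2 0) s962 0 :=
  (x962.k4 c962_0 :)
theorem x963 : AuxS.{u} (cP4r 2 0) s963 0 a963 := aux_base3 tw80 rfl b963
theorem n963 : Sound.{u} (cP4r 2 0) s963 0 :=
  (x963.k4 c963_0 :)
theorem x964 : AuxS.{u} (cP4r 2 0) s964 0 a964 := aux_base3 tw80 rfl b964
theorem n964 : Sound.{u} (cP4r 2 0) s964 0 :=
  (x964.k4 c964_0 :)
theorem x965 : AuxS.{u} (cP4r 2 0) s965 0 a965 := aux_base3 tw80 rfl b965
theorem n965 : Sound.{u} (cP4r 2 0) s965 0 :=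
  (x965.k4 c965_0 :)
theorem x966 : AuxS.{u} (cP4r 2 0) s966 0 a966 := aux_base3 tw80 rfl b966
theorem n966 : Sound.{u} (cP4r 2 0) s966 0 :=
  (x966.k4 c966_0 :)
theorem x967 : AuxS.{u} (cP4r 2 0) s967 0 a967 := aux_base3 tw80 rfl b967
theorem n967 : Sound.{u} (cP4r 2 0) s967 0 :=
  (x967.k4 c967_0 :)
theorem x968 : AuxS.{u} (cP4r 2 0) s968 0 a968 := aux_base3 tw80 rfl b968
theorem n968 : Sound.{u} (cP4r 2 0) s968 0 :=
  (x968.k4 c968_0 :)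
theorem x969 : AuxS.{u} (cP4r 2 0) s969 0 a969 := aux_base3 tw80 rfl b969
theorem n969 : Sound.{u} (cP4r 2 0) s969 0 :=
  (x969.k4 c969_0 :)
theorem x970 : AuxS.{u} (cP4r 2 0) s970 0 a970 := aux_base3 tw80 rfl b970
theorem n970 : Sound.{u} (cP4r 2 0) s970 0 :=
  (x970.k4 c970_0 :)
theorem x971 : AuxS.{u} (cP4r 2 0) s971 0 a971 := aux_base3 tw80 rfl b971
theorem n971 : Sound.{u} (cP4r 2 0) s971 0 :=
  (x971.k4 c971_0 :)
theorem x972 : AuxS.{u} (cP4r 2 0) s972 0 a972 := aux_base3 tw80 rfl b972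
theorem n972 : Sound.{u} (cP4r 2 0) s972 0 :=
  (x972.k4 c972_0 :)
theorem x973 : AuxS.{u} (cP4r 2 0) s973 0 a973 := aux_base3 tw80 rfl b973
theorem n973 : Sound.{u} (cP4r 2 0) s973 0 :=
  (x973.k4 c973_0 :)
theorem x974 : AuxS.{u} (cP4r 2 0) s974 0 a974 := aux_base3 tw80 rfl b974
theorem n974 : Sound.{u} (cP4r 2 0) s974 0 :=
  (x974.k4 c974_0 :)
theorem x975 : AuxS.{u} (cP4r 2 0) s975 0 a975 := aux_base3 tw80 rfl b975
theorem n975 : Sound.{u} (cP4r 2 0) s975 0 :=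
  (x975.k4 c975_0 :)
theorem x976 : AuxS.{u} (cP4r 2 0) s976 0 a976 := aux_base3 tw80 rfl b976
theorem n976 : Sound.{u} (cP4r 2 0) s976 0 :=
  (x976.k4 c976_0 :)
theorem x977 : AuxS.{u} (cP4r 2 0) s977 0 a977 := aux_base3 tw80 rfl b977
theorem n977 : Sound.{u} (cP4r 2 0) s977 0 :=
  (x977.k4 c977_0 :)
theorem x978 : AuxS.{u} (cP4r 2 0) s978 0 a978 := aux_base3 tw80 rfl b978
theorem n978 : Sound.{u} (cP4r 2 0) s978 0 :=
  (x978.k4 c978_0 :)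
theorem x979 : AuxS.{u} (cP4r 2 0) s979 0 a979 := aux_base3 tw80 rfl b979
theorem n979 : Sound.{u} (cP4r 2 0) s979 0 :=
  (x979.k4 c979_0 :)
theorem x980 : AuxS.{u} (cP4r 2 0) s980 0 a980 := aux_base3 tw80 rfl b980
theorem n980 : Sound.{u} (cP4r 2 0) s980 0 :=
  (x980.k4 c980_0 :)
theorem x981 : AuxS.{u} (cP4r 2 0) s981 0 a981 := aux_base3 tw80 rfl b981
theorem n981 : Sound.{u} (cP4r 2 0) s981 0 :=
  (x981.k4 c981_0 :)
theorem x982 : AuxS.{u} (cP4r 2 0) s982 0 a982 := aux_base3 tw80 rfl b982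
theorem n982 : Sound.{u} (cP4r 2 0) s982 0 :=
  (x982.k4 c982_0 :)
theorem x983 : AuxS.{u} (cP4r 2 0) s983 0 a983 := aux_base3 tw80 rfl b983
theorem n983 : Sound.{u} (cP4r 2 0) s983 0 :=
  (x983.k4 c983_0 :)
theorem x984 : AuxS.{u} (cP4r 2 0) s984 0 a984 := aux_base3 tw80 rfl b984
theorem n984 : Sound.{u} (cP4r 2 0) s984 0 :=
  (x984.k4 c984_0 :)
theorem x985 : AuxS.{u} (cP4r 2 0) s985 0 a985 := aux_base3 tw80 rfl b985
theorem n985 : Sound.{u} (cP4r 2 0) s985 0 :=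
  (x985.k4 c985_0 :)
theorem x986 : AuxS.{u} (cP4r 2 0) s986 0 a986 := aux_base3 tw80 rfl b986
theorem n986 : Sound.{u} (cP4r 2 0) s986 0 :=
  (x986.k4 c986_0 :)
theorem x987 : AuxS.{u} (cP4r 2 0) s987 0 a987 := aux_base3 tw80 rfl b987
theorem n987 : Sound.{u} (cP4r 2 0) s987 0 :=
  (x987.k4 c987_0 :)
theorem x988 : AuxS.{u} (cP4r 2 0) s988 0 a988 := aux_base3 tw80 rfl b988
theorem n988 : Sound.{u} (cP4r 2 0) s988 0 :=
  (x988.k4 c988_0 :)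
theorem x989 : AuxS.{u} (cP4r 2 0) s989 0 a989 := aux_base3 tw80 rfl b989
theorem n989 : Sound.{u} (cP4r 2 0) s989 0 :=
  (x989.k4 c989_0 :)
theorem x990 : AuxS.{u} (cP4r 2 0) s990 0 a990 := aux_base3 tw80 rfl b990
theorem n990 : Sound.{u} (cP4r 2 0) s990 0 :=
  (x990.k4 c990_0 :)
theorem x991 : AuxS.{u} (cP4r 2 0) s991 0 a991 := aux_base3 tw80 rfl b991
theorem n991 : Sound.{u} (cP4r 2 0) s991 0 :=
  (x991.k4 c991_0 :)
theorem x992 : AuxS.{u} (cP4r 2 0) s992 0 a992 := aux_base3 tw80 rfl b992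
theorem n992 : Sound.{u} (cP4r 2 0) s992 0 :=
  (x992.k4 c992_0 :)
theorem x993 : AuxS.{u} (cP4r 2 0) s993 0 a993 := aux_base3 tw80 rfl b993
theorem n993 : Sound.{u} (cP4r 2 0) s993 0 :=
  (x993.k4 c993_0 :)
theorem x994 : AuxS.{u} (cP4r 2 0) s994 0 a994 := aux_base3 tw80 rfl b994
theorem n994 : Sound.{u} (cP4r 2 0) s994 0 :=
  (x994.k4 c994_0 :)
theorem x995 : AuxS.{u} (cP4r 2 0) s995 0 a995 := aux_base3 tw80 rfl b995
theorem n995 : Sound.{u} (cP4r 2 0) s995 0 :=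
  (x995.k4 c995_0 :)
theorem x996 : AuxS.{u} (cP4r 2 0) s996 0 a996 := aux_base3 tw80 rfl b996
theorem n996 : Sound.{u} (cP4r 2 0) s996 0 :=
  (x996.k4 c996_0 :)
theorem x997 : AuxS.{u} (cP4r 2 0) s997 0 a997 := aux_base3 tw80 rfl b997
theorem n997 : Sound.{u} (cP4r 2 0) s997 0 :=
  (x997.k4 c997_0 :)
theorem x998 : AuxS.{u} (cP4r 2 0) s998 0 a998 := aux_base3 tw80 rfl b998
theorem n998 : Sound.{u} (cP4r 2 0) s998 0 :=
  (x998.k4 c998_0 :)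
theorem x999 : AuxS.{u} (cP4r 2 0) s999 0 a999 := aux_base3 tw80 rfl b999
theorem n999 : Sound.{u} (cP4r 2 0) s999 0 :=
  (x999.k4 c999_0 :)
theorem x1000 : AuxS.{u} (cP4r 2 0) s1000 0 a1000 := aux_base3 tw80 rfl b1000
theorem n1000 : Sound.{u} (cP4r 2 0) s1000 0 :=
  (x1000.k4 c1000_0 :)
theorem x1001 : AuxS.{u} (cP4r 2 0) s1001 0 a1001 := aux_base3 tw80 rfl b1001
theorem x1001_1 : AuxS.{u} (cP4r 2 0) s1001 0 a1001_1 := x1001
theorem x1001_2 : AuxS.{u} (cP4r 2 0) s1001 0 a1001_2 := x1001_1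
theorem n1001 : Sound.{u} (cP4r 2 0) s1001 0 :=
  (x1001_2.jump c1001_0 c1001_1 n114 :)
theorem x1002 : AuxS.{u} (cP4r 2 0) s1002 0 a1002 := aux_base3 tw80 rfl b1002
theorem n1002 : Sound.{u} (cP4r 2 0) s1002 0 :=
  (x1002.k4 c1002_0 :)
theorem x1003 : AuxS.{u} (cP4r 2 0) s1003 0 a1003 := aux_base3 tw80 rfl b1003
theorem n1003 : Sound.{u} (cP4r 2 0) s1003 0 :=
  (x1003.k4 c1003_0 :)
theorem x1004 : AuxS.{u} (cP4r 2 0) s1004 0 a1004 := aux_base3 tw80 rfl b1004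
theorem n1004 : Sound.{u} (cP4r 2 0) s1004 0 :=
  (x1004.k4 c1004_0 :)
theorem x1005 : AuxS.{u} (cP4r 2 0) s1005 0 a1005 := aux_base3 tw80 rfl b1005
theorem n1005 : Sound.{u} (cP4r 2 0) s1005 0 :=
  (x1005.k4 c1005_0 :)
theorem x1006 : AuxS.{u} (cP4r 2 0) s1006 0 a1006 := aux_base3 tw80 rfl b1006
theorem n1006 : Sound.{u} (cP4r 2 0) s1006 0 :=
  (x1006.k4 c1006_0 :)
theorem x1007 : AuxS.{u} (cP4r 2 0) s1007 0 a1007 := aux_base3 tw80 rfl b1007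
theorem n1007 : Sound.{u} (cP4r 2 0) s1007 0 :=
  (x1007.k4 c1007_0 :)
theorem x1008 : AuxS.{u} (cP4r 2 0) s1008 0 a1008 := aux_base3 tw80 rfl b1008
theorem n1008 : Sound.{u} (cP4r 2 0) s1008 0 :=
  (x1008.k4 c1008_0 :)
theorem x1009 : AuxS.{u} (cP4r 2 0) s1009 0 a1009 := aux_base3 tw80 rfl b1009
theorem n1009 : Sound.{u} (cP4r 2 0) s1009 0 :=
  (x1009.k4 c1009_0 :)
theorem x1010 : AuxS.{u} (cP4r 2 0) s1010 0 a1010 := aux_base3 tw80 rfl b1010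
theorem n1010 : Sound.{u} (cP4r 2 0) s1010 0 :=
  (x1010.k4 c1010_0 :)
theorem x1011 : AuxS.{u} (cP4r 2 0) s1011 0 a1011 := aux_base3 tw80 rfl b1011
theorem n1011 : Sound.{u} (cP4r 2 0) s1011 0 :=
  (x1011.k4 c1011_0 :)
theorem x1012 : AuxS.{u} (cP4r 2 0) s1012 0 a1012 := aux_base3 tw80 rfl b1012
theorem n1012 : Sound.{u} (cP4r 2 0) s1012 0 :=
  (x1012.k4 c1012_0 :)
theorem x1013 : AuxS.{u} (cP4r 2 0) s1013 0 a1013 := aux_base3 tw80 rfl b1013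
theorem n1013 : Sound.{u} (cP4r 2 0) s1013 0 :=
  (x1013.k4 c1013_0 :)
theorem x1014 : AuxS.{u} (cP4r 2 0) s1014 0 a1014 := aux_base3 tw80 rfl b1014
theorem n1014 : Sound.{u} (cP4r 2 0) s1014 0 :=
  (x1014.k4 c1014_0 :)
theorem x1015 : AuxS.{u} (cP4r 2 0) s1015 0 a1015 := aux_base3 tw80 rfl b1015
theorem n1015 : Sound.{u} (cP4r 2 0) s1015 0 :=
  (x1015.k4 c1015_0 :)
theorem x1016 : AuxS.{u} (cP4r 2 0) s1016 0 a1016 := aux_base3 tw80 rfl b1016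
theorem n1016 : Sound.{u} (cP4r 2 0) s1016 0 :=
  (x1016.k4 c1016_0 :)
theorem x1017 : AuxS.{u} (cP4r 2 0) s1017 0 a1017 := aux_base3 tw80 rfl b1017
theorem n1017 : Sound.{u} (cP4r 2 0) s1017 0 :=
  (x1017.k4 c1017_0 :)
theorem x1018 : AuxS.{u} (cP4r 2 0) s1018 0 a1018 := aux_base3 tw80 rfl b1018
theorem n1018 : Sound.{u} (cP4r 2 0) s1018 0 :=
  (x1018.k4 c1018_0 :)
theorem x1019 : AuxS.{u} (cP4r 2 0) s1019 0 a1019 := aux_base3 tw80 rfl b1019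
theorem n1019 : Sound.{u} (cP4r 2 0) s1019 0 :=
  (x1019.k4 c1019_0 :)
theorem x1020 : AuxS.{u} (cP4r 2 0) s1020 0 a1020 := aux_base3 tw80 rfl b1020
theorem x1020_1 : AuxS.{u} (cP4r 2 0) s1020 0 a1020_1 := (AuxS.up x1020 c1020_4 :)
theorem x1020_2 : AuxS.{u} (cP4r 2 0) s1020 0 a1020_2 := (AuxS.up x1020_1 c1020_5 :)
theorem x1020_L0_1 : AuxS.{u} (cP4r 2 0) s1020 (0 + 2) a1020_L0_1 := (AuxS.hp (x1020_2.lam 0) c1020_1 :)
theorem n1020 : Sound.{u} (cP4r 2 0) s1020 0 :=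
  (x1020_2.spl c1020_0 (AllM.cons (x1020_L0_1.tp c1020_2 :) AllM.nil) ((x1020_2.weaken 1).ext2 (fun _ => rfl) GamS.nil AllS.nil c1020_3 (Phs.fin (ct := ct1020_3) rfl) (Phs.fin (ct := ct1020_3) rfl)) :)
theorem x1021 : AuxS.{u} (cP4r 2 0) s1021 0 a1021 := aux_base3 tw80 rfl b1021
theorem n1021 : Sound.{u} (cP4r 2 0) s1021 0 :=
  (x1021.k4 c1021_0 :)
theorem x1022 : AuxS.{u} (cP4r 2 0) s1022 0 a1022 := aux_base3 tw80 rfl b1022
theorem n1022 : Sound.{u} (cP4r 2 0) s1022 0 :=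
  (x1022.k4 c1022_0 :)
theorem x1023 : AuxS.{u} (cP4r 2 0) s1023 0 a1023 := aux_base3 tw80 rfl b1023
theorem n1023 : Sound.{u} (cP4r 2 0) s1023 0 :=
  (x1023.k4 c1023_0 :)
theorem x1024 : AuxS.{u} (cP4r 2 0) s1024 0 a1024 := aux_base3 tw80 rfl b1024
theorem n1024 : Sound.{u} (cP4r 2 0) s1024 0 :=
  (x1024.k4 c1024_0 :)
theorem x1025 : AuxS.{u} (cP4r 2 0) s1025 0 a1025 := aux_base3 tw80 rfl b1025
theorem n1025 : Sound.{u} (cP4r 2 0) s1025 0 :=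
  (x1025.k4 c1025_0 :)
theorem x1026 : AuxS.{u} (cP4r 2 0) s1026 0 a1026 := aux_base3 tw80 rfl b1026
theorem n1026 : Sound.{u} (cP4r 2 0) s1026 0 :=
  (x1026.k4 c1026_0 :)
theorem x1027 : AuxS.{u} (cP4r 2 0) s1027 0 a1027 := aux_base3 tw80 rfl b1027
theorem n1027 : Sound.{u} (cP4r 2 0) s1027 0 :=
  (x1027.k4 c1027_0 :)
theorem x1028 : AuxS.{u} (cP4r 2 0) s1028 0 a1028 := aux_base3 tw80 rfl b1028
theorem n1028 : Sound.{u} (cP4r 2 0) s1028 0 :=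
  (x1028.k4 c1028_0 :)
theorem x1029 : AuxS.{u} (cP4r 2 0) s1029 0 a1029 := aux_base3 tw80 rfl b1029
theorem n1029 : Sound.{u} (cP4r 2 0) s1029 0 :=
  (x1029.k4 c1029_0 :)
theorem x1030 : AuxS.{u} (cP4r 2 0) s1030 0 a1030 := aux_base3 tw80 rfl b1030
theorem n1030 : Sound.{u} (cP4r 2 0) s1030 0 :=
  (x1030.k4 c1030_0 :)
theorem x1031 : AuxS.{u} (cP4r 2 0) s1031 0 a1031 := aux_base3 tw80 rfl b1031
theorem n1031 : Sound.{u} (cP4r 2 0) s1031 0 :=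
  (x1031.k4 c1031_0 :)
theorem x1032 : AuxS.{u} (cP4r 2 0) s1032 0 a1032 := aux_base3 tw80 rfl b1032
theorem n1032 : Sound.{u} (cP4r 2 0) s1032 0 :=
  (x1032.k4 c1032_0 :)
theorem x1033 : AuxS.{u} (cP4r 2 0) s1033 0 a1033 := aux_base3 tw80 rfl b1033
theorem n1033 : Sound.{u} (cP4r 2 0) s1033 0 :=
  (x1033.k4 c1033_0 :)
theorem x1034 : AuxS.{u} (cP4r 2 0) s1034 0 a1034 := aux_base3 tw80 rfl b1034
theorem n1034 : Sound.{u} (cP4r 2 0) s1034 0 :=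
  (x1034.k4 c1034_0 :)
theorem x1035 : AuxS.{u} (cP4r 2 0) s1035 0 a1035 := aux_base3 tw80 rfl b1035
theorem n1035 : Sound.{u} (cP4r 2 0) s1035 0 :=
  (x1035.k4 c1035_0 :)
theorem x1036 : AuxS.{u} (cP4r 2 0) s1036 0 a1036 := aux_base3 tw80 rfl b1036
theorem n1036 : Sound.{u} (cP4r 2 0) s1036 0 :=
  (x1036.k4 c1036_0 :)
theorem x1037 : AuxS.{u} (cP4r 2 0) s1037 0 a1037 := aux_base3 tw80 rfl b1037
theorem n1037 : Sound.{u} (cP4r 2 0) s1037 0 :=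
  (x1037.k4 c1037_0 :)
theorem x1038 : AuxS.{u} (cP4r 2 0) s1038 0 a1038 := aux_base3 tw80 rfl b1038
theorem n1038 : Sound.{u} (cP4r 2 0) s1038 0 :=
  (x1038.k4 c1038_0 :)
theorem x1039 : AuxS.{u} (cP4r 2 0) s1039 0 a1039 := aux_base3 tw80 rfl b1039
theorem n1039 : Sound.{u} (cP4r 2 0) s1039 0 :=
  (x1039.k4 c1039_0 :)
theorem x1040 : AuxS.{u} (cP4r 2 0) s1040 0 a1040 := aux_base3 tw80 rfl b1040
theorem n1040 : Sound.{u} (cP4r 2 0) s1040 0 :=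
  (x1040.k4 c1040_0 :)
theorem x1041 : AuxS.{u} (cP4r 2 0) s1041 0 a1041 := aux_base3 tw80 rfl b1041
theorem n1041 : Sound.{u} (cP4r 2 0) s1041 0 :=
  (x1041.k4 c1041_0 :)
theorem x1042 : AuxS.{u} (cP4r 2 0) s1042 0 a1042 := aux_base3 tw80 rfl b1042
theorem n1042 : Sound.{u} (cP4r 2 0) s1042 0 :=
  (x1042.k4 c1042_0 :)
theorem x1043 : AuxS.{u} (cP4r 2 0) s1043 0 a1043 := aux_base3 tw80 rfl b1043
theorem n1043 : Sound.{u} (cP4r 2 0) s1043 0 :=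
  (x1043.k4 c1043_0 :)
theorem x1044 : AuxS.{u} (cP4r 2 0) s1044 0 a1044 := aux_base3 tw80 rfl b1044
theorem n1044 : Sound.{u} (cP4r 2 0) s1044 0 :=
  (x1044.k4 c1044_0 :)
theorem x1045 : AuxS.{u} (cP4r 2 0) s1045 0 a1045 := aux_base3 tw80 rfl b1045
theorem n1045 : Sound.{u} (cP4r 2 0) s1045 0 :=
  (x1045.k4 c1045_0 :)
theorem x1046 : AuxS.{u} (cP4r 2 0) s1046 0 a1046 := aux_base3 tw80 rfl b1046
theorem n1046 : Sound.{u} (cP4r 2 0) s1046 0 :=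
  (x1046.k4 c1046_0 :)
theorem x1047 : AuxS.{u} (cP4r 2 0) s1047 0 a1047 := aux_base3 tw80 rfl b1047
theorem n1047 : Sound.{u} (cP4r 2 0) s1047 0 :=
  (x1047.k4 c1047_0 :)
theorem x1048 : AuxS.{u} (cP4r 2 0) s1048 0 a1048 := aux_base3 tw80 rfl b1048
theorem n1048 : Sound.{u} (cP4r 2 0) s1048 0 :=
  (x1048.k4 c1048_0 :)
theorem x1049 : AuxS.{u} (cP4r 2 0) s1049 0 a1049 := aux_base3 tw80 rfl b1049
theorem n1049 : Sound.{u} (cP4r 2 0) s1049 0 :=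
  (x1049.k4 c1049_0 :)
theorem x1050 : AuxS.{u} (cP4r 2 0) s1050 0 a1050 := aux_base3 tw80 rfl b1050
theorem n1050 : Sound.{u} (cP4r 2 0) s1050 0 :=
  (x1050.k4 c1050_0 :)
theorem x1051 : AuxS.{u} (cP4r 2 0) s1051 0 a1051 := aux_base3 tw80 rfl b1051
theorem n1051 : Sound.{u} (cP4r 2 0) s1051 0 :=
  (x1051.k4 c1051_0 :)
theorem x1052 : AuxS.{u} (cP4r 2 0) s1052 0 a1052 := aux_base3 tw80 rfl b1052
theorem n1052 : Sound.{u} (cP4r 2 0) s1052 0 :=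
  (x1052.k4 c1052_0 :)
theorem x1053 : AuxS.{u} (cP4r 2 0) s1053 0 a1053 := aux_base3 tw80 rfl b1053
theorem n1053 : Sound.{u} (cP4r 2 0) s1053 0 :=
  (x1053.k4 c1053_0 :)
theorem x1054 : AuxS.{u} (cP4r 2 0) s1054 0 a1054 := aux_base3 tw80 rfl b1054
theorem n1054 : Sound.{u} (cP4r 2 0) s1054 0 :=
  (x1054.k4 c1054_0 :)
theorem x1055 : AuxS.{u} (cP4r 2 0) s1055 0 a1055 := aux_base3 tw80 rfl b1055
theorem n1055 : Sound.{u} (cP4r 2 0) s1055 0 :=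
  (x1055.k4 c1055_0 :)
theorem x1056 : AuxS.{u} (cP4r 2 0) s1056 0 a1056 := aux_base3 tw80 rfl b1056
theorem n1056 : Sound.{u} (cP4r 2 0) s1056 0 :=
  (x1056.k4 c1056_0 :)
theorem x1057 : AuxS.{u} (cP4r 2 0) s1057 0 a1057 := aux_base3 tw80 rfl b1057
theorem n1057 : Sound.{u} (cP4r 2 0) s1057 0 :=
  (x1057.k4 c1057_0 :)
theorem x1058 : AuxS.{u} (cP4r 2 0) s1058 0 a1058 := aux_base3 tw80 rfl b1058
theorem n1058 : Sound.{u} (cP4r 2 0) s1058 0 :=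
  (x1058.k4 c1058_0 :)
theorem x1059 : AuxS.{u} (cP4r 2 0) s1059 0 a1059 := aux_base3 tw80 rfl b1059
theorem n1059 : Sound.{u} (cP4r 2 0) s1059 0 :=
  (x1059.k4 c1059_0 :)
theorem x1060 : AuxS.{u} (cP4r 2 0) s1060 0 a1060 := aux_base3 tw80 rfl b1060
theorem x1060_1 : AuxS.{u} (cP4r 2 0) s1060 0 a1060_1 := x1060
theorem x1060_2 : AuxS.{u} (cP4r 2 0) s1060 0 a1060_2 := x1060_1
theorem n1060 : Sound.{u} (cP4r 2 0) s1060 0 :=
  (x1060_2.jump c1060_0 c1060_1 n114 :)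
theorem x1061 : AuxS.{u} (cP4r 2 0) s1061 0 a1061 := aux_base3 tw80 rfl b1061
theorem n1061 : Sound.{u} (cP4r 2 0) s1061 0 :=
  (x1061.k4 c1061_0 :)
theorem x1062 : AuxS.{u} (cP4r 2 0) s1062 0 a1062 := aux_base3 tw80 rfl b1062
theorem n1062 : Sound.{u} (cP4r 2 0) s1062 0 :=
  (x1062.k4 c1062_0 :)
theorem x1063 : AuxS.{u} (cP4r 2 0) s1063 0 a1063 := aux_base3 tw80 rfl b1063
theorem n1063 : Sound.{u} (cP4r 2 0) s1063 0 :=
  (x1063.k4 c1063_0 :)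
theorem x1064 : AuxS.{u} (cP4r 2 0) s1064 0 a1064 := aux_base3 tw80 rfl b1064
theorem n1064 : Sound.{u} (cP4r 2 0) s1064 0 :=
  (x1064.k4 c1064_0 :)
theorem x1065 : AuxS.{u} (cP4r 2 0) s1065 0 a1065 := aux_base3 tw80 rfl b1065
theorem n1065 : Sound.{u} (cP4r 2 0) s1065 0 :=
  (x1065.k4 c1065_0 :)
theorem x1066 : AuxS.{u} (cP4r 2 0) s1066 0 a1066 := aux_base3 tw80 rfl b1066
theorem n1066 : Sound.{u} (cP4r 2 0) s1066 0 :=
  (x1066.k4 c1066_0 :)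
theorem x1067 : AuxS.{u} (cP4r 2 0) s1067 0 a1067 := aux_base3 tw80 rfl b1067
theorem n1067 : Sound.{u} (cP4r 2 0) s1067 0 :=
  (x1067.k4 c1067_0 :)
theorem x1068 : AuxS.{u} (cP4r 2 0) s1068 0 a1068 := aux_base3 tw80 rfl b1068
theorem n1068 : Sound.{u} (cP4r 2 0) s1068 0 :=
  (x1068.k4 c1068_0 :)
theorem x1069 : AuxS.{u} (cP4r 2 0) s1069 0 a1069 := aux_base3 tw80 rfl b1069
theorem n1069 : Sound.{u} (cP4r 2 0) s1069 0 :=
  (x1069.k4 c1069_0 :)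
theorem x1070 : AuxS.{u} (cP4r 2 0) s1070 0 a1070 := aux_base3 tw80 rfl b1070
theorem n1070 : Sound.{u} (cP4r 2 0) s1070 0 :=
  (x1070.k4 c1070_0 :)
theorem x1071 : AuxS.{u} (cP4r 2 0) s1071 0 a1071 := aux_base3 tw80 rfl b1071
theorem n1071 : Sound.{u} (cP4r 2 0) s1071 0 :=
  (x1071.k4 c1071_0 :)
theorem x1072 : AuxS.{u} (cP4r 2 0) s1072 0 a1072 := aux_base3 tw80 rfl b1072
theorem n1072 : Sound.{u} (cP4r 2 0) s1072 0 :=
  (x1072.k4 c1072_0 :)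
theorem x1073 : AuxS.{u} (cP4r 2 0) s1073 0 a1073 := aux_base3 tw80 rfl b1073
theorem n1073 : Sound.{u} (cP4r 2 0) s1073 0 :=
  (x1073.k4 c1073_0 :)
theorem x1074 : AuxS.{u} (cP4r 2 0) s1074 0 a1074 := aux_base3 tw80 rfl b1074
theorem n1074 : Sound.{u} (cP4r 2 0) s1074 0 :=
  (x1074.k4 c1074_0 :)
theorem x1075 : AuxS.{u} (cP4r 2 0) s1075 0 a1075 := aux_base3 tw80 rfl b1075
theorem n1075 : Sound.{u} (cP4r 2 0) s1075 0 :=
  (x1075.k4 c1075_0 :)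
theorem x1076 : AuxS.{u} (cP4r 2 0) s1076 0 a1076 := aux_base3 tw80 rfl b1076
theorem n1076 : Sound.{u} (cP4r 2 0) s1076 0 :=
  (x1076.k4 c1076_0 :)
theorem x1077 : AuxS.{u} (cP4r 2 0) s1077 0 a1077 := aux_base3 tw80 rfl b1077
theorem n1077 : Sound.{u} (cP4r 2 0) s1077 0 :=
  (x1077.k4 c1077_0 :)
theorem x1078 : AuxS.{u} (cP4r 2 0) s1078 0 a1078 := aux_base3 tw80 rfl b1078
theorem n1078 : Sound.{u} (cP4r 2 0) s1078 0 :=
  (x1078.k4 c1078_0 :)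
theorem x1079 : AuxS.{u} (cP4r 2 0) s1079 0 a1079 := aux_base3 tw80 rfl b1079
theorem n1079 : Sound.{u} (cP4r 2 0) s1079 0 :=
  (x1079.k4 c1079_0 :)
theorem x1080 : AuxS.{u} (cP4r 2 0) s1080 0 a1080 := aux_base3 tw80 rfl b1080
theorem n1080 : Sound.{u} (cP4r 2 0) s1080 0 :=
  (x1080.k4 c1080_0 :)
theorem x1081 : AuxS.{u} (cP4r 2 0) s1081 0 a1081 := aux_base3 tw80 rfl b1081
theorem n1081 : Sound.{u} (cP4r 2 0) s1081 0 :=
  (x1081.k4 c1081_0 :)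
theorem x1082 : AuxS.{u} (cP4r 2 0) s1082 0 a1082 := aux_base3 tw80 rfl b1082
theorem n1082 : Sound.{u} (cP4r 2 0) s1082 0 :=
  (x1082.k4 c1082_0 :)
theorem x1083 : AuxS.{u} (cP4r 2 0) s1083 0 a1083 := aux_base3 tw80 rfl b1083
theorem n1083 : Sound.{u} (cP4r 2 0) s1083 0 :=
  (x1083.k4 c1083_0 :)
theorem x1084 : AuxS.{u} (cP4r 2 0) s1084 0 a1084 := aux_base3 tw80 rfl b1084
theorem n1084 : Sound.{u} (cP4r 2 0) s1084 0 :=
  (x1084.k4 c1084_0 :)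
theorem x1085 : AuxS.{u} (cP4r 2 0) s1085 0 a1085 := aux_base3 tw80 rfl b1085
theorem n1085 : Sound.{u} (cP4r 2 0) s1085 0 :=
  (x1085.k4 c1085_0 :)
theorem x1086 : AuxS.{u} (cP4r 2 0) s1086 0 a1086 := aux_base3 tw80 rfl b1086
theorem n1086 : Sound.{u} (cP4r 2 0) s1086 0 :=
  (x1086.k4 c1086_0 :)
theorem x1087 : AuxS.{u} (cP4r 2 0) s1087 0 a1087 := aux_base3 tw80 rfl b1087
theorem n1087 : Sound.{u} (cP4r 2 0) s1087 0 :=
  (x1087.k4 c1087_0 :)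
theorem x1088 : AuxS.{u} (cP4r 2 0) s1088 0 a1088 := aux_base3 tw80 rfl b1088
theorem n1088 : Sound.{u} (cP4r 2 0) s1088 0 :=
  (x1088.k4 c1088_0 :)
theorem x1089 : AuxS.{u} (cP4r 2 0) s1089 0 a1089 := aux_base3 tw80 rfl b1089
theorem x1089_1 : AuxS.{u} (cP4r 2 0) s1089 0 a1089_1 := x1089
theorem x1089_2 : AuxS.{u} (cP4r 2 0) s1089 0 a1089_2 := x1089_1
theorem n1089 : Sound.{u} (cP4r 2 0) s1089 0 :=
  (x1089_2.jump c1089_0 c1089_1 n1020 :)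
theorem x1090 : AuxS.{u} (cP4r 2 0) s1090 0 a1090 := aux_base3 tw80 rfl b1090
theorem n1090 : Sound.{u} (cP4r 2 0) s1090 0 :=
  (x1090.k4 c1090_0 :)
theorem x1091 : AuxS.{u} (cP4r 2 0) s1091 0 a1091 := aux_base3 tw80 rfl b1091
theorem n1091 : Sound.{u} (cP4r 2 0) s1091 0 :=
  (x1091.k4 c1091_0 :)
theorem x1092 : AuxS.{u} (cP4r 2 0) s1092 0 a1092 := aux_base3 tw80 rfl b1092
theorem n1092 : Sound.{u} (cP4r 2 0) s1092 0 :=
  (x1092.k4 c1092_0 :)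
theorem x1093 : AuxS.{u} (cP4r 2 0) s1093 0 a1093 := aux_base3 tw80 rfl b1093
theorem n1093 : Sound.{u} (cP4r 2 0) s1093 0 :=
  (x1093.k4 c1093_0 :)
theorem x1094 : AuxS.{u} (cP4r 2 0) s1094 0 a1094 := aux_base3 tw80 rfl b1094
theorem n1094 : Sound.{u} (cP4r 2 0) s1094 0 :=
  (x1094.k4 c1094_0 :)
theorem x1095 : AuxS.{u} (cP4r 2 0) s1095 0 a1095 := aux_base3 tw80 rfl b1095
theorem n1095 : Sound.{u} (cP4r 2 0) s1095 0 :=
  (x1095.k4 c1095_0 :)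
theorem x1096 : AuxS.{u} (cP4r 2 0) s1096 0 a1096 := aux_base3 tw80 rfl b1096
theorem n1096 : Sound.{u} (cP4r 2 0) s1096 0 :=
  (x1096.k4 c1096_0 :)
theorem x1097 : AuxS.{u} (cP4r 2 0) s1097 0 a1097 := aux_base3 tw80 rfl b1097
theorem n1097 : Sound.{u} (cP4r 2 0) s1097 0 :=
  (x1097.k4 c1097_0 :)
theorem x1098 : AuxS.{u} (cP4r 2 0) s1098 0 a1098 := aux_base3 tw80 rfl b1098
theorem n1098 : Sound.{u} (cP4r 2 0) s1098 0 :=
  (x1098.k4 c1098_0 :)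
theorem x1099 : AuxS.{u} (cP4r 2 0) s1099 0 a1099 := aux_base3 tw80 rfl b1099
theorem n1099 : Sound.{u} (cP4r 2 0) s1099 0 :=
  (x1099.k4 c1099_0 :)
theorem x1100 : AuxS.{u} (cP4r 2 0) s1100 0 a1100 := aux_base3 tw80 rfl b1100
theorem n1100 : Sound.{u} (cP4r 2 0) s1100 0 :=
  (x1100.k4 c1100_0 :)
theorem x1101 : AuxS.{u} (cP4r 2 0) s1101 0 a1101 := aux_base3 tw80 rfl b1101
theorem n1101 : Sound.{u} (cP4r 2 0) s1101 0 :=
  (x1101.k4 c1101_0 :)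
theorem x1102 : AuxS.{u} (cP4r 2 0) s1102 0 a1102 := aux_base3 tw80 rfl b1102
theorem n1102 : Sound.{u} (cP4r 2 0) s1102 0 :=
  (x1102.k4 c1102_0 :)
theorem x1103 : AuxS.{u} (cP4r 2 0) s1103 0 a1103 := aux_base3 tw80 rfl b1103
theorem n1103 : Sound.{u} (cP4r 2 0) s1103 0 :=
  (x1103.k4 c1103_0 :)
theorem x1104 : AuxS.{u} (cP4r 2 0) s1104 0 a1104 := aux_base3 tw80 rfl b1104
theorem n1104 : Sound.{u} (cP4r 2 0) s1104 0 :=
  (x1104.k4 c1104_0 :)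
theorem x1105 : AuxS.{u} (cP4r 2 0) s1105 0 a1105 := aux_base3 tw80 rfl b1105
theorem n1105 : Sound.{u} (cP4r 2 0) s1105 0 :=
  (x1105.k4 c1105_0 :)
theorem x1106 : AuxS.{u} (cP4r 2 0) s1106 0 a1106 := aux_base3 tw80 rfl b1106
theorem n1106 : Sound.{u} (cP4r 2 0) s1106 0 :=
  (x1106.k4 c1106_0 :)
theorem x1107 : AuxS.{u} (cP4r 2 0) s1107 0 a1107 := aux_base3 tw80 rfl b1107
theorem n1107 : Sound.{u} (cP4r 2 0) s1107 0 :=
  (x1107.k4 c1107_0 :)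
theorem x1108 : AuxS.{u} (cP4r 2 0) s1108 0 a1108 := aux_base3 tw80 rfl b1108
theorem n1108 : Sound.{u} (cP4r 2 0) s1108 0 :=
  (x1108.k4 c1108_0 :)
theorem x1109 : AuxS.{u} (cP4r 2 0) s1109 0 a1109 := aux_base3 tw80 rfl b1109
theorem n1109 : Sound.{u} (cP4r 2 0) s1109 0 :=
  (x1109.k4 c1109_0 :)
theorem x1110 : AuxS.{u} (cP4r 2 0) s1110 0 a1110 := aux_base3 tw80 rfl b1110
theorem n1110 : Sound.{u} (cP4r 2 0) s1110 0 :=
  (x1110.k4 c1110_0 :)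
theorem x1111 : AuxS.{u} (cP4r 2 0) s1111 0 a1111 := aux_base3 tw80 rfl b1111
theorem n1111 : Sound.{u} (cP4r 2 0) s1111 0 :=
  (x1111.k4 c1111_0 :)
theorem x1112 : AuxS.{u} (cP4r 2 0) s1112 0 a1112 := aux_base3 tw80 rfl b1112
theorem n1112 : Sound.{u} (cP4r 2 0) s1112 0 :=
  (x1112.k4 c1112_0 :)
theorem x1113 : AuxS.{u} (cP4r 2 0) s1113 0 a1113 := aux_base3 tw80 rfl b1113
theorem n1113 : Sound.{u} (cP4r 2 0) s1113 0 :=
  (x1113.k4 c1113_0 :)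
theorem x1114 : AuxS.{u} (cP4r 2 0) s1114 0 a1114 := aux_base3 tw80 rfl b1114
theorem n1114 : Sound.{u} (cP4r 2 0) s1114 0 :=
  (x1114.k4 c1114_0 :)
theorem x1115 : AuxS.{u} (cP4r 2 0) s1115 0 a1115 := aux_base3 tw80 rfl b1115
theorem n1115 : Sound.{u} (cP4r 2 0) s1115 0 :=
  (x1115.k4 c1115_0 :)
theorem x1116 : AuxS.{u} (cP4r 2 0) s1116 0 a1116 := aux_base3 tw80 rfl b1116
theorem n1116 : Sound.{u} (cP4r 2 0) s1116 0 :=
  (x1116.k4 c1116_0 :)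
theorem x1117 : AuxS.{u} (cP4r 2 0) s1117 0 a1117 := aux_base3 tw80 rfl b1117
theorem n1117 : Sound.{u} (cP4r 2 0) s1117 0 :=
  (x1117.k4 c1117_0 :)
theorem x1118 : AuxS.{u} (cP4r 2 0) s1118 0 a1118 := aux_base3 tw80 rfl b1118
theorem n1118 : Sound.{u} (cP4r 2 0) s1118 0 :=
  (x1118.k4 c1118_0 :)
theorem x1119 : AuxS.{u} (cP4r 2 0) s1119 0 a1119 := aux_base3 tw80 rfl b1119
theorem n1119 : Sound.{u} (cP4r 2 0) s1119 0 :=
  (x1119.k4 c1119_0 :)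
theorem x1120 : AuxS.{u} (cP4r 2 0) s1120 0 a1120 := aux_base3 tw80 rfl b1120
theorem n1120 : Sound.{u} (cP4r 2 0) s1120 0 :=
  (x1120.k4 c1120_0 :)
theorem x1121 : AuxS.{u} (cP4r 2 0) s1121 0 a1121 := aux_base3 tw80 rfl b1121
theorem n1121 : Sound.{u} (cP4r 2 0) s1121 0 :=
  (x1121.k4 c1121_0 :)
theorem x1122 : AuxS.{u} (cP4r 2 0) s1122 0 a1122 := aux_base3 tw80 rfl b1122
theorem n1122 : Sound.{u} (cP4r 2 0) s1122 0 :=
  (x1122.k4 c1122_0 :)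
theorem x1123 : AuxS.{u} (cP4r 2 0) s1123 0 a1123 := aux_base3 tw80 rfl b1123
theorem n1123 : Sound.{u} (cP4r 2 0) s1123 0 :=
  (x1123.k4 c1123_0 :)
theorem x1124 : AuxS.{u} (cP4r 2 0) s1124 0 a1124 := aux_base3 tw80 rfl b1124
theorem n1124 : Sound.{u} (cP4r 2 0) s1124 0 :=
  (x1124.k4 c1124_0 :)
theorem x1125 : AuxS.{u} (cP4r 2 0) s1125 0 a1125 := aux_base3 tw80 rfl b1125
theorem n1125 : Sound.{u} (cP4r 2 0) s1125 0 :=
  (x1125.k4 c1125_0 :)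
theorem x1126 : AuxS.{u} (cP4r 2 0) s1126 0 a1126 := aux_base3 tw80 rfl b1126
theorem n1126 : Sound.{u} (cP4r 2 0) s1126 0 :=
  (x1126.k4 c1126_0 :)
theorem x1127 : AuxS.{u} (cP4r 2 0) s1127 0 a1127 := aux_base3 tw80 rfl b1127
theorem n1127 : Sound.{u} (cP4r 2 0) s1127 0 :=
  (x1127.k4 c1127_0 :)
theorem x1128 : AuxS.{u} (cP4r 2 0) s1128 0 a1128 := aux_base3 tw80 rfl b1128
theorem n1128 : Sound.{u} (cP4r 2 0) s1128 0 :=
  (x1128.k4 c1128_0 :)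
theorem x1129 : AuxS.{u} (cP4r 2 0) s1129 0 a1129 := aux_base3 tw80 rfl b1129
theorem x1129_1 : AuxS.{u} (cP4r 2 0) s1129 0 a1129_1 := x1129
theorem x1129_2 : AuxS.{u} (cP4r 2 0) s1129 0 a1129_2 := x1129_1
theorem n1129 : Sound.{u} (cP4r 2 0) s1129 0 :=
  (x1129_2.jump c1129_0 c1129_1 n114 :)
theorem x1130 : AuxS.{u} (cP4r 2 0) s1130 0 a1130 := aux_base3 tw80 rfl b1130
theorem n1130 : Sound.{u} (cP4r 2 0) s1130 0 :=
  (x1130.k4 c1130_0 :)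
theorem x1131 : AuxS.{u} (cP4r 2 0) s1131 0 a1131 := aux_base3 tw80 rfl b1131
theorem n1131 : Sound.{u} (cP4r 2 0) s1131 0 :=
  (x1131.k4 c1131_0 :)
theorem x1132 : AuxS.{u} (cP4r 2 0) s1132 0 a1132 := aux_base3 tw80 rfl b1132
theorem n1132 : Sound.{u} (cP4r 2 0) s1132 0 :=
  (x1132.k4 c1132_0 :)
theorem x1133 : AuxS.{u} (cP4r 2 0) s1133 0 a1133 := aux_base3 tw80 rfl b1133
theorem n1133 : Sound.{u} (cP4r 2 0) s1133 0 :=
  (x1133.k4 c1133_0 :)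
theorem x1134 : AuxS.{u} (cP4r 2 0) s1134 0 a1134 := aux_base3 tw80 rfl b1134
theorem n1134 : Sound.{u} (cP4r 2 0) s1134 0 :=
  (x1134.k4 c1134_0 :)
theorem x1135 : AuxS.{u} (cP4r 2 0) s1135 0 a1135 := aux_base3 tw80 rfl b1135
theorem n1135 : Sound.{u} (cP4r 2 0) s1135 0 :=
  (x1135.k4 c1135_0 :)
theorem x1136 : AuxS.{u} (cP4r 2 0) s1136 0 a1136 := aux_base3 tw80 rfl b1136
theorem n1136 : Sound.{u} (cP4r 2 0) s1136 0 :=
  (x1136.k4 c1136_0 :)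
theorem x1137 : AuxS.{u} (cP4r 2 0) s1137 0 a1137 := aux_base3 tw80 rfl b1137
theorem n1137 : Sound.{u} (cP4r 2 0) s1137 0 :=
  (x1137.k4 c1137_0 :)
theorem x1138 : AuxS.{u} (cP4r 2 0) s1138 0 a1138 := aux_base3 tw80 rfl b1138
theorem n1138 : Sound.{u} (cP4r 2 0) s1138 0 :=
  (x1138.k4 c1138_0 :)
theorem x1139 : AuxS.{u} (cP4r 2 0) s1139 0 a1139 := aux_base3 tw80 rfl b1139
theorem n1139 : Sound.{u} (cP4r 2 0) s1139 0 :=
  (x1139.k4 c1139_0 :)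
theorem x1140 : AuxS.{u} (cP4r 2 0) s1140 0 a1140 := aux_base3 tw80 rfl b1140
theorem n1140 : Sound.{u} (cP4r 2 0) s1140 0 :=
  (x1140.k4 c1140_0 :)
theorem x1141 : AuxS.{u} (cP4r 2 0) s1141 0 a1141 := aux_base3 tw80 rfl b1141
theorem n1141 : Sound.{u} (cP4r 2 0) s1141 0 :=
  (x1141.k4 c1141_0 :)
theorem x1142 : AuxS.{u} (cP4r 2 0) s1142 0 a1142 := aux_base3 tw80 rfl b1142
theorem n1142 : Sound.{u} (cP4r 2 0) s1142 0 :=
  (x1142.k4 c1142_0 :)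
theorem x1143 : AuxS.{u} (cP4r 2 0) s1143 0 a1143 := aux_base3 tw80 rfl b1143
theorem n1143 : Sound.{u} (cP4r 2 0) s1143 0 :=
  (x1143.k4 c1143_0 :)
theorem x1144 : AuxS.{u} (cP4r 2 0) s1144 0 a1144 := aux_base3 tw80 rfl b1144
theorem n1144 : Sound.{u} (cP4r 2 0) s1144 0 :=
  (x1144.k4 c1144_0 :)
theorem x1145 : AuxS.{u} (cP4r 2 0) s1145 0 a1145 := aux_base3 tw80 rfl b1145
theorem n1145 : Sound.{u} (cP4r 2 0) s1145 0 :=
  (x1145.k4 c1145_0 :)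
theorem x631 : AuxS.{u} (cP4r 2 0) s631 0 a631 := aux_base3 tw80 rfl b631
theorem x631_1 : AuxS.{u} (cP4r 2 0) s631 0 a631_1 := x631
theorem x631_2 : AuxS.{u} (cP4r 2 0) s631 0 a631_2 := x631_1
theorem n631 : Sound.{u} (cP4r 2 0) s631 0 :=
  (x631_2.fr GamS.nil (AllS.cons n890 (AllS.cons n891 (AllS.cons n892 (AllS.cons n893 (AllS.cons n894 (AllS.cons n895 (AllS.cons n896 (AllS.cons n897 (AllS.cons n898 (AllS.cons n899 (AllS.cons n900 (AllS.cons n901 (AllS.cons n902 (AllS.cons n903 (AllS.cons n904 (AllS.cons n905 (AllS.cons n906 (AllS.cons n907 (AllS.cons n908 (AllS.cons n909 (AllS.cons n910 (AllS.cons n911 (AllS.cons n912 (AllS.cons n913 (AllS.cons n914 (AllS.cons n915 (AllS.cons n916 (AllS.cons n917 (AllS.cons n918 (AllS.cons n919 (AllS.cons n920 (AllS.cons n921 (AllS.cons n922 (AllS.cons n923 (AllS.cons n924 (AllS.cons n925 (AllS.cons n926 (AllS.cons n927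 (AllS.cons n928 (AllS.cons n929 (AllS.cons n930 (AllS.cons n931 (AllS.cons n932 (AllS.cons n933 (AllS.cons n934 (AllS.cons n935 (AllS.cons n936 (AllS.cons n937 (AllS.cons n938 (AllS.cons n939 (AllS.cons n940 (AllS.cons n941 (AllS.cons n942 (AllS.cons n943 (AllS.cons n944 (AllS.cons n945 (AllS.cons n946 (AllS.cons n947 (AllS.cons n948 (AllS.cons n949 (AllS.cons n950 (AllS.cons n951 (AllS.cons n952 (AllS.cons n953 (AllS.cons n954 (AllS.cons n955 (AllS.cons n956 (AllS.cons n957 (AllS.cons n958 (AllS.cons n959 (AllS.cons n960 (AllS.cons n961 (AllS.cons n962 (AllS.cons n963 (AllS.cons n964 (AllS.cons n965 (AllS.cons n966 (AllS.cons n967 (AllS.cons n968 (AllS.cons n969 (AllS.cons n970 (AllS.cons n971 (AllS.cons n972 (AllS.cons n973 (AllS.cons n974 (AllS.cons n975 (AllS.cons n976 (AllS.cons n977 (AllS.cons n978 (AllS.cons n979 (AllS.cons n980 (AllS.cons n981 (AllS.cons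 n982 (AllS.cons n983 (AllS.cons n984 (AllS.cons n985 (AllS.cons n986 (AllS.cons n987 (AllS.cons n988 (AllS.cons n989 (AllS.cons n990 (AllS.cons n991 (AllS.cons n992 (AllS.cons n993 (AllS.cons n994 (AllS.cons n995 (AllS.cons n996 (AllS.cons n997 (AllS.cons n998 (AllS.cons n999 (AllS.cons n1000 (AllS.cons n1001 (AllS.cons n1002 (AllS.cons n1003 (AllS.cons n1004 (AllS.cons n1005 (AllS.cons n1006 (AllS.cons n1007 (AllS.cons n1008 (AllS.cons n1009 (AllS.cons n1010 (AllS.cons n1011 (AllS.cons n1012 (AllS.cons n1013 (AllS.cons n1014 (AllS.cons n1015 (AllS.cons n1016 (AllS.cons n1017 (AllS.cons n1018 (AllS.cons n1019 (AllS.cons n1020 (AllS.cons n1021 (AllS.cons n1022 (AllS.cons n1023 (AllS.cons n1024 (AllS.cons n1025 (AllS.cons n1026 (AllS.cons n1027 (AllS.cons n1028 (AllS.cons n1029 (AllS.cons n1030 (AllS.cons n1031 (AllS.cons n1032 (AllS.cons n1033 (AllS.cons n1034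 (AllS.cons n1035 (AllS.cons n1036 (AllS.cons n1037 (AllS.cons n1038 (AllS.cons n1039 (AllS.cons n1040 (AllS.cons n1041 (AllS.cons n1042 (AllS.cons n1043 (AllS.cons n1044 (AllS.cons n1045 (AllS.cons n1046 (AllS.cons n1047 (AllS.cons n1048 (AllS.cons n1049 (AllS.cons n1050 (AllS.cons n1051 (AllS.cons n1052 (AllS.cons n1053 (AllS.cons n1054 (AllS.cons n1055 (AllS.cons n1056 (AllS.cons n1057 (AllS.cons n1058 (AllS.cons n1059 (AllS.cons n1060 (AllS.cons n1061 (AllS.cons n1062 (AllS.cons n1063 (AllS.cons n1064 (AllS.cons n1065 (AllS.cons n1066 (AllS.cons n1067 (AllS.cons n1068 (AllS.cons n1069 (AllS.cons n1070 (AllS.cons n1071 (AllS.cons n1072 (AllS.cons n1073 (AllS.cons n1074 (AllS.cons n1075 (AllS.cons n1076 (AllS.cons n1077 (AllS.cons n1078 (AllS.cons n1079 (AllS.cons n1080 (AllS.cons n1081 (AllS.cons n1082 (AllS.cons n1083 (AllS.cons n1084 (AllS.cons n1085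 (AllS.cons n1086 (AllS.cons n1087 (AllS.cons n1088 (AllS.cons n1089 (AllS.cons n1090 (AllS.cons n1091 (AllS.cons n1092 (AllS.cons n1093 (AllS.cons n1094 (AllS.cons n1095 (AllS.cons n1096 (AllS.cons n1097 (AllS.cons n1098 (AllS.cons n1099 (AllS.cons n1100 (AllS.cons n1101 (AllS.cons n1102 (AllS.cons n1103 (AllS.cons n1104 (AllS.cons n1105 (AllS.cons n1106 (AllS.cons n1107 (AllS.cons n1108 (AllS.cons n1109 (AllS.cons n1110 (AllS.cons n1111 (AllS.cons n1112 (AllS.cons n1113 (AllS.cons n1114 (AllS.cons n1115 (AllS.cons n1116 (AllS.cons n1117 (AllS.cons n1118 (AllS.cons n1119 (AllS.cons n1120 (AllS.cons n1121 (AllS.cons n1122 (AllS.cons n1123 (AllS.cons n1124 (AllS.cons n1125 (AllS.cons n1126 (AllS.cons n1127 (AllS.cons n1128 (AllS.cons n1129 (AllS.cons n1130 (AllS.cons n1131 (AllS.cons n1132 (AllS.cons n1133 (AllS.cons n1134 (AllS.cons n1135 (AllS.cons n1136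 (AllS.cons n1137 (AllS.cons n1138 (AllS.cons n1139 (AllS.cons n1140 (AllS.cons n1141 (AllS.cons n1142 (AllS.cons n1143 (AllS.cons n1144 (AllS.cons n1145 AllS.nil)))))))))))))))))))))))))))))))))))))))))))))))))))))))))))))))))))))))))))))))))))))))))))))))))))))))))))))))))))))))))))))))))))))))))))))))))))))))))))))))))))))))))))))))))))))))))))))))))))))))))))))))))))))))))))))))))))))))))))))))))))))))))))))))) c631_0 :)
theorem x632 : AuxS.{u} (cP4r 2 0) s632 0 a632 := aux_base3 tw80 rfl b632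
theorem x632_1 : AuxS.{u} (cP4r 2 0) s632 0 a632_1 := x632
theorem x632_2 : AuxS.{u} (cP4r 2 0) s632 0 a632_2 := x632_1
theorem n632 : Sound.{u} (cP4r 2 0) s632 0 :=
  (x632_2.jump c632_0 c632_1 n630 :)
theorem x633 : AuxS.{u} (cP4r 2 0) s633 0 a633 := aux_base3 tw80 rfl b633
theorem x633_1 : AuxS.{u} (cP4r 2 0) s633 0 a633_1 := x633
theorem x633_2 : AuxS.{u} (cP4r 2 0) s633 0 a633_2 := x633_1
theorem n633 : Sound.{u} (cP4r 2 0) s633 0 :=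
  (x633_2.jump c633_0 c633_1 n631 :)
theorem x629 : AuxS.{u} (cP4r 2 0) s629 0 a629 := aux_base3 tw80 rfl b629
theorem x629_1 : AuxS.{u} (cP4r 2 0) s629 0 a629_1 := x629
theorem x629_2 : AuxS.{u} (cP4r 2 0) s629 0 a629_2 := x629_1
theorem n629 : Sound.{u} (cP4r 2 0) s629 0 :=
  (x629_2.rho (AllS.cons n630 (AllS.cons n631 (AllS.cons n632 (AllS.cons n633 AllS.nil)))) c629_0 :)
theorem x111 : AuxS.{u} (cP4r 2 0) s111 0 a111 := aux_base3 tw78 rfl b111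
theorem x111_1 : AuxS.{u} (cP4r 2 0) s111 0 a111_1 := x111
theorem x111_2 : AuxS.{u} (cP4r 2 0) s111 0 a111_2 := x111_1
theorem x111_3 : AuxS.{u} (cP4r 2 0) s111 0 a111_3 := x111_2
theorem n111 : Sound.{u} (cP4r 2 0) s111 0 :=
  (x111_3.fr2 (AuxS.gam x111_3 c111_0) (AllS.cons n629 AllS.nil) c111_1 :)
theorem x64 : AuxS.{u} (cP4r 2 0) s64 0 a64 := aux_base3 tw45 rfl b64
theorem x64_1 : AuxS.{u} (cP4r 2 0) s64 0 a64_1 := x64
theorem x64_2 : AuxS.{u} (cP4r 2 0) s64 0 a64_2 := x64_1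
theorem n64 : Sound.{u} (cP4r 2 0) s64 0 :=
  (x64_2.fr2 GamS.nil (AllS.cons n96 (AllS.cons n97 (AllS.cons n98 (AllS.cons n99 (AllS.cons n100 (AllS.cons n101 (AllS.cons n102 (AllS.cons n103 (AllS.cons n104 (AllS.cons n105 (AllS.cons n106 (AllS.cons n107 (AllS.cons n108 (AllS.cons n109 (AllS.cons n110 (AllS.cons n111 AllS.nil)))))))))))))))) c64_0 :)
theorem x65 : AuxS.{u} (cP4r 2 0) s65 0 a65 := aux_base3 tw45 rfl b65
theorem n65 : Sound.{u} (cP4r 2 0) s65 0 :=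
  (x65.k4 c65_0 :)
theorem x66 : AuxS.{u} (cP4r 2 0) s66 0 a66 := aux_base3 tw45 rfl b66
theorem n66 : Sound.{u} (cP4r 2 0) s66 0 :=
  (x66.k4 c66_0 :)
theorem x67 : AuxS.{u} (cP4r 2 0) s67 0 a67 := aux_base3 tw45 rfl b67
theorem n67 : Sound.{u} (cP4r 2 0) s67 0 :=
  (x67.k4 c67_0 :)
theorem x68 : AuxS.{u} (cP4r 2 0) s68 0 a68 := aux_base3 tw45 rfl b68
theorem n68 : Sound.{u} (cP4r 2 0) s68 0 :=
  (x68.k4 c68_0 :)
theorem x69 : AuxS.{u} (cP4r 2 0) s69 0 a69 := aux_base3 tw45 rfl b69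
theorem n69 : Sound.{u} (cP4r 2 0) s69 0 :=
  (x69.k4 c69_0 :)
theorem x70 : AuxS.{u} (cP4r 2 0) s70 0 a70 := aux_base3 tw45 rfl b70
theorem n70 : Sound.{u} (cP4r 2 0) s70 0 :=
  (x70.k4 c70_0 :)
theorem x71 : AuxS.{u} (cP4r 2 0) s71 0 a71 := aux_base3 tw45 rfl b71
theorem n71 : Sound.{u} (cP4r 2 0) s71 0 :=
  (x71.k4 c71_0 :)
theorem x72 : AuxS.{u} (cP4r 2 0) s72 0 a72 := aux_base3 tw45 rfl b72
theorem n72 : Sound.{u} (cP4r 2 0) s72 0 :=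
  (x72.k4 c72_0 :)
theorem x73 : AuxS.{u} (cP4r 2 0) s73 0 a73 := aux_base3 tw45 rfl b73
theorem n73 : Sound.{u} (cP4r 2 0) s73 0 :=
  (x73.k4 c73_0 :)
theorem x74 : AuxS.{u} (cP4r 2 0) s74 0 a74 := aux_base3 tw45 rfl b74
theorem n74 : Sound.{u} (cP4r 2 0) s74 0 :=
  (x74.k4 c74_0 :)
theorem x75 : AuxS.{u} (cP4r 2 0) s75 0 a75 := aux_base3 tw45 rfl b75
theorem n75 : Sound.{u} (cP4r 2 0) s75 0 :=
  (x75.k4 c75_0 :)
theorem x76 : AuxS.{u} (cP4r 2 0) s76 0 a76 := aux_base3 tw45 rfl b76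
theorem n76 : Sound.{u} (cP4r 2 0) s76 0 :=
  (x76.k4 c76_0 :)
theorem x77 : AuxS.{u} (cP4r 2 0) s77 0 a77 := aux_base3 tw45 rfl b77
theorem n77 : Sound.{u} (cP4r 2 0) s77 0 :=
  (x77.k4 c77_0 :)
theorem x78 : AuxS.{u} (cP4r 2 0) s78 0 a78 := aux_base3 tw45 rfl b78
theorem n78 : Sound.{u} (cP4r 2 0) s78 0 :=
  (x78.k4 c78_0 :)
theorem x79 : AuxS.{u} (cP4r 2 0) s79 0 a79 := aux_base3 tw45 rfl b79
theorem n79 : Sound.{u} (cP4r 2 0) s79 0 :=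
  (x79.k4 c79_0 :)
theorem x80 : AuxS.{u} (cP4r 2 0) s80 0 a80 := aux_base3 tw45 rfl b80
theorem n80 : Sound.{u} (cP4r 2 0) s80 0 :=
  (x80.k4 c80_0 :)
theorem x81 : AuxS.{u} (cP4r 2 0) s81 0 a81 := aux_base3 tw45 rfl b81
theorem n81 : Sound.{u} (cP4r 2 0) s81 0 :=
  (x81.k4 c81_0 :)
theorem x82 : AuxS.{u} (cP4r 2 0) s82 0 a82 := aux_base3 tw45 rfl b82
theorem n82 : Sound.{u} (cP4r 2 0) s82 0 :=
  (x82.k4 c82_0 :)
theorem x83 : AuxS.{u} (cP4r 2 0) s83 0 a83 := aux_base3 tw45 rfl b83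
theorem n83 : Sound.{u} (cP4r 2 0) s83 0 :=
  (x83.k4 c83_0 :)
theorem x84 : AuxS.{u} (cP4r 2 0) s84 0 a84 := aux_base3 tw45 rfl b84
theorem n84 : Sound.{u} (cP4r 2 0) s84 0 :=
  (x84.k4 c84_0 :)
theorem x85 : AuxS.{u} (cP4r 2 0) s85 0 a85 := aux_base3 tw45 rfl b85
theorem n85 : Sound.{u} (cP4r 2 0) s85 0 :=
  (x85.k4 c85_0 :)
theorem x86 : AuxS.{u} (cP4r 2 0) s86 0 a86 := aux_base3 tw45 rfl b86
theorem n86 : Sound.{u} (cP4r 2 0) s86 0 :=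
  (x86.k4 c86_0 :)
theorem x87 : AuxS.{u} (cP4r 2 0) s87 0 a87 := aux_base3 tw45 rfl b87
theorem n87 : Sound.{u} (cP4r 2 0) s87 0 :=
  (x87.k4 c87_0 :)
theorem x88 : AuxS.{u} (cP4r 2 0) s88 0 a88 := aux_base3 tw45 rfl b88
theorem n88 : Sound.{u} (cP4r 2 0) s88 0 :=
  (x88.k4 c88_0 :)
theorem x89 : AuxS.{u} (cP4r 2 0) s89 0 a89 := aux_base3 tw45 rfl b89
theorem n89 : Sound.{u} (cP4r 2 0) s89 0 :=
  (x89.k4 c89_0 :)
theorem x90 : AuxS.{u} (cP4r 2 0) s90 0 a90 := aux_base3 tw45 rfl b90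
theorem n90 : Sound.{u} (cP4r 2 0) s90 0 :=
  (x90.k4 c90_0 :)
theorem x91 : AuxS.{u} (cP4r 2 0) s91 0 a91 := aux_base3 tw45 rfl b91
theorem n91 : Sound.{u} (cP4r 2 0) s91 0 :=
  (x91.k4 c91_0 :)
theorem x92 : AuxS.{u} (cP4r 2 0) s92 0 a92 := aux_base3 tw45 rfl b92
theorem n92 : Sound.{u} (cP4r 2 0) s92 0 :=
  (x92.k4 c92_0 :)
theorem x93 : AuxS.{u} (cP4r 2 0) s93 0 a93 := aux_base3 tw45 rfl b93
theorem n93 : Sound.{u} (cP4r 2 0) s93 0 :=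
  (x93.k4 c93_0 :)
theorem x94 : AuxS.{u} (cP4r 2 0) s94 0 a94 := aux_base3 tw45 rfl b94
theorem n94 : Sound.{u} (cP4r 2 0) s94 0 :=
  (x94.k4 c94_0 :)
theorem x95 : AuxS.{u} (cP4r 2 0) s95 0 a95 := aux_base3 tw45 rfl b95
theorem n95 : Sound.{u} (cP4r 2 0) s95 0 :=
  (x95.k4 c95_0 :)
theorem x46 : AuxS.{u} (cP4r 2 0) s46 0 a46 := aux_base3 tw45 rfl b46
theorem x46_1 : AuxS.{u} (cP4r 2 0) s46 0 a46_1 := x46
theorem x46_2 : AuxS.{u} (cP4r 2 0) s46 0 a46_2 := x46_1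
theorem x46_3 : AuxS.{u} (cP4r 2 0) s46 0 a46_3 := x46_2
theorem n46 : Sound.{u} (cP4r 2 0) s46 0 :=
  (x46_3.fr (AuxS.gam x46_3 c46_0) (AllS.cons n64 (AllS.cons n65 (AllS.cons n66 (AllS.cons n67 (AllS.cons n68 (AllS.cons n69 (AllS.cons n70 (AllS.cons n71 (AllS.cons n72 (AllS.cons n73 (AllS.cons n74 (AllS.cons n75 (AllS.cons n76 (AllS.cons n77 (AllS.cons n78 (AllS.cons n79 (AllS.cons n80 (AllS.cons n81 (AllS.cons n82 (AllS.cons n83 (AllS.cons n84 (AllS.cons n85 (AllS.cons n86 (AllS.cons n87 (AllS.cons n88 (AllS.cons n89 (AllS.cons n90 (AllS.cons n91 (AllS.cons n92 (AllS.cons n93 (AllS.cons n94 (AllS.cons n95 AllS.nil)))))))))))))))))))))))))))))))) c46_1 :)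
theorem x47 : AuxS.{u} (cP4r 2 0) s47 0 a47 := aux_base3 tw46 rfl b47
theorem x47_1 : AuxS.{u} (cP4r 2 0) s47 0 a47_1 := x47
theorem x47_2 : AuxS.{u} (cP4r 2 0) s47 0 a47_2 := x47_1
theorem x47_3 : AuxS.{u} (cP4r 2 0) s47 0 a47_3 := x47_2
theorem n47 : Sound.{u} (cP4r 2 0) s47 0 :=
  (x47_3.fr GamS.nil AllS.nil c47_0 :)
theorem x48 : AuxS.{u} (cP4r 2 0) s48 0 a48 := aux_base3 tw47 rfl b48
theorem x48_1 : AuxS.{u} (cP4r 2 0) s48 0 a48_1 := x48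
theorem x48_2 : AuxS.{u} (cP4r 2 0) s48 0 a48_2 := x48_1
theorem x48_3 : AuxS.{u} (cP4r 2 0) s48 0 a48_3 := x48_2
theorem n48 : Sound.{u} (cP4r 2 0) s48 0 :=
  (x48_3.fr GamS.nil AllS.nil c48_0 :)
theorem x49 : AuxS.{u} (cP4r 2 0) s49 0 a49 := aux_base3 tw48 rfl b49
theorem x49_1 : AuxS.{u} (cP4r 2 0) s49 0 a49_1 := x49
theorem x49_2 : AuxS.{u} (cP4r 2 0) s49 0 a49_2 := x49_1
theorem x49_3 : AuxS.{u} (cP4r 2 0) s49 0 a49_3 := x49_2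
theorem n49 : Sound.{u} (cP4r 2 0) s49 0 :=
  (x49_3.fr GamS.nil AllS.nil c49_0 :)
theorem x50 : AuxS.{u} (cP4r 2 0) s50 0 a50 := aux_base3 tw49 rfl b50
theorem x50_1 : AuxS.{u} (cP4r 2 0) s50 0 a50_1 := x50
theorem x50_2 : AuxS.{u} (cP4r 2 0) s50 0 a50_2 := x50_1
theorem x50_3 : AuxS.{u} (cP4r 2 0) s50 0 a50_3 := x50_2
theorem n50 : Sound.{u} (cP4r 2 0) s50 0 :=
  (x50_3.fr GamS.nil AllS.nil c50_0 :)
theorem x51 : AuxS.{u} (cP4r 2 0) s51 0 a51 := aux_base3 tw50 rfl b51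
theorem x51_1 : AuxS.{u} (cP4r 2 0) s51 0 a51_1 := x51
theorem x51_2 : AuxS.{u} (cP4r 2 0) s51 0 a51_2 := x51_1
theorem x51_3 : AuxS.{u} (cP4r 2 0) s51 0 a51_3 := x51_2
theorem n51 : Sound.{u} (cP4r 2 0) s51 0 :=
  (x51_3.fr GamS.nil AllS.nil c51_0 :)
theorem x52 : AuxS.{u} (cP4r 2 0) s52 0 a52 := aux_base3 tw51 rfl b52
theorem x52_1 : AuxS.{u} (cP4r 2 0) s52 0 a52_1 := x52
theorem x52_2 : AuxS.{u} (cP4r 2 0) s52 0 a52_2 := x52_1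
theorem x52_3 : AuxS.{u} (cP4r 2 0) s52 0 a52_3 := x52_2
theorem n52 : Sound.{u} (cP4r 2 0) s52 0 :=
  (x52_3.fr GamS.nil AllS.nil c52_0 :)
theorem x53 : AuxS.{u} (cP4r 2 0) s53 0 a53 := aux_base3 tw52 rfl b53
theorem x53_1 : AuxS.{u} (cP4r 2 0) s53 0 a53_1 := x53
theorem x53_2 : AuxS.{u} (cP4r 2 0) s53 0 a53_2 := x53_1
theorem x53_3 : AuxS.{u} (cP4r 2 0) s53 0 a53_3 := x53_2
theorem n53 : Sound.{u} (cP4r 2 0) s53 0 :=
  (x53_3.fr GamS.nil AllS.nil c53_0 :)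
theorem x54 : AuxS.{u} (cP4r 2 0) s54 0 a54 := aux_base3 tw53 rfl b54
theorem x54_1 : AuxS.{u} (cP4r 2 0) s54 0 a54_1 := x54
theorem x54_2 : AuxS.{u} (cP4r 2 0) s54 0 a54_2 := x54_1
theorem x54_3 : AuxS.{u} (cP4r 2 0) s54 0 a54_3 := x54_2
theorem x54_4 : AuxS.{u} (cP4r 2 0) s54 0 a54_4 := x54_3
theorem n54 : Sound.{u} (cP4r 2 0) s54 0 :=
  (x54_4.fr GamS.nil AllS.nil c54_0 :)
theorem x55 : AuxS.{u} (cP4r 2 0) s55 0 a55 := aux_base3 tw54 rfl b55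
theorem x55_1 : AuxS.{u} (cP4r 2 0) s55 0 a55_1 := x55
theorem x55_2 : AuxS.{u} (cP4r 2 0) s55 0 a55_2 := x55_1
theorem x55_3 : AuxS.{u} (cP4r 2 0) s55 0 a55_3 := x55_2
theorem x55_4 : AuxS.{u} (cP4r 2 0) s55 0 a55_4 := x55_3
theorem n55 : Sound.{u} (cP4r 2 0) s55 0 :=
  (x55_4.fr GamS.nil AllS.nil c55_0 :)
theorem x56 : AuxS.{u} (cP4r 2 0) s56 0 a56 := aux_base3 tw55 rfl b56
theorem x56_1 : AuxS.{u} (cP4r 2 0) s56 0 a56_1 := x56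
theorem x56_2 : AuxS.{u} (cP4r 2 0) s56 0 a56_2 := x56_1
theorem x56_3 : AuxS.{u} (cP4r 2 0) s56 0 a56_3 := x56_2
theorem x56_4 : AuxS.{u} (cP4r 2 0) s56 0 a56_4 := x56_3
theorem n56 : Sound.{u} (cP4r 2 0) s56 0 :=
  (x56_4.fr GamS.nil AllS.nil c56_0 :)
theorem x57 : AuxS.{u} (cP4r 2 0) s57 0 a57 := aux_base3 tw56 rfl b57
theorem x57_1 : AuxS.{u} (cP4r 2 0) s57 0 a57_1 := x57
theorem x57_2 : AuxS.{u} (cP4r 2 0) s57 0 a57_2 := x57_1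
theorem x57_3 : AuxS.{u} (cP4r 2 0) s57 0 a57_3 := x57_2
theorem x57_4 : AuxS.{u} (cP4r 2 0) s57 0 a57_4 := x57_3
theorem n57 : Sound.{u} (cP4r 2 0) s57 0 :=
  (x57_4.fr GamS.nil AllS.nil c57_0 :)
theorem x58 : AuxS.{u} (cP4r 2 0) s58 0 a58 := aux_base3 tw57 rfl b58
theorem x58_1 : AuxS.{u} (cP4r 2 0) s58 0 a58_1 := x58
theorem x58_2 : AuxS.{u} (cP4r 2 0) s58 0 a58_2 := x58_1
theorem x58_3 : AuxS.{u} (cP4r 2 0) s58 0 a58_3 := x58_2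
theorem x58_4 : AuxS.{u} (cP4r 2 0) s58 0 a58_4 := x58_3
theorem n58 : Sound.{u} (cP4r 2 0) s58 0 :=
  (x58_4.fr GamS.nil AllS.nil c58_0 :)
theorem x59 : AuxS.{u} (cP4r 2 0) s59 0 a59 := aux_base3 tw58 rfl b59
theorem x59_1 : AuxS.{u} (cP4r 2 0) s59 0 a59_1 := x59
theorem x59_2 : AuxS.{u} (cP4r 2 0) s59 0 a59_2 := x59_1
theorem x59_3 : AuxS.{u} (cP4r 2 0) s59 0 a59_3 := x59_2
theorem x59_4 : AuxS.{u} (cP4r 2 0) s59 0 a59_4 := x59_3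
theorem n59 : Sound.{u} (cP4r 2 0) s59 0 :=
  (x59_4.fr GamS.nil AllS.nil c59_0 :)
theorem x60 : AuxS.{u} (cP4r 2 0) s60 0 a60 := aux_base3 tw59 rfl b60
theorem x60_1 : AuxS.{u} (cP4r 2 0) s60 0 a60_1 := x60
theorem x60_2 : AuxS.{u} (cP4r 2 0) s60 0 a60_2 := x60_1
theorem x60_3 : AuxS.{u} (cP4r 2 0) s60 0 a60_3 := x60_2
theorem x60_4 : AuxS.{u} (cP4r 2 0) s60 0 a60_4 := x60_3
theorem n60 : Sound.{u} (cP4r 2 0) s60 0 :=
  (x60_4.fr GamS.nil AllS.nil c60_0 :)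
theorem x61 : AuxS.{u} (cP4r 2 0) s61 0 a61 := aux_base3 tw60 rfl b61
theorem x61_1 : AuxS.{u} (cP4r 2 0) s61 0 a61_1 := x61
theorem x61_2 : AuxS.{u} (cP4r 2 0) s61 0 a61_2 := x61_1
theorem x61_3 : AuxS.{u} (cP4r 2 0) s61 0 a61_3 := x61_2
theorem x61_4 : AuxS.{u} (cP4r 2 0) s61 0 a61_4 := x61_3
theorem n61 : Sound.{u} (cP4r 2 0) s61 0 :=
  (x61_4.fr GamS.nil AllS.nil c61_0 :)
theorem x62 : AuxS.{u} (cP4r 2 0) s62 0 a62 := aux_base3 tw61 rfl b62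
theorem n62 : Sound.{u} (cP4r 2 0) s62 0 :=
  (x62.k3 c62_0 :)
theorem x63 : AuxS.{u} (cP4r 2 0) s63 0 a63 := aux_base3 tw62 rfl b63
theorem n63 : Sound.{u} (cP4r 2 0) s63 0 :=
  (x63.k3 c63_0 :)
theorem x45 : AuxS.{u} (cP4r 2 0) s45 0 a45 := aux_base3 tw33 rfl b45
theorem x45_1 : AuxS.{u} (cP4r 2 0) s45 0 a45_1 := (AuxS.up x45 c45_6 :)
theorem x45_2 : AuxS.{u} (cP4r 2 0) s45 0 a45_2 := (AuxS.up2 x45_1 c45_7 :)
theorem x45_3 : AuxS.{u} (cP4r 2 0) s45 0 a45_3 := (AuxS.up x45_2 c45_8 :)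
theorem p45_0_1 : Phs s45 a45_3 (List.map Prod.fst g45_0) [s46, s47, s48, s49, s50, s51, s52, s53, s54, s55, s56, s57, s58, s59, s60, s61, s62, s63] ct45_0 v45_0 5 w45_0_1 := (Phs.fin c45_1)
theorem p45_0_3 : Phs s45 a45_3 (List.map Prod.fst g45_0) [s46, s47, s48, s49, s50, s51, s52, s53, s54, s55, s56, s57, s58, s59, s60, s61, s62, s63] ct45_0 v45_0 4 w45_0_3 := (Phs.stp c45_2 p45_0_1)
theorem p45_0_5 : Phs s45 a45_3 (List.map Prod.fst g45_0) [s46, s47, s48, s49, s50, s51, s52, s53, s54, s55, s56, s57, s58, s59, s60, s61, s62, s63] ct45_0 v45_0 1 w45_0_5 := (Phs.stp c45_3 p45_0_3)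
theorem n45 : Sound.{u} (cP4r 2 0) s45 0 :=
  (x45_3.ext2 (fun h => absurd h (by decide)) (AuxS.gam x45_3 c45_0) (AllS.cons n46 (AllS.cons n47 (AllS.cons n48 (AllS.cons n49 (AllS.cons n50 (AllS.cons n51 (AllS.cons n52 (AllS.cons n53 (AllS.cons n54 (AllS.cons n55 (AllS.cons n56 (AllS.cons n57 (AllS.cons n58 (AllS.cons n59 (AllS.cons n60 (AllS.cons n61 (AllS.cons n62 (AllS.cons n63 AllS.nil)))))))))))))))))) c45_5 (Phs.stp c45_4 p45_0_5) (Phs.fin (ct := ct45_0) rfl) :)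
theorem x44 : AuxS.{u} (cP4r 2 0) s44 0 a44 := aux_base3 tw44 rfl b44
theorem x44_1 : AuxS.{u} (cP4r 2 0) s44 0 a44_1 := x44
theorem x44_2 : AuxS.{u} (cP4r 2 0) s44 0 a44_2 := x44_1
theorem n44 : Sound.{u} (cP4r 2 0) s44 0 :=
  (x44_2.jump c44_0 c44_1 n45 :)
theorem x33 : AuxS.{u} (cP4r 2 0) s33 0 a33 := aux_base3 tw33 rfl b33
theorem x33_1 : AuxS.{u} (cP4r 2 0) s33 0 a33_1 := x33
theorem x33_2 : AuxS.{u} (cP4r 2 0) s33 0 a33_2 := x33_1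
theorem p33_0_1 : Phs s33 a33_2 (List.map Prod.fst g33_0) [s43, s44] ct33_0 v33_0 5 w33_0_1 := (Phs.fin c33_1)
theorem n33 : Sound.{u} (cP4r 2 0) s33 0 :=
  (x33_2.ext2 (fun h => absurd h (by decide)) (AuxS.gam x33_2 c33_0) (AllS.cons n43 (AllS.cons n44 AllS.nil)) c33_3 (Phs.fin (ct := ct33_0) rfl) (Phs.stp c33_2 p33_0_1) :)
theorem x1146 : AuxS.{u} (cP4r 2 0) s1146 0 a1146 := aux_base3 tw81 rfl b1146
theorem x1146_1 : AuxS.{u} (cP4r 2 0) s1146 0 a1146_1 := (AuxS.up x1146 c1146_1 :)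
theorem x1146_2 : AuxS.{u} (cP4r 2 0) s1146 0 a1146_2 := (AuxS.up2 x1146_1 c1146_2 :)
theorem n1146 : Sound.{u} (cP4r 2 0) s1146 0 :=
  (x1146_2.k7 c1146_0 :)
theorem x1149 : AuxS.{u} (cP4r 2 0) s1149 0 a1149 := aux_base3 tw83 rfl b1149
theorem x1149_1 : AuxS.{u} (cP4r 2 0) s1149 0 a1149_1 := x1149
theorem x1149_2 : AuxS.{u} (cP4r 2 0) s1149 0 a1149_2 := x1149_1
theorem n1149 : Sound.{u} (cP4r 2 0) s1149 0 :=
  (x1149_2.fr GamS.nil AllS.nil c1149_0 :)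
theorem x1150 : AuxS.{u} (cP4r 2 0) s1150 0 a1150 := aux_base3 tw84 rfl b1150
theorem x1150_1 : AuxS.{u} (cP4r 2 0) s1150 0 a1150_1 := x1150
theorem x1150_2 : AuxS.{u} (cP4r 2 0) s1150 0 a1150_2 := x1150_1
theorem n1150 : Sound.{u} (cP4r 2 0) s1150 0 :=
  (x1150_2.fr GamS.nil AllS.nil c1150_0 :)
theorem x1151 : AuxS.{u} (cP4r 2 0) s1151 0 a1151 := aux_base3 tw85 rfl b1151
theorem x1151_1 : AuxS.{u} (cP4r 2 0) s1151 0 a1151_1 := x1151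
theorem x1151_2 : AuxS.{u} (cP4r 2 0) s1151 0 a1151_2 := x1151_1
theorem n1151 : Sound.{u} (cP4r 2 0) s1151 0 :=
  (x1151_2.fr GamS.nil AllS.nil c1151_0 :)
theorem x1152 : AuxS.{u} (cP4r 2 0) s1152 0 a1152 := aux_base3 tw86 rfl b1152
theorem x1152_1 : AuxS.{u} (cP4r 2 0) s1152 0 a1152_1 := x1152
theorem x1152_2 : AuxS.{u} (cP4r 2 0) s1152 0 a1152_2 := x1152_1
theorem n1152 : Sound.{u} (cP4r 2 0) s1152 0 :=
  (x1152_2.fr GamS.nil AllS.nil c1152_0 :)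
theorem x1153 : AuxS.{u} (cP4r 2 0) s1153 0 a1153 := aux_base3 tw87 rfl b1153
theorem x1153_1 : AuxS.{u} (cP4r 2 0) s1153 0 a1153_1 := x1153
theorem x1153_2 : AuxS.{u} (cP4r 2 0) s1153 0 a1153_2 := x1153_1
theorem n1153 : Sound.{u} (cP4r 2 0) s1153 0 :=
  (x1153_2.fr GamS.nil AllS.nil c1153_0 :)
theorem x1154 : AuxS.{u} (cP4r 2 0) s1154 0 a1154 := aux_base3 tw88 rfl b1154
theorem x1154_1 : AuxS.{u} (cP4r 2 0) s1154 0 a1154_1 := x1154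
theorem x1154_2 : AuxS.{u} (cP4r 2 0) s1154 0 a1154_2 := x1154_1
theorem n1154 : Sound.{u} (cP4r 2 0) s1154 0 :=
  (x1154_2.fr GamS.nil AllS.nil c1154_0 :)
theorem x1155 : AuxS.{u} (cP4r 2 0) s1155 0 a1155 := aux_base3 tw89 rfl b1155
theorem x1155_1 : AuxS.{u} (cP4r 2 0) s1155 0 a1155_1 := x1155
theorem x1155_2 : AuxS.{u} (cP4r 2 0) s1155 0 a1155_2 := x1155_1
theorem n1155 : Sound.{u} (cP4r 2 0) s1155 0 :=
  (x1155_2.fr GamS.nil AllS.nil c1155_0 :)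
theorem x1156 : AuxS.{u} (cP4r 2 0) s1156 0 a1156 := aux_base3 tw90 rfl b1156
theorem x1156_1 : AuxS.{u} (cP4r 2 0) s1156 0 a1156_1 := x1156
theorem x1156_2 : AuxS.{u} (cP4r 2 0) s1156 0 a1156_2 := x1156_1
theorem n1156 : Sound.{u} (cP4r 2 0) s1156 0 :=
  (x1156_2.fr GamS.nil AllS.nil c1156_0 :)
theorem x1157 : AuxS.{u} (cP4r 2 0) s1157 0 a1157 := aux_base3 tw91 rfl b1157
theorem x1157_1 : AuxS.{u} (cP4r 2 0) s1157 0 a1157_1 := x1157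
theorem x1157_2 : AuxS.{u} (cP4r 2 0) s1157 0 a1157_2 := x1157_1
theorem n1157 : Sound.{u} (cP4r 2 0) s1157 0 :=
  (x1157_2.fr GamS.nil AllS.nil c1157_0 :)
theorem x1158 : AuxS.{u} (cP4r 2 0) s1158 0 a1158 := aux_base3 tw92 rfl b1158
theorem x1158_1 : AuxS.{u} (cP4r 2 0) s1158 0 a1158_1 := x1158
theorem x1158_2 : AuxS.{u} (cP4r 2 0) s1158 0 a1158_2 := x1158_1
theorem n1158 : Sound.{u} (cP4r 2 0) s1158 0 :=
  (x1158_2.fr GamS.nil AllS.nil c1158_0 :)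
theorem x1159 : AuxS.{u} (cP4r 2 0) s1159 0 a1159 := aux_base3 tw93 rfl b1159
theorem x1159_1 : AuxS.{u} (cP4r 2 0) s1159 0 a1159_1 := x1159
theorem x1159_2 : AuxS.{u} (cP4r 2 0) s1159 0 a1159_2 := x1159_1
theorem n1159 : Sound.{u} (cP4r 2 0) s1159 0 :=
  (x1159_2.fr GamS.nil AllS.nil c1159_0 :)
theorem x1160 : AuxS.{u} (cP4r 2 0) s1160 0 a1160 := aux_base3 tw94 rfl b1160
theorem x1160_1 : AuxS.{u} (cP4r 2 0) s1160 0 a1160_1 := x1160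
theorem x1160_2 : AuxS.{u} (cP4r 2 0) s1160 0 a1160_2 := x1160_1
theorem n1160 : Sound.{u} (cP4r 2 0) s1160 0 :=
  (x1160_2.fr GamS.nil AllS.nil c1160_0 :)
theorem x1161 : AuxS.{u} (cP4r 2 0) s1161 0 a1161 := aux_base3 tw95 rfl b1161
theorem x1161_1 : AuxS.{u} (cP4r 2 0) s1161 0 a1161_1 := x1161
theorem x1161_2 : AuxS.{u} (cP4r 2 0) s1161 0 a1161_2 := x1161_1
theorem n1161 : Sound.{u} (cP4r 2 0) s1161 0 :=
  (x1161_2.fr GamS.nil AllS.nil c1161_0 :)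
theorem x1162 : AuxS.{u} (cP4r 2 0) s1162 0 a1162 := aux_base3 tw96 rfl b1162
theorem x1162_1 : AuxS.{u} (cP4r 2 0) s1162 0 a1162_1 := x1162
theorem x1162_2 : AuxS.{u} (cP4r 2 0) s1162 0 a1162_2 := x1162_1
theorem n1162 : Sound.{u} (cP4r 2 0) s1162 0 :=
  (x1162_2.fr GamS.nil AllS.nil c1162_0 :)
theorem x1163 : AuxS.{u} (cP4r 2 0) s1163 0 a1163 := aux_base3 tw97 rfl b1163
theorem x1163_1 : AuxS.{u} (cP4r 2 0) s1163 0 a1163_1 := x1163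
theorem x1163_2 : AuxS.{u} (cP4r 2 0) s1163 0 a1163_2 := x1163_1
theorem n1163 : Sound.{u} (cP4r 2 0) s1163 0 :=
  (x1163_2.fr GamS.nil AllS.nil c1163_0 :)
theorem x1164 : AuxS.{u} (cP4r 2 0) s1164 0 a1164 := aux_base3 tw98 rfl b1164
theorem x1164_1 : AuxS.{u} (cP4r 2 0) s1164 0 a1164_1 := x1164
theorem x1164_2 : AuxS.{u} (cP4r 2 0) s1164 0 a1164_2 := x1164_1
theorem n1164 : Sound.{u} (cP4r 2 0) s1164 0 :=
  (x1164_2.fr GamS.nil AllS.nil c1164_0 :)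
theorem x1165 : AuxS.{u} (cP4r 2 0) s1165 0 a1165 := aux_base3 tw99 rfl b1165
theorem n1165 : Sound.{u} (cP4r 2 0) s1165 0 :=
  (x1165.k3 c1165_0 :)
theorem x1166 : AuxS.{u} (cP4r 2 0) s1166 0 a1166 := aux_base3 tw100 rfl b1166
theorem n1166 : Sound.{u} (cP4r 2 0) s1166 0 :=
  (x1166.k3 c1166_0 :)
theorem x1148 : AuxS.{u} (cP4r 2 0) s1148 0 a1148 := aux_base3 tw34 rfl b1148
theorem x1148_1 : AuxS.{u} (cP4r 2 0) s1148 0 a1148_1 := (AuxS.up x1148 c1148_6 :)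
theorem x1148_2 : AuxS.{u} (cP4r 2 0) s1148 0 a1148_2 := (AuxS.up2 x1148_1 c1148_7 :)
theorem x1148_3 : AuxS.{u} (cP4r 2 0) s1148 0 a1148_3 := (AuxS.up x1148_2 c1148_8 :)
theorem p1148_0_1 : Phs s1148 a1148_3 (List.map Prod.fst g1148_0) [s1149, s1150, s1151, s1152, s1153, s1154, s1155, s1156, s1157, s1158, s1159, s1160, s1161, s1162, s1163, s1164, s1165, s1166] ct1148_0 v1148_0 5 w1148_0_1 := (Phs.fin c1148_1)
theorem p1148_0_3 : Phs s1148 a1148_3 (List.map Prod.fst g1148_0) [s1149, s1150, s1151, s1152, s1153, s1154, s1155, s1156, s1157, s1158, s1159, s1160, s1161, s1162, s1163, s1164, s1165, s1166] ct1148_0 v1148_0 4 w1148_0_3 := (Phs.stp c1148_2 p1148_0_1)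
theorem p1148_0_5 : Phs s1148 a1148_3 (List.map Prod.fst g1148_0) [s1149, s1150, s1151, s1152, s1153, s1154, s1155, s1156, s1157, s1158, s1159, s1160, s1161, s1162, s1163, s1164, s1165, s1166] ct1148_0 v1148_0 1 w1148_0_5 := (Phs.stp c1148_3 p1148_0_3)
theorem n1148 : Sound.{u} (cP4r 2 0) s1148 0 :=
  (x1148_3.ext2 (fun h => absurd h (by decide)) (AuxS.gam x1148_3 c1148_0) (AllS.cons n1149 (AllS.cons n1150 (AllS.cons n1151 (AllS.cons n1152 (AllS.cons n1153 (AllS.cons n1154 (AllS.cons n1155 (AllS.cons n1156 (AllS.cons n1157 (AllS.cons n1158 (AllS.cons n1159 (AllS.cons n1160 (AllS.cons n1161 (AllS.cons n1162 (AllS.cons n1163 (AllS.cons n1164 (AllS.cons n1165 (AllS.cons n1166 AllS.nil)))))))))))))))))) c1148_5 (Phs.stp c1148_4 p1148_0_5) (Phs.fin (ct := ct1148_0) rfl) :)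
theorem x1147 : AuxS.{u} (cP4r 2 0) s1147 0 a1147 := aux_base3 tw82 rfl b1147
theorem x1147_1 : AuxS.{u} (cP4r 2 0) s1147 0 a1147_1 := x1147
theorem x1147_2 : AuxS.{u} (cP4r 2 0) s1147 0 a1147_2 := x1147_1
theorem n1147 : Sound.{u} (cP4r 2 0) s1147 0 :=
  (x1147_2.jump c1147_0 c1147_1 n1148 :)
theorem x34 : AuxS.{u} (cP4r 2 0) s34 0 a34 := aux_base3 tw34 rfl b34
theorem x34_1 : AuxS.{u} (cP4r 2 0) s34 0 a34_1 := x34
theorem x34_2 : AuxS.{u} (cP4r 2 0) s34 0 a34_2 := x34_1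
theorem p34_0_1 : Phs s34 a34_2 (List.map Prod.fst g34_0) [s1146, s1147] ct34_0 v34_0 5 w34_0_1 := (Phs.fin c34_1)
theorem n34 : Sound.{u} (cP4r 2 0) s34 0 :=
  (x34_2.ext2 (fun h => absurd h (by decide)) (AuxS.gam x34_2 c34_0) (AllS.cons n1146 (AllS.cons n1147 AllS.nil)) c34_3 (Phs.fin (ct := ct34_0) rfl) (Phs.stp c34_2 p34_0_1) :)
theorem x35 : AuxS.{u} (cP4r 2 0) s35 0 a35 := aux_base3 tw35 rfl b35
theorem x35_1 : AuxS.{u} (cP4r 2 0) s35 0 a35_1 := x35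
theorem x35_2 : AuxS.{u} (cP4r 2 0) s35 0 a35_2 := x35_1
theorem p35_0_1 : Phs s35 a35_2 [] [] ct35_0 v35_0 5 w35_0_1 := (Phs.fin c35_0)
theorem n35 : Sound.{u} (cP4r 2 0) s35 0 :=
  (x35_2.ext2 (fun h => absurd h (by decide)) GamS.nil AllS.nil c35_2 (Phs.fin (ct := ct35_0) rfl) (Phs.stp c35_1 p35_0_1) :)
theorem x36 : AuxS.{u} (cP4r 2 0) s36 0 a36 := aux_base3 tw36 rfl b36
theorem x36_1 : AuxS.{u} (cP4r 2 0) s36 0 a36_1 := x36
theorem x36_2 : AuxS.{u} (cP4r 2 0) s36 0 a36_2 := x36_1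
theorem p36_0_1 : Phs s36 a36_2 [] [] ct36_0 v36_0 5 w36_0_1 := (Phs.fin c36_0)
theorem n36 : Sound.{u} (cP4r 2 0) s36 0 :=
  (x36_2.ext2 (fun h => absurd h (by decide)) GamS.nil AllS.nil c36_2 (Phs.fin (ct := ct36_0) rfl) (Phs.stp c36_1 p36_0_1) :)
theorem x37 : AuxS.{u} (cP4r 2 0) s37 0 a37 := aux_base3 tw37 rfl b37
theorem x37_1 : AuxS.{u} (cP4r 2 0) s37 0 a37_1 := x37
theorem x37_2 : AuxS.{u} (cP4r 2 0) s37 0 a37_2 := x37_1
theorem p37_0_1 : Phs s37 a37_2 [] [] ct37_0 v37_0 5 w37_0_1 := (Phs.fin c37_0)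
theorem n37 : Sound.{u} (cP4r 2 0) s37 0 :=
  (x37_2.ext2 (fun h => absurd h (by decide)) GamS.nil AllS.nil c37_2 (Phs.fin (ct := ct37_0) rfl) (Phs.stp c37_1 p37_0_1) :)
theorem x38 : AuxS.{u} (cP4r 2 0) s38 0 a38 := aux_base3 tw38 rfl b38
theorem x38_1 : AuxS.{u} (cP4r 2 0) s38 0 a38_1 := x38
theorem x38_2 : AuxS.{u} (cP4r 2 0) s38 0 a38_2 := x38_1
theorem p38_0_1 : Phs s38 a38_2 [] [] ct38_0 v38_0 5 w38_0_1 := (Phs.fin c38_0)
theorem n38 : Sound.{u} (cP4r 2 0) s38 0 :=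
  (x38_2.ext2 (fun h => absurd h (by decide)) GamS.nil AllS.nil c38_2 (Phs.fin (ct := ct38_0) rfl) (Phs.stp c38_1 p38_0_1) :)
theorem x1167 : AuxS.{u} (cP4r 2 0) s1167 0 a1167 := aux_base3 tw101 rfl b1167
theorem x1167_1 : AuxS.{u} (cP4r 2 0) s1167 0 a1167_1 := (AuxS.up x1167 c1167_1 :)
theorem x1167_2 : AuxS.{u} (cP4r 2 0) s1167 0 a1167_2 := (AuxS.up2 x1167_1 c1167_2 :)
theorem x1167_3 : AuxS.{u} (cP4r 2 0) s1167 0 a1167_3 := (AuxS.up2 x1167_2 c1167_3 :)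
theorem n1167 : Sound.{u} (cP4r 2 0) s1167 0 :=
  (x1167_3.k7 c1167_0 :)
theorem x1188 : AuxS.{u} (cP4r 2 0) s1188 0 a1188 := aux_base3 tw103 rfl b1188
theorem n1188 : Sound.{u} (cP4r 2 0) s1188 0 :=
  (x1188.k4 c1188_0 :)
theorem x1189 : AuxS.{u} (cP4r 2 0) s1189 0 a1189 := aux_base3 tw103 rfl b1189
theorem n1189 : Sound.{u} (cP4r 2 0) s1189 0 :=
  (x1189.k4 c1189_0 :)
theorem x1190 : AuxS.{u} (cP4r 2 0) s1190 0 a1190 := aux_base3 tw103 rfl b1190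
theorem n1190 : Sound.{u} (cP4r 2 0) s1190 0 :=
  (x1190.k4 c1190_0 :)
theorem x1191 : AuxS.{u} (cP4r 2 0) s1191 0 a1191 := aux_base3 tw103 rfl b1191
theorem n1191 : Sound.{u} (cP4r 2 0) s1191 0 :=
  (x1191.k4 c1191_0 :)
theorem x1192 : AuxS.{u} (cP4r 2 0) s1192 0 a1192 := aux_base3 tw103 rfl b1192
theorem n1192 : Sound.{u} (cP4r 2 0) s1192 0 :=
  (x1192.k4 c1192_0 :)
theorem x1193 : AuxS.{u} (cP4r 2 0) s1193 0 a1193 := aux_base3 tw103 rfl b1193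
theorem n1193 : Sound.{u} (cP4r 2 0) s1193 0 :=
  (x1193.k4 c1193_0 :)
theorem x1194 : AuxS.{u} (cP4r 2 0) s1194 0 a1194 := aux_base3 tw103 rfl b1194
theorem n1194 : Sound.{u} (cP4r 2 0) s1194 0 :=
  (x1194.k4 c1194_0 :)
theorem x1195 : AuxS.{u} (cP4r 2 0) s1195 0 a1195 := aux_base3 tw103 rfl b1195
theorem n1195 : Sound.{u} (cP4r 2 0) s1195 0 :=
  (x1195.k4 c1195_0 :)
theorem x1196 : AuxS.{u} (cP4r 2 0) s1196 0 a1196 := aux_base3 tw103 rfl b1196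
theorem n1196 : Sound.{u} (cP4r 2 0) s1196 0 :=
  (x1196.k4 c1196_0 :)
theorem x1197 : AuxS.{u} (cP4r 2 0) s1197 0 a1197 := aux_base3 tw103 rfl b1197
theorem n1197 : Sound.{u} (cP4r 2 0) s1197 0 :=
  (x1197.k4 c1197_0 :)
theorem x1198 : AuxS.{u} (cP4r 2 0) s1198 0 a1198 := aux_base3 tw103 rfl b1198
theorem n1198 : Sound.{u} (cP4r 2 0) s1198 0 :=
  (x1198.k4 c1198_0 :)
theorem x1199 : AuxS.{u} (cP4r 2 0) s1199 0 a1199 := aux_base3 tw103 rfl b1199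
theorem n1199 : Sound.{u} (cP4r 2 0) s1199 0 :=
  (x1199.k4 c1199_0 :)
theorem x1200 : AuxS.{u} (cP4r 2 0) s1200 0 a1200 := aux_base3 tw103 rfl b1200
theorem n1200 : Sound.{u} (cP4r 2 0) s1200 0 :=
  (x1200.k4 c1200_0 :)
theorem x1201 : AuxS.{u} (cP4r 2 0) s1201 0 a1201 := aux_base3 tw103 rfl b1201
theorem n1201 : Sound.{u} (cP4r 2 0) s1201 0 :=
  (x1201.k4 c1201_0 :)
theorem x1202 : AuxS.{u} (cP4r 2 0) s1202 0 a1202 := aux_base3 tw103 rfl b1202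
theorem n1202 : Sound.{u} (cP4r 2 0) s1202 0 :=
  (x1202.k4 c1202_0 :)
theorem x1203 : AuxS.{u} (cP4r 2 0) s1203 0 a1203 := aux_base3 tw103 rfl b1203
theorem n1203 : Sound.{u} (cP4r 2 0) s1203 0 :=
  (x1203.k4 c1203_0 :)
theorem x1204 : AuxS.{u} (cP4r 2 0) s1204 0 a1204 := aux_base3 tw103 rfl b1204
theorem n1204 : Sound.{u} (cP4r 2 0) s1204 0 :=
  (x1204.k4 c1204_0 :)
theorem x1220 : AuxS.{u} (cP4r 2 0) s1220 0 a1220 := aux_base3 tw121 rfl b1220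
theorem n1220 : Sound.{u} (cP4r 2 0) s1220 0 :=
  (x1220.k3 c1220_0 :)
theorem x1221 : AuxS.{u} (cP4r 2 0) s1221 0 a1221 := aux_base3 tw122 rfl b1221
theorem n1221 : Sound.{u} (cP4r 2 0) s1221 0 :=
  (x1221.k3 c1221_0 :)
theorem x1205 : AuxS.{u} (cP4r 2 0) s1205 0 a1205 := aux_base3 tw103 rfl b1205
theorem x1205_1 : AuxS.{u} (cP4r 2 0) s1205 0 a1205_1 := x1205
theorem n1205 : Sound.{u} (cP4r 2 0) s1205 0 :=
  (x1205_1.fr2 GamS.nil (AllS.cons n1220 (AllS.cons n1221 AllS.nil)) c1205_0 :)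
theorem x1206 : AuxS.{u} (cP4r 2 0) s1206 0 a1206 := aux_base3 tw103 rfl b1206
theorem n1206 : Sound.{u} (cP4r 2 0) s1206 0 :=
  (x1206.k4 c1206_0 :)
theorem x1207 : AuxS.{u} (cP4r 2 0) s1207 0 a1207 := aux_base3 tw103 rfl b1207
theorem n1207 : Sound.{u} (cP4r 2 0) s1207 0 :=
  (x1207.k4 c1207_0 :)
theorem x1208 : AuxS.{u} (cP4r 2 0) s1208 0 a1208 := aux_base3 tw103 rfl b1208
theorem n1208 : Sound.{u} (cP4r 2 0) s1208 0 :=
  (x1208.k4 c1208_0 :)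
theorem x1209 : AuxS.{u} (cP4r 2 0) s1209 0 a1209 := aux_base3 tw103 rfl b1209
theorem n1209 : Sound.{u} (cP4r 2 0) s1209 0 :=
  (x1209.k4 c1209_0 :)
theorem x1210 : AuxS.{u} (cP4r 2 0) s1210 0 a1210 := aux_base3 tw103 rfl b1210
theorem n1210 : Sound.{u} (cP4r 2 0) s1210 0 :=
  (x1210.k4 c1210_0 :)
theorem x1211 : AuxS.{u} (cP4r 2 0) s1211 0 a1211 := aux_base3 tw103 rfl b1211
theorem n1211 : Sound.{u} (cP4r 2 0) s1211 0 :=
  (x1211.k4 c1211_0 :)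
theorem x1212 : AuxS.{u} (cP4r 2 0) s1212 0 a1212 := aux_base3 tw103 rfl b1212
theorem n1212 : Sound.{u} (cP4r 2 0) s1212 0 :=
  (x1212.k4 c1212_0 :)
theorem x1213 : AuxS.{u} (cP4r 2 0) s1213 0 a1213 := aux_base3 tw103 rfl b1213
theorem n1213 : Sound.{u} (cP4r 2 0) s1213 0 :=
  (x1213.k4 c1213_0 :)
theorem x1214 : AuxS.{u} (cP4r 2 0) s1214 0 a1214 := aux_base3 tw103 rfl b1214
theorem n1214 : Sound.{u} (cP4r 2 0) s1214 0 :=
  (x1214.k4 c1214_0 :)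
theorem x1215 : AuxS.{u} (cP4r 2 0) s1215 0 a1215 := aux_base3 tw103 rfl b1215
theorem n1215 : Sound.{u} (cP4r 2 0) s1215 0 :=
  (x1215.k4 c1215_0 :)
theorem x1216 : AuxS.{u} (cP4r 2 0) s1216 0 a1216 := aux_base3 tw103 rfl b1216
theorem n1216 : Sound.{u} (cP4r 2 0) s1216 0 :=
  (x1216.k4 c1216_0 :)
theorem x1217 : AuxS.{u} (cP4r 2 0) s1217 0 a1217 := aux_base3 tw103 rfl b1217
theorem n1217 : Sound.{u} (cP4r 2 0) s1217 0 :=
  (x1217.k4 c1217_0 :)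
theorem x1218 : AuxS.{u} (cP4r 2 0) s1218 0 a1218 := aux_base3 tw103 rfl b1218
theorem n1218 : Sound.{u} (cP4r 2 0) s1218 0 :=
  (x1218.k4 c1218_0 :)
theorem x1219 : AuxS.{u} (cP4r 2 0) s1219 0 a1219 := aux_base3 tw103 rfl b1219
theorem n1219 : Sound.{u} (cP4r 2 0) s1219 0 :=
  (x1219.k4 c1219_0 :)
theorem x1170 : AuxS.{u} (cP4r 2 0) s1170 0 a1170 := aux_base3 tw103 rfl b1170
theorem x1170_1 : AuxS.{u} (cP4r 2 0) s1170 0 a1170_1 := x1170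
theorem n1170 : Sound.{u} (cP4r 2 0) s1170 0 :=
  (x1170_1.fr (AuxS.gam x1170_1 c1170_0) (AllS.cons n1188 (AllS.cons n1189 (AllS.cons n1190 (AllS.cons n1191 (AllS.cons n1192 (AllS.cons n1193 (AllS.cons n1194 (AllS.cons n1195 (AllS.cons n1196 (AllS.cons n1197 (AllS.cons n1198 (AllS.cons n1199 (AllS.cons n1200 (AllS.cons n1201 (AllS.cons n1202 (AllS.cons n1203 (AllS.cons n1204 (AllS.cons n1205 (AllS.cons n1206 (AllS.cons n1207 (AllS.cons n1208 (AllS.cons n1209 (AllS.cons n1210 (AllS.cons n1211 (AllS.cons n1212 (AllS.cons n1213 (AllS.cons n1214 (AllS.cons n1215 (AllS.cons n1216 (AllS.cons n1217 (AllS.cons n1218 (AllS.cons n1219 AllS.nil)))))))))))))))))))))))))))))))) c1170_1 :)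
theorem x1171 : AuxS.{u} (cP4r 2 0) s1171 0 a1171 := aux_base3 tw104 rfl b1171
theorem x1171_1 : AuxS.{u} (cP4r 2 0) s1171 0 a1171_1 := x1171
theorem n1171 : Sound.{u} (cP4r 2 0) s1171 0 :=
  (x1171_1.fr GamS.nil AllS.nil c1171_0 :)
theorem x1172 : AuxS.{u} (cP4r 2 0) s1172 0 a1172 := aux_base3 tw105 rfl b1172
theorem x1172_1 : AuxS.{u} (cP4r 2 0) s1172 0 a1172_1 := x1172
theorem n1172 : Sound.{u} (cP4r 2 0) s1172 0 :=
  (x1172_1.fr GamS.nil AllS.nil c1172_0 :)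
theorem x1173 : AuxS.{u} (cP4r 2 0) s1173 0 a1173 := aux_base3 tw106 rfl b1173
theorem x1173_1 : AuxS.{u} (cP4r 2 0) s1173 0 a1173_1 := x1173
theorem n1173 : Sound.{u} (cP4r 2 0) s1173 0 :=
  (x1173_1.fr GamS.nil AllS.nil c1173_0 :)
theorem x1174 : AuxS.{u} (cP4r 2 0) s1174 0 a1174 := aux_base3 tw107 rfl b1174
theorem x1174_1 : AuxS.{u} (cP4r 2 0) s1174 0 a1174_1 := x1174
theorem n1174 : Sound.{u} (cP4r 2 0) s1174 0 :=
  (x1174_1.fr GamS.nil AllS.nil c1174_0 :)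
theorem x1175 : AuxS.{u} (cP4r 2 0) s1175 0 a1175 := aux_base3 tw108 rfl b1175
theorem x1175_1 : AuxS.{u} (cP4r 2 0) s1175 0 a1175_1 := x1175
theorem n1175 : Sound.{u} (cP4r 2 0) s1175 0 :=
  (x1175_1.fr GamS.nil AllS.nil c1175_0 :)
theorem x1176 : AuxS.{u} (cP4r 2 0) s1176 0 a1176 := aux_base3 tw109 rfl b1176
theorem x1176_1 : AuxS.{u} (cP4r 2 0) s1176 0 a1176_1 := x1176
theorem n1176 : Sound.{u} (cP4r 2 0) s1176 0 :=
  (x1176_1.fr GamS.nil AllS.nil c1176_0 :)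
theorem x1177 : AuxS.{u} (cP4r 2 0) s1177 0 a1177 := aux_base3 tw110 rfl b1177
theorem x1177_1 : AuxS.{u} (cP4r 2 0) s1177 0 a1177_1 := x1177
theorem n1177 : Sound.{u} (cP4r 2 0) s1177 0 :=
  (x1177_1.fr GamS.nil AllS.nil c1177_0 :)
theorem x1178 : AuxS.{u} (cP4r 2 0) s1178 0 a1178 := aux_base3 tw111 rfl b1178
theorem n1178 : Sound.{u} (cP4r 2 0) s1178 0 :=
  (x1178.k4 c1178_0 :)
theorem x1179 : AuxS.{u} (cP4r 2 0) s1179 0 a1179 := aux_base3 tw112 rfl b1179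
theorem n1179 : Sound.{u} (cP4r 2 0) s1179 0 :=
  (x1179.k4 c1179_0 :)
theorem x1180 : AuxS.{u} (cP4r 2 0) s1180 0 a1180 := aux_base3 tw113 rfl b1180
theorem n1180 : Sound.{u} (cP4r 2 0) s1180 0 :=
  (x1180.k4 c1180_0 :)
theorem x1181 : AuxS.{u} (cP4r 2 0) s1181 0 a1181 := aux_base3 tw114 rfl b1181
theorem n1181 : Sound.{u} (cP4r 2 0) s1181 0 :=
  (x1181.k4 c1181_0 :)
theorem x1182 : AuxS.{u} (cP4r 2 0) s1182 0 a1182 := aux_base3 tw115 rfl b1182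
theorem n1182 : Sound.{u} (cP4r 2 0) s1182 0 :=
  (x1182.k4 c1182_0 :)
theorem x1183 : AuxS.{u} (cP4r 2 0) s1183 0 a1183 := aux_base3 tw116 rfl b1183
theorem n1183 : Sound.{u} (cP4r 2 0) s1183 0 :=
  (x1183.k4 c1183_0 :)
theorem x1184 : AuxS.{u} (cP4r 2 0) s1184 0 a1184 := aux_base3 tw117 rfl b1184
theorem n1184 : Sound.{u} (cP4r 2 0) s1184 0 :=
  (x1184.k4 c1184_0 :)
theorem x1185 : AuxS.{u} (cP4r 2 0) s1185 0 a1185 := aux_base3 tw118 rfl b1185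
theorem n1185 : Sound.{u} (cP4r 2 0) s1185 0 :=
  (x1185.k4 c1185_0 :)
theorem x1186 : AuxS.{u} (cP4r 2 0) s1186 0 a1186 := aux_base3 tw119 rfl b1186
theorem n1186 : Sound.{u} (cP4r 2 0) s1186 0 :=
  (x1186.k3 c1186_0 :)
theorem x1187 : AuxS.{u} (cP4r 2 0) s1187 0 a1187 := aux_base3 tw120 rfl b1187
theorem n1187 : Sound.{u} (cP4r 2 0) s1187 0 :=
  (x1187.k3 c1187_0 :)
theorem x1169 : AuxS.{u} (cP4r 2 0) s1169 0 a1169 := aux_base3 tw39 rfl b1169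
theorem x1169_1 : AuxS.{u} (cP4r 2 0) s1169 0 a1169_1 := (AuxS.up x1169 c1169_6 :)
theorem x1169_2 : AuxS.{u} (cP4r 2 0) s1169 0 a1169_2 := (AuxS.up2 x1169_1 c1169_7 :)
theorem x1169_3 : AuxS.{u} (cP4r 2 0) s1169 0 a1169_3 := (AuxS.up x1169_2 c1169_8 :)
theorem p1169_0_1 : Phs s1169 a1169_3 (List.map Prod.fst g1169_0) [s1170, s1171, s1172, s1173, s1174, s1175, s1176, s1177, s1178, s1179, s1180, s1181, s1182, s1183, s1184, s1185, s1186, s1187] ct1169_0 v1169_0 5 w1169_0_1 := (Phs.fin c1169_1)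
theorem p1169_0_3 : Phs s1169 a1169_3 (List.map Prod.fst g1169_0) [s1170, s1171, s1172, s1173, s1174, s1175, s1176, s1177, s1178, s1179, s1180, s1181, s1182, s1183, s1184, s1185, s1186, s1187] ct1169_0 v1169_0 4 w1169_0_3 := (Phs.stp c1169_2 p1169_0_1)
theorem p1169_0_5 : Phs s1169 a1169_3 (List.map Prod.fst g1169_0) [s1170, s1171, s1172, s1173, s1174, s1175, s1176, s1177, s1178, s1179, s1180, s1181, s1182, s1183, s1184, s1185, s1186, s1187] ct1169_0 v1169_0 1 w1169_0_5 := (Phs.stp c1169_3 p1169_0_3)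
theorem n1169 : Sound.{u} (cP4r 2 0) s1169 0 :=
  (x1169_3.ext2 (fun h => absurd h (by decide)) (AuxS.gam x1169_3 c1169_0) (AllS.cons n1170 (AllS.cons n1171 (AllS.cons n1172 (AllS.cons n1173 (AllS.cons n1174 (AllS.cons n1175 (AllS.cons n1176 (AllS.cons n1177 (AllS.cons n1178 (AllS.cons n1179 (AllS.cons n1180 (AllS.cons n1181 (AllS.cons n1182 (AllS.cons n1183 (AllS.cons n1184 (AllS.cons n1185 (AllS.cons n1186 (AllS.cons n1187 AllS.nil)))))))))))))))))) c1169_5 (Phs.stp c1169_4 p1169_0_5) (Phs.fin (ct := ct1169_0) rfl) :)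
theorem x1168 : AuxS.{u} (cP4r 2 0) s1168 0 a1168 := aux_base3 tw102 rfl b1168
theorem x1168_1 : AuxS.{u} (cP4r 2 0) s1168 0 a1168_1 := x1168
theorem x1168_2 : AuxS.{u} (cP4r 2 0) s1168 0 a1168_2 := x1168_1
theorem n1168 : Sound.{u} (cP4r 2 0) s1168 0 :=
  (x1168_2.jump c1168_0 c1168_1 n1169 :)
theorem x39 : AuxS.{u} (cP4r 2 0) s39 0 a39 := aux_base3 tw39 rfl b39
theorem x39_1 : AuxS.{u} (cP4r 2 0) s39 0 a39_1 := x39
theorem x39_2 : AuxS.{u} (cP4r 2 0) s39 0 a39_2 := x39_1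
theorem p39_0_1 : Phs s39 a39_2 (List.map Prod.fst g39_0) [s1167, s1168] ct39_0 v39_0 5 w39_0_1 := (Phs.fin c39_1)
theorem n39 : Sound.{u} (cP4r 2 0) s39 0 :=
  (x39_2.ext2 (fun h => absurd h (by decide)) (AuxS.gam x39_2 c39_0) (AllS.cons n1167 (AllS.cons n1168 AllS.nil)) c39_3 (Phs.fin (ct := ct39_0) rfl) (Phs.stp c39_2 p39_0_1) :)
theorem x1222 : AuxS.{u} (cP4r 2 0) s1222 0 a1222 := aux_base3 tw123 rfl b1222
theorem x1222_1 : AuxS.{u} (cP4r 2 0) s1222 0 a1222_1 := (AuxS.up x1222 c1222_1 :)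
theorem x1222_2 : AuxS.{u} (cP4r 2 0) s1222 0 a1222_2 := (AuxS.up2 x1222_1 c1222_2 :)
theorem x1222_3 : AuxS.{u} (cP4r 2 0) s1222 0 a1222_3 := (AuxS.up2 x1222_2 c1222_3 :)
theorem n1222 : Sound.{u} (cP4r 2 0) s1222 0 :=
  (x1222_3.k7 c1222_0 :)
theorem x1225 : AuxS.{u} (cP4r 2 0) s1225 0 a1225 := aux_base3 tw125 rfl b1225
theorem x1225_1 : AuxS.{u} (cP4r 2 0) s1225 0 a1225_1 := x1225
theorem x1225_2 : AuxS.{u} (cP4r 2 0) s1225 0 a1225_2 := x1225_1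
theorem n1225 : Sound.{u} (cP4r 2 0) s1225 0 :=
  (x1225_2.fr GamS.nil AllS.nil c1225_0 :)
theorem x1226 : AuxS.{u} (cP4r 2 0) s1226 0 a1226 := aux_base3 tw126 rfl b1226
theorem x1226_1 : AuxS.{u} (cP4r 2 0) s1226 0 a1226_1 := x1226
theorem x1226_2 : AuxS.{u} (cP4r 2 0) s1226 0 a1226_2 := x1226_1
theorem n1226 : Sound.{u} (cP4r 2 0) s1226 0 :=
  (x1226_2.fr GamS.nil AllS.nil c1226_0 :)
theorem x1227 : AuxS.{u} (cP4r 2 0) s1227 0 a1227 := aux_base3 tw127 rfl b1227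
theorem x1227_1 : AuxS.{u} (cP4r 2 0) s1227 0 a1227_1 := x1227
theorem x1227_2 : AuxS.{u} (cP4r 2 0) s1227 0 a1227_2 := x1227_1
theorem n1227 : Sound.{u} (cP4r 2 0) s1227 0 :=
  (x1227_2.fr GamS.nil AllS.nil c1227_0 :)
theorem x1228 : AuxS.{u} (cP4r 2 0) s1228 0 a1228 := aux_base3 tw128 rfl b1228
theorem x1228_1 : AuxS.{u} (cP4r 2 0) s1228 0 a1228_1 := x1228
theorem x1228_2 : AuxS.{u} (cP4r 2 0) s1228 0 a1228_2 := x1228_1
theorem n1228 : Sound.{u} (cP4r 2 0) s1228 0 :=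
  (x1228_2.fr GamS.nil AllS.nil c1228_0 :)
theorem x1229 : AuxS.{u} (cP4r 2 0) s1229 0 a1229 := aux_base3 tw129 rfl b1229
theorem x1229_1 : AuxS.{u} (cP4r 2 0) s1229 0 a1229_1 := x1229
theorem x1229_2 : AuxS.{u} (cP4r 2 0) s1229 0 a1229_2 := x1229_1
theorem n1229 : Sound.{u} (cP4r 2 0) s1229 0 :=
  (x1229_2.fr GamS.nil AllS.nil c1229_0 :)
theorem x1230 : AuxS.{u} (cP4r 2 0) s1230 0 a1230 := aux_base3 tw130 rfl b1230
theorem x1230_1 : AuxS.{u} (cP4r 2 0) s1230 0 a1230_1 := x1230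
theorem x1230_2 : AuxS.{u} (cP4r 2 0) s1230 0 a1230_2 := x1230_1
theorem n1230 : Sound.{u} (cP4r 2 0) s1230 0 :=
  (x1230_2.fr GamS.nil AllS.nil c1230_0 :)
theorem x1231 : AuxS.{u} (cP4r 2 0) s1231 0 a1231 := aux_base3 tw131 rfl b1231
theorem x1231_1 : AuxS.{u} (cP4r 2 0) s1231 0 a1231_1 := x1231
theorem x1231_2 : AuxS.{u} (cP4r 2 0) s1231 0 a1231_2 := x1231_1
theorem n1231 : Sound.{u} (cP4r 2 0) s1231 0 :=
  (x1231_2.fr GamS.nil AllS.nil c1231_0 :)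
theorem x1232 : AuxS.{u} (cP4r 2 0) s1232 0 a1232 := aux_base3 tw132 rfl b1232
theorem x1232_1 : AuxS.{u} (cP4r 2 0) s1232 0 a1232_1 := x1232
theorem x1232_2 : AuxS.{u} (cP4r 2 0) s1232 0 a1232_2 := x1232_1
theorem n1232 : Sound.{u} (cP4r 2 0) s1232 0 :=
  (x1232_2.fr GamS.nil AllS.nil c1232_0 :)
theorem x1233 : AuxS.{u} (cP4r 2 0) s1233 0 a1233 := aux_base3 tw133 rfl b1233
theorem n1233 : Sound.{u} (cP4r 2 0) s1233 0 :=
  (x1233.k4 c1233_0 :)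
theorem x1234 : AuxS.{u} (cP4r 2 0) s1234 0 a1234 := aux_base3 tw134 rfl b1234
theorem n1234 : Sound.{u} (cP4r 2 0) s1234 0 :=
  (x1234.k4 c1234_0 :)
theorem x1235 : AuxS.{u} (cP4r 2 0) s1235 0 a1235 := aux_base3 tw135 rfl b1235
theorem n1235 : Sound.{u} (cP4r 2 0) s1235 0 :=
  (x1235.k4 c1235_0 :)
theorem x1236 : AuxS.{u} (cP4r 2 0) s1236 0 a1236 := aux_base3 tw136 rfl b1236
theorem n1236 : Sound.{u} (cP4r 2 0) s1236 0 :=
  (x1236.k4 c1236_0 :)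
theorem x1237 : AuxS.{u} (cP4r 2 0) s1237 0 a1237 := aux_base3 tw137 rfl b1237
theorem n1237 : Sound.{u} (cP4r 2 0) s1237 0 :=
  (x1237.k4 c1237_0 :)
theorem x1238 : AuxS.{u} (cP4r 2 0) s1238 0 a1238 := aux_base3 tw138 rfl b1238
theorem n1238 : Sound.{u} (cP4r 2 0) s1238 0 :=
  (x1238.k4 c1238_0 :)
theorem x1239 : AuxS.{u} (cP4r 2 0) s1239 0 a1239 := aux_base3 tw139 rfl b1239
theorem n1239 : Sound.{u} (cP4r 2 0) s1239 0 :=
  (x1239.k4 c1239_0 :)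
theorem x1240 : AuxS.{u} (cP4r 2 0) s1240 0 a1240 := aux_base3 tw140 rfl b1240
theorem n1240 : Sound.{u} (cP4r 2 0) s1240 0 :=
  (x1240.k4 c1240_0 :)
theorem x1241 : AuxS.{u} (cP4r 2 0) s1241 0 a1241 := aux_base3 tw141 rfl b1241
theorem n1241 : Sound.{u} (cP4r 2 0) s1241 0 :=
  (x1241.k3 c1241_0 :)
theorem x1242 : AuxS.{u} (cP4r 2 0) s1242 0 a1242 := aux_base3 tw142 rfl b1242
theorem n1242 : Sound.{u} (cP4r 2 0) s1242 0 :=
  (x1242.k3 c1242_0 :)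
theorem x1224 : AuxS.{u} (cP4r 2 0) s1224 0 a1224 := aux_base3 tw40 rfl b1224
theorem x1224_1 : AuxS.{u} (cP4r 2 0) s1224 0 a1224_1 := (AuxS.up x1224 c1224_6 :)
theorem x1224_2 : AuxS.{u} (cP4r 2 0) s1224 0 a1224_2 := (AuxS.up2 x1224_1 c1224_7 :)
theorem x1224_3 : AuxS.{u} (cP4r 2 0) s1224 0 a1224_3 := (AuxS.up x1224_2 c1224_8 :)
theorem p1224_0_1 : Phs s1224 a1224_3 (List.map Prod.fst g1224_0) [s1225, s1226, s1227, s1228, s1229, s1230, s1231, s1232, s1233, s1234, s1235, s1236, s1237, s1238, s1239, s1240, s1241, s1242] ct1224_0 v1224_0 5 w1224_0_1 := (Phs.fin c1224_1)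
theorem p1224_0_3 : Phs s1224 a1224_3 (List.map Prod.fst g1224_0) [s1225, s1226, s1227, s1228, s1229, s1230, s1231, s1232, s1233, s1234, s1235, s1236, s1237, s1238, s1239, s1240, s1241, s1242] ct1224_0 v1224_0 4 w1224_0_3 := (Phs.stp c1224_2 p1224_0_1)
theorem p1224_0_5 : Phs s1224 a1224_3 (List.map Prod.fst g1224_0) [s1225, s1226, s1227, s1228, s1229, s1230, s1231, s1232, s1233, s1234, s1235, s1236, s1237, s1238, s1239, s1240, s1241, s1242] ct1224_0 v1224_0 1 w1224_0_5 := (Phs.stp c1224_3 p1224_0_3)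
theorem n1224 : Sound.{u} (cP4r 2 0) s1224 0 :=
  (x1224_3.ext2 (fun h => absurd h (by decide)) (AuxS.gam x1224_3 c1224_0) (AllS.cons n1225 (AllS.cons n1226 (AllS.cons n1227 (AllS.cons n1228 (AllS.cons n1229 (AllS.cons n1230 (AllS.cons n1231 (AllS.cons n1232 (AllS.cons n1233 (AllS.cons n1234 (AllS.cons n1235 (AllS.cons n1236 (AllS.cons n1237 (AllS.cons n1238 (AllS.cons n1239 (AllS.cons n1240 (AllS.cons n1241 (AllS.cons n1242 AllS.nil)))))))))))))))))) c1224_5 (Phs.stp c1224_4 p1224_0_5) (Phs.fin (ct := ct1224_0) rfl) :)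
theorem x1223 : AuxS.{u} (cP4r 2 0) s1223 0 a1223 := aux_base3 tw124 rfl b1223
theorem x1223_1 : AuxS.{u} (cP4r 2 0) s1223 0 a1223_1 := x1223
theorem x1223_2 : AuxS.{u} (cP4r 2 0) s1223 0 a1223_2 := x1223_1
theorem n1223 : Sound.{u} (cP4r 2 0) s1223 0 :=
  (x1223_2.jump c1223_0 c1223_1 n1224 :)
theorem x40 : AuxS.{u} (cP4r 2 0) s40 0 a40 := aux_base3 tw40 rfl b40
theorem x40_1 : AuxS.{u} (cP4r 2 0) s40 0 a40_1 := x40
theorem x40_2 : AuxS.{u} (cP4r 2 0) s40 0 a40_2 := x40_1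
theorem p40_0_1 : Phs s40 a40_2 (List.map Prod.fst g40_0) [s1222, s1223] ct40_0 v40_0 5 w40_0_1 := (Phs.fin c40_1)
theorem n40 : Sound.{u} (cP4r 2 0) s40 0 :=
  (x40_2.ext2 (fun h => absurd h (by decide)) (AuxS.gam x40_2 c40_0) (AllS.cons n1222 (AllS.cons n1223 AllS.nil)) c40_3 (Phs.fin (ct := ct40_0) rfl) (Phs.stp c40_2 p40_0_1) :)
theorem x41 : AuxS.{u} (cP4r 2 0) s41 0 a41 := aux_base3 tw41 rfl b41
theorem n41 : Sound.{u} (cP4r 2 0) s41 0 :=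
  (x41.k3 c41_0 :)
theorem x42 : AuxS.{u} (cP4r 2 0) s42 0 a42 := aux_base3 tw42 rfl b42
theorem n42 : Sound.{u} (cP4r 2 0) s42 0 :=
  (x42.k3 c42_0 :)
theorem x1 : AuxS.{u} (cP4r 2 0) s1 0 a1 := aux_base3 tw1 rfl b1
theorem x1_1 : AuxS.{u} (cP4r 2 0) s1 0 a1_1 := (AuxS.up x1 c1_4 :)
theorem p1_0_1 : Phs s1 a1_1 [] [s33, s34, s35, s36, s37, s38, s39, s40, s41, s42] ct1_0 v1_0 4 w1_0_1 := (Phs.fin c1_0)
theorem p1_0_3 : Phs s1 a1_1 [] [s33, s34, s35, s36, s37, s38, s39, s40, s41, s42] ct1_0 v1_0 1 w1_0_3 := (Phs.stp c1_1 p1_0_1)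
theorem n1 : Sound.{u} (cP4r 2 0) s1 0 :=
  (x1_1.ext2 (fun h => absurd h (by decide)) GamS.nil (AllS.cons n33 (AllS.cons n34 (AllS.cons n35 (AllS.cons n36 (AllS.cons n37 (AllS.cons n38 (AllS.cons n39 (AllS.cons n40 (AllS.cons n41 (AllS.cons n42 AllS.nil)))))))))) c1_3 (Phs.stp c1_2 p1_0_3) (Phs.fin (ct := ct1_0) rfl) :)
theorem x2 : AuxS.{u} (cP4r 2 0) s2 0 a2 := aux_base3 tw2 rfl b2
theorem x2_1 : AuxS.{u} (cP4r 2 0) s2 0 a2_1 := (AuxS.up x2 c2_1 :)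
theorem n2 : Sound.{u} (cP4r 2 0) s2 0 :=
  (x2_1.k7 c2_0 :)
theorem x3 : AuxS.{u} (cP4r 2 0) s3 0 a3 := aux_base3 tw3 rfl b3
theorem n3 : Sound.{u} (cP4r 2 0) s3 0 :=
  (x3.k2 c3_0 :)
theorem x4 : AuxS.{u} (cP4r 2 0) s4 0 a4 := aux_base3 tw4 rfl b4
theorem n4 : Sound.{u} (cP4r 2 0) s4 0 :=
  (x4.k2 c4_0 :)
theorem x5 : AuxS.{u} (cP4r 2 0) s5 0 a5 := aux_base3 tw5 rfl b5
theorem n5 : Sound.{u} (cP4r 2 0) s5 0 :=
  (x5.k2 c5_0 :)
theorem x6 : AuxS.{u} (cP4r 2 0) s6 0 a6 := aux_base3 tw6 rfl b6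
theorem n6 : Sound.{u} (cP4r 2 0) s6 0 :=
  (x6.k2 c6_0 :)
theorem x1243 : AuxS.{u} (cP4r 2 0) s1243 0 a1243 := aux_base3 tw143 rfl b1243
theorem x1243_1 : AuxS.{u} (cP4r 2 0) s1243 0 a1243_1 := (AuxS.up x1243 c1243_1 :)
theorem x1243_2 : AuxS.{u} (cP4r 2 0) s1243 0 a1243_2 := (AuxS.up2 x1243_1 c1243_2 :)
theorem n1243 : Sound.{u} (cP4r 2 0) s1243 0 :=
  (x1243_2.k7 c1243_0 :)
theorem x1244 : AuxS.{u} (cP4r 2 0) s1244 0 a1244 := aux_base3 tw144 rfl b1244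
theorem x1244_1 : AuxS.{u} (cP4r 2 0) s1244 0 a1244_1 := (AuxS.up x1244 c1244_1 :)
theorem n1244 : Sound.{u} (cP4r 2 0) s1244 0 :=
  (x1244_1.k7 c1244_0 :)
theorem x1245 : AuxS.{u} (cP4r 2 0) s1245 0 a1245 := aux_base3 tw145 rfl b1245
theorem x1245_1 : AuxS.{u} (cP4r 2 0) s1245 0 a1245_1 := (AuxS.up x1245 c1245_1 :)
theorem n1245 : Sound.{u} (cP4r 2 0) s1245 0 :=
  (x1245_1.k7 c1245_0 :)
theorem x1246 : AuxS.{u} (cP4r 2 0) s1246 0 a1246 := aux_base3 tw146 rfl b1246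
theorem x1246_1 : AuxS.{u} (cP4r 2 0) s1246 0 a1246_1 := (AuxS.up x1246 c1246_1 :)
theorem n1246 : Sound.{u} (cP4r 2 0) s1246 0 :=
  (x1246_1.k7 c1246_0 :)
theorem x1247 : AuxS.{u} (cP4r 2 0) s1247 0 a1247 := aux_base3 tw147 rfl b1247
theorem x1247_1 : AuxS.{u} (cP4r 2 0) s1247 0 a1247_1 := (AuxS.up x1247 c1247_1 :)
theorem n1247 : Sound.{u} (cP4r 2 0) s1247 0 :=
  (x1247_1.k7 c1247_0 :)
theorem x1248 : AuxS.{u} (cP4r 2 0) s1248 0 a1248 := aux_base3 tw148 rfl b1248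
theorem x1248_1 : AuxS.{u} (cP4r 2 0) s1248 0 a1248_1 := (AuxS.up x1248 c1248_1 :)
theorem n1248 : Sound.{u} (cP4r 2 0) s1248 0 :=
  (x1248_1.k7 c1248_0 :)
theorem x1249 : AuxS.{u} (cP4r 2 0) s1249 0 a1249 := aux_base3 tw149 rfl b1249
theorem x1249_1 : AuxS.{u} (cP4r 2 0) s1249 0 a1249_1 := (AuxS.up x1249 c1249_1 :)
theorem x1249_2 : AuxS.{u} (cP4r 2 0) s1249 0 a1249_2 := (AuxS.up2 x1249_1 c1249_2 :)
theorem n1249 : Sound.{u} (cP4r 2 0) s1249 0 :=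
  (x1249_2.k7 c1249_0 :)
theorem x1250 : AuxS.{u} (cP4r 2 0) s1250 0 a1250 := aux_base3 tw150 rfl b1250
theorem x1250_1 : AuxS.{u} (cP4r 2 0) s1250 0 a1250_1 := (AuxS.up x1250 c1250_1 :)
theorem n1250 : Sound.{u} (cP4r 2 0) s1250 0 :=
  (x1250_1.k7 c1250_0 :)
theorem x7 : AuxS.{u} (cP4r 2 0) s7 0 a7 := aux_base3 tw7 rfl b7
theorem x7_1 : AuxS.{u} (cP4r 2 0) s7 0 a7_1 := (AuxS.up x7 c7_4 :)
theorem p7_0_1 : Phs s7 a7_1 [] [s1243, s1244, s1245, s1246, s1247, s1248, s1249, s1250] ct7_0 v7_0 4 w7_0_1 := (Phs.fin c7_0)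
theorem p7_0_3 : Phs s7 a7_1 [] [s1243, s1244, s1245, s1246, s1247, s1248, s1249, s1250] ct7_0 v7_0 1 w7_0_3 := (Phs.stp c7_1 p7_0_1)
theorem n7 : Sound.{u} (cP4r 2 0) s7 0 :=
  (x7_1.ext2 (fun h => absurd h (by decide)) GamS.nil (AllS.cons n1243 (AllS.cons n1244 (AllS.cons n1245 (AllS.cons n1246 (AllS.cons n1247 (AllS.cons n1248 (AllS.cons n1249 (AllS.cons n1250 AllS.nil)))))))) c7_3 (Phs.stp c7_2 p7_0_3) (Phs.fin (ct := ct7_0) rfl) :)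
theorem x1251 : AuxS.{u} (cP4r 2 0) s1251 0 a1251 := aux_base3 tw151 rfl b1251
theorem x1251_1 : AuxS.{u} (cP4r 2 0) s1251 0 a1251_1 := (AuxS.up x1251 c1251_1 :)
theorem n1251 : Sound.{u} (cP4r 2 0) s1251 0 :=
  (x1251_1.k7 c1251_0 :)
theorem x1252 : AuxS.{u} (cP4r 2 0) s1252 0 a1252 := aux_base3 tw152 rfl b1252
theorem x1252_1 : AuxS.{u} (cP4r 2 0) s1252 0 a1252_1 := (AuxS.up x1252 c1252_1 :)
theorem n1252 : Sound.{u} (cP4r 2 0) s1252 0 :=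
  (x1252_1.k7 c1252_0 :)
theorem x1259 : AuxS.{u} (cP4r 2 0) s1259 0 a1259 := aux_base3 tw159 rfl b1259
theorem x1259_1 : AuxS.{u} (cP4r 2 0) s1259 0 a1259_1 := x1259
theorem x1259_2 : AuxS.{u} (cP4r 2 0) s1259 0 a1259_2 := x1259_1
theorem n1259 : Sound.{u} (cP4r 2 0) s1259 0 :=
  (x1259_2.rho AllS.nil c1259_0 :)
theorem x1268 : AuxS.{u} (cP4r 2 0) s1268 0 a1268 := aux_base3 tw163 rfl b1268
theorem x1268_1 : AuxS.{u} (cP4r 2 0) s1268 0 a1268_1 := (AuxS.up x1268 c1268_11 :)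
theorem x1268_2 : AuxS.{u} (cP4r 2 0) s1268 0 a1268_2 := (AuxS.up x1268_1 c1268_12 :)
theorem x1268_L0_1 : AuxS.{u} (cP4r 2 0) s1268 (0 + 2) a1268_L0_1 := (AuxS.hp (x1268_2.lam 0) c1268_1 :)
theorem p1268_3_1 : Phs s1268 a1268_2 [] [] ct1268_3 v1268_3 5 w1268_3_1 := (Phs.fin c1268_3)
theorem p1268_3_3 : Phs s1268 a1268_2 [] [] ct1268_3 v1268_3 4 w1268_3_3 := (Phs.stp c1268_4 p1268_3_1)
theorem p1268_3_5 : Phs s1268 a1268_2 [] [] ct1268_3 v1268_3 3 w1268_3_5 := (Phs.stp c1268_5 p1268_3_3)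
theorem p1268_3_7 : Phs s1268 a1268_2 [] [] ct1268_3 v1268_3 1 w1268_3_7 := (Phs.stp c1268_6 p1268_3_5)
theorem p1268_3_10 : Phs s1268 a1268_2 [] [] ct1268_3 v1268_3 5 w1268_3_10 := (Phs.fin c1268_8)
theorem n1268 : Sound.{u} (cP4r 2 0) s1268 0 :=
  (x1268_2.spl c1268_0 (AllM.cons (x1268_L0_1.tp c1268_2 :) AllM.nil) ((x1268_2.weaken 1).ext2 (fun _ => rfl) GamS.nil AllS.nil c1268_10 (Phs.stp c1268_7 p1268_3_7) (Phs.stp c1268_9 p1268_3_10)) :)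
theorem x1269 : AuxS.{u} (cP4r 2 0) s1269 0 a1269 := aux_base3 tw163 rfl b1269
theorem n1269 : Sound.{u} (cP4r 2 0) s1269 0 :=
  (x1269.k4 c1269_0 :)
theorem x1270 : AuxS.{u} (cP4r 2 0) s1270 0 a1270 := aux_base3 tw163 rfl b1270
theorem n1270 : Sound.{u} (cP4r 2 0) s1270 0 :=
  (x1270.k4 c1270_0 :)
theorem x1271 : AuxS.{u} (cP4r 2 0) s1271 0 a1271 := aux_base3 tw163 rfl b1271
theorem x1271_1 : AuxS.{u} (cP4r 2 0) s1271 0 a1271_1 := (AuxS.up x1271 c1271_11 :)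
theorem x1271_2 : AuxS.{u} (cP4r 2 0) s1271 0 a1271_2 := (AuxS.up x1271_1 c1271_12 :)
theorem x1271_L0_1 : AuxS.{u} (cP4r 2 0) s1271 (0 + 2) a1271_L0_1 := (AuxS.hp (x1271_2.lam 0) c1271_1 :)
theorem p1271_3_1 : Phs s1271 a1271_2 [] [] ct1271_3 v1271_3 5 w1271_3_1 := (Phs.fin c1271_3)
theorem p1271_3_3 : Phs s1271 a1271_2 [] [] ct1271_3 v1271_3 4 w1271_3_3 := (Phs.stp c1271_4 p1271_3_1)
theorem p1271_3_5 : Phs s1271 a1271_2 [] [] ct1271_3 v1271_3 3 w1271_3_5 := (Phs.stp c1271_5 p1271_3_3)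
theorem p1271_3_7 : Phs s1271 a1271_2 [] [] ct1271_3 v1271_3 1 w1271_3_7 := (Phs.stp c1271_6 p1271_3_5)
theorem p1271_3_10 : Phs s1271 a1271_2 [] [] ct1271_3 v1271_3 5 w1271_3_10 := (Phs.fin c1271_8)
theorem n1271 : Sound.{u} (cP4r 2 0) s1271 0 :=
  (x1271_2.spl c1271_0 (AllM.cons (x1271_L0_1.tp c1271_2 :) AllM.nil) ((x1271_2.weaken 1).ext2 (fun _ => rfl) GamS.nil AllS.nil c1271_10 (Phs.stp c1271_7 p1271_3_7) (Phs.stp c1271_9 p1271_3_10)) :)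
theorem x1266 : AuxS.{u} (cP4r 2 0) s1266 0 a1266 := aux_base3 tw163 rfl b1266
theorem x1266_1 : AuxS.{u} (cP4r 2 0) s1266 0 a1266_1 := x1266
theorem x1266_2 : AuxS.{u} (cP4r 2 0) s1266 0 a1266_2 := x1266_1
theorem n1266 : Sound.{u} (cP4r 2 0) s1266 0 :=
  (x1266_2.fr GamS.nil (AllS.cons n1268 (AllS.cons n1269 (AllS.cons n1270 (AllS.cons n1271 AllS.nil)))) c1266_0 :)
theorem x1272 : AuxS.{u} (cP4r 2 0) s1272 0 a1272 := aux_base3 tw164 rfl b1272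
theorem x1272_1 : AuxS.{u} (cP4r 2 0) s1272 0 a1272_1 := (AuxS.up x1272 c1272_11 :)
theorem x1272_2 : AuxS.{u} (cP4r 2 0) s1272 0 a1272_2 := (AuxS.up x1272_1 c1272_12 :)
theorem x1272_L0_1 : AuxS.{u} (cP4r 2 0) s1272 (0 + 2) a1272_L0_1 := (AuxS.hp (x1272_2.lam 0) c1272_1 :)
theorem p1272_3_1 : Phs s1272 a1272_2 [] [] ct1272_3 v1272_3 5 w1272_3_1 := (Phs.fin c1272_3)
theorem p1272_3_3 : Phs s1272 a1272_2 [] [] ct1272_3 v1272_3 4 w1272_3_3 := (Phs.stp c1272_4 p1272_3_1)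
theorem p1272_3_5 : Phs s1272 a1272_2 [] [] ct1272_3 v1272_3 3 w1272_3_5 := (Phs.stp c1272_5 p1272_3_3)
theorem p1272_3_7 : Phs s1272 a1272_2 [] [] ct1272_3 v1272_3 1 w1272_3_7 := (Phs.stp c1272_6 p1272_3_5)
theorem p1272_3_10 : Phs s1272 a1272_2 [] [] ct1272_3 v1272_3 5 w1272_3_10 := (Phs.fin c1272_8)
theorem n1272 : Sound.{u} (cP4r 2 0) s1272 0 :=
  (x1272_2.spl c1272_0 (AllM.cons (x1272_L0_1.tp c1272_2 :) AllM.nil) ((x1272_2.weaken 1).ext2 (fun _ => rfl) GamS.nil AllS.nil c1272_10 (Phs.stp c1272_7 p1272_3_7) (Phs.stp c1272_9 p1272_3_10)) :)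
theorem x1273 : AuxS.{u} (cP4r 2 0) s1273 0 a1273 := aux_base3 tw164 rfl b1273
theorem n1273 : Sound.{u} (cP4r 2 0) s1273 0 :=
  (x1273.k4 c1273_0 :)
theorem x1274 : AuxS.{u} (cP4r 2 0) s1274 0 a1274 := aux_base3 tw164 rfl b1274
theorem n1274 : Sound.{u} (cP4r 2 0) s1274 0 :=
  (x1274.k4 c1274_0 :)
theorem x1275 : AuxS.{u} (cP4r 2 0) s1275 0 a1275 := aux_base3 tw164 rfl b1275
theorem x1275_1 : AuxS.{u} (cP4r 2 0) s1275 0 a1275_1 := (AuxS.up x1275 c1275_11 :)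
theorem x1275_2 : AuxS.{u} (cP4r 2 0) s1275 0 a1275_2 := (AuxS.up x1275_1 c1275_12 :)
theorem x1275_L0_1 : AuxS.{u} (cP4r 2 0) s1275 (0 + 2) a1275_L0_1 := (AuxS.hp (x1275_2.lam 0) c1275_1 :)
theorem p1275_3_1 : Phs s1275 a1275_2 [] [] ct1275_3 v1275_3 5 w1275_3_1 := (Phs.fin c1275_3)
theorem p1275_3_3 : Phs s1275 a1275_2 [] [] ct1275_3 v1275_3 4 w1275_3_3 := (Phs.stp c1275_4 p1275_3_1)
theorem p1275_3_5 : Phs s1275 a1275_2 [] [] ct1275_3 v1275_3 3 w1275_3_5 := (Phs.stp c1275_5 p1275_3_3)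
theorem p1275_3_7 : Phs s1275 a1275_2 [] [] ct1275_3 v1275_3 1 w1275_3_7 := (Phs.stp c1275_6 p1275_3_5)
theorem p1275_3_10 : Phs s1275 a1275_2 [] [] ct1275_3 v1275_3 5 w1275_3_10 := (Phs.fin c1275_8)
theorem n1275 : Sound.{u} (cP4r 2 0) s1275 0 :=
  (x1275_2.spl c1275_0 (AllM.cons (x1275_L0_1.tp c1275_2 :) AllM.nil) ((x1275_2.weaken 1).ext2 (fun _ => rfl) GamS.nil AllS.nil c1275_10 (Phs.stp c1275_7 p1275_3_7) (Phs.stp c1275_9 p1275_3_10)) :)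
theorem x1267 : AuxS.{u} (cP4r 2 0) s1267 0 a1267 := aux_base3 tw164 rfl b1267
theorem x1267_1 : AuxS.{u} (cP4r 2 0) s1267 0 a1267_1 := x1267
theorem x1267_2 : AuxS.{u} (cP4r 2 0) s1267 0 a1267_2 := x1267_1
theorem n1267 : Sound.{u} (cP4r 2 0) s1267 0 :=
  (x1267_2.fr GamS.nil (AllS.cons n1272 (AllS.cons n1273 (AllS.cons n1274 (AllS.cons n1275 AllS.nil)))) c1267_0 :)
theorem x1264 : AuxS.{u} (cP4r 2 0) s1264 0 a1264 := aux_base3 tw161 rfl b1264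
theorem x1264_1 : AuxS.{u} (cP4r 2 0) s1264 0 a1264_1 := x1264
theorem x1264_2 : AuxS.{u} (cP4r 2 0) s1264 0 a1264_2 := x1264_1
theorem x1264_3 : AuxS.{u} (cP4r 2 0) s1264 0 a1264_3 := x1264_2
theorem x1264_4 : AuxS.{u} (cP4r 2 0) s1264 0 a1264_4 := x1264_3
theorem n1264 : Sound.{u} (cP4r 2 0) s1264 0 :=
  (x1264_4.fr2 GamS.nil (AllS.cons n1266 (AllS.cons n1267 AllS.nil)) c1264_0 :)
theorem x1265 : AuxS.{u} (cP4r 2 0) s1265 0 a1265 := aux_base3 tw161 rfl b1265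
theorem n1265 : Sound.{u} (cP4r 2 0) s1265 0 :=
  (x1265.k4 c1265_0 :)
theorem x1262 : AuxS.{u} (cP4r 2 0) s1262 0 a1262 := aux_base3 tw161 rfl b1262
theorem x1262_1 : AuxS.{u} (cP4r 2 0) s1262 0 a1262_1 := x1262
theorem x1262_2 : AuxS.{u} (cP4r 2 0) s1262 0 a1262_2 := x1262_1
theorem n1262 : Sound.{u} (cP4r 2 0) s1262 0 :=
  (x1262_2.fr GamS.nil (AllS.cons n1264 (AllS.cons n1265 AllS.nil)) c1262_0 :)
theorem x1280 : AuxS.{u} (cP4r 2 0) s1280 0 a1280 := aux_base3 tw165 rfl b1280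
theorem x1280_1 : AuxS.{u} (cP4r 2 0) s1280 0 a1280_1 := (AuxS.up x1280 c1280_11 :)
theorem x1280_2 : AuxS.{u} (cP4r 2 0) s1280 0 a1280_2 := (AuxS.up x1280_1 c1280_12 :)
theorem x1280_L0_1 : AuxS.{u} (cP4r 2 0) s1280 (0 + 2) a1280_L0_1 := (AuxS.hp (x1280_2.lam 0) c1280_1 :)
theorem p1280_3_1 : Phs s1280 a1280_2 [] [] ct1280_3 v1280_3 5 w1280_3_1 := (Phs.fin c1280_3)
theorem p1280_3_3 : Phs s1280 a1280_2 [] [] ct1280_3 v1280_3 4 w1280_3_3 := (Phs.stp c1280_4 p1280_3_1)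
theorem p1280_3_5 : Phs s1280 a1280_2 [] [] ct1280_3 v1280_3 3 w1280_3_5 := (Phs.stp c1280_5 p1280_3_3)
theorem p1280_3_7 : Phs s1280 a1280_2 [] [] ct1280_3 v1280_3 1 w1280_3_7 := (Phs.stp c1280_6 p1280_3_5)
theorem p1280_3_10 : Phs s1280 a1280_2 [] [] ct1280_3 v1280_3 5 w1280_3_10 := (Phs.fin c1280_8)
theorem n1280 : Sound.{u} (cP4r 2 0) s1280 0 :=
  (x1280_2.spl c1280_0 (AllM.cons (x1280_L0_1.tp c1280_2 :) AllM.nil) ((x1280_2.weaken 1).ext2 (fun _ => rfl) GamS.nil AllS.nil c1280_10 (Phs.stp c1280_7 p1280_3_7) (Phs.stp c1280_9 p1280_3_10)) :)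
theorem x1281 : AuxS.{u} (cP4r 2 0) s1281 0 a1281 := aux_base3 tw165 rfl b1281
theorem n1281 : Sound.{u} (cP4r 2 0) s1281 0 :=
  (x1281.k4 c1281_0 :)
theorem x1282 : AuxS.{u} (cP4r 2 0) s1282 0 a1282 := aux_base3 tw165 rfl b1282
theorem n1282 : Sound.{u} (cP4r 2 0) s1282 0 :=
  (x1282.k4 c1282_0 :)
theorem x1283 : AuxS.{u} (cP4r 2 0) s1283 0 a1283 := aux_base3 tw165 rfl b1283
theorem x1283_1 : AuxS.{u} (cP4r 2 0) s1283 0 a1283_1 := (AuxS.up x1283 c1283_11 :)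
theorem x1283_2 : AuxS.{u} (cP4r 2 0) s1283 0 a1283_2 := (AuxS.up x1283_1 c1283_12 :)
theorem x1283_L0_1 : AuxS.{u} (cP4r 2 0) s1283 (0 + 2) a1283_L0_1 := (AuxS.hp (x1283_2.lam 0) c1283_1 :)
theorem p1283_3_1 : Phs s1283 a1283_2 [] [] ct1283_3 v1283_3 5 w1283_3_1 := (Phs.fin c1283_3)
theorem p1283_3_3 : Phs s1283 a1283_2 [] [] ct1283_3 v1283_3 4 w1283_3_3 := (Phs.stp c1283_4 p1283_3_1)
theorem p1283_3_5 : Phs s1283 a1283_2 [] [] ct1283_3 v1283_3 3 w1283_3_5 := (Phs.stp c1283_5 p1283_3_3)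
theorem p1283_3_7 : Phs s1283 a1283_2 [] [] ct1283_3 v1283_3 1 w1283_3_7 := (Phs.stp c1283_6 p1283_3_5)
theorem p1283_3_10 : Phs s1283 a1283_2 [] [] ct1283_3 v1283_3 5 w1283_3_10 := (Phs.fin c1283_8)
theorem n1283 : Sound.{u} (cP4r 2 0) s1283 0 :=
  (x1283_2.spl c1283_0 (AllM.cons (x1283_L0_1.tp c1283_2 :) AllM.nil) ((x1283_2.weaken 1).ext2 (fun _ => rfl) GamS.nil AllS.nil c1283_10 (Phs.stp c1283_7 p1283_3_7) (Phs.stp c1283_9 p1283_3_10)) :)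
theorem x1278 : AuxS.{u} (cP4r 2 0) s1278 0 a1278 := aux_base3 tw165 rfl b1278
theorem x1278_1 : AuxS.{u} (cP4r 2 0) s1278 0 a1278_1 := x1278
theorem x1278_2 : AuxS.{u} (cP4r 2 0) s1278 0 a1278_2 := x1278_1
theorem n1278 : Sound.{u} (cP4r 2 0) s1278 0 :=
  (x1278_2.fr GamS.nil (AllS.cons n1280 (AllS.cons n1281 (AllS.cons n1282 (AllS.cons n1283 AllS.nil)))) c1278_0 :)
theorem x1284 : AuxS.{u} (cP4r 2 0) s1284 0 a1284 := aux_base3 tw166 rfl b1284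
theorem x1284_1 : AuxS.{u} (cP4r 2 0) s1284 0 a1284_1 := (AuxS.up x1284 c1284_11 :)
theorem x1284_2 : AuxS.{u} (cP4r 2 0) s1284 0 a1284_2 := (AuxS.up x1284_1 c1284_12 :)
theorem x1284_L0_1 : AuxS.{u} (cP4r 2 0) s1284 (0 + 2) a1284_L0_1 := (AuxS.hp (x1284_2.lam 0) c1284_1 :)
theorem p1284_3_1 : Phs s1284 a1284_2 [] [] ct1284_3 v1284_3 5 w1284_3_1 := (Phs.fin c1284_3)
theorem p1284_3_3 : Phs s1284 a1284_2 [] [] ct1284_3 v1284_3 4 w1284_3_3 := (Phs.stp c1284_4 p1284_3_1)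
theorem p1284_3_5 : Phs s1284 a1284_2 [] [] ct1284_3 v1284_3 3 w1284_3_5 := (Phs.stp c1284_5 p1284_3_3)
theorem p1284_3_7 : Phs s1284 a1284_2 [] [] ct1284_3 v1284_3 1 w1284_3_7 := (Phs.stp c1284_6 p1284_3_5)
theorem p1284_3_10 : Phs s1284 a1284_2 [] [] ct1284_3 v1284_3 5 w1284_3_10 := (Phs.fin c1284_8)
theorem n1284 : Sound.{u} (cP4r 2 0) s1284 0 :=
  (x1284_2.spl c1284_0 (AllM.cons (x1284_L0_1.tp c1284_2 :) AllM.nil) ((x1284_2.weaken 1).ext2 (fun _ => rfl) GamS.nil AllS.nil c1284_10 (Phs.stp c1284_7 p1284_3_7) (Phs.stp c1284_9 p1284_3_10)) :)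
theorem x1285 : AuxS.{u} (cP4r 2 0) s1285 0 a1285 := aux_base3 tw166 rfl b1285
theorem n1285 : Sound.{u} (cP4r 2 0) s1285 0 :=
  (x1285.k4 c1285_0 :)
theorem x1286 : AuxS.{u} (cP4r 2 0) s1286 0 a1286 := aux_base3 tw166 rfl b1286
theorem n1286 : Sound.{u} (cP4r 2 0) s1286 0 :=
  (x1286.k4 c1286_0 :)
theorem x1287 : AuxS.{u} (cP4r 2 0) s1287 0 a1287 := aux_base3 tw166 rfl b1287
theorem x1287_1 : AuxS.{u} (cP4r 2 0) s1287 0 a1287_1 := (AuxS.up x1287 c1287_11 :)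
theorem x1287_2 : AuxS.{u} (cP4r 2 0) s1287 0 a1287_2 := (AuxS.up x1287_1 c1287_12 :)
theorem x1287_L0_1 : AuxS.{u} (cP4r 2 0) s1287 (0 + 2) a1287_L0_1 := (AuxS.hp (x1287_2.lam 0) c1287_1 :)
theorem p1287_3_1 : Phs s1287 a1287_2 [] [] ct1287_3 v1287_3 5 w1287_3_1 := (Phs.fin c1287_3)
theorem p1287_3_3 : Phs s1287 a1287_2 [] [] ct1287_3 v1287_3 4 w1287_3_3 := (Phs.stp c1287_4 p1287_3_1)
theorem p1287_3_5 : Phs s1287 a1287_2 [] [] ct1287_3 v1287_3 3 w1287_3_5 := (Phs.stp c1287_5 p1287_3_3)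
theorem p1287_3_7 : Phs s1287 a1287_2 [] [] ct1287_3 v1287_3 1 w1287_3_7 := (Phs.stp c1287_6 p1287_3_5)
theorem p1287_3_10 : Phs s1287 a1287_2 [] [] ct1287_3 v1287_3 5 w1287_3_10 := (Phs.fin c1287_8)
theorem n1287 : Sound.{u} (cP4r 2 0) s1287 0 :=
  (x1287_2.spl c1287_0 (AllM.cons (x1287_L0_1.tp c1287_2 :) AllM.nil) ((x1287_2.weaken 1).ext2 (fun _ => rfl) GamS.nil AllS.nil c1287_10 (Phs.stp c1287_7 p1287_3_7) (Phs.stp c1287_9 p1287_3_10)) :)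
theorem x1279 : AuxS.{u} (cP4r 2 0) s1279 0 a1279 := aux_base3 tw166 rfl b1279
theorem x1279_1 : AuxS.{u} (cP4r 2 0) s1279 0 a1279_1 := x1279
theorem x1279_2 : AuxS.{u} (cP4r 2 0) s1279 0 a1279_2 := x1279_1
theorem n1279 : Sound.{u} (cP4r 2 0) s1279 0 :=
  (x1279_2.fr GamS.nil (AllS.cons n1284 (AllS.cons n1285 (AllS.cons n1286 (AllS.cons n1287 AllS.nil)))) c1279_0 :)
theorem x1276 : AuxS.{u} (cP4r 2 0) s1276 0 a1276 := aux_base3 tw162 rfl b1276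
theorem x1276_1 : AuxS.{u} (cP4r 2 0) s1276 0 a1276_1 := x1276
theorem x1276_2 : AuxS.{u} (cP4r 2 0) s1276 0 a1276_2 := x1276_1
theorem x1276_3 : AuxS.{u} (cP4r 2 0) s1276 0 a1276_3 := x1276_2
theorem x1276_4 : AuxS.{u} (cP4r 2 0) s1276 0 a1276_4 := x1276_3
theorem n1276 : Sound.{u} (cP4r 2 0) s1276 0 :=
  (x1276_4.fr2 GamS.nil (AllS.cons n1278 (AllS.cons n1279 AllS.nil)) c1276_0 :)
theorem x1277 : AuxS.{u} (cP4r 2 0) s1277 0 a1277 := aux_base3 tw162 rfl b1277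
theorem n1277 : Sound.{u} (cP4r 2 0) s1277 0 :=
  (x1277.k4 c1277_0 :)
theorem x1263 : AuxS.{u} (cP4r 2 0) s1263 0 a1263 := aux_base3 tw162 rfl b1263
theorem x1263_1 : AuxS.{u} (cP4r 2 0) s1263 0 a1263_1 := x1263
theorem x1263_2 : AuxS.{u} (cP4r 2 0) s1263 0 a1263_2 := x1263_1
theorem n1263 : Sound.{u} (cP4r 2 0) s1263 0 :=
  (x1263_2.fr GamS.nil (AllS.cons n1276 (AllS.cons n1277 AllS.nil)) c1263_0 :)
theorem x1261 : AuxS.{u} (cP4r 2 0) s1261 0 a1261 := aux_base3 tw153 rfl b1261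
theorem x1261_1 : AuxS.{u} (cP4r 2 0) s1261 0 a1261_1 := (AuxS.up x1261 c1261_6 :)
theorem x1261_2 : AuxS.{u} (cP4r 2 0) s1261 0 a1261_2 := x1261_1
theorem p1261_0_1 : Phs s1261 a1261_2 (List.map Prod.fst g1261_0) [s1262, s1263] ct1261_0 v1261_0 5 w1261_0_1 := (Phs.fin c1261_1)
theorem p1261_0_3 : Phs s1261 a1261_2 (List.map Prod.fst g1261_0) [s1262, s1263] ct1261_0 v1261_0 4 w1261_0_3 := (Phs.stp c1261_2 p1261_0_1)
theorem p1261_0_5 : Phs s1261 a1261_2 (List.map Prod.fst g1261_0) [s1262, s1263] ct1261_0 v1261_0 1 w1261_0_5 := (Phs.stp c1261_3 p1261_0_3)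
theorem n1261 : Sound.{u} (cP4r 2 0) s1261 0 :=
  (x1261_2.ext2 (fun h => absurd h (by decide)) (AuxS.gam x1261_2 c1261_0) (AllS.cons n1262 (AllS.cons n1263 AllS.nil)) c1261_5 (Phs.stp c1261_4 p1261_0_5) (Phs.fin (ct := ct1261_0) rfl) :)
theorem x1260 : AuxS.{u} (cP4r 2 0) s1260 0 a1260 := aux_base3 tw160 rfl b1260
theorem x1260_1 : AuxS.{u} (cP4r 2 0) s1260 0 a1260_1 := x1260
theorem x1260_2 : AuxS.{u} (cP4r 2 0) s1260 0 a1260_2 := x1260_1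
theorem n1260 : Sound.{u} (cP4r 2 0) s1260 0 :=
  (x1260_2.jump c1260_0 c1260_1 n1261 :)
theorem x1253 : AuxS.{u} (cP4r 2 0) s1253 0 a1253 := aux_base3 tw153 rfl b1253
theorem x1253_1 : AuxS.{u} (cP4r 2 0) s1253 0 a1253_1 := x1253
theorem x1253_2 : AuxS.{u} (cP4r 2 0) s1253 0 a1253_2 := x1253_1
theorem p1253_0_1 : Phs s1253 a1253_2 (List.map Prod.fst g1253_0) [s1259, s1260] ct1253_0 v1253_0 5 w1253_0_1 := (Phs.fin c1253_1)
theorem n1253 : Sound.{u} (cP4r 2 0) s1253 0 :=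
  (x1253_2.ext2 (fun h => absurd h (by decide)) (AuxS.gam x1253_2 c1253_0) (AllS.cons n1259 (AllS.cons n1260 AllS.nil)) c1253_3 (Phs.fin (ct := ct1253_0) rfl) (Phs.stp c1253_2 p1253_0_1) :)
theorem x1254 : AuxS.{u} (cP4r 2 0) s1254 0 a1254 := aux_base3 tw154 rfl b1254
theorem x1254_1 : AuxS.{u} (cP4r 2 0) s1254 0 a1254_1 := (AuxS.up x1254 c1254_1 :)
theorem n1254 : Sound.{u} (cP4r 2 0) s1254 0 :=
  (x1254_1.k7 c1254_0 :)
theorem x1288 : AuxS.{u} (cP4r 2 0) s1288 0 a1288 := aux_base3 tw167 rfl b1288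
theorem x1288_1 : AuxS.{u} (cP4r 2 0) s1288 0 a1288_1 := x1288
theorem x1288_2 : AuxS.{u} (cP4r 2 0) s1288 0 a1288_2 := x1288_1
theorem x1288_3 : AuxS.{u} (cP4r 2 0) s1288 0 a1288_3 := x1288_2
theorem n1288 : Sound.{u} (cP4r 2 0) s1288 0 :=
  (x1288_3.rho AllS.nil c1288_0 :)
theorem x1290 : AuxS.{u} (cP4r 2 0) s1290 0 a1290 := aux_base3 tw155 rfl b1290
theorem x1290_1 : AuxS.{u} (cP4r 2 0) s1290 0 a1290_1 := (AuxS.up x1290 c1290_4 :)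
theorem x1290_2 : AuxS.{u} (cP4r 2 0) s1290 0 a1290_2 := (AuxS.up2 x1290_1 c1290_5 :)
theorem x1290_3 : AuxS.{u} (cP4r 2 0) s1290 0 a1290_3 := x1290_2
theorem x1290_4 : AuxS.{u} (cP4r 2 0) s1290 0 a1290_4 := x1290_3
theorem x1290_5 : AuxS.{u} (cP4r 2 0) s1290 0 a1290_5 := x1290_4
theorem x1290_6 : AuxS.{u} (cP4r 2 0) s1290 0 a1290_6 := x1290_5
theorem p1290_0_1 : Phs s1290 a1290_6 [] [] ct1290_0 v1290_0 4 w1290_0_1 := (Phs.fin c1290_0)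
theorem p1290_0_3 : Phs s1290 a1290_6 [] [] ct1290_0 v1290_0 1 w1290_0_3 := (Phs.stp c1290_1 p1290_0_1)
theorem n1290 : Sound.{u} (cP4r 2 0) s1290 0 :=
  (x1290_6.ext2 (fun h => absurd h (by decide)) GamS.nil AllS.nil c1290_3 (Phs.stp c1290_2 p1290_0_3) (Phs.fin (ct := ct1290_0) rfl) :)
theorem x1289 : AuxS.{u} (cP4r 2 0) s1289 0 a1289 := aux_base3 tw168 rfl b1289
theorem x1289_1 : AuxS.{u} (cP4r 2 0) s1289 0 a1289_1 := x1289
theorem x1289_2 : AuxS.{u} (cP4r 2 0) s1289 0 a1289_2 := x1289_1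
theorem x1289_3 : AuxS.{u} (cP4r 2 0) s1289 0 a1289_3 := x1289_2
theorem n1289 : Sound.{u} (cP4r 2 0) s1289 0 :=
  (x1289_3.jump c1289_0 c1289_1 n1290 :)
theorem x1255 : AuxS.{u} (cP4r 2 0) s1255 0 a1255 := aux_base3 tw155 rfl b1255
theorem x1255_1 : AuxS.{u} (cP4r 2 0) s1255 0 a1255_1 := x1255
theorem x1255_2 : AuxS.{u} (cP4r 2 0) s1255 0 a1255_2 := x1255_1
theorem x1255_3 : AuxS.{u} (cP4r 2 0) s1255 0 a1255_3 := x1255_2
theorem x1255_4 : AuxS.{u} (cP4r 2 0) s1255 0 a1255_4 := x1255_3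
theorem p1255_0_1 : Phs s1255 a1255_4 (List.map Prod.fst g1255_0) [s1288, s1289] ct1255_0 v1255_0 5 w1255_0_1 := (Phs.fin c1255_1)
theorem n1255 : Sound.{u} (cP4r 2 0) s1255 0 :=
  (x1255_4.ext2 (fun h => absurd h (by decide)) (AuxS.gam x1255_4 c1255_0) (AllS.cons n1288 (AllS.cons n1289 AllS.nil)) c1255_3 (Phs.fin (ct := ct1255_0) rfl) (Phs.stp c1255_2 p1255_0_1) :)
theorem x1256 : AuxS.{u} (cP4r 2 0) s1256 0 a1256 := aux_base3 tw156 rfl b1256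
theorem x1256_1 : AuxS.{u} (cP4r 2 0) s1256 0 a1256_1 := (AuxS.up x1256 c1256_1 :)
theorem n1256 : Sound.{u} (cP4r 2 0) s1256 0 :=
  (x1256_1.k7 c1256_0 :)
theorem x1257 : AuxS.{u} (cP4r 2 0) s1257 0 a1257 := aux_base3 tw157 rfl b1257
theorem x1257_1 : AuxS.{u} (cP4r 2 0) s1257 0 a1257_1 := (AuxS.up x1257 c1257_1 :)
theorem n1257 : Sound.{u} (cP4r 2 0) s1257 0 :=
  (x1257_1.k7 c1257_0 :)
theorem x1258 : AuxS.{u} (cP4r 2 0) s1258 0 a1258 := aux_base3 tw158 rfl b1258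
theorem x1258_1 : AuxS.{u} (cP4r 2 0) s1258 0 a1258_1 := (AuxS.up x1258 c1258_1 :)
theorem n1258 : Sound.{u} (cP4r 2 0) s1258 0 :=
  (x1258_1.k7 c1258_0 :)
theorem x8 : AuxS.{u} (cP4r 2 0) s8 0 a8 := aux_base3 tw8 rfl b8
theorem x8_1 : AuxS.{u} (cP4r 2 0) s8 0 a8_1 := (AuxS.up x8 c8_4 :)
theorem p8_0_1 : Phs s8 a8_1 [] [s1251, s1252, s1253, s1254, s1255, s1256, s1257, s1258] ct8_0 v8_0 4 w8_0_1 := (Phs.fin c8_0)
theorem p8_0_3 : Phs s8 a8_1 [] [s1251, s1252, s1253, s1254, s1255, s1256, s1257, s1258] ct8_0 v8_0 1 w8_0_3 := (Phs.stp c8_1 p8_0_1)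
theorem n8 : Sound.{u} (cP4r 2 0) s8 0 :=
  (x8_1.ext2 (fun h => absurd h (by decide)) GamS.nil (AllS.cons n1251 (AllS.cons n1252 (AllS.cons n1253 (AllS.cons n1254 (AllS.cons n1255 (AllS.cons n1256 (AllS.cons n1257 (AllS.cons n1258 AllS.nil)))))))) c8_3 (Phs.stp c8_2 p8_0_3) (Phs.fin (ct := ct8_0) rfl) :)
theorem x9 : AuxS.{u} (cP4r 2 0) s9 0 a9 := aux_base3 tw9 rfl b9
theorem x9_1 : AuxS.{u} (cP4r 2 0) s9 0 a9_1 := (AuxS.up x9 c9_1 :)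
theorem n9 : Sound.{u} (cP4r 2 0) s9 0 :=
  (x9_1.k7 c9_0 :)
theorem x10 : AuxS.{u} (cP4r 2 0) s10 0 a10 := aux_base3 tw10 rfl b10
theorem x10_1 : AuxS.{u} (cP4r 2 0) s10 0 a10_1 := (AuxS.up x10 c10_1 :)
theorem n10 : Sound.{u} (cP4r 2 0) s10 0 :=
  (x10_1.k7 c10_0 :)
theorem x11 : AuxS.{u} (cP4r 2 0) s11 0 a11 := aux_base3 tw11 rfl b11
theorem n11 : Sound.{u} (cP4r 2 0) s11 0 :=
  (x11.k3 c11_0 :)
theorem x12 : AuxS.{u} (cP4r 2 0) s12 0 a12 := aux_base3 tw12 rfl b12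
theorem n12 : Sound.{u} (cP4r 2 0) s12 0 :=
  (x12.k3 c12_0 :)
theorem x13 : AuxS.{u} (cP4r 2 0) s13 0 a13 := aux_base3 tw13 rfl b13
theorem n13 : Sound.{u} (cP4r 2 0) s13 0 :=
  (x13.k3 c13_0 :)
theorem x14 : AuxS.{u} (cP4r 2 0) s14 0 a14 := aux_base3 tw14 rfl b14
theorem n14 : Sound.{u} (cP4r 2 0) s14 0 :=
  (x14.k3 c14_0 :)
theorem x15 : AuxS.{u} (cP4r 2 0) s15 0 a15 := aux_base3 tw15 rfl b15
theorem n15 : Sound.{u} (cP4r 2 0) s15 0 :=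
  (x15.k3 c15_0 :)
theorem x16 : AuxS.{u} (cP4r 2 0) s16 0 a16 := aux_base3 tw16 rfl b16
theorem n16 : Sound.{u} (cP4r 2 0) s16 0 :=
  (x16.k3 c16_0 :)
theorem x1299 : AuxS.{u} (cP4r 2 0) s1299 0 a1299 := aux_base3 tw177 rfl b1299
theorem x1299_1 : AuxS.{u} (cP4r 2 0) s1299 0 a1299_1 := (AuxS.up x1299 c1299_1 :)
theorem x1299_2 : AuxS.{u} (cP4r 2 0) s1299 0 a1299_2 := (AuxS.up2 x1299_1 c1299_2 :)
theorem n1299 : Sound.{u} (cP4r 2 0) s1299 0 :=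
  (x1299_2.k7 c1299_0 :)
theorem x1352 : AuxS.{u} (cP4r 2 0) s1352 0 a1352 := aux_base3 tw197 rfl b1352
theorem x1352_1 : AuxS.{u} (cP4r 2 0) s1352 0 a1352_1 := x1352
theorem x1352_2 : AuxS.{u} (cP4r 2 0) s1352 0 a1352_2 := x1352_1
theorem x1352_3 : AuxS.{u} (cP4r 2 0) s1352 0 a1352_3 := x1352_2
theorem n1352 : Sound.{u} (cP4r 2 0) s1352 0 :=
  (x1352_3.fr2 GamS.nil AllS.nil c1352_0 :)
theorem x1353 : AuxS.{u} (cP4r 2 0) s1353 0 a1353 := aux_base3 tw198 rfl b1353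
theorem x1353_1 : AuxS.{u} (cP4r 2 0) s1353 0 a1353_1 := x1353
theorem x1353_2 : AuxS.{u} (cP4r 2 0) s1353 0 a1353_2 := x1353_1
theorem n1353 : Sound.{u} (cP4r 2 0) s1353 0 :=
  (x1353_2.fr2 GamS.nil AllS.nil c1353_0 :)
theorem x1354 : AuxS.{u} (cP4r 2 0) s1354 0 a1354 := aux_base3 tw199 rfl b1354
theorem x1354_1 : AuxS.{u} (cP4r 2 0) s1354 0 a1354_1 := x1354
theorem x1354_2 : AuxS.{u} (cP4r 2 0) s1354 0 a1354_2 := x1354_1
theorem n1354 : Sound.{u} (cP4r 2 0) s1354 0 :=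
  (x1354_2.fr2 GamS.nil AllS.nil c1354_0 :)
theorem x1355 : AuxS.{u} (cP4r 2 0) s1355 0 a1355 := aux_base3 tw200 rfl b1355
theorem x1355_1 : AuxS.{u} (cP4r 2 0) s1355 0 a1355_1 := x1355
theorem x1355_2 : AuxS.{u} (cP4r 2 0) s1355 0 a1355_2 := x1355_1
theorem n1355 : Sound.{u} (cP4r 2 0) s1355 0 :=
  (x1355_2.fr2 GamS.nil AllS.nil c1355_0 :)
theorem x1356 : AuxS.{u} (cP4r 2 0) s1356 0 a1356 := aux_base3 tw201 rfl b1356
theorem x1356_1 : AuxS.{u} (cP4r 2 0) s1356 0 a1356_1 := x1356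
theorem x1356_2 : AuxS.{u} (cP4r 2 0) s1356 0 a1356_2 := x1356_1
theorem n1356 : Sound.{u} (cP4r 2 0) s1356 0 :=
  (x1356_2.fr2 GamS.nil AllS.nil c1356_0 :)
theorem x1357 : AuxS.{u} (cP4r 2 0) s1357 0 a1357 := aux_base3 tw202 rfl b1357
theorem x1357_1 : AuxS.{u} (cP4r 2 0) s1357 0 a1357_1 := x1357
theorem x1357_2 : AuxS.{u} (cP4r 2 0) s1357 0 a1357_2 := x1357_1
theorem x1357_3 : AuxS.{u} (cP4r 2 0) s1357 0 a1357_3 := x1357_2
theorem n1357 : Sound.{u} (cP4r 2 0) s1357 0 :=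
  (x1357_3.fr2 GamS.nil AllS.nil c1357_0 :)
theorem x1358 : AuxS.{u} (cP4r 2 0) s1358 0 a1358 := aux_base3 tw203 rfl b1358
theorem x1358_1 : AuxS.{u} (cP4r 2 0) s1358 0 a1358_1 := x1358
theorem x1358_2 : AuxS.{u} (cP4r 2 0) s1358 0 a1358_2 := x1358_1
theorem n1358 : Sound.{u} (cP4r 2 0) s1358 0 :=
  (x1358_2.fr2 GamS.nil AllS.nil c1358_0 :)
theorem x1359 : AuxS.{u} (cP4r 2 0) s1359 0 a1359 := aux_base3 tw204 rfl b1359
theorem x1359_1 : AuxS.{u} (cP4r 2 0) s1359 0 a1359_1 := x1359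
theorem x1359_2 : AuxS.{u} (cP4r 2 0) s1359 0 a1359_2 := x1359_1
theorem n1359 : Sound.{u} (cP4r 2 0) s1359 0 :=
  (x1359_2.fr2 GamS.nil AllS.nil c1359_0 :)
theorem x1360 : AuxS.{u} (cP4r 2 0) s1360 0 a1360 := aux_base3 tw205 rfl b1360
theorem x1360_1 : AuxS.{u} (cP4r 2 0) s1360 0 a1360_1 := x1360
theorem x1360_2 : AuxS.{u} (cP4r 2 0) s1360 0 a1360_2 := x1360_1
theorem n1360 : Sound.{u} (cP4r 2 0) s1360 0 :=
  (x1360_2.fr2 GamS.nil AllS.nil c1360_0 :)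
theorem x1361 : AuxS.{u} (cP4r 2 0) s1361 0 a1361 := aux_base3 tw206 rfl b1361
theorem x1361_1 : AuxS.{u} (cP4r 2 0) s1361 0 a1361_1 := x1361
theorem x1361_2 : AuxS.{u} (cP4r 2 0) s1361 0 a1361_2 := x1361_1
theorem n1361 : Sound.{u} (cP4r 2 0) s1361 0 :=
  (x1361_2.fr2 GamS.nil AllS.nil c1361_0 :)
theorem x1369 : AuxS.{u} (cP4r 2 0) s1369 0 a1369 := aux_base3 tw213 rfl b1369
theorem x1369_1 : AuxS.{u} (cP4r 2 0) s1369 0 a1369_1 := x1369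
theorem x1369_2 : AuxS.{u} (cP4r 2 0) s1369 0 a1369_2 := x1369_1
theorem n1369 : Sound.{u} (cP4r 2 0) s1369 0 :=
  (x1369_2.jump c1369_0 c1369_1 n113 :)
theorem x1370 : AuxS.{u} (cP4r 2 0) s1370 0 a1370 := aux_base3 tw213 rfl b1370
theorem x1370_1 : AuxS.{u} (cP4r 2 0) s1370 0 a1370_1 := x1370
theorem x1370_2 : AuxS.{u} (cP4r 2 0) s1370 0 a1370_2 := x1370_1
theorem n1370 : Sound.{u} (cP4r 2 0) s1370 0 :=
  (x1370_2.jump c1370_0 c1370_1 n114 :)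
theorem x1371 : AuxS.{u} (cP4r 2 0) s1371 0 a1371 := aux_base3 tw213 rfl b1371
theorem x1371_1 : AuxS.{u} (cP4r 2 0) s1371 0 a1371_1 := x1371
theorem x1371_2 : AuxS.{u} (cP4r 2 0) s1371 0 a1371_2 := x1371_1
theorem n1371 : Sound.{u} (cP4r 2 0) s1371 0 :=
  (x1371_2.jump c1371_0 c1371_1 n113 :)
theorem x1372 : AuxS.{u} (cP4r 2 0) s1372 0 a1372 := aux_base3 tw213 rfl b1372
theorem x1372_1 : AuxS.{u} (cP4r 2 0) s1372 0 a1372_1 := x1372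
theorem x1372_2 : AuxS.{u} (cP4r 2 0) s1372 0 a1372_2 := x1372_1
theorem n1372 : Sound.{u} (cP4r 2 0) s1372 0 :=
  (x1372_2.jump c1372_0 c1372_1 n114 :)
theorem x1368 : AuxS.{u} (cP4r 2 0) s1368 0 a1368 := aux_base3 tw213 rfl b1368
theorem x1368_1 : AuxS.{u} (cP4r 2 0) s1368 0 a1368_1 := x1368
theorem x1368_2 : AuxS.{u} (cP4r 2 0) s1368 0 a1368_2 := x1368_1
theorem n1368 : Sound.{u} (cP4r 2 0) s1368 0 :=
  (x1368_2.rho (AllS.cons n1369 (AllS.cons n1370 (AllS.cons n1371 (AllS.cons n1372 AllS.nil)))) c1368_0 :)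
theorem x1362 : AuxS.{u} (cP4r 2 0) s1362 0 a1362 := aux_base3 tw207 rfl b1362
theorem x1362_1 : AuxS.{u} (cP4r 2 0) s1362 0 a1362_1 := x1362
theorem x1362_2 : AuxS.{u} (cP4r 2 0) s1362 0 a1362_2 := x1362_1
theorem x1362_3 : AuxS.{u} (cP4r 2 0) s1362 0 a1362_3 := x1362_2
theorem n1362 : Sound.{u} (cP4r 2 0) s1362 0 :=
  (x1362_3.fr2 (AuxS.gam x1362_3 c1362_0) (AllS.cons n1368 AllS.nil) c1362_1 :)
theorem x1363 : AuxS.{u} (cP4r 2 0) s1363 0 a1363 := aux_base3 tw208 rfl b1363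
theorem x1363_1 : AuxS.{u} (cP4r 2 0) s1363 0 a1363_1 := x1363
theorem x1363_2 : AuxS.{u} (cP4r 2 0) s1363 0 a1363_2 := x1363_1
theorem n1363 : Sound.{u} (cP4r 2 0) s1363 0 :=
  (x1363_2.fr2 GamS.nil AllS.nil c1363_0 :)
theorem x1364 : AuxS.{u} (cP4r 2 0) s1364 0 a1364 := aux_base3 tw209 rfl b1364
theorem x1364_1 : AuxS.{u} (cP4r 2 0) s1364 0 a1364_1 := x1364
theorem x1364_2 : AuxS.{u} (cP4r 2 0) s1364 0 a1364_2 := x1364_1
theorem n1364 : Sound.{u} (cP4r 2 0) s1364 0 :=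
  (x1364_2.fr2 GamS.nil AllS.nil c1364_0 :)
theorem x1365 : AuxS.{u} (cP4r 2 0) s1365 0 a1365 := aux_base3 tw210 rfl b1365
theorem x1365_1 : AuxS.{u} (cP4r 2 0) s1365 0 a1365_1 := x1365
theorem x1365_2 : AuxS.{u} (cP4r 2 0) s1365 0 a1365_2 := x1365_1
theorem n1365 : Sound.{u} (cP4r 2 0) s1365 0 :=
  (x1365_2.fr2 GamS.nil AllS.nil c1365_0 :)
theorem x1366 : AuxS.{u} (cP4r 2 0) s1366 0 a1366 := aux_base3 tw211 rfl b1366
theorem x1366_1 : AuxS.{u} (cP4r 2 0) s1366 0 a1366_1 := x1366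
theorem x1366_2 : AuxS.{u} (cP4r 2 0) s1366 0 a1366_2 := x1366_1
theorem n1366 : Sound.{u} (cP4r 2 0) s1366 0 :=
  (x1366_2.fr2 GamS.nil AllS.nil c1366_0 :)
theorem x1374 : AuxS.{u} (cP4r 2 0) s1374 0 a1374 := aux_base3 tw214 rfl b1374
theorem x1374_1 : AuxS.{u} (cP4r 2 0) s1374 0 a1374_1 := x1374
theorem x1374_2 : AuxS.{u} (cP4r 2 0) s1374 0 a1374_2 := x1374_1
theorem n1374 : Sound.{u} (cP4r 2 0) s1374 0 :=
  (x1374_2.jump c1374_0 c1374_1 n630 :)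
theorem x1375 : AuxS.{u} (cP4r 2 0) s1375 0 a1375 := aux_base3 tw214 rfl b1375
theorem x1375_1 : AuxS.{u} (cP4r 2 0) s1375 0 a1375_1 := x1375
theorem x1375_2 : AuxS.{u} (cP4r 2 0) s1375 0 a1375_2 := x1375_1
theorem n1375 : Sound.{u} (cP4r 2 0) s1375 0 :=
  (x1375_2.jump c1375_0 c1375_1 n631 :)
theorem x1376 : AuxS.{u} (cP4r 2 0) s1376 0 a1376 := aux_base3 tw214 rfl b1376
theorem x1376_1 : AuxS.{u} (cP4r 2 0) s1376 0 a1376_1 := x1376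
theorem x1376_2 : AuxS.{u} (cP4r 2 0) s1376 0 a1376_2 := x1376_1
theorem n1376 : Sound.{u} (cP4r 2 0) s1376 0 :=
  (x1376_2.jump c1376_0 c1376_1 n630 :)
theorem x1377 : AuxS.{u} (cP4r 2 0) s1377 0 a1377 := aux_base3 tw214 rfl b1377
theorem x1377_1 : AuxS.{u} (cP4r 2 0) s1377 0 a1377_1 := x1377
theorem x1377_2 : AuxS.{u} (cP4r 2 0) s1377 0 a1377_2 := x1377_1
theorem n1377 : Sound.{u} (cP4r 2 0) s1377 0 :=
  (x1377_2.jump c1377_0 c1377_1 n631 :)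
theorem x1373 : AuxS.{u} (cP4r 2 0) s1373 0 a1373 := aux_base3 tw214 rfl b1373
theorem x1373_1 : AuxS.{u} (cP4r 2 0) s1373 0 a1373_1 := x1373
theorem x1373_2 : AuxS.{u} (cP4r 2 0) s1373 0 a1373_2 := x1373_1
theorem n1373 : Sound.{u} (cP4r 2 0) s1373 0 :=
  (x1373_2.rho (AllS.cons n1374 (AllS.cons n1375 (AllS.cons n1376 (AllS.cons n1377 AllS.nil)))) c1373_0 :)
theorem x1367 : AuxS.{u} (cP4r 2 0) s1367 0 a1367 := aux_base3 tw212 rfl b1367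
theorem x1367_1 : AuxS.{u} (cP4r 2 0) s1367 0 a1367_1 := x1367
theorem x1367_2 : AuxS.{u} (cP4r 2 0) s1367 0 a1367_2 := x1367_1
theorem x1367_3 : AuxS.{u} (cP4r 2 0) s1367 0 a1367_3 := x1367_2
theorem n1367 : Sound.{u} (cP4r 2 0) s1367 0 :=
  (x1367_3.fr2 (AuxS.gam x1367_3 c1367_0) (AllS.cons n1373 AllS.nil) c1367_1 :)
theorem x1320 : AuxS.{u} (cP4r 2 0) s1320 0 a1320 := aux_base3 tw179 rfl b1320
theorem x1320_1 : AuxS.{u} (cP4r 2 0) s1320 0 a1320_1 := x1320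
theorem x1320_2 : AuxS.{u} (cP4r 2 0) s1320 0 a1320_2 := x1320_1
theorem n1320 : Sound.{u} (cP4r 2 0) s1320 0 :=
  (x1320_2.fr2 GamS.nil (AllS.cons n1352 (AllS.cons n1353 (AllS.cons n1354 (AllS.cons n1355 (AllS.cons n1356 (AllS.cons n1357 (AllS.cons n1358 (AllS.cons n1359 (AllS.cons n1360 (AllS.cons n1361 (AllS.cons n1362 (AllS.cons n1363 (AllS.cons n1364 (AllS.cons n1365 (AllS.cons n1366 (AllS.cons n1367 AllS.nil)))))))))))))))) c1320_0 :)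
theorem x1321 : AuxS.{u} (cP4r 2 0) s1321 0 a1321 := aux_base3 tw179 rfl b1321
theorem n1321 : Sound.{u} (cP4r 2 0) s1321 0 :=
  (x1321.k4 c1321_0 :)
theorem x1322 : AuxS.{u} (cP4r 2 0) s1322 0 a1322 := aux_base3 tw179 rfl b1322
theorem n1322 : Sound.{u} (cP4r 2 0) s1322 0 :=
  (x1322.k4 c1322_0 :)
theorem x1323 : AuxS.{u} (cP4r 2 0) s1323 0 a1323 := aux_base3 tw179 rfl b1323
theorem n1323 : Sound.{u} (cP4r 2 0) s1323 0 :=
  (x1323.k4 c1323_0 :)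
theorem x1324 : AuxS.{u} (cP4r 2 0) s1324 0 a1324 := aux_base3 tw179 rfl b1324
theorem n1324 : Sound.{u} (cP4r 2 0) s1324 0 :=
  (x1324.k4 c1324_0 :)
theorem x1325 : AuxS.{u} (cP4r 2 0) s1325 0 a1325 := aux_base3 tw179 rfl b1325
theorem n1325 : Sound.{u} (cP4r 2 0) s1325 0 :=
  (x1325.k4 c1325_0 :)
theorem x1326 : AuxS.{u} (cP4r 2 0) s1326 0 a1326 := aux_base3 tw179 rfl b1326
theorem n1326 : Sound.{u} (cP4r 2 0) s1326 0 :=
  (x1326.k4 c1326_0 :)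
theorem x1327 : AuxS.{u} (cP4r 2 0) s1327 0 a1327 := aux_base3 tw179 rfl b1327
theorem n1327 : Sound.{u} (cP4r 2 0) s1327 0 :=
  (x1327.k4 c1327_0 :)
theorem x1328 : AuxS.{u} (cP4r 2 0) s1328 0 a1328 := aux_base3 tw179 rfl b1328
theorem n1328 : Sound.{u} (cP4r 2 0) s1328 0 :=
  (x1328.k4 c1328_0 :)
theorem x1329 : AuxS.{u} (cP4r 2 0) s1329 0 a1329 := aux_base3 tw179 rfl b1329
theorem n1329 : Sound.{u} (cP4r 2 0) s1329 0 :=
  (x1329.k4 c1329_0 :)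
theorem x1330 : AuxS.{u} (cP4r 2 0) s1330 0 a1330 := aux_base3 tw179 rfl b1330
theorem n1330 : Sound.{u} (cP4r 2 0) s1330 0 :=
  (x1330.k4 c1330_0 :)
theorem x1331 : AuxS.{u} (cP4r 2 0) s1331 0 a1331 := aux_base3 tw179 rfl b1331
theorem n1331 : Sound.{u} (cP4r 2 0) s1331 0 :=
  (x1331.k4 c1331_0 :)
theorem x1332 : AuxS.{u} (cP4r 2 0) s1332 0 a1332 := aux_base3 tw179 rfl b1332
theorem n1332 : Sound.{u} (cP4r 2 0) s1332 0 :=
  (x1332.k4 c1332_0 :)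
theorem x1333 : AuxS.{u} (cP4r 2 0) s1333 0 a1333 := aux_base3 tw179 rfl b1333
theorem n1333 : Sound.{u} (cP4r 2 0) s1333 0 :=
  (x1333.k4 c1333_0 :)
theorem x1334 : AuxS.{u} (cP4r 2 0) s1334 0 a1334 := aux_base3 tw179 rfl b1334
theorem n1334 : Sound.{u} (cP4r 2 0) s1334 0 :=
  (x1334.k4 c1334_0 :)
theorem x1335 : AuxS.{u} (cP4r 2 0) s1335 0 a1335 := aux_base3 tw179 rfl b1335
theorem n1335 : Sound.{u} (cP4r 2 0) s1335 0 :=
  (x1335.k4 c1335_0 :)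
theorem x1336 : AuxS.{u} (cP4r 2 0) s1336 0 a1336 := aux_base3 tw179 rfl b1336
theorem n1336 : Sound.{u} (cP4r 2 0) s1336 0 :=
  (x1336.k4 c1336_0 :)
theorem x1337 : AuxS.{u} (cP4r 2 0) s1337 0 a1337 := aux_base3 tw179 rfl b1337
theorem n1337 : Sound.{u} (cP4r 2 0) s1337 0 :=
  (x1337.k4 c1337_0 :)
theorem x1338 : AuxS.{u} (cP4r 2 0) s1338 0 a1338 := aux_base3 tw179 rfl b1338
theorem n1338 : Sound.{u} (cP4r 2 0) s1338 0 :=
  (x1338.k4 c1338_0 :)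
theorem x1339 : AuxS.{u} (cP4r 2 0) s1339 0 a1339 := aux_base3 tw179 rfl b1339
theorem n1339 : Sound.{u} (cP4r 2 0) s1339 0 :=
  (x1339.k4 c1339_0 :)
theorem x1340 : AuxS.{u} (cP4r 2 0) s1340 0 a1340 := aux_base3 tw179 rfl b1340
theorem n1340 : Sound.{u} (cP4r 2 0) s1340 0 :=
  (x1340.k4 c1340_0 :)
theorem x1341 : AuxS.{u} (cP4r 2 0) s1341 0 a1341 := aux_base3 tw179 rfl b1341
theorem n1341 : Sound.{u} (cP4r 2 0) s1341 0 :=
  (x1341.k4 c1341_0 :)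
theorem x1342 : AuxS.{u} (cP4r 2 0) s1342 0 a1342 := aux_base3 tw179 rfl b1342
theorem n1342 : Sound.{u} (cP4r 2 0) s1342 0 :=
  (x1342.k4 c1342_0 :)
theorem x1343 : AuxS.{u} (cP4r 2 0) s1343 0 a1343 := aux_base3 tw179 rfl b1343
theorem n1343 : Sound.{u} (cP4r 2 0) s1343 0 :=
  (x1343.k4 c1343_0 :)
theorem x1344 : AuxS.{u} (cP4r 2 0) s1344 0 a1344 := aux_base3 tw179 rfl b1344
theorem n1344 : Sound.{u} (cP4r 2 0) s1344 0 :=
  (x1344.k4 c1344_0 :)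
theorem x1345 : AuxS.{u} (cP4r 2 0) s1345 0 a1345 := aux_base3 tw179 rfl b1345
theorem n1345 : Sound.{u} (cP4r 2 0) s1345 0 :=
  (x1345.k4 c1345_0 :)
theorem x1346 : AuxS.{u} (cP4r 2 0) s1346 0 a1346 := aux_base3 tw179 rfl b1346
theorem n1346 : Sound.{u} (cP4r 2 0) s1346 0 :=
  (x1346.k4 c1346_0 :)
theorem x1347 : AuxS.{u} (cP4r 2 0) s1347 0 a1347 := aux_base3 tw179 rfl b1347
theorem n1347 : Sound.{u} (cP4r 2 0) s1347 0 :=
  (x1347.k4 c1347_0 :)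
theorem x1348 : AuxS.{u} (cP4r 2 0) s1348 0 a1348 := aux_base3 tw179 rfl b1348
theorem n1348 : Sound.{u} (cP4r 2 0) s1348 0 :=
  (x1348.k4 c1348_0 :)
theorem x1349 : AuxS.{u} (cP4r 2 0) s1349 0 a1349 := aux_base3 tw179 rfl b1349
theorem n1349 : Sound.{u} (cP4r 2 0) s1349 0 :=
  (x1349.k4 c1349_0 :)
theorem x1350 : AuxS.{u} (cP4r 2 0) s1350 0 a1350 := aux_base3 tw179 rfl b1350
theorem n1350 : Sound.{u} (cP4r 2 0) s1350 0 :=
  (x1350.k4 c1350_0 :)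
theorem x1351 : AuxS.{u} (cP4r 2 0) s1351 0 a1351 := aux_base3 tw179 rfl b1351
theorem n1351 : Sound.{u} (cP4r 2 0) s1351 0 :=
  (x1351.k4 c1351_0 :)
theorem x1302 : AuxS.{u} (cP4r 2 0) s1302 0 a1302 := aux_base3 tw179 rfl b1302
theorem x1302_1 : AuxS.{u} (cP4r 2 0) s1302 0 a1302_1 := x1302
theorem x1302_2 : AuxS.{u} (cP4r 2 0) s1302 0 a1302_2 := x1302_1
theorem x1302_3 : AuxS.{u} (cP4r 2 0) s1302 0 a1302_3 := x1302_2
theorem n1302 : Sound.{u} (cP4r 2 0) s1302 0 :=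
  (x1302_3.fr (AuxS.gam x1302_3 c1302_0) (AllS.cons n1320 (AllS.cons n1321 (AllS.cons n1322 (AllS.cons n1323 (AllS.cons n1324 (AllS.cons n1325 (AllS.cons n1326 (AllS.cons n1327 (AllS.cons n1328 (AllS.cons n1329 (AllS.cons n1330 (AllS.cons n1331 (AllS.cons n1332 (AllS.cons n1333 (AllS.cons n1334 (AllS.cons n1335 (AllS.cons n1336 (AllS.cons n1337 (AllS.cons n1338 (AllS.cons n1339 (AllS.cons n1340 (AllS.cons n1341 (AllS.cons n1342 (AllS.cons n1343 (AllS.cons n1344 (AllS.cons n1345 (AllS.cons n1346 (AllS.cons n1347 (AllS.cons n1348 (AllS.cons n1349 (AllS.cons n1350 (AllS.cons n1351 AllS.nil)))))))))))))))))))))))))))))))) c1302_1 :)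
theorem x1303 : AuxS.{u} (cP4r 2 0) s1303 0 a1303 := aux_base3 tw180 rfl b1303
theorem x1303_1 : AuxS.{u} (cP4r 2 0) s1303 0 a1303_1 := x1303
theorem x1303_2 : AuxS.{u} (cP4r 2 0) s1303 0 a1303_2 := x1303_1
theorem x1303_3 : AuxS.{u} (cP4r 2 0) s1303 0 a1303_3 := x1303_2
theorem n1303 : Sound.{u} (cP4r 2 0) s1303 0 :=
  (x1303_3.fr GamS.nil AllS.nil c1303_0 :)
theorem x1304 : AuxS.{u} (cP4r 2 0) s1304 0 a1304 := aux_base3 tw181 rfl b1304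
theorem x1304_1 : AuxS.{u} (cP4r 2 0) s1304 0 a1304_1 := x1304
theorem x1304_2 : AuxS.{u} (cP4r 2 0) s1304 0 a1304_2 := x1304_1
theorem x1304_3 : AuxS.{u} (cP4r 2 0) s1304 0 a1304_3 := x1304_2
theorem n1304 : Sound.{u} (cP4r 2 0) s1304 0 :=
  (x1304_3.fr GamS.nil AllS.nil c1304_0 :)
theorem x1305 : AuxS.{u} (cP4r 2 0) s1305 0 a1305 := aux_base3 tw182 rfl b1305
theorem x1305_1 : AuxS.{u} (cP4r 2 0) s1305 0 a1305_1 := x1305
theorem x1305_2 : AuxS.{u} (cP4r 2 0) s1305 0 a1305_2 := x1305_1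
theorem x1305_3 : AuxS.{u} (cP4r 2 0) s1305 0 a1305_3 := x1305_2
theorem n1305 : Sound.{u} (cP4r 2 0) s1305 0 :=
  (x1305_3.fr GamS.nil AllS.nil c1305_0 :)
theorem x1306 : AuxS.{u} (cP4r 2 0) s1306 0 a1306 := aux_base3 tw183 rfl b1306
theorem x1306_1 : AuxS.{u} (cP4r 2 0) s1306 0 a1306_1 := x1306
theorem x1306_2 : AuxS.{u} (cP4r 2 0) s1306 0 a1306_2 := x1306_1
theorem x1306_3 : AuxS.{u} (cP4r 2 0) s1306 0 a1306_3 := x1306_2
theorem x1306_4 : AuxS.{u} (cP4r 2 0) s1306 0 a1306_4 := x1306_3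
theorem n1306 : Sound.{u} (cP4r 2 0) s1306 0 :=
  (x1306_4.fr GamS.nil AllS.nil c1306_0 :)
theorem x1307 : AuxS.{u} (cP4r 2 0) s1307 0 a1307 := aux_base3 tw184 rfl b1307
theorem x1307_1 : AuxS.{u} (cP4r 2 0) s1307 0 a1307_1 := x1307
theorem x1307_2 : AuxS.{u} (cP4r 2 0) s1307 0 a1307_2 := x1307_1
theorem x1307_3 : AuxS.{u} (cP4r 2 0) s1307 0 a1307_3 := x1307_2
theorem x1307_4 : AuxS.{u} (cP4r 2 0) s1307 0 a1307_4 := x1307_3
theorem n1307 : Sound.{u} (cP4r 2 0) s1307 0 :=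
  (x1307_4.fr GamS.nil AllS.nil c1307_0 :)
theorem x1308 : AuxS.{u} (cP4r 2 0) s1308 0 a1308 := aux_base3 tw185 rfl b1308
theorem x1308_1 : AuxS.{u} (cP4r 2 0) s1308 0 a1308_1 := x1308
theorem x1308_2 : AuxS.{u} (cP4r 2 0) s1308 0 a1308_2 := x1308_1
theorem x1308_3 : AuxS.{u} (cP4r 2 0) s1308 0 a1308_3 := x1308_2
theorem x1308_4 : AuxS.{u} (cP4r 2 0) s1308 0 a1308_4 := x1308_3
theorem n1308 : Sound.{u} (cP4r 2 0) s1308 0 :=
  (x1308_4.fr GamS.nil AllS.nil c1308_0 :)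
theorem x1309 : AuxS.{u} (cP4r 2 0) s1309 0 a1309 := aux_base3 tw186 rfl b1309
theorem x1309_1 : AuxS.{u} (cP4r 2 0) s1309 0 a1309_1 := x1309
theorem x1309_2 : AuxS.{u} (cP4r 2 0) s1309 0 a1309_2 := x1309_1
theorem x1309_3 : AuxS.{u} (cP4r 2 0) s1309 0 a1309_3 := x1309_2
theorem x1309_4 : AuxS.{u} (cP4r 2 0) s1309 0 a1309_4 := x1309_3
theorem n1309 : Sound.{u} (cP4r 2 0) s1309 0 :=
  (x1309_4.fr GamS.nil AllS.nil c1309_0 :)
theorem x1310 : AuxS.{u} (cP4r 2 0) s1310 0 a1310 := aux_base3 tw187 rfl b1310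
theorem x1310_1 : AuxS.{u} (cP4r 2 0) s1310 0 a1310_1 := x1310
theorem x1310_2 : AuxS.{u} (cP4r 2 0) s1310 0 a1310_2 := x1310_1
theorem x1310_3 : AuxS.{u} (cP4r 2 0) s1310 0 a1310_3 := x1310_2
theorem n1310 : Sound.{u} (cP4r 2 0) s1310 0 :=
  (x1310_3.fr GamS.nil AllS.nil c1310_0 :)
theorem x1311 : AuxS.{u} (cP4r 2 0) s1311 0 a1311 := aux_base3 tw188 rfl b1311
theorem x1311_1 : AuxS.{u} (cP4r 2 0) s1311 0 a1311_1 := x1311
theorem x1311_2 : AuxS.{u} (cP4r 2 0) s1311 0 a1311_2 := x1311_1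
theorem x1311_3 : AuxS.{u} (cP4r 2 0) s1311 0 a1311_3 := x1311_2
theorem n1311 : Sound.{u} (cP4r 2 0) s1311 0 :=
  (x1311_3.fr GamS.nil AllS.nil c1311_0 :)
theorem x1312 : AuxS.{u} (cP4r 2 0) s1312 0 a1312 := aux_base3 tw189 rfl b1312
theorem x1312_1 : AuxS.{u} (cP4r 2 0) s1312 0 a1312_1 := x1312
theorem x1312_2 : AuxS.{u} (cP4r 2 0) s1312 0 a1312_2 := x1312_1
theorem x1312_3 : AuxS.{u} (cP4r 2 0) s1312 0 a1312_3 := x1312_2
theorem n1312 : Sound.{u} (cP4r 2 0) s1312 0 :=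
  (x1312_3.fr GamS.nil AllS.nil c1312_0 :)
theorem x1313 : AuxS.{u} (cP4r 2 0) s1313 0 a1313 := aux_base3 tw190 rfl b1313
theorem x1313_1 : AuxS.{u} (cP4r 2 0) s1313 0 a1313_1 := x1313
theorem x1313_2 : AuxS.{u} (cP4r 2 0) s1313 0 a1313_2 := x1313_1
theorem x1313_3 : AuxS.{u} (cP4r 2 0) s1313 0 a1313_3 := x1313_2
theorem n1313 : Sound.{u} (cP4r 2 0) s1313 0 :=
  (x1313_3.fr GamS.nil AllS.nil c1313_0 :)
theorem x1314 : AuxS.{u} (cP4r 2 0) s1314 0 a1314 := aux_base3 tw191 rfl b1314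
theorem x1314_1 : AuxS.{u} (cP4r 2 0) s1314 0 a1314_1 := x1314
theorem x1314_2 : AuxS.{u} (cP4r 2 0) s1314 0 a1314_2 := x1314_1
theorem x1314_3 : AuxS.{u} (cP4r 2 0) s1314 0 a1314_3 := x1314_2
theorem x1314_4 : AuxS.{u} (cP4r 2 0) s1314 0 a1314_4 := x1314_3
theorem n1314 : Sound.{u} (cP4r 2 0) s1314 0 :=
  (x1314_4.fr GamS.nil AllS.nil c1314_0 :)
theorem x1315 : AuxS.{u} (cP4r 2 0) s1315 0 a1315 := aux_base3 tw192 rfl b1315
theorem x1315_1 : AuxS.{u} (cP4r 2 0) s1315 0 a1315_1 := x1315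
theorem x1315_2 : AuxS.{u} (cP4r 2 0) s1315 0 a1315_2 := x1315_1
theorem x1315_3 : AuxS.{u} (cP4r 2 0) s1315 0 a1315_3 := x1315_2
theorem x1315_4 : AuxS.{u} (cP4r 2 0) s1315 0 a1315_4 := x1315_3
theorem n1315 : Sound.{u} (cP4r 2 0) s1315 0 :=
  (x1315_4.fr GamS.nil AllS.nil c1315_0 :)
theorem x1316 : AuxS.{u} (cP4r 2 0) s1316 0 a1316 := aux_base3 tw193 rfl b1316
theorem x1316_1 : AuxS.{u} (cP4r 2 0) s1316 0 a1316_1 := x1316
theorem x1316_2 : AuxS.{u} (cP4r 2 0) s1316 0 a1316_2 := x1316_1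
theorem x1316_3 : AuxS.{u} (cP4r 2 0) s1316 0 a1316_3 := x1316_2
theorem x1316_4 : AuxS.{u} (cP4r 2 0) s1316 0 a1316_4 := x1316_3
theorem n1316 : Sound.{u} (cP4r 2 0) s1316 0 :=
  (x1316_4.fr GamS.nil AllS.nil c1316_0 :)
theorem x1317 : AuxS.{u} (cP4r 2 0) s1317 0 a1317 := aux_base3 tw194 rfl b1317
theorem x1317_1 : AuxS.{u} (cP4r 2 0) s1317 0 a1317_1 := x1317
theorem x1317_2 : AuxS.{u} (cP4r 2 0) s1317 0 a1317_2 := x1317_1
theorem x1317_3 : AuxS.{u} (cP4r 2 0) s1317 0 a1317_3 := x1317_2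
theorem x1317_4 : AuxS.{u} (cP4r 2 0) s1317 0 a1317_4 := x1317_3
theorem n1317 : Sound.{u} (cP4r 2 0) s1317 0 :=
  (x1317_4.fr GamS.nil AllS.nil c1317_0 :)
theorem x1318 : AuxS.{u} (cP4r 2 0) s1318 0 a1318 := aux_base3 tw195 rfl b1318
theorem n1318 : Sound.{u} (cP4r 2 0) s1318 0 :=
  (x1318.k3 c1318_0 :)
theorem x1319 : AuxS.{u} (cP4r 2 0) s1319 0 a1319 := aux_base3 tw196 rfl b1319
theorem n1319 : Sound.{u} (cP4r 2 0) s1319 0 :=
  (x1319.k3 c1319_0 :)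
theorem x1301 : AuxS.{u} (cP4r 2 0) s1301 0 a1301 := aux_base3 tw169 rfl b1301
theorem x1301_1 : AuxS.{u} (cP4r 2 0) s1301 0 a1301_1 := (AuxS.up x1301 c1301_6 :)
theorem x1301_2 : AuxS.{u} (cP4r 2 0) s1301 0 a1301_2 := (AuxS.up2 x1301_1 c1301_7 :)
theorem x1301_3 : AuxS.{u} (cP4r 2 0) s1301 0 a1301_3 := (AuxS.up x1301_2 c1301_8 :)
theorem p1301_0_1 : Phs s1301 a1301_3 (List.map Prod.fst g1301_0) [s1302, s1303, s1304, s1305, s1306, s1307, s1308, s1309, s1310, s1311, s1312, s1313, s1314, s1315, s1316, s1317, s1318, s1319] ct1301_0 v1301_0 5 w1301_0_1 := (Phs.fin c1301_1)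
theorem p1301_0_3 : Phs s1301 a1301_3 (List.map Prod.fst g1301_0) [s1302, s1303, s1304, s1305, s1306, s1307, s1308, s1309, s1310, s1311, s1312, s1313, s1314, s1315, s1316, s1317, s1318, s1319] ct1301_0 v1301_0 4 w1301_0_3 := (Phs.stp c1301_2 p1301_0_1)
theorem p1301_0_5 : Phs s1301 a1301_3 (List.map Prod.fst g1301_0) [s1302, s1303, s1304, s1305, s1306, s1307, s1308, s1309, s1310, s1311, s1312, s1313, s1314, s1315, s1316, s1317, s1318, s1319] ct1301_0 v1301_0 1 w1301_0_5 := (Phs.stp c1301_3 p1301_0_3)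
theorem n1301 : Sound.{u} (cP4r 2 0) s1301 0 :=
  (x1301_3.ext2 (fun h => absurd h (by decide)) (AuxS.gam x1301_3 c1301_0) (AllS.cons n1302 (AllS.cons n1303 (AllS.cons n1304 (AllS.cons n1305 (AllS.cons n1306 (AllS.cons n1307 (AllS.cons n1308 (AllS.cons n1309 (AllS.cons n1310 (AllS.cons n1311 (AllS.cons n1312 (AllS.cons n1313 (AllS.cons n1314 (AllS.cons n1315 (AllS.cons n1316 (AllS.cons n1317 (AllS.cons n1318 (AllS.cons n1319 AllS.nil)))))))))))))))))) c1301_5 (Phs.stp c1301_4 p1301_0_5) (Phs.fin (ct := ct1301_0) rfl) :)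
theorem x1300 : AuxS.{u} (cP4r 2 0) s1300 0 a1300 := aux_base3 tw178 rfl b1300
theorem x1300_1 : AuxS.{u} (cP4r 2 0) s1300 0 a1300_1 := x1300
theorem x1300_2 : AuxS.{u} (cP4r 2 0) s1300 0 a1300_2 := x1300_1
theorem n1300 : Sound.{u} (cP4r 2 0) s1300 0 :=
  (x1300_2.jump c1300_0 c1300_1 n1301 :)
theorem x1291 : AuxS.{u} (cP4r 2 0) s1291 0 a1291 := aux_base3 tw169 rfl b1291
theorem x1291_1 : AuxS.{u} (cP4r 2 0) s1291 0 a1291_1 := x1291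
theorem x1291_2 : AuxS.{u} (cP4r 2 0) s1291 0 a1291_2 := x1291_1
theorem p1291_0_1 : Phs s1291 a1291_2 (List.map Prod.fst g1291_0) [s1299, s1300] ct1291_0 v1291_0 5 w1291_0_1 := (Phs.fin c1291_1)
theorem n1291 : Sound.{u} (cP4r 2 0) s1291 0 :=
  (x1291_2.ext2 (fun h => absurd h (by decide)) (AuxS.gam x1291_2 c1291_0) (AllS.cons n1299 (AllS.cons n1300 AllS.nil)) c1291_3 (Phs.fin (ct := ct1291_0) rfl) (Phs.stp c1291_2 p1291_0_1) :)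
theorem x1292 : AuxS.{u} (cP4r 2 0) s1292 0 a1292 := aux_base3 tw170 rfl b1292
theorem x1292_1 : AuxS.{u} (cP4r 2 0) s1292 0 a1292_1 := x1292
theorem x1292_2 : AuxS.{u} (cP4r 2 0) s1292 0 a1292_2 := x1292_1
theorem n1292 : Sound.{u} (cP4r 2 0) s1292 0 :=
  (x1292_2.ext2 (fun h => absurd h (by decide)) GamS.nil AllS.nil c1292_1 (Phs.fin (ct := ct1292_0) rfl) (Phs.fin c1292_0) :)
theorem x1293 : AuxS.{u} (cP4r 2 0) s1293 0 a1293 := aux_base3 tw171 rfl b1293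
theorem x1293_1 : AuxS.{u} (cP4r 2 0) s1293 0 a1293_1 := (AuxS.up x1293 c1293_1 :)
theorem n1293 : Sound.{u} (cP4r 2 0) s1293 0 :=
  (x1293_1.k7 c1293_0 :)
theorem x1294 : AuxS.{u} (cP4r 2 0) s1294 0 a1294 := aux_base3 tw172 rfl b1294
theorem x1294_1 : AuxS.{u} (cP4r 2 0) s1294 0 a1294_1 := (AuxS.up x1294 c1294_1 :)
theorem n1294 : Sound.{u} (cP4r 2 0) s1294 0 :=
  (x1294_1.k7 c1294_0 :)
theorem x1295 : AuxS.{u} (cP4r 2 0) s1295 0 a1295 := aux_base3 tw173 rfl b1295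
theorem x1295_1 : AuxS.{u} (cP4r 2 0) s1295 0 a1295_1 := x1295
theorem x1295_2 : AuxS.{u} (cP4r 2 0) s1295 0 a1295_2 := x1295_1
theorem n1295 : Sound.{u} (cP4r 2 0) s1295 0 :=
  (x1295_2.ext2 (fun h => absurd h (by decide)) GamS.nil AllS.nil c1295_1 (Phs.fin (ct := ct1295_0) rfl) (Phs.fin c1295_0) :)
theorem x1378 : AuxS.{u} (cP4r 2 0) s1378 0 a1378 := aux_base3 tw215 rfl b1378
theorem x1378_1 : AuxS.{u} (cP4r 2 0) s1378 0 a1378_1 := (AuxS.up x1378 c1378_1 :)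
theorem x1378_2 : AuxS.{u} (cP4r 2 0) s1378 0 a1378_2 := (AuxS.up2 x1378_1 c1378_2 :)
theorem x1378_3 : AuxS.{u} (cP4r 2 0) s1378 0 a1378_3 := (AuxS.up2 x1378_2 c1378_3 :)
theorem n1378 : Sound.{u} (cP4r 2 0) s1378 0 :=
  (x1378_3.k7 c1378_0 :)
theorem x1399 : AuxS.{u} (cP4r 2 0) s1399 0 a1399 := aux_base3 tw217 rfl b1399
theorem n1399 : Sound.{u} (cP4r 2 0) s1399 0 :=
  (x1399.k4 c1399_0 :)
theorem x1400 : AuxS.{u} (cP4r 2 0) s1400 0 a1400 := aux_base3 tw217 rfl b1400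
theorem n1400 : Sound.{u} (cP4r 2 0) s1400 0 :=
  (x1400.k4 c1400_0 :)
theorem x1401 : AuxS.{u} (cP4r 2 0) s1401 0 a1401 := aux_base3 tw217 rfl b1401
theorem n1401 : Sound.{u} (cP4r 2 0) s1401 0 :=
  (x1401.k4 c1401_0 :)
theorem x1402 : AuxS.{u} (cP4r 2 0) s1402 0 a1402 := aux_base3 tw217 rfl b1402
theorem n1402 : Sound.{u} (cP4r 2 0) s1402 0 :=
  (x1402.k4 c1402_0 :)
theorem x1403 : AuxS.{u} (cP4r 2 0) s1403 0 a1403 := aux_base3 tw217 rfl b1403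
theorem n1403 : Sound.{u} (cP4r 2 0) s1403 0 :=
  (x1403.k4 c1403_0 :)
theorem x1404 : AuxS.{u} (cP4r 2 0) s1404 0 a1404 := aux_base3 tw217 rfl b1404
theorem n1404 : Sound.{u} (cP4r 2 0) s1404 0 :=
  (x1404.k4 c1404_0 :)
theorem x1405 : AuxS.{u} (cP4r 2 0) s1405 0 a1405 := aux_base3 tw217 rfl b1405
theorem n1405 : Sound.{u} (cP4r 2 0) s1405 0 :=
  (x1405.k4 c1405_0 :)
theorem x1406 : AuxS.{u} (cP4r 2 0) s1406 0 a1406 := aux_base3 tw217 rfl b1406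
theorem n1406 : Sound.{u} (cP4r 2 0) s1406 0 :=
  (x1406.k4 c1406_0 :)
theorem x1431 : AuxS.{u} (cP4r 2 0) s1431 0 a1431 := aux_base3 tw235 rfl b1431
theorem n1431 : Sound.{u} (cP4r 2 0) s1431 0 :=
  (x1431.k3 c1431_0 :)
theorem x1432 : AuxS.{u} (cP4r 2 0) s1432 0 a1432 := aux_base3 tw236 rfl b1432
theorem n1432 : Sound.{u} (cP4r 2 0) s1432 0 :=
  (x1432.k3 c1432_0 :)
theorem x1407 : AuxS.{u} (cP4r 2 0) s1407 0 a1407 := aux_base3 tw217 rfl b1407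
theorem x1407_1 : AuxS.{u} (cP4r 2 0) s1407 0 a1407_1 := x1407
theorem n1407 : Sound.{u} (cP4r 2 0) s1407 0 :=
  (x1407_1.fr2 GamS.nil (AllS.cons n1431 (AllS.cons n1432 AllS.nil)) c1407_0 :)
theorem x1408 : AuxS.{u} (cP4r 2 0) s1408 0 a1408 := aux_base3 tw217 rfl b1408
theorem n1408 : Sound.{u} (cP4r 2 0) s1408 0 :=
  (x1408.k4 c1408_0 :)
theorem x1409 : AuxS.{u} (cP4r 2 0) s1409 0 a1409 := aux_base3 tw217 rfl b1409
theorem n1409 : Sound.{u} (cP4r 2 0) s1409 0 :=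
  (x1409.k4 c1409_0 :)
theorem x1410 : AuxS.{u} (cP4r 2 0) s1410 0 a1410 := aux_base3 tw217 rfl b1410
theorem n1410 : Sound.{u} (cP4r 2 0) s1410 0 :=
  (x1410.k4 c1410_0 :)
theorem x1411 : AuxS.{u} (cP4r 2 0) s1411 0 a1411 := aux_base3 tw217 rfl b1411
theorem n1411 : Sound.{u} (cP4r 2 0) s1411 0 :=
  (x1411.k4 c1411_0 :)
theorem x1412 : AuxS.{u} (cP4r 2 0) s1412 0 a1412 := aux_base3 tw217 rfl b1412
theorem n1412 : Sound.{u} (cP4r 2 0) s1412 0 :=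
  (x1412.k4 c1412_0 :)
theorem x1413 : AuxS.{u} (cP4r 2 0) s1413 0 a1413 := aux_base3 tw217 rfl b1413
theorem n1413 : Sound.{u} (cP4r 2 0) s1413 0 :=
  (x1413.k4 c1413_0 :)
theorem x1414 : AuxS.{u} (cP4r 2 0) s1414 0 a1414 := aux_base3 tw217 rfl b1414
theorem n1414 : Sound.{u} (cP4r 2 0) s1414 0 :=
  (x1414.k4 c1414_0 :)
theorem x1415 : AuxS.{u} (cP4r 2 0) s1415 0 a1415 := aux_base3 tw217 rfl b1415
theorem n1415 : Sound.{u} (cP4r 2 0) s1415 0 :=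
  (x1415.k4 c1415_0 :)
theorem x1416 : AuxS.{u} (cP4r 2 0) s1416 0 a1416 := aux_base3 tw217 rfl b1416
theorem n1416 : Sound.{u} (cP4r 2 0) s1416 0 :=
  (x1416.k4 c1416_0 :)
theorem x1417 : AuxS.{u} (cP4r 2 0) s1417 0 a1417 := aux_base3 tw217 rfl b1417
theorem n1417 : Sound.{u} (cP4r 2 0) s1417 0 :=
  (x1417.k4 c1417_0 :)
theorem x1418 : AuxS.{u} (cP4r 2 0) s1418 0 a1418 := aux_base3 tw217 rfl b1418
theorem n1418 : Sound.{u} (cP4r 2 0) s1418 0 :=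
  (x1418.k4 c1418_0 :)
theorem x1419 : AuxS.{u} (cP4r 2 0) s1419 0 a1419 := aux_base3 tw217 rfl b1419
theorem n1419 : Sound.{u} (cP4r 2 0) s1419 0 :=
  (x1419.k4 c1419_0 :)
theorem x1420 : AuxS.{u} (cP4r 2 0) s1420 0 a1420 := aux_base3 tw217 rfl b1420
theorem n1420 : Sound.{u} (cP4r 2 0) s1420 0 :=
  (x1420.k4 c1420_0 :)
theorem x1421 : AuxS.{u} (cP4r 2 0) s1421 0 a1421 := aux_base3 tw217 rfl b1421
theorem n1421 : Sound.{u} (cP4r 2 0) s1421 0 :=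
  (x1421.k4 c1421_0 :)
theorem x1422 : AuxS.{u} (cP4r 2 0) s1422 0 a1422 := aux_base3 tw217 rfl b1422
theorem n1422 : Sound.{u} (cP4r 2 0) s1422 0 :=
  (x1422.k4 c1422_0 :)
theorem x1423 : AuxS.{u} (cP4r 2 0) s1423 0 a1423 := aux_base3 tw217 rfl b1423
theorem n1423 : Sound.{u} (cP4r 2 0) s1423 0 :=
  (x1423.k4 c1423_0 :)
theorem x1424 : AuxS.{u} (cP4r 2 0) s1424 0 a1424 := aux_base3 tw217 rfl b1424
theorem n1424 : Sound.{u} (cP4r 2 0) s1424 0 :=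
  (x1424.k4 c1424_0 :)
theorem x1425 : AuxS.{u} (cP4r 2 0) s1425 0 a1425 := aux_base3 tw217 rfl b1425
theorem n1425 : Sound.{u} (cP4r 2 0) s1425 0 :=
  (x1425.k4 c1425_0 :)
theorem x1426 : AuxS.{u} (cP4r 2 0) s1426 0 a1426 := aux_base3 tw217 rfl b1426
theorem n1426 : Sound.{u} (cP4r 2 0) s1426 0 :=
  (x1426.k4 c1426_0 :)
theorem x1427 : AuxS.{u} (cP4r 2 0) s1427 0 a1427 := aux_base3 tw217 rfl b1427
theorem n1427 : Sound.{u} (cP4r 2 0) s1427 0 :=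
  (x1427.k4 c1427_0 :)
theorem x1428 : AuxS.{u} (cP4r 2 0) s1428 0 a1428 := aux_base3 tw217 rfl b1428
theorem n1428 : Sound.{u} (cP4r 2 0) s1428 0 :=
  (x1428.k4 c1428_0 :)
theorem x1429 : AuxS.{u} (cP4r 2 0) s1429 0 a1429 := aux_base3 tw217 rfl b1429
theorem n1429 : Sound.{u} (cP4r 2 0) s1429 0 :=
  (x1429.k4 c1429_0 :)
theorem x1430 : AuxS.{u} (cP4r 2 0) s1430 0 a1430 := aux_base3 tw217 rfl b1430
theorem n1430 : Sound.{u} (cP4r 2 0) s1430 0 :=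
  (x1430.k4 c1430_0 :)
theorem x1381 : AuxS.{u} (cP4r 2 0) s1381 0 a1381 := aux_base3 tw217 rfl b1381
theorem x1381_1 : AuxS.{u} (cP4r 2 0) s1381 0 a1381_1 := x1381
theorem n1381 : Sound.{u} (cP4r 2 0) s1381 0 :=
  (x1381_1.fr (AuxS.gam x1381_1 c1381_0) (AllS.cons n1399 (AllS.cons n1400 (AllS.cons n1401 (AllS.cons n1402 (AllS.cons n1403 (AllS.cons n1404 (AllS.cons n1405 (AllS.cons n1406 (AllS.cons n1407 (AllS.cons n1408 (AllS.cons n1409 (AllS.cons n1410 (AllS.cons n1411 (AllS.cons n1412 (AllS.cons n1413 (AllS.cons n1414 (AllS.cons n1415 (AllS.cons n1416 (AllS.cons n1417 (AllS.cons n1418 (AllS.cons n1419 (AllS.cons n1420 (AllS.cons n1421 (AllS.cons n1422 (AllS.cons n1423 (AllS.cons n1424 (AllS.cons n1425 (AllS.cons n1426 (AllS.cons n1427 (AllS.cons n1428 (AllS.cons n1429 (AllS.cons n1430 AllS.nil)))))))))))))))))))))))))))))))) c1381_1 :)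
theorem x1382 : AuxS.{u} (cP4r 2 0) s1382 0 a1382 := aux_base3 tw218 rfl b1382
theorem x1382_1 : AuxS.{u} (cP4r 2 0) s1382 0 a1382_1 := x1382
theorem n1382 : Sound.{u} (cP4r 2 0) s1382 0 :=
  (x1382_1.fr GamS.nil AllS.nil c1382_0 :)
theorem x1383 : AuxS.{u} (cP4r 2 0) s1383 0 a1383 := aux_base3 tw219 rfl b1383
theorem x1383_1 : AuxS.{u} (cP4r 2 0) s1383 0 a1383_1 := x1383
theorem n1383 : Sound.{u} (cP4r 2 0) s1383 0 :=
  (x1383_1.fr GamS.nil AllS.nil c1383_0 :)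
theorem x1384 : AuxS.{u} (cP4r 2 0) s1384 0 a1384 := aux_base3 tw220 rfl b1384
theorem x1384_1 : AuxS.{u} (cP4r 2 0) s1384 0 a1384_1 := x1384
theorem n1384 : Sound.{u} (cP4r 2 0) s1384 0 :=
  (x1384_1.fr GamS.nil AllS.nil c1384_0 :)
theorem x1385 : AuxS.{u} (cP4r 2 0) s1385 0 a1385 := aux_base3 tw221 rfl b1385
theorem n1385 : Sound.{u} (cP4r 2 0) s1385 0 :=
  (x1385.k4 c1385_0 :)
theorem x1386 : AuxS.{u} (cP4r 2 0) s1386 0 a1386 := aux_base3 tw222 rfl b1386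
theorem n1386 : Sound.{u} (cP4r 2 0) s1386 0 :=
  (x1386.k4 c1386_0 :)
theorem x1387 : AuxS.{u} (cP4r 2 0) s1387 0 a1387 := aux_base3 tw223 rfl b1387
theorem n1387 : Sound.{u} (cP4r 2 0) s1387 0 :=
  (x1387.k4 c1387_0 :)
theorem x1388 : AuxS.{u} (cP4r 2 0) s1388 0 a1388 := aux_base3 tw224 rfl b1388
theorem n1388 : Sound.{u} (cP4r 2 0) s1388 0 :=
  (x1388.k4 c1388_0 :)
theorem x1389 : AuxS.{u} (cP4r 2 0) s1389 0 a1389 := aux_base3 tw225 rfl b1389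
theorem x1389_1 : AuxS.{u} (cP4r 2 0) s1389 0 a1389_1 := x1389
theorem n1389 : Sound.{u} (cP4r 2 0) s1389 0 :=
  (x1389_1.fr GamS.nil AllS.nil c1389_0 :)
theorem x1390 : AuxS.{u} (cP4r 2 0) s1390 0 a1390 := aux_base3 tw226 rfl b1390
theorem x1390_1 : AuxS.{u} (cP4r 2 0) s1390 0 a1390_1 := x1390
theorem n1390 : Sound.{u} (cP4r 2 0) s1390 0 :=
  (x1390_1.fr GamS.nil AllS.nil c1390_0 :)
theorem x1391 : AuxS.{u} (cP4r 2 0) s1391 0 a1391 := aux_base3 tw227 rfl b1391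
theorem x1391_1 : AuxS.{u} (cP4r 2 0) s1391 0 a1391_1 := x1391
theorem n1391 : Sound.{u} (cP4r 2 0) s1391 0 :=
  (x1391_1.fr GamS.nil AllS.nil c1391_0 :)
theorem x1392 : AuxS.{u} (cP4r 2 0) s1392 0 a1392 := aux_base3 tw228 rfl b1392
theorem x1392_1 : AuxS.{u} (cP4r 2 0) s1392 0 a1392_1 := x1392
theorem n1392 : Sound.{u} (cP4r 2 0) s1392 0 :=
  (x1392_1.fr GamS.nil AllS.nil c1392_0 :)
theorem x1393 : AuxS.{u} (cP4r 2 0) s1393 0 a1393 := aux_base3 tw229 rfl b1393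
theorem n1393 : Sound.{u} (cP4r 2 0) s1393 0 :=
  (x1393.k4 c1393_0 :)
theorem x1394 : AuxS.{u} (cP4r 2 0) s1394 0 a1394 := aux_base3 tw230 rfl b1394
theorem n1394 : Sound.{u} (cP4r 2 0) s1394 0 :=
  (x1394.k4 c1394_0 :)
theorem x1395 : AuxS.{u} (cP4r 2 0) s1395 0 a1395 := aux_base3 tw231 rfl b1395
theorem n1395 : Sound.{u} (cP4r 2 0) s1395 0 :=
  (x1395.k4 c1395_0 :)
theorem x1396 : AuxS.{u} (cP4r 2 0) s1396 0 a1396 := aux_base3 tw232 rfl b1396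
theorem n1396 : Sound.{u} (cP4r 2 0) s1396 0 :=
  (x1396.k4 c1396_0 :)
theorem x1397 : AuxS.{u} (cP4r 2 0) s1397 0 a1397 := aux_base3 tw233 rfl b1397
theorem n1397 : Sound.{u} (cP4r 2 0) s1397 0 :=
  (x1397.k3 c1397_0 :)
theorem x1398 : AuxS.{u} (cP4r 2 0) s1398 0 a1398 := aux_base3 tw234 rfl b1398
theorem n1398 : Sound.{u} (cP4r 2 0) s1398 0 :=
  (x1398.k3 c1398_0 :)
theorem x1380 : AuxS.{u} (cP4r 2 0) s1380 0 a1380 := aux_base3 tw174 rfl b1380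
theorem x1380_1 : AuxS.{u} (cP4r 2 0) s1380 0 a1380_1 := (AuxS.up x1380 c1380_6 :)
theorem x1380_2 : AuxS.{u} (cP4r 2 0) s1380 0 a1380_2 := (AuxS.up2 x1380_1 c1380_7 :)
theorem x1380_3 : AuxS.{u} (cP4r 2 0) s1380 0 a1380_3 := (AuxS.up x1380_2 c1380_8 :)
theorem p1380_0_1 : Phs s1380 a1380_3 (List.map Prod.fst g1380_0) [s1381, s1382, s1383, s1384, s1385, s1386, s1387, s1388, s1389, s1390, s1391, s1392, s1393, s1394, s1395, s1396, s1397, s1398] ct1380_0 v1380_0 5 w1380_0_1 := (Phs.fin c1380_1)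
theorem p1380_0_3 : Phs s1380 a1380_3 (List.map Prod.fst g1380_0) [s1381, s1382, s1383, s1384, s1385, s1386, s1387, s1388, s1389, s1390, s1391, s1392, s1393, s1394, s1395, s1396, s1397, s1398] ct1380_0 v1380_0 4 w1380_0_3 := (Phs.stp c1380_2 p1380_0_1)
theorem p1380_0_5 : Phs s1380 a1380_3 (List.map Prod.fst g1380_0) [s1381, s1382, s1383, s1384, s1385, s1386, s1387, s1388, s1389, s1390, s1391, s1392, s1393, s1394, s1395, s1396, s1397, s1398] ct1380_0 v1380_0 1 w1380_0_5 := (Phs.stp c1380_3 p1380_0_3)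
theorem n1380 : Sound.{u} (cP4r 2 0) s1380 0 :=
  (x1380_3.ext2 (fun h => absurd h (by decide)) (AuxS.gam x1380_3 c1380_0) (AllS.cons n1381 (AllS.cons n1382 (AllS.cons n1383 (AllS.cons n1384 (AllS.cons n1385 (AllS.cons n1386 (AllS.cons n1387 (AllS.cons n1388 (AllS.cons n1389 (AllS.cons n1390 (AllS.cons n1391 (AllS.cons n1392 (AllS.cons n1393 (AllS.cons n1394 (AllS.cons n1395 (AllS.cons n1396 (AllS.cons n1397 (AllS.cons n1398 AllS.nil)))))))))))))))))) c1380_5 (Phs.stp c1380_4 p1380_0_5) (Phs.fin (ct := ct1380_0) rfl) :)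
theorem x1379 : AuxS.{u} (cP4r 2 0) s1379 0 a1379 := aux_base3 tw216 rfl b1379
theorem x1379_1 : AuxS.{u} (cP4r 2 0) s1379 0 a1379_1 := x1379
theorem x1379_2 : AuxS.{u} (cP4r 2 0) s1379 0 a1379_2 := x1379_1
theorem n1379 : Sound.{u} (cP4r 2 0) s1379 0 :=
  (x1379_2.jump c1379_0 c1379_1 n1380 :)
theorem x1296 : AuxS.{u} (cP4r 2 0) s1296 0 a1296 := aux_base3 tw174 rfl b1296
theorem x1296_1 : AuxS.{u} (cP4r 2 0) s1296 0 a1296_1 := x1296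
theorem x1296_2 : AuxS.{u} (cP4r 2 0) s1296 0 a1296_2 := x1296_1
theorem p1296_0_1 : Phs s1296 a1296_2 (List.map Prod.fst g1296_0) [s1378, s1379] ct1296_0 v1296_0 5 w1296_0_1 := (Phs.fin c1296_1)
theorem n1296 : Sound.{u} (cP4r 2 0) s1296 0 :=
  (x1296_2.ext2 (fun h => absurd h (by decide)) (AuxS.gam x1296_2 c1296_0) (AllS.cons n1378 (AllS.cons n1379 AllS.nil)) c1296_3 (Phs.fin (ct := ct1296_0) rfl) (Phs.stp c1296_2 p1296_0_1) :)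
theorem x1297 : AuxS.{u} (cP4r 2 0) s1297 0 a1297 := aux_base3 tw175 rfl b1297
theorem x1297_1 : AuxS.{u} (cP4r 2 0) s1297 0 a1297_1 := (AuxS.up x1297 c1297_1 :)
theorem n1297 : Sound.{u} (cP4r 2 0) s1297 0 :=
  (x1297_1.k7 c1297_0 :)
theorem x1298 : AuxS.{u} (cP4r 2 0) s1298 0 a1298 := aux_base3 tw176 rfl b1298
theorem x1298_1 : AuxS.{u} (cP4r 2 0) s1298 0 a1298_1 := (AuxS.up x1298 c1298_1 :)
theorem n1298 : Sound.{u} (cP4r 2 0) s1298 0 :=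
  (x1298_1.k7 c1298_0 :)
theorem x17 : AuxS.{u} (cP4r 2 0) s17 0 a17 := aux_base3 tw17 rfl b17
theorem x17_1 : AuxS.{u} (cP4r 2 0) s17 0 a17_1 := (AuxS.up x17 c17_4 :)
theorem p17_0_1 : Phs s17 a17_1 [] [s1291, s1292, s1293, s1294, s1295, s1296, s1297, s1298] ct17_0 v17_0 4 w17_0_1 := (Phs.fin c17_0)
theorem p17_0_3 : Phs s17 a17_1 [] [s1291, s1292, s1293, s1294, s1295, s1296, s1297, s1298] ct17_0 v17_0 1 w17_0_3 := (Phs.stp c17_1 p17_0_1)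
theorem n17 : Sound.{u} (cP4r 2 0) s17 0 :=
  (x17_1.ext2 (fun h => absurd h (by decide)) GamS.nil (AllS.cons n1291 (AllS.cons n1292 (AllS.cons n1293 (AllS.cons n1294 (AllS.cons n1295 (AllS.cons n1296 (AllS.cons n1297 (AllS.cons n1298 AllS.nil)))))))) c17_3 (Phs.stp c17_2 p17_0_3) (Phs.fin (ct := ct17_0) rfl) :)
theorem x1441 : AuxS.{u} (cP4r 2 0) s1441 0 a1441 := aux_base3 tw245 rfl b1441
theorem x1441_1 : AuxS.{u} (cP4r 2 0) s1441 0 a1441_1 := (AuxS.up x1441 c1441_1 :)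
theorem x1441_2 : AuxS.{u} (cP4r 2 0) s1441 0 a1441_2 := (AuxS.up2 x1441_1 c1441_2 :)
theorem n1441 : Sound.{u} (cP4r 2 0) s1441 0 :=
  (x1441_2.k7 c1441_0 :)
theorem x1444 : AuxS.{u} (cP4r 2 0) s1444 0 a1444 := aux_base3 tw247 rfl b1444
theorem x1444_1 : AuxS.{u} (cP4r 2 0) s1444 0 a1444_1 := x1444
theorem x1444_2 : AuxS.{u} (cP4r 2 0) s1444 0 a1444_2 := x1444_1
theorem n1444 : Sound.{u} (cP4r 2 0) s1444 0 :=
  (x1444_2.fr GamS.nil AllS.nil c1444_0 :)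
theorem x1445 : AuxS.{u} (cP4r 2 0) s1445 0 a1445 := aux_base3 tw248 rfl b1445
theorem x1445_1 : AuxS.{u} (cP4r 2 0) s1445 0 a1445_1 := x1445
theorem x1445_2 : AuxS.{u} (cP4r 2 0) s1445 0 a1445_2 := x1445_1
theorem n1445 : Sound.{u} (cP4r 2 0) s1445 0 :=
  (x1445_2.fr GamS.nil AllS.nil c1445_0 :)
theorem x1446 : AuxS.{u} (cP4r 2 0) s1446 0 a1446 := aux_base3 tw249 rfl b1446
theorem x1446_1 : AuxS.{u} (cP4r 2 0) s1446 0 a1446_1 := x1446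
theorem x1446_2 : AuxS.{u} (cP4r 2 0) s1446 0 a1446_2 := x1446_1
theorem n1446 : Sound.{u} (cP4r 2 0) s1446 0 :=
  (x1446_2.fr GamS.nil AllS.nil c1446_0 :)
theorem x1447 : AuxS.{u} (cP4r 2 0) s1447 0 a1447 := aux_base3 tw250 rfl b1447
theorem x1447_1 : AuxS.{u} (cP4r 2 0) s1447 0 a1447_1 := x1447
theorem x1447_2 : AuxS.{u} (cP4r 2 0) s1447 0 a1447_2 := x1447_1
theorem n1447 : Sound.{u} (cP4r 2 0) s1447 0 :=
  (x1447_2.fr GamS.nil AllS.nil c1447_0 :)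
theorem x1448 : AuxS.{u} (cP4r 2 0) s1448 0 a1448 := aux_base3 tw251 rfl b1448
theorem x1448_1 : AuxS.{u} (cP4r 2 0) s1448 0 a1448_1 := x1448
theorem x1448_2 : AuxS.{u} (cP4r 2 0) s1448 0 a1448_2 := x1448_1
theorem n1448 : Sound.{u} (cP4r 2 0) s1448 0 :=
  (x1448_2.fr GamS.nil AllS.nil c1448_0 :)
theorem x1449 : AuxS.{u} (cP4r 2 0) s1449 0 a1449 := aux_base3 tw252 rfl b1449
theorem x1449_1 : AuxS.{u} (cP4r 2 0) s1449 0 a1449_1 := x1449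
theorem x1449_2 : AuxS.{u} (cP4r 2 0) s1449 0 a1449_2 := x1449_1
theorem n1449 : Sound.{u} (cP4r 2 0) s1449 0 :=
  (x1449_2.fr GamS.nil AllS.nil c1449_0 :)
theorem x1450 : AuxS.{u} (cP4r 2 0) s1450 0 a1450 := aux_base3 tw253 rfl b1450
theorem x1450_1 : AuxS.{u} (cP4r 2 0) s1450 0 a1450_1 := x1450
theorem x1450_2 : AuxS.{u} (cP4r 2 0) s1450 0 a1450_2 := x1450_1
theorem n1450 : Sound.{u} (cP4r 2 0) s1450 0 :=
  (x1450_2.fr GamS.nil AllS.nil c1450_0 :)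
theorem x1451 : AuxS.{u} (cP4r 2 0) s1451 0 a1451 := aux_base3 tw254 rfl b1451
theorem x1451_1 : AuxS.{u} (cP4r 2 0) s1451 0 a1451_1 := x1451
theorem x1451_2 : AuxS.{u} (cP4r 2 0) s1451 0 a1451_2 := x1451_1
theorem n1451 : Sound.{u} (cP4r 2 0) s1451 0 :=
  (x1451_2.fr GamS.nil AllS.nil c1451_0 :)
theorem x1452 : AuxS.{u} (cP4r 2 0) s1452 0 a1452 := aux_base3 tw255 rfl b1452
theorem x1452_1 : AuxS.{u} (cP4r 2 0) s1452 0 a1452_1 := x1452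
theorem x1452_2 : AuxS.{u} (cP4r 2 0) s1452 0 a1452_2 := x1452_1
theorem n1452 : Sound.{u} (cP4r 2 0) s1452 0 :=
  (x1452_2.fr GamS.nil AllS.nil c1452_0 :)
theorem x1453 : AuxS.{u} (cP4r 2 0) s1453 0 a1453 := aux_base3 tw256 rfl b1453
theorem x1453_1 : AuxS.{u} (cP4r 2 0) s1453 0 a1453_1 := x1453
theorem x1453_2 : AuxS.{u} (cP4r 2 0) s1453 0 a1453_2 := x1453_1
theorem n1453 : Sound.{u} (cP4r 2 0) s1453 0 :=
  (x1453_2.fr GamS.nil AllS.nil c1453_0 :)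
theorem x1454 : AuxS.{u} (cP4r 2 0) s1454 0 a1454 := aux_base3 tw257 rfl b1454
theorem x1454_1 : AuxS.{u} (cP4r 2 0) s1454 0 a1454_1 := x1454
theorem x1454_2 : AuxS.{u} (cP4r 2 0) s1454 0 a1454_2 := x1454_1
theorem n1454 : Sound.{u} (cP4r 2 0) s1454 0 :=
  (x1454_2.fr GamS.nil AllS.nil c1454_0 :)
theorem x1455 : AuxS.{u} (cP4r 2 0) s1455 0 a1455 := aux_base3 tw258 rfl b1455
theorem x1455_1 : AuxS.{u} (cP4r 2 0) s1455 0 a1455_1 := x1455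
theorem x1455_2 : AuxS.{u} (cP4r 2 0) s1455 0 a1455_2 := x1455_1
theorem n1455 : Sound.{u} (cP4r 2 0) s1455 0 :=
  (x1455_2.fr GamS.nil AllS.nil c1455_0 :)
theorem x1456 : AuxS.{u} (cP4r 2 0) s1456 0 a1456 := aux_base3 tw259 rfl b1456
theorem x1456_1 : AuxS.{u} (cP4r 2 0) s1456 0 a1456_1 := x1456
theorem x1456_2 : AuxS.{u} (cP4r 2 0) s1456 0 a1456_2 := x1456_1
theorem n1456 : Sound.{u} (cP4r 2 0) s1456 0 :=
  (x1456_2.fr GamS.nil AllS.nil c1456_0 :)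
theorem x1457 : AuxS.{u} (cP4r 2 0) s1457 0 a1457 := aux_base3 tw260 rfl b1457
theorem x1457_1 : AuxS.{u} (cP4r 2 0) s1457 0 a1457_1 := x1457
theorem x1457_2 : AuxS.{u} (cP4r 2 0) s1457 0 a1457_2 := x1457_1
theorem n1457 : Sound.{u} (cP4r 2 0) s1457 0 :=
  (x1457_2.fr GamS.nil AllS.nil c1457_0 :)
theorem x1458 : AuxS.{u} (cP4r 2 0) s1458 0 a1458 := aux_base3 tw261 rfl b1458
theorem x1458_1 : AuxS.{u} (cP4r 2 0) s1458 0 a1458_1 := x1458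
theorem x1458_2 : AuxS.{u} (cP4r 2 0) s1458 0 a1458_2 := x1458_1
theorem n1458 : Sound.{u} (cP4r 2 0) s1458 0 :=
  (x1458_2.fr GamS.nil AllS.nil c1458_0 :)
theorem x1459 : AuxS.{u} (cP4r 2 0) s1459 0 a1459 := aux_base3 tw262 rfl b1459
theorem x1459_1 : AuxS.{u} (cP4r 2 0) s1459 0 a1459_1 := x1459
theorem x1459_2 : AuxS.{u} (cP4r 2 0) s1459 0 a1459_2 := x1459_1
theorem n1459 : Sound.{u} (cP4r 2 0) s1459 0 :=
  (x1459_2.fr GamS.nil AllS.nil c1459_0 :)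
theorem x1460 : AuxS.{u} (cP4r 2 0) s1460 0 a1460 := aux_base3 tw263 rfl b1460
theorem n1460 : Sound.{u} (cP4r 2 0) s1460 0 :=
  (x1460.k3 c1460_0 :)
theorem x1461 : AuxS.{u} (cP4r 2 0) s1461 0 a1461 := aux_base3 tw264 rfl b1461
theorem n1461 : Sound.{u} (cP4r 2 0) s1461 0 :=
  (x1461.k3 c1461_0 :)
theorem x1443 : AuxS.{u} (cP4r 2 0) s1443 0 a1443 := aux_base3 tw237 rfl b1443
theorem x1443_1 : AuxS.{u} (cP4r 2 0) s1443 0 a1443_1 := (AuxS.up x1443 c1443_6 :)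
theorem x1443_2 : AuxS.{u} (cP4r 2 0) s1443 0 a1443_2 := (AuxS.up2 x1443_1 c1443_7 :)
theorem x1443_3 : AuxS.{u} (cP4r 2 0) s1443 0 a1443_3 := (AuxS.up x1443_2 c1443_8 :)
theorem p1443_0_1 : Phs s1443 a1443_3 (List.map Prod.fst g1443_0) [s1444, s1445, s1446, s1447, s1448, s1449, s1450, s1451, s1452, s1453, s1454, s1455, s1456, s1457, s1458, s1459, s1460, s1461] ct1443_0 v1443_0 5 w1443_0_1 := (Phs.fin c1443_1)
theorem p1443_0_3 : Phs s1443 a1443_3 (List.map Prod.fst g1443_0) [s1444, s1445, s1446, s1447, s1448, s1449, s1450, s1451, s1452, s1453, s1454, s1455, s1456, s1457, s1458, s1459, s1460, s1461] ct1443_0 v1443_0 4 w1443_0_3 := (Phs.stp c1443_2 p1443_0_1)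
theorem p1443_0_5 : Phs s1443 a1443_3 (List.map Prod.fst g1443_0) [s1444, s1445, s1446, s1447, s1448, s1449, s1450, s1451, s1452, s1453, s1454, s1455, s1456, s1457, s1458, s1459, s1460, s1461] ct1443_0 v1443_0 1 w1443_0_5 := (Phs.stp c1443_3 p1443_0_3)
theorem n1443 : Sound.{u} (cP4r 2 0) s1443 0 :=
  (x1443_3.ext2 (fun h => absurd h (by decide)) (AuxS.gam x1443_3 c1443_0) (AllS.cons n1444 (AllS.cons n1445 (AllS.cons n1446 (AllS.cons n1447 (AllS.cons n1448 (AllS.cons n1449 (AllS.cons n1450 (AllS.cons n1451 (AllS.cons n1452 (AllS.cons n1453 (AllS.cons n1454 (AllS.cons n1455 (AllS.cons n1456 (AllS.cons n1457 (AllS.cons n1458 (AllS.cons n1459 (AllS.cons n1460 (AllS.cons n1461 AllS.nil)))))))))))))))))) c1443_5 (Phs.stp c1443_4 p1443_0_5) (Phs.fin (ct := ct1443_0) rfl) :)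
theorem x1442 : AuxS.{u} (cP4r 2 0) s1442 0 a1442 := aux_base3 tw246 rfl b1442
theorem x1442_1 : AuxS.{u} (cP4r 2 0) s1442 0 a1442_1 := x1442
theorem x1442_2 : AuxS.{u} (cP4r 2 0) s1442 0 a1442_2 := x1442_1
theorem n1442 : Sound.{u} (cP4r 2 0) s1442 0 :=
  (x1442_2.jump c1442_0 c1442_1 n1443 :)
theorem x1433 : AuxS.{u} (cP4r 2 0) s1433 0 a1433 := aux_base3 tw237 rfl b1433
theorem x1433_1 : AuxS.{u} (cP4r 2 0) s1433 0 a1433_1 := x1433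
theorem x1433_2 : AuxS.{u} (cP4r 2 0) s1433 0 a1433_2 := x1433_1
theorem p1433_0_1 : Phs s1433 a1433_2 (List.map Prod.fst g1433_0) [s1441, s1442] ct1433_0 v1433_0 5 w1433_0_1 := (Phs.fin c1433_1)
theorem n1433 : Sound.{u} (cP4r 2 0) s1433 0 :=
  (x1433_2.ext2 (fun h => absurd h (by decide)) (AuxS.gam x1433_2 c1433_0) (AllS.cons n1441 (AllS.cons n1442 AllS.nil)) c1433_3 (Phs.fin (ct := ct1433_0) rfl) (Phs.stp c1433_2 p1433_0_1) :)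
theorem x1434 : AuxS.{u} (cP4r 2 0) s1434 0 a1434 := aux_base3 tw238 rfl b1434
theorem x1434_1 : AuxS.{u} (cP4r 2 0) s1434 0 a1434_1 := x1434
theorem x1434_2 : AuxS.{u} (cP4r 2 0) s1434 0 a1434_2 := x1434_1
theorem n1434 : Sound.{u} (cP4r 2 0) s1434 0 :=
  (x1434_2.ext2 (fun h => absurd h (by decide)) GamS.nil AllS.nil c1434_1 (Phs.fin (ct := ct1434_0) rfl) (Phs.fin c1434_0) :)
theorem x1435 : AuxS.{u} (cP4r 2 0) s1435 0 a1435 := aux_base3 tw239 rfl b1435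
theorem x1435_1 : AuxS.{u} (cP4r 2 0) s1435 0 a1435_1 := (AuxS.up x1435 c1435_1 :)
theorem n1435 : Sound.{u} (cP4r 2 0) s1435 0 :=
  (x1435_1.k7 c1435_0 :)
theorem x1436 : AuxS.{u} (cP4r 2 0) s1436 0 a1436 := aux_base3 tw240 rfl b1436
theorem x1436_1 : AuxS.{u} (cP4r 2 0) s1436 0 a1436_1 := (AuxS.up x1436 c1436_1 :)
theorem n1436 : Sound.{u} (cP4r 2 0) s1436 0 :=
  (x1436_1.k7 c1436_0 :)
theorem x1437 : AuxS.{u} (cP4r 2 0) s1437 0 a1437 := aux_base3 tw241 rfl b1437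
theorem x1437_1 : AuxS.{u} (cP4r 2 0) s1437 0 a1437_1 := x1437
theorem x1437_2 : AuxS.{u} (cP4r 2 0) s1437 0 a1437_2 := x1437_1
theorem n1437 : Sound.{u} (cP4r 2 0) s1437 0 :=
  (x1437_2.ext2 (fun h => absurd h (by decide)) GamS.nil AllS.nil c1437_1 (Phs.fin (ct := ct1437_0) rfl) (Phs.fin c1437_0) :)
theorem x1462 : AuxS.{u} (cP4r 2 0) s1462 0 a1462 := aux_base3 tw265 rfl b1462
theorem x1462_1 : AuxS.{u} (cP4r 2 0) s1462 0 a1462_1 := (AuxS.up x1462 c1462_1 :)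
theorem x1462_2 : AuxS.{u} (cP4r 2 0) s1462 0 a1462_2 := (AuxS.up2 x1462_1 c1462_2 :)
theorem x1462_3 : AuxS.{u} (cP4r 2 0) s1462 0 a1462_3 := (AuxS.up2 x1462_2 c1462_3 :)
theorem n1462 : Sound.{u} (cP4r 2 0) s1462 0 :=
  (x1462_3.k7 c1462_0 :)
theorem x1465 : AuxS.{u} (cP4r 2 0) s1465 0 a1465 := aux_base3 tw267 rfl b1465
theorem x1465_1 : AuxS.{u} (cP4r 2 0) s1465 0 a1465_1 := x1465
theorem x1465_2 : AuxS.{u} (cP4r 2 0) s1465 0 a1465_2 := x1465_1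
theorem n1465 : Sound.{u} (cP4r 2 0) s1465 0 :=
  (x1465_2.fr GamS.nil AllS.nil c1465_0 :)
theorem x1466 : AuxS.{u} (cP4r 2 0) s1466 0 a1466 := aux_base3 tw268 rfl b1466
theorem x1466_1 : AuxS.{u} (cP4r 2 0) s1466 0 a1466_1 := x1466
theorem x1466_2 : AuxS.{u} (cP4r 2 0) s1466 0 a1466_2 := x1466_1
theorem n1466 : Sound.{u} (cP4r 2 0) s1466 0 :=
  (x1466_2.fr GamS.nil AllS.nil c1466_0 :)
theorem x1467 : AuxS.{u} (cP4r 2 0) s1467 0 a1467 := aux_base3 tw269 rfl b1467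
theorem x1467_1 : AuxS.{u} (cP4r 2 0) s1467 0 a1467_1 := x1467
theorem x1467_2 : AuxS.{u} (cP4r 2 0) s1467 0 a1467_2 := x1467_1
theorem n1467 : Sound.{u} (cP4r 2 0) s1467 0 :=
  (x1467_2.fr GamS.nil AllS.nil c1467_0 :)
theorem x1468 : AuxS.{u} (cP4r 2 0) s1468 0 a1468 := aux_base3 tw270 rfl b1468
theorem x1468_1 : AuxS.{u} (cP4r 2 0) s1468 0 a1468_1 := x1468
theorem x1468_2 : AuxS.{u} (cP4r 2 0) s1468 0 a1468_2 := x1468_1
theorem n1468 : Sound.{u} (cP4r 2 0) s1468 0 :=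
  (x1468_2.fr GamS.nil AllS.nil c1468_0 :)
theorem x1469 : AuxS.{u} (cP4r 2 0) s1469 0 a1469 := aux_base3 tw271 rfl b1469
theorem n1469 : Sound.{u} (cP4r 2 0) s1469 0 :=
  (x1469.k4 c1469_0 :)
theorem x1470 : AuxS.{u} (cP4r 2 0) s1470 0 a1470 := aux_base3 tw272 rfl b1470
theorem n1470 : Sound.{u} (cP4r 2 0) s1470 0 :=
  (x1470.k4 c1470_0 :)
theorem x1471 : AuxS.{u} (cP4r 2 0) s1471 0 a1471 := aux_base3 tw273 rfl b1471
theorem n1471 : Sound.{u} (cP4r 2 0) s1471 0 :=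
  (x1471.k4 c1471_0 :)
theorem x1472 : AuxS.{u} (cP4r 2 0) s1472 0 a1472 := aux_base3 tw274 rfl b1472
theorem n1472 : Sound.{u} (cP4r 2 0) s1472 0 :=
  (x1472.k4 c1472_0 :)
theorem x1473 : AuxS.{u} (cP4r 2 0) s1473 0 a1473 := aux_base3 tw275 rfl b1473
theorem x1473_1 : AuxS.{u} (cP4r 2 0) s1473 0 a1473_1 := x1473
theorem x1473_2 : AuxS.{u} (cP4r 2 0) s1473 0 a1473_2 := x1473_1
theorem n1473 : Sound.{u} (cP4r 2 0) s1473 0 :=
  (x1473_2.fr GamS.nil AllS.nil c1473_0 :)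
theorem x1474 : AuxS.{u} (cP4r 2 0) s1474 0 a1474 := aux_base3 tw276 rfl b1474
theorem x1474_1 : AuxS.{u} (cP4r 2 0) s1474 0 a1474_1 := x1474
theorem x1474_2 : AuxS.{u} (cP4r 2 0) s1474 0 a1474_2 := x1474_1
theorem n1474 : Sound.{u} (cP4r 2 0) s1474 0 :=
  (x1474_2.fr GamS.nil AllS.nil c1474_0 :)
theorem x1475 : AuxS.{u} (cP4r 2 0) s1475 0 a1475 := aux_base3 tw277 rfl b1475
theorem x1475_1 : AuxS.{u} (cP4r 2 0) s1475 0 a1475_1 := x1475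
theorem x1475_2 : AuxS.{u} (cP4r 2 0) s1475 0 a1475_2 := x1475_1
theorem n1475 : Sound.{u} (cP4r 2 0) s1475 0 :=
  (x1475_2.fr GamS.nil AllS.nil c1475_0 :)
theorem x1476 : AuxS.{u} (cP4r 2 0) s1476 0 a1476 := aux_base3 tw278 rfl b1476
theorem x1476_1 : AuxS.{u} (cP4r 2 0) s1476 0 a1476_1 := x1476
theorem x1476_2 : AuxS.{u} (cP4r 2 0) s1476 0 a1476_2 := x1476_1
theorem n1476 : Sound.{u} (cP4r 2 0) s1476 0 :=
  (x1476_2.fr GamS.nil AllS.nil c1476_0 :)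
theorem x1477 : AuxS.{u} (cP4r 2 0) s1477 0 a1477 := aux_base3 tw279 rfl b1477
theorem n1477 : Sound.{u} (cP4r 2 0) s1477 0 :=
  (x1477.k4 c1477_0 :)
theorem x1478 : AuxS.{u} (cP4r 2 0) s1478 0 a1478 := aux_base3 tw280 rfl b1478
theorem n1478 : Sound.{u} (cP4r 2 0) s1478 0 :=
  (x1478.k4 c1478_0 :)
theorem x1479 : AuxS.{u} (cP4r 2 0) s1479 0 a1479 := aux_base3 tw281 rfl b1479
theorem n1479 : Sound.{u} (cP4r 2 0) s1479 0 :=
  (x1479.k4 c1479_0 :)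
theorem x1480 : AuxS.{u} (cP4r 2 0) s1480 0 a1480 := aux_base3 tw282 rfl b1480
theorem n1480 : Sound.{u} (cP4r 2 0) s1480 0 :=
  (x1480.k4 c1480_0 :)
theorem x1481 : AuxS.{u} (cP4r 2 0) s1481 0 a1481 := aux_base3 tw283 rfl b1481
theorem n1481 : Sound.{u} (cP4r 2 0) s1481 0 :=
  (x1481.k3 c1481_0 :)
theorem x1482 : AuxS.{u} (cP4r 2 0) s1482 0 a1482 := aux_base3 tw284 rfl b1482
theorem n1482 : Sound.{u} (cP4r 2 0) s1482 0 :=
  (x1482.k3 c1482_0 :)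
theorem x1464 : AuxS.{u} (cP4r 2 0) s1464 0 a1464 := aux_base3 tw242 rfl b1464
theorem x1464_1 : AuxS.{u} (cP4r 2 0) s1464 0 a1464_1 := (AuxS.up x1464 c1464_6 :)
theorem x1464_2 : AuxS.{u} (cP4r 2 0) s1464 0 a1464_2 := (AuxS.up2 x1464_1 c1464_7 :)
theorem x1464_3 : AuxS.{u} (cP4r 2 0) s1464 0 a1464_3 := (AuxS.up x1464_2 c1464_8 :)
theorem p1464_0_1 : Phs s1464 a1464_3 (List.map Prod.fst g1464_0) [s1465, s1466, s1467, s1468, s1469, s1470, s1471, s1472, s1473, s1474, s1475, s1476, s1477, s1478, s1479, s1480, s1481, s1482] ct1464_0 v1464_0 5 w1464_0_1 := (Phs.fin c1464_1)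
theorem p1464_0_3 : Phs s1464 a1464_3 (List.map Prod.fst g1464_0) [s1465, s1466, s1467, s1468, s1469, s1470, s1471, s1472, s1473, s1474, s1475, s1476, s1477, s1478, s1479, s1480, s1481, s1482] ct1464_0 v1464_0 4 w1464_0_3 := (Phs.stp c1464_2 p1464_0_1)
theorem p1464_0_5 : Phs s1464 a1464_3 (List.map Prod.fst g1464_0) [s1465, s1466, s1467, s1468, s1469, s1470, s1471, s1472, s1473, s1474, s1475, s1476, s1477, s1478, s1479, s1480, s1481, s1482] ct1464_0 v1464_0 1 w1464_0_5 := (Phs.stp c1464_3 p1464_0_3)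
theorem n1464 : Sound.{u} (cP4r 2 0) s1464 0 :=
  (x1464_3.ext2 (fun h => absurd h (by decide)) (AuxS.gam x1464_3 c1464_0) (AllS.cons n1465 (AllS.cons n1466 (AllS.cons n1467 (AllS.cons n1468 (AllS.cons n1469 (AllS.cons n1470 (AllS.cons n1471 (AllS.cons n1472 (AllS.cons n1473 (AllS.cons n1474 (AllS.cons n1475 (AllS.cons n1476 (AllS.cons n1477 (AllS.cons n1478 (AllS.cons n1479 (AllS.cons n1480 (AllS.cons n1481 (AllS.cons n1482 AllS.nil)))))))))))))))))) c1464_5 (Phs.stp c1464_4 p1464_0_5) (Phs.fin (ct := ct1464_0) rfl) :)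
theorem x1463 : AuxS.{u} (cP4r 2 0) s1463 0 a1463 := aux_base3 tw266 rfl b1463
theorem x1463_1 : AuxS.{u} (cP4r 2 0) s1463 0 a1463_1 := x1463
theorem x1463_2 : AuxS.{u} (cP4r 2 0) s1463 0 a1463_2 := x1463_1
theorem n1463 : Sound.{u} (cP4r 2 0) s1463 0 :=
  (x1463_2.jump c1463_0 c1463_1 n1464 :)
theorem x1438 : AuxS.{u} (cP4r 2 0) s1438 0 a1438 := aux_base3 tw242 rfl b1438
theorem x1438_1 : AuxS.{u} (cP4r 2 0) s1438 0 a1438_1 := x1438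
theorem x1438_2 : AuxS.{u} (cP4r 2 0) s1438 0 a1438_2 := x1438_1
theorem p1438_0_1 : Phs s1438 a1438_2 (List.map Prod.fst g1438_0) [s1462, s1463] ct1438_0 v1438_0 5 w1438_0_1 := (Phs.fin c1438_1)
theorem n1438 : Sound.{u} (cP4r 2 0) s1438 0 :=
  (x1438_2.ext2 (fun h => absurd h (by decide)) (AuxS.gam x1438_2 c1438_0) (AllS.cons n1462 (AllS.cons n1463 AllS.nil)) c1438_3 (Phs.fin (ct := ct1438_0) rfl) (Phs.stp c1438_2 p1438_0_1) :)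
theorem x1439 : AuxS.{u} (cP4r 2 0) s1439 0 a1439 := aux_base3 tw243 rfl b1439
theorem x1439_1 : AuxS.{u} (cP4r 2 0) s1439 0 a1439_1 := (AuxS.up x1439 c1439_1 :)
theorem n1439 : Sound.{u} (cP4r 2 0) s1439 0 :=
  (x1439_1.k7 c1439_0 :)
theorem x1440 : AuxS.{u} (cP4r 2 0) s1440 0 a1440 := aux_base3 tw244 rfl b1440
theorem x1440_1 : AuxS.{u} (cP4r 2 0) s1440 0 a1440_1 := (AuxS.up x1440 c1440_1 :)
theorem n1440 : Sound.{u} (cP4r 2 0) s1440 0 :=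
  (x1440_1.k7 c1440_0 :)
theorem x18 : AuxS.{u} (cP4r 2 0) s18 0 a18 := aux_base3 tw18 rfl b18
theorem x18_1 : AuxS.{u} (cP4r 2 0) s18 0 a18_1 := (AuxS.up x18 c18_4 :)
theorem p18_0_1 : Phs s18 a18_1 [] [s1433, s1434, s1435, s1436, s1437, s1438, s1439, s1440] ct18_0 v18_0 4 w18_0_1 := (Phs.fin c18_0)
theorem p18_0_3 : Phs s18 a18_1 [] [s1433, s1434, s1435, s1436, s1437, s1438, s1439, s1440] ct18_0 v18_0 1 w18_0_3 := (Phs.stp c18_1 p18_0_1)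
theorem n18 : Sound.{u} (cP4r 2 0) s18 0 :=
  (x18_1.ext2 (fun h => absurd h (by decide)) GamS.nil (AllS.cons n1433 (AllS.cons n1434 (AllS.cons n1435 (AllS.cons n1436 (AllS.cons n1437 (AllS.cons n1438 (AllS.cons n1439 (AllS.cons n1440 AllS.nil)))))))) c18_3 (Phs.stp c18_2 p18_0_3) (Phs.fin (ct := ct18_0) rfl) :)
theorem x19 : AuxS.{u} (cP4r 2 0) s19 0 a19 := aux_base3 tw19 rfl b19
theorem n19 : Sound.{u} (cP4r 2 0) s19 0 :=
  (x19.k3 c19_0 :)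
theorem x20 : AuxS.{u} (cP4r 2 0) s20 0 a20 := aux_base3 tw20 rfl b20
theorem n20 : Sound.{u} (cP4r 2 0) s20 0 :=
  (x20.k3 c20_0 :)
theorem x1483 : AuxS.{u} (cP4r 2 0) s1483 0 a1483 := aux_base3 tw285 rfl b1483
theorem x1483_1 : AuxS.{u} (cP4r 2 0) s1483 0 a1483_1 := (AuxS.up x1483 c1483_1 :)
theorem x1483_2 : AuxS.{u} (cP4r 2 0) s1483 0 a1483_2 := (AuxS.up2 x1483_1 c1483_2 :)
theorem n1483 : Sound.{u} (cP4r 2 0) s1483 0 :=
  (x1483_2.k7 c1483_0 :)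
theorem x1484 : AuxS.{u} (cP4r 2 0) s1484 0 a1484 := aux_base3 tw286 rfl b1484
theorem x1484_1 : AuxS.{u} (cP4r 2 0) s1484 0 a1484_1 := (AuxS.up x1484 c1484_1 :)
theorem n1484 : Sound.{u} (cP4r 2 0) s1484 0 :=
  (x1484_1.k7 c1484_0 :)
theorem x1485 : AuxS.{u} (cP4r 2 0) s1485 0 a1485 := aux_base3 tw287 rfl b1485
theorem x1485_1 : AuxS.{u} (cP4r 2 0) s1485 0 a1485_1 := (AuxS.up x1485 c1485_1 :)
theorem n1485 : Sound.{u} (cP4r 2 0) s1485 0 :=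
  (x1485_1.k7 c1485_0 :)
theorem x1491 : AuxS.{u} (cP4r 2 0) s1491 0 a1491 := aux_base3 tw293 rfl b1491
theorem x1491_1 : AuxS.{u} (cP4r 2 0) s1491 0 a1491_1 := x1491
theorem x1491_2 : AuxS.{u} (cP4r 2 0) s1491 0 a1491_2 := x1491_1
theorem x1491_3 : AuxS.{u} (cP4r 2 0) s1491 0 a1491_3 := x1491_2
theorem n1491 : Sound.{u} (cP4r 2 0) s1491 0 :=
  (x1491_3.rho AllS.nil c1491_0 :)
theorem x1493 : AuxS.{u} (cP4r 2 0) s1493 0 a1493 := aux_base3 tw288 rfl b1493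
theorem x1493_1 : AuxS.{u} (cP4r 2 0) s1493 0 a1493_1 := (AuxS.up x1493 c1493_5 :)
theorem x1493_2 : AuxS.{u} (cP4r 2 0) s1493 0 a1493_2 := (AuxS.up2 x1493_1 c1493_6 :)
theorem x1493_3 : AuxS.{u} (cP4r 2 0) s1493 0 a1493_3 := x1493_2
theorem x1493_4 : AuxS.{u} (cP4r 2 0) s1493 0 a1493_4 := x1493_3
theorem x1493_5 : AuxS.{u} (cP4r 2 0) s1493 0 a1493_5 := x1493_4
theorem x1493_6 : AuxS.{u} (cP4r 2 0) s1493 0 a1493_6 := x1493_5
theorem p1493_0_1 : Phs s1493 a1493_6 [] [] ct1493_0 v1493_0 5 w1493_0_1 := (Phs.fin c1493_0)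
theorem p1493_0_3 : Phs s1493 a1493_6 [] [] ct1493_0 v1493_0 4 w1493_0_3 := (Phs.stp c1493_1 p1493_0_1)
theorem p1493_0_5 : Phs s1493 a1493_6 [] [] ct1493_0 v1493_0 1 w1493_0_5 := (Phs.stp c1493_2 p1493_0_3)
theorem n1493 : Sound.{u} (cP4r 2 0) s1493 0 :=
  (x1493_6.ext2 (fun h => absurd h (by decide)) GamS.nil AllS.nil c1493_4 (Phs.stp c1493_3 p1493_0_5) (Phs.fin (ct := ct1493_0) rfl) :)
theorem x1492 : AuxS.{u} (cP4r 2 0) s1492 0 a1492 := aux_base3 tw294 rfl b1492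
theorem x1492_1 : AuxS.{u} (cP4r 2 0) s1492 0 a1492_1 := x1492
theorem x1492_2 : AuxS.{u} (cP4r 2 0) s1492 0 a1492_2 := x1492_1
theorem x1492_3 : AuxS.{u} (cP4r 2 0) s1492 0 a1492_3 := x1492_2
theorem n1492 : Sound.{u} (cP4r 2 0) s1492 0 :=
  (x1492_3.jump c1492_0 c1492_1 n1493 :)
theorem x1486 : AuxS.{u} (cP4r 2 0) s1486 0 a1486 := aux_base3 tw288 rfl b1486
theorem x1486_1 : AuxS.{u} (cP4r 2 0) s1486 0 a1486_1 := x1486
theorem x1486_2 : AuxS.{u} (cP4r 2 0) s1486 0 a1486_2 := x1486_1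
theorem x1486_3 : AuxS.{u} (cP4r 2 0) s1486 0 a1486_3 := x1486_2
theorem x1486_4 : AuxS.{u} (cP4r 2 0) s1486 0 a1486_4 := x1486_3
theorem p1486_0_1 : Phs s1486 a1486_4 (List.map Prod.fst g1486_0) [s1491, s1492] ct1486_0 v1486_0 5 w1486_0_1 := (Phs.fin c1486_1)
theorem n1486 : Sound.{u} (cP4r 2 0) s1486 0 :=
  (x1486_4.ext2 (fun h => absurd h (by decide)) (AuxS.gam x1486_4 c1486_0) (AllS.cons n1491 (AllS.cons n1492 AllS.nil)) c1486_3 (Phs.fin (ct := ct1486_0) rfl) (Phs.stp c1486_2 p1486_0_1) :)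
theorem x1487 : AuxS.{u} (cP4r 2 0) s1487 0 a1487 := aux_base3 tw289 rfl b1487
theorem x1487_1 : AuxS.{u} (cP4r 2 0) s1487 0 a1487_1 := (AuxS.up x1487 c1487_1 :)
theorem n1487 : Sound.{u} (cP4r 2 0) s1487 0 :=
  (x1487_1.k7 c1487_0 :)
theorem x1488 : AuxS.{u} (cP4r 2 0) s1488 0 a1488 := aux_base3 tw290 rfl b1488
theorem x1488_1 : AuxS.{u} (cP4r 2 0) s1488 0 a1488_1 := (AuxS.up x1488 c1488_1 :)
theorem x1488_2 : AuxS.{u} (cP4r 2 0) s1488 0 a1488_2 := (AuxS.up2 x1488_1 c1488_2 :)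
theorem n1488 : Sound.{u} (cP4r 2 0) s1488 0 :=
  (x1488_2.k7 c1488_0 :)
theorem x1494 : AuxS.{u} (cP4r 2 0) s1494 0 a1494 := aux_base3 tw295 rfl b1494
theorem x1494_1 : AuxS.{u} (cP4r 2 0) s1494 0 a1494_1 := x1494
theorem x1494_2 : AuxS.{u} (cP4r 2 0) s1494 0 a1494_2 := x1494_1
theorem n1494 : Sound.{u} (cP4r 2 0) s1494 0 :=
  (x1494_2.rho AllS.nil c1494_0 :)
theorem x1501 : AuxS.{u} (cP4r 2 0) s1501 0 a1501 := aux_base3 tw299 rfl b1501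
theorem x1501_1 : AuxS.{u} (cP4r 2 0) s1501 0 a1501_1 := x1501
theorem x1501_2 : AuxS.{u} (cP4r 2 0) s1501 0 a1501_2 := x1501_1
theorem n1501 : Sound.{u} (cP4r 2 0) s1501 0 :=
  (x1501_2.jump c1501_0 c1501_1 n1267 :)
theorem x1502 : AuxS.{u} (cP4r 2 0) s1502 0 a1502 := aux_base3 tw300 rfl b1502
theorem x1502_1 : AuxS.{u} (cP4r 2 0) s1502 0 a1502_1 := x1502
theorem x1502_2 : AuxS.{u} (cP4r 2 0) s1502 0 a1502_2 := x1502_1
theorem n1502 : Sound.{u} (cP4r 2 0) s1502 0 :=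
  (x1502_2.jump c1502_0 c1502_1 n1266 :)
theorem x1499 : AuxS.{u} (cP4r 2 0) s1499 0 a1499 := aux_base3 tw297 rfl b1499
theorem x1499_1 : AuxS.{u} (cP4r 2 0) s1499 0 a1499_1 := x1499
theorem x1499_2 : AuxS.{u} (cP4r 2 0) s1499 0 a1499_2 := x1499_1
theorem x1499_3 : AuxS.{u} (cP4r 2 0) s1499 0 a1499_3 := x1499_2
theorem x1499_4 : AuxS.{u} (cP4r 2 0) s1499 0 a1499_4 := x1499_3
theorem n1499 : Sound.{u} (cP4r 2 0) s1499 0 :=
  (x1499_4.fr2 GamS.nil (AllS.cons n1501 (AllS.cons n1502 AllS.nil)) c1499_0 :)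
theorem x1500 : AuxS.{u} (cP4r 2 0) s1500 0 a1500 := aux_base3 tw297 rfl b1500
theorem n1500 : Sound.{u} (cP4r 2 0) s1500 0 :=
  (x1500.k4 c1500_0 :)
theorem x1497 : AuxS.{u} (cP4r 2 0) s1497 0 a1497 := aux_base3 tw297 rfl b1497
theorem x1497_1 : AuxS.{u} (cP4r 2 0) s1497 0 a1497_1 := x1497
theorem x1497_2 : AuxS.{u} (cP4r 2 0) s1497 0 a1497_2 := x1497_1
theorem n1497 : Sound.{u} (cP4r 2 0) s1497 0 :=
  (x1497_2.fr GamS.nil (AllS.cons n1499 (AllS.cons n1500 AllS.nil)) c1497_0 :)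
theorem x1503 : AuxS.{u} (cP4r 2 0) s1503 0 a1503 := aux_base3 tw298 rfl b1503
theorem n1503 : Sound.{u} (cP4r 2 0) s1503 0 :=
  (x1503.k4 c1503_0 :)
theorem x1505 : AuxS.{u} (cP4r 2 0) s1505 0 a1505 := aux_base3 tw301 rfl b1505
theorem x1505_1 : AuxS.{u} (cP4r 2 0) s1505 0 a1505_1 := x1505
theorem x1505_2 : AuxS.{u} (cP4r 2 0) s1505 0 a1505_2 := x1505_1
theorem n1505 : Sound.{u} (cP4r 2 0) s1505 0 :=
  (x1505_2.jump c1505_0 c1505_1 n1278 :)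
theorem x1506 : AuxS.{u} (cP4r 2 0) s1506 0 a1506 := aux_base3 tw302 rfl b1506
theorem x1506_1 : AuxS.{u} (cP4r 2 0) s1506 0 a1506_1 := x1506
theorem x1506_2 : AuxS.{u} (cP4r 2 0) s1506 0 a1506_2 := x1506_1
theorem n1506 : Sound.{u} (cP4r 2 0) s1506 0 :=
  (x1506_2.jump c1506_0 c1506_1 n1279 :)
theorem x1504 : AuxS.{u} (cP4r 2 0) s1504 0 a1504 := aux_base3 tw298 rfl b1504
theorem x1504_1 : AuxS.{u} (cP4r 2 0) s1504 0 a1504_1 := x1504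
theorem x1504_2 : AuxS.{u} (cP4r 2 0) s1504 0 a1504_2 := x1504_1
theorem x1504_3 : AuxS.{u} (cP4r 2 0) s1504 0 a1504_3 := x1504_2
theorem x1504_4 : AuxS.{u} (cP4r 2 0) s1504 0 a1504_4 := x1504_3
theorem n1504 : Sound.{u} (cP4r 2 0) s1504 0 :=
  (x1504_4.fr2 GamS.nil (AllS.cons n1505 (AllS.cons n1506 AllS.nil)) c1504_0 :)
theorem x1498 : AuxS.{u} (cP4r 2 0) s1498 0 a1498 := aux_base3 tw298 rfl b1498
theorem x1498_1 : AuxS.{u} (cP4r 2 0) s1498 0 a1498_1 := x1498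
theorem x1498_2 : AuxS.{u} (cP4r 2 0) s1498 0 a1498_2 := x1498_1
theorem n1498 : Sound.{u} (cP4r 2 0) s1498 0 :=
  (x1498_2.fr GamS.nil (AllS.cons n1503 (AllS.cons n1504 AllS.nil)) c1498_0 :)
theorem x1496 : AuxS.{u} (cP4r 2 0) s1496 0 a1496 := aux_base3 tw291 rfl b1496
theorem x1496_1 : AuxS.{u} (cP4r 2 0) s1496 0 a1496_1 := (AuxS.up x1496 c1496_6 :)
theorem x1496_2 : AuxS.{u} (cP4r 2 0) s1496 0 a1496_2 := x1496_1
theorem p1496_0_1 : Phs s1496 a1496_2 (List.map Prod.fst g1496_0) [s1497, s1498] ct1496_0 v1496_0 5 w1496_0_1 := (Phs.fin c1496_1)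
theorem p1496_0_3 : Phs s1496 a1496_2 (List.map Prod.fst g1496_0) [s1497, s1498] ct1496_0 v1496_0 4 w1496_0_3 := (Phs.stp c1496_2 p1496_0_1)
theorem p1496_0_5 : Phs s1496 a1496_2 (List.map Prod.fst g1496_0) [s1497, s1498] ct1496_0 v1496_0 1 w1496_0_5 := (Phs.stp c1496_3 p1496_0_3)
theorem n1496 : Sound.{u} (cP4r 2 0) s1496 0 :=
  (x1496_2.ext2 (fun h => absurd h (by decide)) (AuxS.gam x1496_2 c1496_0) (AllS.cons n1497 (AllS.cons n1498 AllS.nil)) c1496_5 (Phs.stp c1496_4 p1496_0_5) (Phs.fin (ct := ct1496_0) rfl) :)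
theorem x1495 : AuxS.{u} (cP4r 2 0) s1495 0 a1495 := aux_base3 tw296 rfl b1495
theorem x1495_1 : AuxS.{u} (cP4r 2 0) s1495 0 a1495_1 := x1495
theorem x1495_2 : AuxS.{u} (cP4r 2 0) s1495 0 a1495_2 := x1495_1
theorem n1495 : Sound.{u} (cP4r 2 0) s1495 0 :=
  (x1495_2.jump c1495_0 c1495_1 n1496 :)
theorem x1489 : AuxS.{u} (cP4r 2 0) s1489 0 a1489 := aux_base3 tw291 rfl b1489
theorem x1489_1 : AuxS.{u} (cP4r 2 0) s1489 0 a1489_1 := x1489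
theorem x1489_2 : AuxS.{u} (cP4r 2 0) s1489 0 a1489_2 := x1489_1
theorem p1489_0_1 : Phs s1489 a1489_2 (List.map Prod.fst g1489_0) [s1494, s1495] ct1489_0 v1489_0 5 w1489_0_1 := (Phs.fin c1489_1)
theorem n1489 : Sound.{u} (cP4r 2 0) s1489 0 :=
  (x1489_2.ext2 (fun h => absurd h (by decide)) (AuxS.gam x1489_2 c1489_0) (AllS.cons n1494 (AllS.cons n1495 AllS.nil)) c1489_3 (Phs.fin (ct := ct1489_0) rfl) (Phs.stp c1489_2 p1489_0_1) :)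
theorem x1490 : AuxS.{u} (cP4r 2 0) s1490 0 a1490 := aux_base3 tw292 rfl b1490
theorem x1490_1 : AuxS.{u} (cP4r 2 0) s1490 0 a1490_1 := (AuxS.up x1490 c1490_1 :)
theorem n1490 : Sound.{u} (cP4r 2 0) s1490 0 :=
  (x1490_1.k7 c1490_0 :)
theorem x21 : AuxS.{u} (cP4r 2 0) s21 0 a21 := aux_base3 tw21 rfl b21
theorem x21_1 : AuxS.{u} (cP4r 2 0) s21 0 a21_1 := (AuxS.up x21 c21_4 :)
theorem p21_0_1 : Phs s21 a21_1 [] [s1483, s1484, s1485, s1486, s1487, s1488, s1489, s1490] ct21_0 v21_0 4 w21_0_1 := (Phs.fin c21_0)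
theorem p21_0_3 : Phs s21 a21_1 [] [s1483, s1484, s1485, s1486, s1487, s1488, s1489, s1490] ct21_0 v21_0 1 w21_0_3 := (Phs.stp c21_1 p21_0_1)
theorem n21 : Sound.{u} (cP4r 2 0) s21 0 :=
  (x21_1.ext2 (fun h => absurd h (by decide)) GamS.nil (AllS.cons n1483 (AllS.cons n1484 (AllS.cons n1485 (AllS.cons n1486 (AllS.cons n1487 (AllS.cons n1488 (AllS.cons n1489 (AllS.cons n1490 AllS.nil)))))))) c21_3 (Phs.stp c21_2 p21_0_3) (Phs.fin (ct := ct21_0) rfl) :)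
theorem x22 : AuxS.{u} (cP4r 2 0) s22 0 a22 := aux_base3 tw22 rfl b22
theorem x22_1 : AuxS.{u} (cP4r 2 0) s22 0 a22_1 := (AuxS.up x22 c22_1 :)
theorem n22 : Sound.{u} (cP4r 2 0) s22 0 :=
  (x22_1.k7 c22_0 :)
theorem x23 : AuxS.{u} (cP4r 2 0) s23 0 a23 := aux_base3 tw23 rfl b23
theorem n23 : Sound.{u} (cP4r 2 0) s23 0 :=
  (x23.k3 c23_0 :)
theorem x24 : AuxS.{u} (cP4r 2 0) s24 0 a24 := aux_base3 tw24 rfl b24
theorem n24 : Sound.{u} (cP4r 2 0) s24 0 :=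
  (x24.k3 c24_0 :)
theorem x1515 : AuxS.{u} (cP4r 2 0) s1515 0 a1515 := aux_base3 tw311 rfl b1515
theorem x1515_1 : AuxS.{u} (cP4r 2 0) s1515 0 a1515_1 := (AuxS.up x1515 c1515_1 :)
theorem x1515_2 : AuxS.{u} (cP4r 2 0) s1515 0 a1515_2 := (AuxS.up2 x1515_1 c1515_2 :)
theorem n1515 : Sound.{u} (cP4r 2 0) s1515 0 :=
  (x1515_2.k7 c1515_0 :)
theorem x1568 : AuxS.{u} (cP4r 2 0) s1568 0 a1568 := aux_base3 tw331 rfl b1568
theorem x1568_1 : AuxS.{u} (cP4r 2 0) s1568 0 a1568_1 := x1568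
theorem x1568_2 : AuxS.{u} (cP4r 2 0) s1568 0 a1568_2 := x1568_1
theorem x1568_3 : AuxS.{u} (cP4r 2 0) s1568 0 a1568_3 := x1568_2
theorem n1568 : Sound.{u} (cP4r 2 0) s1568 0 :=
  (x1568_3.fr2 GamS.nil AllS.nil c1568_0 :)
theorem x1569 : AuxS.{u} (cP4r 2 0) s1569 0 a1569 := aux_base3 tw332 rfl b1569
theorem x1569_1 : AuxS.{u} (cP4r 2 0) s1569 0 a1569_1 := x1569
theorem x1569_2 : AuxS.{u} (cP4r 2 0) s1569 0 a1569_2 := x1569_1
theorem n1569 : Sound.{u} (cP4r 2 0) s1569 0 :=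
  (x1569_2.fr2 GamS.nil AllS.nil c1569_0 :)
theorem x1570 : AuxS.{u} (cP4r 2 0) s1570 0 a1570 := aux_base3 tw333 rfl b1570
theorem x1570_1 : AuxS.{u} (cP4r 2 0) s1570 0 a1570_1 := x1570
theorem x1570_2 : AuxS.{u} (cP4r 2 0) s1570 0 a1570_2 := x1570_1
theorem n1570 : Sound.{u} (cP4r 2 0) s1570 0 :=
  (x1570_2.fr2 GamS.nil AllS.nil c1570_0 :)
theorem x1571 : AuxS.{u} (cP4r 2 0) s1571 0 a1571 := aux_base3 tw334 rfl b1571
theorem x1571_1 : AuxS.{u} (cP4r 2 0) s1571 0 a1571_1 := x1571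
theorem x1571_2 : AuxS.{u} (cP4r 2 0) s1571 0 a1571_2 := x1571_1
theorem n1571 : Sound.{u} (cP4r 2 0) s1571 0 :=
  (x1571_2.fr2 GamS.nil AllS.nil c1571_0 :)
theorem x1572 : AuxS.{u} (cP4r 2 0) s1572 0 a1572 := aux_base3 tw335 rfl b1572
theorem x1572_1 : AuxS.{u} (cP4r 2 0) s1572 0 a1572_1 := x1572
theorem x1572_2 : AuxS.{u} (cP4r 2 0) s1572 0 a1572_2 := x1572_1
theorem n1572 : Sound.{u} (cP4r 2 0) s1572 0 :=
  (x1572_2.fr2 GamS.nil AllS.nil c1572_0 :)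
theorem x1573 : AuxS.{u} (cP4r 2 0) s1573 0 a1573 := aux_base3 tw336 rfl b1573
theorem x1573_1 : AuxS.{u} (cP4r 2 0) s1573 0 a1573_1 := x1573
theorem x1573_2 : AuxS.{u} (cP4r 2 0) s1573 0 a1573_2 := x1573_1
theorem x1573_3 : AuxS.{u} (cP4r 2 0) s1573 0 a1573_3 := x1573_2
theorem n1573 : Sound.{u} (cP4r 2 0) s1573 0 :=
  (x1573_3.fr2 GamS.nil AllS.nil c1573_0 :)
theorem x1574 : AuxS.{u} (cP4r 2 0) s1574 0 a1574 := aux_base3 tw337 rfl b1574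
theorem x1574_1 : AuxS.{u} (cP4r 2 0) s1574 0 a1574_1 := x1574
theorem x1574_2 : AuxS.{u} (cP4r 2 0) s1574 0 a1574_2 := x1574_1
theorem n1574 : Sound.{u} (cP4r 2 0) s1574 0 :=
  (x1574_2.fr2 GamS.nil AllS.nil c1574_0 :)
theorem x1575 : AuxS.{u} (cP4r 2 0) s1575 0 a1575 := aux_base3 tw338 rfl b1575
theorem x1575_1 : AuxS.{u} (cP4r 2 0) s1575 0 a1575_1 := x1575
theorem x1575_2 : AuxS.{u} (cP4r 2 0) s1575 0 a1575_2 := x1575_1
theorem n1575 : Sound.{u} (cP4r 2 0) s1575 0 :=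
  (x1575_2.fr2 GamS.nil AllS.nil c1575_0 :)
theorem x1576 : AuxS.{u} (cP4r 2 0) s1576 0 a1576 := aux_base3 tw339 rfl b1576
theorem x1576_1 : AuxS.{u} (cP4r 2 0) s1576 0 a1576_1 := x1576
theorem x1576_2 : AuxS.{u} (cP4r 2 0) s1576 0 a1576_2 := x1576_1
theorem n1576 : Sound.{u} (cP4r 2 0) s1576 0 :=
  (x1576_2.fr2 GamS.nil AllS.nil c1576_0 :)
theorem x1577 : AuxS.{u} (cP4r 2 0) s1577 0 a1577 := aux_base3 tw340 rfl b1577
theorem x1577_1 : AuxS.{u} (cP4r 2 0) s1577 0 a1577_1 := x1577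
theorem x1577_2 : AuxS.{u} (cP4r 2 0) s1577 0 a1577_2 := x1577_1
theorem n1577 : Sound.{u} (cP4r 2 0) s1577 0 :=
  (x1577_2.fr2 GamS.nil AllS.nil c1577_0 :)
theorem x1585 : AuxS.{u} (cP4r 2 0) s1585 0 a1585 := aux_base3 tw347 rfl b1585
theorem x1585_1 : AuxS.{u} (cP4r 2 0) s1585 0 a1585_1 := x1585
theorem x1585_2 : AuxS.{u} (cP4r 2 0) s1585 0 a1585_2 := x1585_1
theorem n1585 : Sound.{u} (cP4r 2 0) s1585 0 :=
  (x1585_2.jump c1585_0 c1585_1 n631 :)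
theorem x1586 : AuxS.{u} (cP4r 2 0) s1586 0 a1586 := aux_base3 tw347 rfl b1586
theorem x1586_1 : AuxS.{u} (cP4r 2 0) s1586 0 a1586_1 := x1586
theorem x1586_2 : AuxS.{u} (cP4r 2 0) s1586 0 a1586_2 := x1586_1
theorem n1586 : Sound.{u} (cP4r 2 0) s1586 0 :=
  (x1586_2.jump c1586_0 c1586_1 n630 :)
theorem x1587 : AuxS.{u} (cP4r 2 0) s1587 0 a1587 := aux_base3 tw347 rfl b1587
theorem x1587_1 : AuxS.{u} (cP4r 2 0) s1587 0 a1587_1 := x1587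
theorem x1587_2 : AuxS.{u} (cP4r 2 0) s1587 0 a1587_2 := x1587_1
theorem n1587 : Sound.{u} (cP4r 2 0) s1587 0 :=
  (x1587_2.jump c1587_0 c1587_1 n631 :)
theorem x1588 : AuxS.{u} (cP4r 2 0) s1588 0 a1588 := aux_base3 tw347 rfl b1588
theorem x1588_1 : AuxS.{u} (cP4r 2 0) s1588 0 a1588_1 := x1588
theorem x1588_2 : AuxS.{u} (cP4r 2 0) s1588 0 a1588_2 := x1588_1
theorem n1588 : Sound.{u} (cP4r 2 0) s1588 0 :=
  (x1588_2.jump c1588_0 c1588_1 n630 :)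
theorem x1584 : AuxS.{u} (cP4r 2 0) s1584 0 a1584 := aux_base3 tw347 rfl b1584
theorem x1584_1 : AuxS.{u} (cP4r 2 0) s1584 0 a1584_1 := x1584
theorem x1584_2 : AuxS.{u} (cP4r 2 0) s1584 0 a1584_2 := x1584_1
theorem n1584 : Sound.{u} (cP4r 2 0) s1584 0 :=
  (x1584_2.rho (AllS.cons n1585 (AllS.cons n1586 (AllS.cons n1587 (AllS.cons n1588 AllS.nil)))) c1584_0 :)
theorem x1578 : AuxS.{u} (cP4r 2 0) s1578 0 a1578 := aux_base3 tw341 rfl b1578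
theorem x1578_1 : AuxS.{u} (cP4r 2 0) s1578 0 a1578_1 := x1578
theorem x1578_2 : AuxS.{u} (cP4r 2 0) s1578 0 a1578_2 := x1578_1
theorem x1578_3 : AuxS.{u} (cP4r 2 0) s1578 0 a1578_3 := x1578_2
theorem n1578 : Sound.{u} (cP4r 2 0) s1578 0 :=
  (x1578_3.fr2 (AuxS.gam x1578_3 c1578_0) (AllS.cons n1584 AllS.nil) c1578_1 :)
theorem x1579 : AuxS.{u} (cP4r 2 0) s1579 0 a1579 := aux_base3 tw342 rfl b1579
theorem x1579_1 : AuxS.{u} (cP4r 2 0) s1579 0 a1579_1 := x1579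
theorem x1579_2 : AuxS.{u} (cP4r 2 0) s1579 0 a1579_2 := x1579_1
theorem n1579 : Sound.{u} (cP4r 2 0) s1579 0 :=
  (x1579_2.fr2 GamS.nil AllS.nil c1579_0 :)
theorem x1580 : AuxS.{u} (cP4r 2 0) s1580 0 a1580 := aux_base3 tw343 rfl b1580
theorem x1580_1 : AuxS.{u} (cP4r 2 0) s1580 0 a1580_1 := x1580
theorem x1580_2 : AuxS.{u} (cP4r 2 0) s1580 0 a1580_2 := x1580_1
theorem n1580 : Sound.{u} (cP4r 2 0) s1580 0 :=
  (x1580_2.fr2 GamS.nil AllS.nil c1580_0 :)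
theorem x1581 : AuxS.{u} (cP4r 2 0) s1581 0 a1581 := aux_base3 tw344 rfl b1581
theorem x1581_1 : AuxS.{u} (cP4r 2 0) s1581 0 a1581_1 := x1581
theorem x1581_2 : AuxS.{u} (cP4r 2 0) s1581 0 a1581_2 := x1581_1
theorem n1581 : Sound.{u} (cP4r 2 0) s1581 0 :=
  (x1581_2.fr2 GamS.nil AllS.nil c1581_0 :)
theorem x1582 : AuxS.{u} (cP4r 2 0) s1582 0 a1582 := aux_base3 tw345 rfl b1582
theorem x1582_1 : AuxS.{u} (cP4r 2 0) s1582 0 a1582_1 := x1582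
theorem x1582_2 : AuxS.{u} (cP4r 2 0) s1582 0 a1582_2 := x1582_1
theorem n1582 : Sound.{u} (cP4r 2 0) s1582 0 :=
  (x1582_2.fr2 GamS.nil AllS.nil c1582_0 :)
theorem x1590 : AuxS.{u} (cP4r 2 0) s1590 0 a1590 := aux_base3 tw348 rfl b1590
theorem x1590_1 : AuxS.{u} (cP4r 2 0) s1590 0 a1590_1 := x1590
theorem x1590_2 : AuxS.{u} (cP4r 2 0) s1590 0 a1590_2 := x1590_1
theorem n1590 : Sound.{u} (cP4r 2 0) s1590 0 :=
  (x1590_2.jump c1590_0 c1590_1 n114 :)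
theorem x1591 : AuxS.{u} (cP4r 2 0) s1591 0 a1591 := aux_base3 tw348 rfl b1591
theorem x1591_1 : AuxS.{u} (cP4r 2 0) s1591 0 a1591_1 := x1591
theorem x1591_2 : AuxS.{u} (cP4r 2 0) s1591 0 a1591_2 := x1591_1
theorem n1591 : Sound.{u} (cP4r 2 0) s1591 0 :=
  (x1591_2.jump c1591_0 c1591_1 n113 :)
theorem x1592 : AuxS.{u} (cP4r 2 0) s1592 0 a1592 := aux_base3 tw348 rfl b1592
theorem x1592_1 : AuxS.{u} (cP4r 2 0) s1592 0 a1592_1 := x1592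
theorem x1592_2 : AuxS.{u} (cP4r 2 0) s1592 0 a1592_2 := x1592_1
theorem n1592 : Sound.{u} (cP4r 2 0) s1592 0 :=
  (x1592_2.jump c1592_0 c1592_1 n114 :)
theorem x1593 : AuxS.{u} (cP4r 2 0) s1593 0 a1593 := aux_base3 tw348 rfl b1593
theorem x1593_1 : AuxS.{u} (cP4r 2 0) s1593 0 a1593_1 := x1593
theorem x1593_2 : AuxS.{u} (cP4r 2 0) s1593 0 a1593_2 := x1593_1
theorem n1593 : Sound.{u} (cP4r 2 0) s1593 0 :=
  (x1593_2.jump c1593_0 c1593_1 n113 :)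
theorem x1589 : AuxS.{u} (cP4r 2 0) s1589 0 a1589 := aux_base3 tw348 rfl b1589
theorem x1589_1 : AuxS.{u} (cP4r 2 0) s1589 0 a1589_1 := x1589
theorem x1589_2 : AuxS.{u} (cP4r 2 0) s1589 0 a1589_2 := x1589_1
theorem n1589 : Sound.{u} (cP4r 2 0) s1589 0 :=
  (x1589_2.rho (AllS.cons n1590 (AllS.cons n1591 (AllS.cons n1592 (AllS.cons n1593 AllS.nil)))) c1589_0 :)
theorem x1583 : AuxS.{u} (cP4r 2 0) s1583 0 a1583 := aux_base3 tw346 rfl b1583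
theorem x1583_1 : AuxS.{u} (cP4r 2 0) s1583 0 a1583_1 := x1583
theorem x1583_2 : AuxS.{u} (cP4r 2 0) s1583 0 a1583_2 := x1583_1
theorem x1583_3 : AuxS.{u} (cP4r 2 0) s1583 0 a1583_3 := x1583_2
theorem n1583 : Sound.{u} (cP4r 2 0) s1583 0 :=
  (x1583_3.fr2 (AuxS.gam x1583_3 c1583_0) (AllS.cons n1589 AllS.nil) c1583_1 :)
theorem x1536 : AuxS.{u} (cP4r 2 0) s1536 0 a1536 := aux_base3 tw313 rfl b1536
theorem x1536_1 : AuxS.{u} (cP4r 2 0) s1536 0 a1536_1 := x1536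
theorem x1536_2 : AuxS.{u} (cP4r 2 0) s1536 0 a1536_2 := x1536_1
theorem n1536 : Sound.{u} (cP4r 2 0) s1536 0 :=
  (x1536_2.fr2 GamS.nil (AllS.cons n1568 (AllS.cons n1569 (AllS.cons n1570 (AllS.cons n1571 (AllS.cons n1572 (AllS.cons n1573 (AllS.cons n1574 (AllS.cons n1575 (AllS.cons n1576 (AllS.cons n1577 (AllS.cons n1578 (AllS.cons n1579 (AllS.cons n1580 (AllS.cons n1581 (AllS.cons n1582 (AllS.cons n1583 AllS.nil)))))))))))))))) c1536_0 :)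
theorem x1537 : AuxS.{u} (cP4r 2 0) s1537 0 a1537 := aux_base3 tw313 rfl b1537
theorem n1537 : Sound.{u} (cP4r 2 0) s1537 0 :=
  (x1537.k4 c1537_0 :)
theorem x1538 : AuxS.{u} (cP4r 2 0) s1538 0 a1538 := aux_base3 tw313 rfl b1538
theorem n1538 : Sound.{u} (cP4r 2 0) s1538 0 :=
  (x1538.k4 c1538_0 :)
theorem x1539 : AuxS.{u} (cP4r 2 0) s1539 0 a1539 := aux_base3 tw313 rfl b1539
theorem n1539 : Sound.{u} (cP4r 2 0) s1539 0 :=
  (x1539.k4 c1539_0 :)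
theorem x1540 : AuxS.{u} (cP4r 2 0) s1540 0 a1540 := aux_base3 tw313 rfl b1540
theorem n1540 : Sound.{u} (cP4r 2 0) s1540 0 :=
  (x1540.k4 c1540_0 :)
theorem x1541 : AuxS.{u} (cP4r 2 0) s1541 0 a1541 := aux_base3 tw313 rfl b1541
theorem n1541 : Sound.{u} (cP4r 2 0) s1541 0 :=
  (x1541.k4 c1541_0 :)
theorem x1542 : AuxS.{u} (cP4r 2 0) s1542 0 a1542 := aux_base3 tw313 rfl b1542
theorem n1542 : Sound.{u} (cP4r 2 0) s1542 0 :=
  (x1542.k4 c1542_0 :)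
theorem x1543 : AuxS.{u} (cP4r 2 0) s1543 0 a1543 := aux_base3 tw313 rfl b1543
theorem n1543 : Sound.{u} (cP4r 2 0) s1543 0 :=
  (x1543.k4 c1543_0 :)
theorem x1544 : AuxS.{u} (cP4r 2 0) s1544 0 a1544 := aux_base3 tw313 rfl b1544
theorem n1544 : Sound.{u} (cP4r 2 0) s1544 0 :=
  (x1544.k4 c1544_0 :)
theorem x1545 : AuxS.{u} (cP4r 2 0) s1545 0 a1545 := aux_base3 tw313 rfl b1545
theorem n1545 : Sound.{u} (cP4r 2 0) s1545 0 :=
  (x1545.k4 c1545_0 :)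
theorem x1546 : AuxS.{u} (cP4r 2 0) s1546 0 a1546 := aux_base3 tw313 rfl b1546
theorem n1546 : Sound.{u} (cP4r 2 0) s1546 0 :=
  (x1546.k4 c1546_0 :)
theorem x1547 : AuxS.{u} (cP4r 2 0) s1547 0 a1547 := aux_base3 tw313 rfl b1547
theorem n1547 : Sound.{u} (cP4r 2 0) s1547 0 :=
  (x1547.k4 c1547_0 :)
theorem x1548 : AuxS.{u} (cP4r 2 0) s1548 0 a1548 := aux_base3 tw313 rfl b1548
theorem n1548 : Sound.{u} (cP4r 2 0) s1548 0 :=
  (x1548.k4 c1548_0 :)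
theorem x1549 : AuxS.{u} (cP4r 2 0) s1549 0 a1549 := aux_base3 tw313 rfl b1549
theorem n1549 : Sound.{u} (cP4r 2 0) s1549 0 :=
  (x1549.k4 c1549_0 :)
theorem x1550 : AuxS.{u} (cP4r 2 0) s1550 0 a1550 := aux_base3 tw313 rfl b1550
theorem n1550 : Sound.{u} (cP4r 2 0) s1550 0 :=
  (x1550.k4 c1550_0 :)
theorem x1551 : AuxS.{u} (cP4r 2 0) s1551 0 a1551 := aux_base3 tw313 rfl b1551
theorem n1551 : Sound.{u} (cP4r 2 0) s1551 0 :=
  (x1551.k4 c1551_0 :)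
theorem x1552 : AuxS.{u} (cP4r 2 0) s1552 0 a1552 := aux_base3 tw313 rfl b1552
theorem n1552 : Sound.{u} (cP4r 2 0) s1552 0 :=
  (x1552.k4 c1552_0 :)
theorem x1553 : AuxS.{u} (cP4r 2 0) s1553 0 a1553 := aux_base3 tw313 rfl b1553
theorem n1553 : Sound.{u} (cP4r 2 0) s1553 0 :=
  (x1553.k4 c1553_0 :)
theorem x1554 : AuxS.{u} (cP4r 2 0) s1554 0 a1554 := aux_base3 tw313 rfl b1554
theorem n1554 : Sound.{u} (cP4r 2 0) s1554 0 :=
  (x1554.k4 c1554_0 :)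
theorem x1555 : AuxS.{u} (cP4r 2 0) s1555 0 a1555 := aux_base3 tw313 rfl b1555
theorem n1555 : Sound.{u} (cP4r 2 0) s1555 0 :=
  (x1555.k4 c1555_0 :)
theorem x1556 : AuxS.{u} (cP4r 2 0) s1556 0 a1556 := aux_base3 tw313 rfl b1556
theorem n1556 : Sound.{u} (cP4r 2 0) s1556 0 :=
  (x1556.k4 c1556_0 :)
theorem x1557 : AuxS.{u} (cP4r 2 0) s1557 0 a1557 := aux_base3 tw313 rfl b1557
theorem n1557 : Sound.{u} (cP4r 2 0) s1557 0 :=
  (x1557.k4 c1557_0 :)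
theorem x1558 : AuxS.{u} (cP4r 2 0) s1558 0 a1558 := aux_base3 tw313 rfl b1558
theorem n1558 : Sound.{u} (cP4r 2 0) s1558 0 :=
  (x1558.k4 c1558_0 :)
theorem x1559 : AuxS.{u} (cP4r 2 0) s1559 0 a1559 := aux_base3 tw313 rfl b1559
theorem n1559 : Sound.{u} (cP4r 2 0) s1559 0 :=
  (x1559.k4 c1559_0 :)
theorem x1560 : AuxS.{u} (cP4r 2 0) s1560 0 a1560 := aux_base3 tw313 rfl b1560
theorem n1560 : Sound.{u} (cP4r 2 0) s1560 0 :=
  (x1560.k4 c1560_0 :)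
theorem x1561 : AuxS.{u} (cP4r 2 0) s1561 0 a1561 := aux_base3 tw313 rfl b1561
theorem n1561 : Sound.{u} (cP4r 2 0) s1561 0 :=
  (x1561.k4 c1561_0 :)
theorem x1562 : AuxS.{u} (cP4r 2 0) s1562 0 a1562 := aux_base3 tw313 rfl b1562
theorem n1562 : Sound.{u} (cP4r 2 0) s1562 0 :=
  (x1562.k4 c1562_0 :)
theorem x1563 : AuxS.{u} (cP4r 2 0) s1563 0 a1563 := aux_base3 tw313 rfl b1563
theorem n1563 : Sound.{u} (cP4r 2 0) s1563 0 :=
  (x1563.k4 c1563_0 :)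
theorem x1564 : AuxS.{u} (cP4r 2 0) s1564 0 a1564 := aux_base3 tw313 rfl b1564
theorem n1564 : Sound.{u} (cP4r 2 0) s1564 0 :=
  (x1564.k4 c1564_0 :)
theorem x1565 : AuxS.{u} (cP4r 2 0) s1565 0 a1565 := aux_base3 tw313 rfl b1565
theorem n1565 : Sound.{u} (cP4r 2 0) s1565 0 :=
  (x1565.k4 c1565_0 :)
theorem x1566 : AuxS.{u} (cP4r 2 0) s1566 0 a1566 := aux_base3 tw313 rfl b1566
theorem n1566 : Sound.{u} (cP4r 2 0) s1566 0 :=
  (x1566.k4 c1566_0 :)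
theorem x1567 : AuxS.{u} (cP4r 2 0) s1567 0 a1567 := aux_base3 tw313 rfl b1567
theorem n1567 : Sound.{u} (cP4r 2 0) s1567 0 :=
  (x1567.k4 c1567_0 :)
theorem x1518 : AuxS.{u} (cP4r 2 0) s1518 0 a1518 := aux_base3 tw313 rfl b1518
theorem x1518_1 : AuxS.{u} (cP4r 2 0) s1518 0 a1518_1 := x1518
theorem x1518_2 : AuxS.{u} (cP4r 2 0) s1518 0 a1518_2 := x1518_1
theorem x1518_3 : AuxS.{u} (cP4r 2 0) s1518 0 a1518_3 := x1518_2
theorem n1518 : Sound.{u} (cP4r 2 0) s1518 0 :=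
  (x1518_3.fr (AuxS.gam x1518_3 c1518_0) (AllS.cons n1536 (AllS.cons n1537 (AllS.cons n1538 (AllS.cons n1539 (AllS.cons n1540 (AllS.cons n1541 (AllS.cons n1542 (AllS.cons n1543 (AllS.cons n1544 (AllS.cons n1545 (AllS.cons n1546 (AllS.cons n1547 (AllS.cons n1548 (AllS.cons n1549 (AllS.cons n1550 (AllS.cons n1551 (AllS.cons n1552 (AllS.cons n1553 (AllS.cons n1554 (AllS.cons n1555 (AllS.cons n1556 (AllS.cons n1557 (AllS.cons n1558 (AllS.cons n1559 (AllS.cons n1560 (AllS.cons n1561 (AllS.cons n1562 (AllS.cons n1563 (AllS.cons n1564 (AllS.cons n1565 (AllS.cons n1566 (AllS.cons n1567 AllS.nil)))))))))))))))))))))))))))))))) c1518_1 :)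
theorem x1519 : AuxS.{u} (cP4r 2 0) s1519 0 a1519 := aux_base3 tw314 rfl b1519
theorem x1519_1 : AuxS.{u} (cP4r 2 0) s1519 0 a1519_1 := x1519
theorem x1519_2 : AuxS.{u} (cP4r 2 0) s1519 0 a1519_2 := x1519_1
theorem x1519_3 : AuxS.{u} (cP4r 2 0) s1519 0 a1519_3 := x1519_2
theorem n1519 : Sound.{u} (cP4r 2 0) s1519 0 :=
  (x1519_3.fr GamS.nil AllS.nil c1519_0 :)
theorem x1520 : AuxS.{u} (cP4r 2 0) s1520 0 a1520 := aux_base3 tw315 rfl b1520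
theorem x1520_1 : AuxS.{u} (cP4r 2 0) s1520 0 a1520_1 := x1520
theorem x1520_2 : AuxS.{u} (cP4r 2 0) s1520 0 a1520_2 := x1520_1
theorem x1520_3 : AuxS.{u} (cP4r 2 0) s1520 0 a1520_3 := x1520_2
theorem n1520 : Sound.{u} (cP4r 2 0) s1520 0 :=
  (x1520_3.fr GamS.nil AllS.nil c1520_0 :)
theorem x1521 : AuxS.{u} (cP4r 2 0) s1521 0 a1521 := aux_base3 tw316 rfl b1521
theorem x1521_1 : AuxS.{u} (cP4r 2 0) s1521 0 a1521_1 := x1521
theorem x1521_2 : AuxS.{u} (cP4r 2 0) s1521 0 a1521_2 := x1521_1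
theorem x1521_3 : AuxS.{u} (cP4r 2 0) s1521 0 a1521_3 := x1521_2
theorem n1521 : Sound.{u} (cP4r 2 0) s1521 0 :=
  (x1521_3.fr GamS.nil AllS.nil c1521_0 :)
theorem x1522 : AuxS.{u} (cP4r 2 0) s1522 0 a1522 := aux_base3 tw317 rfl b1522
theorem x1522_1 : AuxS.{u} (cP4r 2 0) s1522 0 a1522_1 := x1522
theorem x1522_2 : AuxS.{u} (cP4r 2 0) s1522 0 a1522_2 := x1522_1
theorem x1522_3 : AuxS.{u} (cP4r 2 0) s1522 0 a1522_3 := x1522_2
theorem x1522_4 : AuxS.{u} (cP4r 2 0) s1522 0 a1522_4 := x1522_3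
theorem n1522 : Sound.{u} (cP4r 2 0) s1522 0 :=
  (x1522_4.fr GamS.nil AllS.nil c1522_0 :)
theorem x1523 : AuxS.{u} (cP4r 2 0) s1523 0 a1523 := aux_base3 tw318 rfl b1523
theorem x1523_1 : AuxS.{u} (cP4r 2 0) s1523 0 a1523_1 := x1523
theorem x1523_2 : AuxS.{u} (cP4r 2 0) s1523 0 a1523_2 := x1523_1
theorem x1523_3 : AuxS.{u} (cP4r 2 0) s1523 0 a1523_3 := x1523_2
theorem x1523_4 : AuxS.{u} (cP4r 2 0) s1523 0 a1523_4 := x1523_3
theorem n1523 : Sound.{u} (cP4r 2 0) s1523 0 :=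
  (x1523_4.fr GamS.nil AllS.nil c1523_0 :)
theorem x1524 : AuxS.{u} (cP4r 2 0) s1524 0 a1524 := aux_base3 tw319 rfl b1524
theorem x1524_1 : AuxS.{u} (cP4r 2 0) s1524 0 a1524_1 := x1524
theorem x1524_2 : AuxS.{u} (cP4r 2 0) s1524 0 a1524_2 := x1524_1
theorem x1524_3 : AuxS.{u} (cP4r 2 0) s1524 0 a1524_3 := x1524_2
theorem x1524_4 : AuxS.{u} (cP4r 2 0) s1524 0 a1524_4 := x1524_3
theorem n1524 : Sound.{u} (cP4r 2 0) s1524 0 :=
  (x1524_4.fr GamS.nil AllS.nil c1524_0 :)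
theorem x1525 : AuxS.{u} (cP4r 2 0) s1525 0 a1525 := aux_base3 tw320 rfl b1525
theorem x1525_1 : AuxS.{u} (cP4r 2 0) s1525 0 a1525_1 := x1525
theorem x1525_2 : AuxS.{u} (cP4r 2 0) s1525 0 a1525_2 := x1525_1
theorem x1525_3 : AuxS.{u} (cP4r 2 0) s1525 0 a1525_3 := x1525_2
theorem x1525_4 : AuxS.{u} (cP4r 2 0) s1525 0 a1525_4 := x1525_3
theorem n1525 : Sound.{u} (cP4r 2 0) s1525 0 :=
  (x1525_4.fr GamS.nil AllS.nil c1525_0 :)
theorem x1526 : AuxS.{u} (cP4r 2 0) s1526 0 a1526 := aux_base3 tw321 rfl b1526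
theorem x1526_1 : AuxS.{u} (cP4r 2 0) s1526 0 a1526_1 := x1526
theorem x1526_2 : AuxS.{u} (cP4r 2 0) s1526 0 a1526_2 := x1526_1
theorem x1526_3 : AuxS.{u} (cP4r 2 0) s1526 0 a1526_3 := x1526_2
theorem n1526 : Sound.{u} (cP4r 2 0) s1526 0 :=
  (x1526_3.fr GamS.nil AllS.nil c1526_0 :)
theorem x1527 : AuxS.{u} (cP4r 2 0) s1527 0 a1527 := aux_base3 tw322 rfl b1527
theorem x1527_1 : AuxS.{u} (cP4r 2 0) s1527 0 a1527_1 := x1527
theorem x1527_2 : AuxS.{u} (cP4r 2 0) s1527 0 a1527_2 := x1527_1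
theorem x1527_3 : AuxS.{u} (cP4r 2 0) s1527 0 a1527_3 := x1527_2
theorem n1527 : Sound.{u} (cP4r 2 0) s1527 0 :=
  (x1527_3.fr GamS.nil AllS.nil c1527_0 :)
theorem x1528 : AuxS.{u} (cP4r 2 0) s1528 0 a1528 := aux_base3 tw323 rfl b1528
theorem x1528_1 : AuxS.{u} (cP4r 2 0) s1528 0 a1528_1 := x1528
theorem x1528_2 : AuxS.{u} (cP4r 2 0) s1528 0 a1528_2 := x1528_1
theorem x1528_3 : AuxS.{u} (cP4r 2 0) s1528 0 a1528_3 := x1528_2
theorem n1528 : Sound.{u} (cP4r 2 0) s1528 0 :=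
  (x1528_3.fr GamS.nil AllS.nil c1528_0 :)
theorem x1529 : AuxS.{u} (cP4r 2 0) s1529 0 a1529 := aux_base3 tw324 rfl b1529
theorem x1529_1 : AuxS.{u} (cP4r 2 0) s1529 0 a1529_1 := x1529
theorem x1529_2 : AuxS.{u} (cP4r 2 0) s1529 0 a1529_2 := x1529_1
theorem x1529_3 : AuxS.{u} (cP4r 2 0) s1529 0 a1529_3 := x1529_2
theorem n1529 : Sound.{u} (cP4r 2 0) s1529 0 :=
  (x1529_3.fr GamS.nil AllS.nil c1529_0 :)
theorem x1530 : AuxS.{u} (cP4r 2 0) s1530 0 a1530 := aux_base3 tw325 rfl b1530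
theorem x1530_1 : AuxS.{u} (cP4r 2 0) s1530 0 a1530_1 := x1530
theorem x1530_2 : AuxS.{u} (cP4r 2 0) s1530 0 a1530_2 := x1530_1
theorem x1530_3 : AuxS.{u} (cP4r 2 0) s1530 0 a1530_3 := x1530_2
theorem x1530_4 : AuxS.{u} (cP4r 2 0) s1530 0 a1530_4 := x1530_3
theorem n1530 : Sound.{u} (cP4r 2 0) s1530 0 :=
  (x1530_4.fr GamS.nil AllS.nil c1530_0 :)
theorem x1531 : AuxS.{u} (cP4r 2 0) s1531 0 a1531 := aux_base3 tw326 rfl b1531
theorem x1531_1 : AuxS.{u} (cP4r 2 0) s1531 0 a1531_1 := x1531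
theorem x1531_2 : AuxS.{u} (cP4r 2 0) s1531 0 a1531_2 := x1531_1
theorem x1531_3 : AuxS.{u} (cP4r 2 0) s1531 0 a1531_3 := x1531_2
theorem x1531_4 : AuxS.{u} (cP4r 2 0) s1531 0 a1531_4 := x1531_3
theorem n1531 : Sound.{u} (cP4r 2 0) s1531 0 :=
  (x1531_4.fr GamS.nil AllS.nil c1531_0 :)
theorem x1532 : AuxS.{u} (cP4r 2 0) s1532 0 a1532 := aux_base3 tw327 rfl b1532
theorem x1532_1 : AuxS.{u} (cP4r 2 0) s1532 0 a1532_1 := x1532
theorem x1532_2 : AuxS.{u} (cP4r 2 0) s1532 0 a1532_2 := x1532_1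
theorem x1532_3 : AuxS.{u} (cP4r 2 0) s1532 0 a1532_3 := x1532_2
theorem x1532_4 : AuxS.{u} (cP4r 2 0) s1532 0 a1532_4 := x1532_3
theorem n1532 : Sound.{u} (cP4r 2 0) s1532 0 :=
  (x1532_4.fr GamS.nil AllS.nil c1532_0 :)
theorem x1533 : AuxS.{u} (cP4r 2 0) s1533 0 a1533 := aux_base3 tw328 rfl b1533
theorem x1533_1 : AuxS.{u} (cP4r 2 0) s1533 0 a1533_1 := x1533
theorem x1533_2 : AuxS.{u} (cP4r 2 0) s1533 0 a1533_2 := x1533_1
theorem x1533_3 : AuxS.{u} (cP4r 2 0) s1533 0 a1533_3 := x1533_2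
theorem x1533_4 : AuxS.{u} (cP4r 2 0) s1533 0 a1533_4 := x1533_3
theorem n1533 : Sound.{u} (cP4r 2 0) s1533 0 :=
  (x1533_4.fr GamS.nil AllS.nil c1533_0 :)
theorem x1534 : AuxS.{u} (cP4r 2 0) s1534 0 a1534 := aux_base3 tw329 rfl b1534
theorem n1534 : Sound.{u} (cP4r 2 0) s1534 0 :=
  (x1534.k3 c1534_0 :)
theorem x1535 : AuxS.{u} (cP4r 2 0) s1535 0 a1535 := aux_base3 tw330 rfl b1535
theorem n1535 : Sound.{u} (cP4r 2 0) s1535 0 :=
  (x1535.k3 c1535_0 :)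
theorem x1517 : AuxS.{u} (cP4r 2 0) s1517 0 a1517 := aux_base3 tw303 rfl b1517
theorem x1517_1 : AuxS.{u} (cP4r 2 0) s1517 0 a1517_1 := (AuxS.up x1517 c1517_6 :)
theorem x1517_2 : AuxS.{u} (cP4r 2 0) s1517 0 a1517_2 := (AuxS.up2 x1517_1 c1517_7 :)
theorem x1517_3 : AuxS.{u} (cP4r 2 0) s1517 0 a1517_3 := (AuxS.up x1517_2 c1517_8 :)
theorem p1517_0_1 : Phs s1517 a1517_3 (List.map Prod.fst g1517_0) [s1518, s1519, s1520, s1521, s1522, s1523, s1524, s1525, s1526, s1527, s1528, s1529, s1530, s1531, s1532, s1533, s1534, s1535] ct1517_0 v1517_0 5 w1517_0_1 := (Phs.fin c1517_1)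
theorem p1517_0_3 : Phs s1517 a1517_3 (List.map Prod.fst g1517_0) [s1518, s1519, s1520, s1521, s1522, s1523, s1524, s1525, s1526, s1527, s1528, s1529, s1530, s1531, s1532, s1533, s1534, s1535] ct1517_0 v1517_0 4 w1517_0_3 := (Phs.stp c1517_2 p1517_0_1)
theorem p1517_0_5 : Phs s1517 a1517_3 (List.map Prod.fst g1517_0) [s1518, s1519, s1520, s1521, s1522, s1523, s1524, s1525, s1526, s1527, s1528, s1529, s1530, s1531, s1532, s1533, s1534, s1535] ct1517_0 v1517_0 1 w1517_0_5 := (Phs.stp c1517_3 p1517_0_3)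
theorem n1517 : Sound.{u} (cP4r 2 0) s1517 0 :=
  (x1517_3.ext2 (fun h => absurd h (by decide)) (AuxS.gam x1517_3 c1517_0) (AllS.cons n1518 (AllS.cons n1519 (AllS.cons n1520 (AllS.cons n1521 (AllS.cons n1522 (AllS.cons n1523 (AllS.cons n1524 (AllS.cons n1525 (AllS.cons n1526 (AllS.cons n1527 (AllS.cons n1528 (AllS.cons n1529 (AllS.cons n1530 (AllS.cons n1531 (AllS.cons n1532 (AllS.cons n1533 (AllS.cons n1534 (AllS.cons n1535 AllS.nil)))))))))))))))))) c1517_5 (Phs.stp c1517_4 p1517_0_5) (Phs.fin (ct := ct1517_0) rfl) :)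
theorem x1516 : AuxS.{u} (cP4r 2 0) s1516 0 a1516 := aux_base3 tw312 rfl b1516
theorem x1516_1 : AuxS.{u} (cP4r 2 0) s1516 0 a1516_1 := x1516
theorem x1516_2 : AuxS.{u} (cP4r 2 0) s1516 0 a1516_2 := x1516_1
theorem n1516 : Sound.{u} (cP4r 2 0) s1516 0 :=
  (x1516_2.jump c1516_0 c1516_1 n1517 :)
theorem x1507 : AuxS.{u} (cP4r 2 0) s1507 0 a1507 := aux_base3 tw303 rfl b1507
theorem x1507_1 : AuxS.{u} (cP4r 2 0) s1507 0 a1507_1 := x1507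
theorem x1507_2 : AuxS.{u} (cP4r 2 0) s1507 0 a1507_2 := x1507_1
theorem p1507_0_1 : Phs s1507 a1507_2 (List.map Prod.fst g1507_0) [s1515, s1516] ct1507_0 v1507_0 5 w1507_0_1 := (Phs.fin c1507_1)
theorem n1507 : Sound.{u} (cP4r 2 0) s1507 0 :=
  (x1507_2.ext2 (fun h => absurd h (by decide)) (AuxS.gam x1507_2 c1507_0) (AllS.cons n1515 (AllS.cons n1516 AllS.nil)) c1507_3 (Phs.fin (ct := ct1507_0) rfl) (Phs.stp c1507_2 p1507_0_1) :)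
theorem x1508 : AuxS.{u} (cP4r 2 0) s1508 0 a1508 := aux_base3 tw304 rfl b1508
theorem x1508_1 : AuxS.{u} (cP4r 2 0) s1508 0 a1508_1 := x1508
theorem x1508_2 : AuxS.{u} (cP4r 2 0) s1508 0 a1508_2 := x1508_1
theorem n1508 : Sound.{u} (cP4r 2 0) s1508 0 :=
  (x1508_2.ext2 (fun h => absurd h (by decide)) GamS.nil AllS.nil c1508_1 (Phs.fin (ct := ct1508_0) rfl) (Phs.fin c1508_0) :)
theorem x1509 : AuxS.{u} (cP4r 2 0) s1509 0 a1509 := aux_base3 tw305 rfl b1509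
theorem x1509_1 : AuxS.{u} (cP4r 2 0) s1509 0 a1509_1 := (AuxS.up x1509 c1509_1 :)
theorem n1509 : Sound.{u} (cP4r 2 0) s1509 0 :=
  (x1509_1.k7 c1509_0 :)
theorem x1510 : AuxS.{u} (cP4r 2 0) s1510 0 a1510 := aux_base3 tw306 rfl b1510
theorem x1510_1 : AuxS.{u} (cP4r 2 0) s1510 0 a1510_1 := (AuxS.up x1510 c1510_1 :)
theorem n1510 : Sound.{u} (cP4r 2 0) s1510 0 :=
  (x1510_1.k7 c1510_0 :)
theorem x1511 : AuxS.{u} (cP4r 2 0) s1511 0 a1511 := aux_base3 tw307 rfl b1511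
theorem x1511_1 : AuxS.{u} (cP4r 2 0) s1511 0 a1511_1 := x1511
theorem x1511_2 : AuxS.{u} (cP4r 2 0) s1511 0 a1511_2 := x1511_1
theorem n1511 : Sound.{u} (cP4r 2 0) s1511 0 :=
  (x1511_2.ext2 (fun h => absurd h (by decide)) GamS.nil AllS.nil c1511_1 (Phs.fin (ct := ct1511_0) rfl) (Phs.fin c1511_0) :)
theorem x1594 : AuxS.{u} (cP4r 2 0) s1594 0 a1594 := aux_base3 tw349 rfl b1594
theorem x1594_1 : AuxS.{u} (cP4r 2 0) s1594 0 a1594_1 := (AuxS.up x1594 c1594_1 :)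
theorem x1594_2 : AuxS.{u} (cP4r 2 0) s1594 0 a1594_2 := (AuxS.up2 x1594_1 c1594_2 :)
theorem x1594_3 : AuxS.{u} (cP4r 2 0) s1594 0 a1594_3 := (AuxS.up2 x1594_2 c1594_3 :)
theorem n1594 : Sound.{u} (cP4r 2 0) s1594 0 :=
  (x1594_3.k7 c1594_0 :)
theorem x1615 : AuxS.{u} (cP4r 2 0) s1615 0 a1615 := aux_base3 tw351 rfl b1615
theorem n1615 : Sound.{u} (cP4r 2 0) s1615 0 :=
  (x1615.k4 c1615_0 :)
theorem x1616 : AuxS.{u} (cP4r 2 0) s1616 0 a1616 := aux_base3 tw351 rfl b1616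
theorem n1616 : Sound.{u} (cP4r 2 0) s1616 0 :=
  (x1616.k4 c1616_0 :)
theorem x1617 : AuxS.{u} (cP4r 2 0) s1617 0 a1617 := aux_base3 tw351 rfl b1617
theorem n1617 : Sound.{u} (cP4r 2 0) s1617 0 :=
  (x1617.k4 c1617_0 :)
theorem x1618 : AuxS.{u} (cP4r 2 0) s1618 0 a1618 := aux_base3 tw351 rfl b1618
theorem n1618 : Sound.{u} (cP4r 2 0) s1618 0 :=
  (x1618.k4 c1618_0 :)
theorem x1619 : AuxS.{u} (cP4r 2 0) s1619 0 a1619 := aux_base3 tw351 rfl b1619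
theorem n1619 : Sound.{u} (cP4r 2 0) s1619 0 :=
  (x1619.k4 c1619_0 :)
theorem x1647 : AuxS.{u} (cP4r 2 0) s1647 0 a1647 := aux_base3 tw369 rfl b1647
theorem n1647 : Sound.{u} (cP4r 2 0) s1647 0 :=
  (x1647.k3 c1647_0 :)
theorem x1648 : AuxS.{u} (cP4r 2 0) s1648 0 a1648 := aux_base3 tw370 rfl b1648
theorem n1648 : Sound.{u} (cP4r 2 0) s1648 0 :=
  (x1648.k3 c1648_0 :)
theorem x1620 : AuxS.{u} (cP4r 2 0) s1620 0 a1620 := aux_base3 tw351 rfl b1620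
theorem x1620_1 : AuxS.{u} (cP4r 2 0) s1620 0 a1620_1 := x1620
theorem n1620 : Sound.{u} (cP4r 2 0) s1620 0 :=
  (x1620_1.fr2 GamS.nil (AllS.cons n1647 (AllS.cons n1648 AllS.nil)) c1620_0 :)
theorem x1621 : AuxS.{u} (cP4r 2 0) s1621 0 a1621 := aux_base3 tw351 rfl b1621
theorem n1621 : Sound.{u} (cP4r 2 0) s1621 0 :=
  (x1621.k4 c1621_0 :)
theorem x1622 : AuxS.{u} (cP4r 2 0) s1622 0 a1622 := aux_base3 tw351 rfl b1622
theorem n1622 : Sound.{u} (cP4r 2 0) s1622 0 :=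
  (x1622.k4 c1622_0 :)
theorem x1623 : AuxS.{u} (cP4r 2 0) s1623 0 a1623 := aux_base3 tw351 rfl b1623
theorem n1623 : Sound.{u} (cP4r 2 0) s1623 0 :=
  (x1623.k4 c1623_0 :)
theorem x1624 : AuxS.{u} (cP4r 2 0) s1624 0 a1624 := aux_base3 tw351 rfl b1624
theorem n1624 : Sound.{u} (cP4r 2 0) s1624 0 :=
  (x1624.k4 c1624_0 :)
theorem x1625 : AuxS.{u} (cP4r 2 0) s1625 0 a1625 := aux_base3 tw351 rfl b1625
theorem n1625 : Sound.{u} (cP4r 2 0) s1625 0 :=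
  (x1625.k4 c1625_0 :)
theorem x1626 : AuxS.{u} (cP4r 2 0) s1626 0 a1626 := aux_base3 tw351 rfl b1626
theorem n1626 : Sound.{u} (cP4r 2 0) s1626 0 :=
  (x1626.k4 c1626_0 :)
theorem x1627 : AuxS.{u} (cP4r 2 0) s1627 0 a1627 := aux_base3 tw351 rfl b1627
theorem n1627 : Sound.{u} (cP4r 2 0) s1627 0 :=
  (x1627.k4 c1627_0 :)
theorem x1628 : AuxS.{u} (cP4r 2 0) s1628 0 a1628 := aux_base3 tw351 rfl b1628
theorem n1628 : Sound.{u} (cP4r 2 0) s1628 0 :=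
  (x1628.k4 c1628_0 :)
theorem x1629 : AuxS.{u} (cP4r 2 0) s1629 0 a1629 := aux_base3 tw351 rfl b1629
theorem n1629 : Sound.{u} (cP4r 2 0) s1629 0 :=
  (x1629.k4 c1629_0 :)
theorem x1630 : AuxS.{u} (cP4r 2 0) s1630 0 a1630 := aux_base3 tw351 rfl b1630
theorem n1630 : Sound.{u} (cP4r 2 0) s1630 0 :=
  (x1630.k4 c1630_0 :)
theorem x1631 : AuxS.{u} (cP4r 2 0) s1631 0 a1631 := aux_base3 tw351 rfl b1631
theorem n1631 : Sound.{u} (cP4r 2 0) s1631 0 :=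
  (x1631.k4 c1631_0 :)
theorem x1632 : AuxS.{u} (cP4r 2 0) s1632 0 a1632 := aux_base3 tw351 rfl b1632
theorem n1632 : Sound.{u} (cP4r 2 0) s1632 0 :=
  (x1632.k4 c1632_0 :)
theorem x1633 : AuxS.{u} (cP4r 2 0) s1633 0 a1633 := aux_base3 tw351 rfl b1633
theorem n1633 : Sound.{u} (cP4r 2 0) s1633 0 :=
  (x1633.k4 c1633_0 :)
theorem x1634 : AuxS.{u} (cP4r 2 0) s1634 0 a1634 := aux_base3 tw351 rfl b1634
theorem n1634 : Sound.{u} (cP4r 2 0) s1634 0 :=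
  (x1634.k4 c1634_0 :)
theorem x1635 : AuxS.{u} (cP4r 2 0) s1635 0 a1635 := aux_base3 tw351 rfl b1635
theorem n1635 : Sound.{u} (cP4r 2 0) s1635 0 :=
  (x1635.k4 c1635_0 :)
theorem x1636 : AuxS.{u} (cP4r 2 0) s1636 0 a1636 := aux_base3 tw351 rfl b1636
theorem n1636 : Sound.{u} (cP4r 2 0) s1636 0 :=
  (x1636.k4 c1636_0 :)
theorem x1637 : AuxS.{u} (cP4r 2 0) s1637 0 a1637 := aux_base3 tw351 rfl b1637
theorem n1637 : Sound.{u} (cP4r 2 0) s1637 0 :=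
  (x1637.k4 c1637_0 :)
theorem x1638 : AuxS.{u} (cP4r 2 0) s1638 0 a1638 := aux_base3 tw351 rfl b1638
theorem n1638 : Sound.{u} (cP4r 2 0) s1638 0 :=
  (x1638.k4 c1638_0 :)
theorem x1639 : AuxS.{u} (cP4r 2 0) s1639 0 a1639 := aux_base3 tw351 rfl b1639
theorem n1639 : Sound.{u} (cP4r 2 0) s1639 0 :=
  (x1639.k4 c1639_0 :)
theorem x1640 : AuxS.{u} (cP4r 2 0) s1640 0 a1640 := aux_base3 tw351 rfl b1640
theorem n1640 : Sound.{u} (cP4r 2 0) s1640 0 :=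
  (x1640.k4 c1640_0 :)
theorem x1641 : AuxS.{u} (cP4r 2 0) s1641 0 a1641 := aux_base3 tw351 rfl b1641
theorem n1641 : Sound.{u} (cP4r 2 0) s1641 0 :=
  (x1641.k4 c1641_0 :)
theorem x1642 : AuxS.{u} (cP4r 2 0) s1642 0 a1642 := aux_base3 tw351 rfl b1642
theorem n1642 : Sound.{u} (cP4r 2 0) s1642 0 :=
  (x1642.k4 c1642_0 :)
theorem x1643 : AuxS.{u} (cP4r 2 0) s1643 0 a1643 := aux_base3 tw351 rfl b1643
theorem n1643 : Sound.{u} (cP4r 2 0) s1643 0 :=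
  (x1643.k4 c1643_0 :)
theorem x1644 : AuxS.{u} (cP4r 2 0) s1644 0 a1644 := aux_base3 tw351 rfl b1644
theorem n1644 : Sound.{u} (cP4r 2 0) s1644 0 :=
  (x1644.k4 c1644_0 :)
theorem x1645 : AuxS.{u} (cP4r 2 0) s1645 0 a1645 := aux_base3 tw351 rfl b1645
theorem n1645 : Sound.{u} (cP4r 2 0) s1645 0 :=
  (x1645.k4 c1645_0 :)
theorem x1646 : AuxS.{u} (cP4r 2 0) s1646 0 a1646 := aux_base3 tw351 rfl b1646
theorem n1646 : Sound.{u} (cP4r 2 0) s1646 0 :=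
  (x1646.k4 c1646_0 :)
theorem x1597 : AuxS.{u} (cP4r 2 0) s1597 0 a1597 := aux_base3 tw351 rfl b1597
theorem x1597_1 : AuxS.{u} (cP4r 2 0) s1597 0 a1597_1 := x1597
theorem n1597 : Sound.{u} (cP4r 2 0) s1597 0 :=
  (x1597_1.fr (AuxS.gam x1597_1 c1597_0) (AllS.cons n1615 (AllS.cons n1616 (AllS.cons n1617 (AllS.cons n1618 (AllS.cons n1619 (AllS.cons n1620 (AllS.cons n1621 (AllS.cons n1622 (AllS.cons n1623 (AllS.cons n1624 (AllS.cons n1625 (AllS.cons n1626 (AllS.cons n1627 (AllS.cons n1628 (AllS.cons n1629 (AllS.cons n1630 (AllS.cons n1631 (AllS.cons n1632 (AllS.cons n1633 (AllS.cons n1634 (AllS.cons n1635 (AllS.cons n1636 (AllS.cons n1637 (AllS.cons n1638 (AllS.cons n1639 (AllS.cons n1640 (AllS.cons n1641 (AllS.cons n1642 (AllS.cons n1643 (AllS.cons n1644 (AllS.cons n1645 (AllS.cons n1646 AllS.nil)))))))))))))))))))))))))))))))) c1597_1 :)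
theorem x1598 : AuxS.{u} (cP4r 2 0) s1598 0 a1598 := aux_base3 tw352 rfl b1598
theorem x1598_1 : AuxS.{u} (cP4r 2 0) s1598 0 a1598_1 := x1598
theorem n1598 : Sound.{u} (cP4r 2 0) s1598 0 :=
  (x1598_1.fr GamS.nil AllS.nil c1598_0 :)
theorem x1599 : AuxS.{u} (cP4r 2 0) s1599 0 a1599 := aux_base3 tw353 rfl b1599
theorem x1599_1 : AuxS.{u} (cP4r 2 0) s1599 0 a1599_1 := x1599
theorem n1599 : Sound.{u} (cP4r 2 0) s1599 0 :=
  (x1599_1.fr GamS.nil AllS.nil c1599_0 :)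
theorem x1600 : AuxS.{u} (cP4r 2 0) s1600 0 a1600 := aux_base3 tw354 rfl b1600
theorem x1600_1 : AuxS.{u} (cP4r 2 0) s1600 0 a1600_1 := x1600
theorem n1600 : Sound.{u} (cP4r 2 0) s1600 0 :=
  (x1600_1.fr GamS.nil AllS.nil c1600_0 :)
theorem x1601 : AuxS.{u} (cP4r 2 0) s1601 0 a1601 := aux_base3 tw355 rfl b1601
theorem n1601 : Sound.{u} (cP4r 2 0) s1601 0 :=
  (x1601.k4 c1601_0 :)
theorem x1602 : AuxS.{u} (cP4r 2 0) s1602 0 a1602 := aux_base3 tw356 rfl b1602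
theorem n1602 : Sound.{u} (cP4r 2 0) s1602 0 :=
  (x1602.k4 c1602_0 :)
theorem x1603 : AuxS.{u} (cP4r 2 0) s1603 0 a1603 := aux_base3 tw357 rfl b1603
theorem n1603 : Sound.{u} (cP4r 2 0) s1603 0 :=
  (x1603.k4 c1603_0 :)
theorem x1604 : AuxS.{u} (cP4r 2 0) s1604 0 a1604 := aux_base3 tw358 rfl b1604
theorem n1604 : Sound.{u} (cP4r 2 0) s1604 0 :=
  (x1604.k4 c1604_0 :)
theorem x1605 : AuxS.{u} (cP4r 2 0) s1605 0 a1605 := aux_base3 tw359 rfl b1605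
theorem x1605_1 : AuxS.{u} (cP4r 2 0) s1605 0 a1605_1 := x1605
theorem n1605 : Sound.{u} (cP4r 2 0) s1605 0 :=
  (x1605_1.fr GamS.nil AllS.nil c1605_0 :)
theorem x1606 : AuxS.{u} (cP4r 2 0) s1606 0 a1606 := aux_base3 tw360 rfl b1606
theorem x1606_1 : AuxS.{u} (cP4r 2 0) s1606 0 a1606_1 := x1606
theorem n1606 : Sound.{u} (cP4r 2 0) s1606 0 :=
  (x1606_1.fr GamS.nil AllS.nil c1606_0 :)
theorem x1607 : AuxS.{u} (cP4r 2 0) s1607 0 a1607 := aux_base3 tw361 rfl b1607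
theorem x1607_1 : AuxS.{u} (cP4r 2 0) s1607 0 a1607_1 := x1607
theorem n1607 : Sound.{u} (cP4r 2 0) s1607 0 :=
  (x1607_1.fr GamS.nil AllS.nil c1607_0 :)
theorem x1608 : AuxS.{u} (cP4r 2 0) s1608 0 a1608 := aux_base3 tw362 rfl b1608
theorem x1608_1 : AuxS.{u} (cP4r 2 0) s1608 0 a1608_1 := x1608
theorem n1608 : Sound.{u} (cP4r 2 0) s1608 0 :=
  (x1608_1.fr GamS.nil AllS.nil c1608_0 :)
theorem x1609 : AuxS.{u} (cP4r 2 0) s1609 0 a1609 := aux_base3 tw363 rfl b1609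
theorem n1609 : Sound.{u} (cP4r 2 0) s1609 0 :=
  (x1609.k4 c1609_0 :)
theorem x1610 : AuxS.{u} (cP4r 2 0) s1610 0 a1610 := aux_base3 tw364 rfl b1610
theorem n1610 : Sound.{u} (cP4r 2 0) s1610 0 :=
  (x1610.k4 c1610_0 :)
theorem x1611 : AuxS.{u} (cP4r 2 0) s1611 0 a1611 := aux_base3 tw365 rfl b1611
theorem n1611 : Sound.{u} (cP4r 2 0) s1611 0 :=
  (x1611.k4 c1611_0 :)
theorem x1612 : AuxS.{u} (cP4r 2 0) s1612 0 a1612 := aux_base3 tw366 rfl b1612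
theorem n1612 : Sound.{u} (cP4r 2 0) s1612 0 :=
  (x1612.k4 c1612_0 :)
theorem x1613 : AuxS.{u} (cP4r 2 0) s1613 0 a1613 := aux_base3 tw367 rfl b1613
theorem n1613 : Sound.{u} (cP4r 2 0) s1613 0 :=
  (x1613.k3 c1613_0 :)
theorem x1614 : AuxS.{u} (cP4r 2 0) s1614 0 a1614 := aux_base3 tw368 rfl b1614
theorem n1614 : Sound.{u} (cP4r 2 0) s1614 0 :=
  (x1614.k3 c1614_0 :)
theorem x1596 : AuxS.{u} (cP4r 2 0) s1596 0 a1596 := aux_base3 tw308 rfl b1596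
theorem x1596_1 : AuxS.{u} (cP4r 2 0) s1596 0 a1596_1 := (AuxS.up x1596 c1596_6 :)
theorem x1596_2 : AuxS.{u} (cP4r 2 0) s1596 0 a1596_2 := (AuxS.up2 x1596_1 c1596_7 :)
theorem x1596_3 : AuxS.{u} (cP4r 2 0) s1596 0 a1596_3 := (AuxS.up x1596_2 c1596_8 :)
theorem p1596_0_1 : Phs s1596 a1596_3 (List.map Prod.fst g1596_0) [s1597, s1598, s1599, s1600, s1601, s1602, s1603, s1604, s1605, s1606, s1607, s1608, s1609, s1610, s1611, s1612, s1613, s1614] ct1596_0 v1596_0 5 w1596_0_1 := (Phs.fin c1596_1)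
theorem p1596_0_3 : Phs s1596 a1596_3 (List.map Prod.fst g1596_0) [s1597, s1598, s1599, s1600, s1601, s1602, s1603, s1604, s1605, s1606, s1607, s1608, s1609, s1610, s1611, s1612, s1613, s1614] ct1596_0 v1596_0 4 w1596_0_3 := (Phs.stp c1596_2 p1596_0_1)
theorem p1596_0_5 : Phs s1596 a1596_3 (List.map Prod.fst g1596_0) [s1597, s1598, s1599, s1600, s1601, s1602, s1603, s1604, s1605, s1606, s1607, s1608, s1609, s1610, s1611, s1612, s1613, s1614] ct1596_0 v1596_0 1 w1596_0_5 := (Phs.stp c1596_3 p1596_0_3)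
theorem n1596 : Sound.{u} (cP4r 2 0) s1596 0 :=
  (x1596_3.ext2 (fun h => absurd h (by decide)) (AuxS.gam x1596_3 c1596_0) (AllS.cons n1597 (AllS.cons n1598 (AllS.cons n1599 (AllS.cons n1600 (AllS.cons n1601 (AllS.cons n1602 (AllS.cons n1603 (AllS.cons n1604 (AllS.cons n1605 (AllS.cons n1606 (AllS.cons n1607 (AllS.cons n1608 (AllS.cons n1609 (AllS.cons n1610 (AllS.cons n1611 (AllS.cons n1612 (AllS.cons n1613 (AllS.cons n1614 AllS.nil)))))))))))))))))) c1596_5 (Phs.stp c1596_4 p1596_0_5) (Phs.fin (ct := ct1596_0) rfl) :)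
theorem x1595 : AuxS.{u} (cP4r 2 0) s1595 0 a1595 := aux_base3 tw350 rfl b1595
theorem x1595_1 : AuxS.{u} (cP4r 2 0) s1595 0 a1595_1 := x1595
theorem x1595_2 : AuxS.{u} (cP4r 2 0) s1595 0 a1595_2 := x1595_1
theorem n1595 : Sound.{u} (cP4r 2 0) s1595 0 :=
  (x1595_2.jump c1595_0 c1595_1 n1596 :)
theorem x1512 : AuxS.{u} (cP4r 2 0) s1512 0 a1512 := aux_base3 tw308 rfl b1512
theorem x1512_1 : AuxS.{u} (cP4r 2 0) s1512 0 a1512_1 := x1512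
theorem x1512_2 : AuxS.{u} (cP4r 2 0) s1512 0 a1512_2 := x1512_1
theorem p1512_0_1 : Phs s1512 a1512_2 (List.map Prod.fst g1512_0) [s1594, s1595] ct1512_0 v1512_0 5 w1512_0_1 := (Phs.fin c1512_1)
theorem n1512 : Sound.{u} (cP4r 2 0) s1512 0 :=
  (x1512_2.ext2 (fun h => absurd h (by decide)) (AuxS.gam x1512_2 c1512_0) (AllS.cons n1594 (AllS.cons n1595 AllS.nil)) c1512_3 (Phs.fin (ct := ct1512_0) rfl) (Phs.stp c1512_2 p1512_0_1) :)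
theorem x1513 : AuxS.{u} (cP4r 2 0) s1513 0 a1513 := aux_base3 tw309 rfl b1513
theorem x1513_1 : AuxS.{u} (cP4r 2 0) s1513 0 a1513_1 := (AuxS.up x1513 c1513_1 :)
theorem n1513 : Sound.{u} (cP4r 2 0) s1513 0 :=
  (x1513_1.k7 c1513_0 :)
theorem x1514 : AuxS.{u} (cP4r 2 0) s1514 0 a1514 := aux_base3 tw310 rfl b1514
theorem x1514_1 : AuxS.{u} (cP4r 2 0) s1514 0 a1514_1 := (AuxS.up x1514 c1514_1 :)
theorem n1514 : Sound.{u} (cP4r 2 0) s1514 0 :=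
  (x1514_1.k7 c1514_0 :)
theorem x25 : AuxS.{u} (cP4r 2 0) s25 0 a25 := aux_base3 tw25 rfl b25
theorem x25_1 : AuxS.{u} (cP4r 2 0) s25 0 a25_1 := (AuxS.up x25 c25_4 :)
theorem p25_0_1 : Phs s25 a25_1 [] [s1507, s1508, s1509, s1510, s1511, s1512, s1513, s1514] ct25_0 v25_0 4 w25_0_1 := (Phs.fin c25_0)
theorem p25_0_3 : Phs s25 a25_1 [] [s1507, s1508, s1509, s1510, s1511, s1512, s1513, s1514] ct25_0 v25_0 1 w25_0_3 := (Phs.stp c25_1 p25_0_1)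
theorem n25 : Sound.{u} (cP4r 2 0) s25 0 :=
  (x25_1.ext2 (fun h => absurd h (by decide)) GamS.nil (AllS.cons n1507 (AllS.cons n1508 (AllS.cons n1509 (AllS.cons n1510 (AllS.cons n1511 (AllS.cons n1512 (AllS.cons n1513 (AllS.cons n1514 AllS.nil)))))))) c25_3 (Phs.stp c25_2 p25_0_3) (Phs.fin (ct := ct25_0) rfl) :)
theorem x1657 : AuxS.{u} (cP4r 2 0) s1657 0 a1657 := aux_base3 tw379 rfl b1657
theorem x1657_1 : AuxS.{u} (cP4r 2 0) s1657 0 a1657_1 := (AuxS.up x1657 c1657_1 :)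
theorem x1657_2 : AuxS.{u} (cP4r 2 0) s1657 0 a1657_2 := (AuxS.up2 x1657_1 c1657_2 :)
theorem n1657 : Sound.{u} (cP4r 2 0) s1657 0 :=
  (x1657_2.k7 c1657_0 :)
theorem x1660 : AuxS.{u} (cP4r 2 0) s1660 0 a1660 := aux_base3 tw381 rfl b1660
theorem x1660_1 : AuxS.{u} (cP4r 2 0) s1660 0 a1660_1 := x1660
theorem x1660_2 : AuxS.{u} (cP4r 2 0) s1660 0 a1660_2 := x1660_1
theorem n1660 : Sound.{u} (cP4r 2 0) s1660 0 :=
  (x1660_2.fr GamS.nil AllS.nil c1660_0 :)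
theorem x1661 : AuxS.{u} (cP4r 2 0) s1661 0 a1661 := aux_base3 tw382 rfl b1661
theorem x1661_1 : AuxS.{u} (cP4r 2 0) s1661 0 a1661_1 := x1661
theorem x1661_2 : AuxS.{u} (cP4r 2 0) s1661 0 a1661_2 := x1661_1
theorem n1661 : Sound.{u} (cP4r 2 0) s1661 0 :=
  (x1661_2.fr GamS.nil AllS.nil c1661_0 :)
theorem x1662 : AuxS.{u} (cP4r 2 0) s1662 0 a1662 := aux_base3 tw383 rfl b1662
theorem x1662_1 : AuxS.{u} (cP4r 2 0) s1662 0 a1662_1 := x1662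
theorem x1662_2 : AuxS.{u} (cP4r 2 0) s1662 0 a1662_2 := x1662_1
theorem n1662 : Sound.{u} (cP4r 2 0) s1662 0 :=
  (x1662_2.fr GamS.nil AllS.nil c1662_0 :)
theorem x1663 : AuxS.{u} (cP4r 2 0) s1663 0 a1663 := aux_base3 tw384 rfl b1663
theorem x1663_1 : AuxS.{u} (cP4r 2 0) s1663 0 a1663_1 := x1663
theorem x1663_2 : AuxS.{u} (cP4r 2 0) s1663 0 a1663_2 := x1663_1
theorem n1663 : Sound.{u} (cP4r 2 0) s1663 0 :=
  (x1663_2.fr GamS.nil AllS.nil c1663_0 :)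
theorem x1664 : AuxS.{u} (cP4r 2 0) s1664 0 a1664 := aux_base3 tw385 rfl b1664
theorem x1664_1 : AuxS.{u} (cP4r 2 0) s1664 0 a1664_1 := x1664
theorem x1664_2 : AuxS.{u} (cP4r 2 0) s1664 0 a1664_2 := x1664_1
theorem n1664 : Sound.{u} (cP4r 2 0) s1664 0 :=
  (x1664_2.fr GamS.nil AllS.nil c1664_0 :)
theorem x1665 : AuxS.{u} (cP4r 2 0) s1665 0 a1665 := aux_base3 tw386 rfl b1665
theorem x1665_1 : AuxS.{u} (cP4r 2 0) s1665 0 a1665_1 := x1665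
theorem x1665_2 : AuxS.{u} (cP4r 2 0) s1665 0 a1665_2 := x1665_1
theorem n1665 : Sound.{u} (cP4r 2 0) s1665 0 :=
  (x1665_2.fr GamS.nil AllS.nil c1665_0 :)
theorem x1666 : AuxS.{u} (cP4r 2 0) s1666 0 a1666 := aux_base3 tw387 rfl b1666
theorem x1666_1 : AuxS.{u} (cP4r 2 0) s1666 0 a1666_1 := x1666
theorem x1666_2 : AuxS.{u} (cP4r 2 0) s1666 0 a1666_2 := x1666_1
theorem n1666 : Sound.{u} (cP4r 2 0) s1666 0 :=
  (x1666_2.fr GamS.nil AllS.nil c1666_0 :)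
theorem x1667 : AuxS.{u} (cP4r 2 0) s1667 0 a1667 := aux_base3 tw388 rfl b1667
theorem x1667_1 : AuxS.{u} (cP4r 2 0) s1667 0 a1667_1 := x1667
theorem x1667_2 : AuxS.{u} (cP4r 2 0) s1667 0 a1667_2 := x1667_1
theorem n1667 : Sound.{u} (cP4r 2 0) s1667 0 :=
  (x1667_2.fr GamS.nil AllS.nil c1667_0 :)
theorem x1668 : AuxS.{u} (cP4r 2 0) s1668 0 a1668 := aux_base3 tw389 rfl b1668
theorem x1668_1 : AuxS.{u} (cP4r 2 0) s1668 0 a1668_1 := x1668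
theorem x1668_2 : AuxS.{u} (cP4r 2 0) s1668 0 a1668_2 := x1668_1
theorem n1668 : Sound.{u} (cP4r 2 0) s1668 0 :=
  (x1668_2.fr GamS.nil AllS.nil c1668_0 :)
theorem x1669 : AuxS.{u} (cP4r 2 0) s1669 0 a1669 := aux_base3 tw390 rfl b1669
theorem x1669_1 : AuxS.{u} (cP4r 2 0) s1669 0 a1669_1 := x1669
theorem x1669_2 : AuxS.{u} (cP4r 2 0) s1669 0 a1669_2 := x1669_1
theorem n1669 : Sound.{u} (cP4r 2 0) s1669 0 :=
  (x1669_2.fr GamS.nil AllS.nil c1669_0 :)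
theorem x1670 : AuxS.{u} (cP4r 2 0) s1670 0 a1670 := aux_base3 tw391 rfl b1670
theorem x1670_1 : AuxS.{u} (cP4r 2 0) s1670 0 a1670_1 := x1670
theorem x1670_2 : AuxS.{u} (cP4r 2 0) s1670 0 a1670_2 := x1670_1
theorem n1670 : Sound.{u} (cP4r 2 0) s1670 0 :=
  (x1670_2.fr GamS.nil AllS.nil c1670_0 :)
theorem x1671 : AuxS.{u} (cP4r 2 0) s1671 0 a1671 := aux_base3 tw392 rfl b1671
theorem x1671_1 : AuxS.{u} (cP4r 2 0) s1671 0 a1671_1 := x1671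
theorem x1671_2 : AuxS.{u} (cP4r 2 0) s1671 0 a1671_2 := x1671_1
theorem n1671 : Sound.{u} (cP4r 2 0) s1671 0 :=
  (x1671_2.fr GamS.nil AllS.nil c1671_0 :)
theorem x1672 : AuxS.{u} (cP4r 2 0) s1672 0 a1672 := aux_base3 tw393 rfl b1672
theorem x1672_1 : AuxS.{u} (cP4r 2 0) s1672 0 a1672_1 := x1672
theorem x1672_2 : AuxS.{u} (cP4r 2 0) s1672 0 a1672_2 := x1672_1
theorem n1672 : Sound.{u} (cP4r 2 0) s1672 0 :=
  (x1672_2.fr GamS.nil AllS.nil c1672_0 :)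
theorem x1673 : AuxS.{u} (cP4r 2 0) s1673 0 a1673 := aux_base3 tw394 rfl b1673
theorem x1673_1 : AuxS.{u} (cP4r 2 0) s1673 0 a1673_1 := x1673
theorem x1673_2 : AuxS.{u} (cP4r 2 0) s1673 0 a1673_2 := x1673_1
theorem n1673 : Sound.{u} (cP4r 2 0) s1673 0 :=
  (x1673_2.fr GamS.nil AllS.nil c1673_0 :)
theorem x1674 : AuxS.{u} (cP4r 2 0) s1674 0 a1674 := aux_base3 tw395 rfl b1674
theorem x1674_1 : AuxS.{u} (cP4r 2 0) s1674 0 a1674_1 := x1674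
theorem x1674_2 : AuxS.{u} (cP4r 2 0) s1674 0 a1674_2 := x1674_1
theorem n1674 : Sound.{u} (cP4r 2 0) s1674 0 :=
  (x1674_2.fr GamS.nil AllS.nil c1674_0 :)
theorem x1675 : AuxS.{u} (cP4r 2 0) s1675 0 a1675 := aux_base3 tw396 rfl b1675
theorem x1675_1 : AuxS.{u} (cP4r 2 0) s1675 0 a1675_1 := x1675
theorem x1675_2 : AuxS.{u} (cP4r 2 0) s1675 0 a1675_2 := x1675_1
theorem n1675 : Sound.{u} (cP4r 2 0) s1675 0 :=
  (x1675_2.fr GamS.nil AllS.nil c1675_0 :)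
theorem x1676 : AuxS.{u} (cP4r 2 0) s1676 0 a1676 := aux_base3 tw397 rfl b1676
theorem n1676 : Sound.{u} (cP4r 2 0) s1676 0 :=
  (x1676.k3 c1676_0 :)
theorem x1677 : AuxS.{u} (cP4r 2 0) s1677 0 a1677 := aux_base3 tw398 rfl b1677
theorem n1677 : Sound.{u} (cP4r 2 0) s1677 0 :=
  (x1677.k3 c1677_0 :)
theorem x1659 : AuxS.{u} (cP4r 2 0) s1659 0 a1659 := aux_base3 tw371 rfl b1659
theorem x1659_1 : AuxS.{u} (cP4r 2 0) s1659 0 a1659_1 := (AuxS.up x1659 c1659_6 :)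
theorem x1659_2 : AuxS.{u} (cP4r 2 0) s1659 0 a1659_2 := (AuxS.up2 x1659_1 c1659_7 :)
theorem x1659_3 : AuxS.{u} (cP4r 2 0) s1659 0 a1659_3 := (AuxS.up x1659_2 c1659_8 :)
theorem p1659_0_1 : Phs s1659 a1659_3 (List.map Prod.fst g1659_0) [s1660, s1661, s1662, s1663, s1664, s1665, s1666, s1667, s1668, s1669, s1670, s1671, s1672, s1673, s1674, s1675, s1676, s1677] ct1659_0 v1659_0 5 w1659_0_1 := (Phs.fin c1659_1)
theorem p1659_0_3 : Phs s1659 a1659_3 (List.map Prod.fst g1659_0) [s1660, s1661, s1662, s1663, s1664, s1665, s1666, s1667, s1668, s1669, s1670, s1671, s1672, s1673, s1674, s1675, s1676, s1677] ct1659_0 v1659_0 4 w1659_0_3 := (Phs.stp c1659_2 p1659_0_1)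
theorem p1659_0_5 : Phs s1659 a1659_3 (List.map Prod.fst g1659_0) [s1660, s1661, s1662, s1663, s1664, s1665, s1666, s1667, s1668, s1669, s1670, s1671, s1672, s1673, s1674, s1675, s1676, s1677] ct1659_0 v1659_0 1 w1659_0_5 := (Phs.stp c1659_3 p1659_0_3)
theorem n1659 : Sound.{u} (cP4r 2 0) s1659 0 :=
  (x1659_3.ext2 (fun h => absurd h (by decide)) (AuxS.gam x1659_3 c1659_0) (AllS.cons n1660 (AllS.cons n1661 (AllS.cons n1662 (AllS.cons n1663 (AllS.cons n1664 (AllS.cons n1665 (AllS.cons n1666 (AllS.cons n1667 (AllS.cons n1668 (AllS.cons n1669 (AllS.cons n1670 (AllS.cons n1671 (AllS.cons n1672 (AllS.cons n1673 (AllS.cons n1674 (AllS.cons n1675 (AllS.cons n1676 (AllS.cons n1677 AllS.nil)))))))))))))))))) c1659_5 (Phs.stp c1659_4 p1659_0_5) (Phs.fin (ct := ct1659_0) rfl) :)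
theorem x1658 : AuxS.{u} (cP4r 2 0) s1658 0 a1658 := aux_base3 tw380 rfl b1658
theorem x1658_1 : AuxS.{u} (cP4r 2 0) s1658 0 a1658_1 := x1658
theorem x1658_2 : AuxS.{u} (cP4r 2 0) s1658 0 a1658_2 := x1658_1
theorem n1658 : Sound.{u} (cP4r 2 0) s1658 0 :=
  (x1658_2.jump c1658_0 c1658_1 n1659 :)
theorem x1649 : AuxS.{u} (cP4r 2 0) s1649 0 a1649 := aux_base3 tw371 rfl b1649
theorem x1649_1 : AuxS.{u} (cP4r 2 0) s1649 0 a1649_1 := x1649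
theorem x1649_2 : AuxS.{u} (cP4r 2 0) s1649 0 a1649_2 := x1649_1
theorem p1649_0_1 : Phs s1649 a1649_2 (List.map Prod.fst g1649_0) [s1657, s1658] ct1649_0 v1649_0 5 w1649_0_1 := (Phs.fin c1649_1)
theorem n1649 : Sound.{u} (cP4r 2 0) s1649 0 :=
  (x1649_2.ext2 (fun h => absurd h (by decide)) (AuxS.gam x1649_2 c1649_0) (AllS.cons n1657 (AllS.cons n1658 AllS.nil)) c1649_3 (Phs.fin (ct := ct1649_0) rfl) (Phs.stp c1649_2 p1649_0_1) :)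
theorem x1650 : AuxS.{u} (cP4r 2 0) s1650 0 a1650 := aux_base3 tw372 rfl b1650
theorem x1650_1 : AuxS.{u} (cP4r 2 0) s1650 0 a1650_1 := x1650
theorem x1650_2 : AuxS.{u} (cP4r 2 0) s1650 0 a1650_2 := x1650_1
theorem n1650 : Sound.{u} (cP4r 2 0) s1650 0 :=
  (x1650_2.ext2 (fun h => absurd h (by decide)) GamS.nil AllS.nil c1650_1 (Phs.fin (ct := ct1650_0) rfl) (Phs.fin c1650_0) :)
theorem x1651 : AuxS.{u} (cP4r 2 0) s1651 0 a1651 := aux_base3 tw373 rfl b1651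
theorem x1651_1 : AuxS.{u} (cP4r 2 0) s1651 0 a1651_1 := (AuxS.up x1651 c1651_1 :)
theorem n1651 : Sound.{u} (cP4r 2 0) s1651 0 :=
  (x1651_1.k7 c1651_0 :)
theorem x1652 : AuxS.{u} (cP4r 2 0) s1652 0 a1652 := aux_base3 tw374 rfl b1652
theorem x1652_1 : AuxS.{u} (cP4r 2 0) s1652 0 a1652_1 := (AuxS.up x1652 c1652_1 :)
theorem n1652 : Sound.{u} (cP4r 2 0) s1652 0 :=
  (x1652_1.k7 c1652_0 :)
theorem x1653 : AuxS.{u} (cP4r 2 0) s1653 0 a1653 := aux_base3 tw375 rfl b1653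
theorem x1653_1 : AuxS.{u} (cP4r 2 0) s1653 0 a1653_1 := x1653
theorem x1653_2 : AuxS.{u} (cP4r 2 0) s1653 0 a1653_2 := x1653_1
theorem n1653 : Sound.{u} (cP4r 2 0) s1653 0 :=
  (x1653_2.ext2 (fun h => absurd h (by decide)) GamS.nil AllS.nil c1653_1 (Phs.fin (ct := ct1653_0) rfl) (Phs.fin c1653_0) :)
theorem x1678 : AuxS.{u} (cP4r 2 0) s1678 0 a1678 := aux_base3 tw399 rfl b1678
theorem x1678_1 : AuxS.{u} (cP4r 2 0) s1678 0 a1678_1 := (AuxS.up x1678 c1678_1 :)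
theorem x1678_2 : AuxS.{u} (cP4r 2 0) s1678 0 a1678_2 := (AuxS.up2 x1678_1 c1678_2 :)
theorem x1678_3 : AuxS.{u} (cP4r 2 0) s1678 0 a1678_3 := (AuxS.up2 x1678_2 c1678_3 :)
theorem n1678 : Sound.{u} (cP4r 2 0) s1678 0 :=
  (x1678_3.k7 c1678_0 :)
theorem x1681 : AuxS.{u} (cP4r 2 0) s1681 0 a1681 := aux_base3 tw401 rfl b1681
theorem x1681_1 : AuxS.{u} (cP4r 2 0) s1681 0 a1681_1 := x1681
theorem x1681_2 : AuxS.{u} (cP4r 2 0) s1681 0 a1681_2 := x1681_1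
theorem n1681 : Sound.{u} (cP4r 2 0) s1681 0 :=
  (x1681_2.fr GamS.nil AllS.nil c1681_0 :)
theorem x1682 : AuxS.{u} (cP4r 2 0) s1682 0 a1682 := aux_base3 tw402 rfl b1682
theorem x1682_1 : AuxS.{u} (cP4r 2 0) s1682 0 a1682_1 := x1682
theorem x1682_2 : AuxS.{u} (cP4r 2 0) s1682 0 a1682_2 := x1682_1
theorem n1682 : Sound.{u} (cP4r 2 0) s1682 0 :=
  (x1682_2.fr GamS.nil AllS.nil c1682_0 :)
theorem x1683 : AuxS.{u} (cP4r 2 0) s1683 0 a1683 := aux_base3 tw403 rfl b1683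
theorem x1683_1 : AuxS.{u} (cP4r 2 0) s1683 0 a1683_1 := x1683
theorem x1683_2 : AuxS.{u} (cP4r 2 0) s1683 0 a1683_2 := x1683_1
theorem n1683 : Sound.{u} (cP4r 2 0) s1683 0 :=
  (x1683_2.fr GamS.nil AllS.nil c1683_0 :)
theorem x1684 : AuxS.{u} (cP4r 2 0) s1684 0 a1684 := aux_base3 tw404 rfl b1684
theorem x1684_1 : AuxS.{u} (cP4r 2 0) s1684 0 a1684_1 := x1684
theorem x1684_2 : AuxS.{u} (cP4r 2 0) s1684 0 a1684_2 := x1684_1
theorem n1684 : Sound.{u} (cP4r 2 0) s1684 0 :=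
  (x1684_2.fr GamS.nil AllS.nil c1684_0 :)
theorem x1685 : AuxS.{u} (cP4r 2 0) s1685 0 a1685 := aux_base3 tw405 rfl b1685
theorem n1685 : Sound.{u} (cP4r 2 0) s1685 0 :=
  (x1685.k4 c1685_0 :)
theorem x1686 : AuxS.{u} (cP4r 2 0) s1686 0 a1686 := aux_base3 tw406 rfl b1686
theorem n1686 : Sound.{u} (cP4r 2 0) s1686 0 :=
  (x1686.k4 c1686_0 :)
theorem x1687 : AuxS.{u} (cP4r 2 0) s1687 0 a1687 := aux_base3 tw407 rfl b1687
theorem n1687 : Sound.{u} (cP4r 2 0) s1687 0 :=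
  (x1687.k4 c1687_0 :)
theorem x1688 : AuxS.{u} (cP4r 2 0) s1688 0 a1688 := aux_base3 tw408 rfl b1688
theorem n1688 : Sound.{u} (cP4r 2 0) s1688 0 :=
  (x1688.k4 c1688_0 :)
theorem x1689 : AuxS.{u} (cP4r 2 0) s1689 0 a1689 := aux_base3 tw409 rfl b1689
theorem x1689_1 : AuxS.{u} (cP4r 2 0) s1689 0 a1689_1 := x1689
theorem x1689_2 : AuxS.{u} (cP4r 2 0) s1689 0 a1689_2 := x1689_1
theorem n1689 : Sound.{u} (cP4r 2 0) s1689 0 :=
  (x1689_2.fr GamS.nil AllS.nil c1689_0 :)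
theorem x1690 : AuxS.{u} (cP4r 2 0) s1690 0 a1690 := aux_base3 tw410 rfl b1690
theorem x1690_1 : AuxS.{u} (cP4r 2 0) s1690 0 a1690_1 := x1690
theorem x1690_2 : AuxS.{u} (cP4r 2 0) s1690 0 a1690_2 := x1690_1
theorem n1690 : Sound.{u} (cP4r 2 0) s1690 0 :=
  (x1690_2.fr GamS.nil AllS.nil c1690_0 :)
theorem x1691 : AuxS.{u} (cP4r 2 0) s1691 0 a1691 := aux_base3 tw411 rfl b1691
theorem x1691_1 : AuxS.{u} (cP4r 2 0) s1691 0 a1691_1 := x1691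
theorem x1691_2 : AuxS.{u} (cP4r 2 0) s1691 0 a1691_2 := x1691_1
theorem n1691 : Sound.{u} (cP4r 2 0) s1691 0 :=
  (x1691_2.fr GamS.nil AllS.nil c1691_0 :)
theorem x1692 : AuxS.{u} (cP4r 2 0) s1692 0 a1692 := aux_base3 tw412 rfl b1692
theorem x1692_1 : AuxS.{u} (cP4r 2 0) s1692 0 a1692_1 := x1692
theorem x1692_2 : AuxS.{u} (cP4r 2 0) s1692 0 a1692_2 := x1692_1
theorem n1692 : Sound.{u} (cP4r 2 0) s1692 0 :=
  (x1692_2.fr GamS.nil AllS.nil c1692_0 :)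
theorem x1693 : AuxS.{u} (cP4r 2 0) s1693 0 a1693 := aux_base3 tw413 rfl b1693
theorem n1693 : Sound.{u} (cP4r 2 0) s1693 0 :=
  (x1693.k4 c1693_0 :)
theorem x1694 : AuxS.{u} (cP4r 2 0) s1694 0 a1694 := aux_base3 tw414 rfl b1694
theorem n1694 : Sound.{u} (cP4r 2 0) s1694 0 :=
  (x1694.k4 c1694_0 :)
theorem x1695 : AuxS.{u} (cP4r 2 0) s1695 0 a1695 := aux_base3 tw415 rfl b1695
theorem n1695 : Sound.{u} (cP4r 2 0) s1695 0 :=
  (x1695.k4 c1695_0 :)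
theorem x1696 : AuxS.{u} (cP4r 2 0) s1696 0 a1696 := aux_base3 tw416 rfl b1696
theorem n1696 : Sound.{u} (cP4r 2 0) s1696 0 :=
  (x1696.k4 c1696_0 :)
theorem x1697 : AuxS.{u} (cP4r 2 0) s1697 0 a1697 := aux_base3 tw417 rfl b1697
theorem n1697 : Sound.{u} (cP4r 2 0) s1697 0 :=
  (x1697.k3 c1697_0 :)
theorem x1698 : AuxS.{u} (cP4r 2 0) s1698 0 a1698 := aux_base3 tw418 rfl b1698
theorem n1698 : Sound.{u} (cP4r 2 0) s1698 0 :=
  (x1698.k3 c1698_0 :)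
theorem x1680 : AuxS.{u} (cP4r 2 0) s1680 0 a1680 := aux_base3 tw376 rfl b1680
theorem x1680_1 : AuxS.{u} (cP4r 2 0) s1680 0 a1680_1 := (AuxS.up x1680 c1680_6 :)
theorem x1680_2 : AuxS.{u} (cP4r 2 0) s1680 0 a1680_2 := (AuxS.up2 x1680_1 c1680_7 :)
theorem x1680_3 : AuxS.{u} (cP4r 2 0) s1680 0 a1680_3 := (AuxS.up x1680_2 c1680_8 :)
theorem p1680_0_1 : Phs s1680 a1680_3 (List.map Prod.fst g1680_0) [s1681, s1682, s1683, s1684, s1685, s1686, s1687, s1688, s1689, s1690, s1691, s1692, s1693, s1694, s1695, s1696, s1697, s1698] ct1680_0 v1680_0 5 w1680_0_1 := (Phs.fin c1680_1)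
theorem p1680_0_3 : Phs s1680 a1680_3 (List.map Prod.fst g1680_0) [s1681, s1682, s1683, s1684, s1685, s1686, s1687, s1688, s1689, s1690, s1691, s1692, s1693, s1694, s1695, s1696, s1697, s1698] ct1680_0 v1680_0 4 w1680_0_3 := (Phs.stp c1680_2 p1680_0_1)
theorem p1680_0_5 : Phs s1680 a1680_3 (List.map Prod.fst g1680_0) [s1681, s1682, s1683, s1684, s1685, s1686, s1687, s1688, s1689, s1690, s1691, s1692, s1693, s1694, s1695, s1696, s1697, s1698] ct1680_0 v1680_0 1 w1680_0_5 := (Phs.stp c1680_3 p1680_0_3)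
theorem n1680 : Sound.{u} (cP4r 2 0) s1680 0 :=
  (x1680_3.ext2 (fun h => absurd h (by decide)) (AuxS.gam x1680_3 c1680_0) (AllS.cons n1681 (AllS.cons n1682 (AllS.cons n1683 (AllS.cons n1684 (AllS.cons n1685 (AllS.cons n1686 (AllS.cons n1687 (AllS.cons n1688 (AllS.cons n1689 (AllS.cons n1690 (AllS.cons n1691 (AllS.cons n1692 (AllS.cons n1693 (AllS.cons n1694 (AllS.cons n1695 (AllS.cons n1696 (AllS.cons n1697 (AllS.cons n1698 AllS.nil)))))))))))))))))) c1680_5 (Phs.stp c1680_4 p1680_0_5) (Phs.fin (ct := ct1680_0) rfl) :)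
theorem x1679 : AuxS.{u} (cP4r 2 0) s1679 0 a1679 := aux_base3 tw400 rfl b1679
theorem x1679_1 : AuxS.{u} (cP4r 2 0) s1679 0 a1679_1 := x1679
theorem x1679_2 : AuxS.{u} (cP4r 2 0) s1679 0 a1679_2 := x1679_1
theorem n1679 : Sound.{u} (cP4r 2 0) s1679 0 :=
  (x1679_2.jump c1679_0 c1679_1 n1680 :)
theorem x1654 : AuxS.{u} (cP4r 2 0) s1654 0 a1654 := aux_base3 tw376 rfl b1654
theorem x1654_1 : AuxS.{u} (cP4r 2 0) s1654 0 a1654_1 := x1654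
theorem x1654_2 : AuxS.{u} (cP4r 2 0) s1654 0 a1654_2 := x1654_1
theorem p1654_0_1 : Phs s1654 a1654_2 (List.map Prod.fst g1654_0) [s1678, s1679] ct1654_0 v1654_0 5 w1654_0_1 := (Phs.fin c1654_1)
theorem n1654 : Sound.{u} (cP4r 2 0) s1654 0 :=
  (x1654_2.ext2 (fun h => absurd h (by decide)) (AuxS.gam x1654_2 c1654_0) (AllS.cons n1678 (AllS.cons n1679 AllS.nil)) c1654_3 (Phs.fin (ct := ct1654_0) rfl) (Phs.stp c1654_2 p1654_0_1) :)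
theorem x1655 : AuxS.{u} (cP4r 2 0) s1655 0 a1655 := aux_base3 tw377 rfl b1655
theorem x1655_1 : AuxS.{u} (cP4r 2 0) s1655 0 a1655_1 := (AuxS.up x1655 c1655_1 :)
theorem n1655 : Sound.{u} (cP4r 2 0) s1655 0 :=
  (x1655_1.k7 c1655_0 :)
theorem x1656 : AuxS.{u} (cP4r 2 0) s1656 0 a1656 := aux_base3 tw378 rfl b1656
theorem x1656_1 : AuxS.{u} (cP4r 2 0) s1656 0 a1656_1 := (AuxS.up x1656 c1656_1 :)
theorem n1656 : Sound.{u} (cP4r 2 0) s1656 0 :=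
  (x1656_1.k7 c1656_0 :)
theorem x26 : AuxS.{u} (cP4r 2 0) s26 0 a26 := aux_base3 tw26 rfl b26
theorem x26_1 : AuxS.{u} (cP4r 2 0) s26 0 a26_1 := (AuxS.up x26 c26_4 :)
theorem p26_0_1 : Phs s26 a26_1 [] [s1649, s1650, s1651, s1652, s1653, s1654, s1655, s1656] ct26_0 v26_0 4 w26_0_1 := (Phs.fin c26_0)
theorem p26_0_3 : Phs s26 a26_1 [] [s1649, s1650, s1651, s1652, s1653, s1654, s1655, s1656] ct26_0 v26_0 1 w26_0_3 := (Phs.stp c26_1 p26_0_1)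
theorem n26 : Sound.{u} (cP4r 2 0) s26 0 :=
  (x26_1.ext2 (fun h => absurd h (by decide)) GamS.nil (AllS.cons n1649 (AllS.cons n1650 (AllS.cons n1651 (AllS.cons n1652 (AllS.cons n1653 (AllS.cons n1654 (AllS.cons n1655 (AllS.cons n1656 AllS.nil)))))))) c26_3 (Phs.stp c26_2 p26_0_3) (Phs.fin (ct := ct26_0) rfl) :)
theorem x1699 : AuxS.{u} (cP4r 2 0) s1699 0 a1699 := aux_base3 tw419 rfl b1699
theorem x1699_1 : AuxS.{u} (cP4r 2 0) s1699 0 a1699_1 := (AuxS.up x1699 c1699_1 :)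
theorem x1699_2 : AuxS.{u} (cP4r 2 0) s1699 0 a1699_2 := (AuxS.up2 x1699_1 c1699_2 :)
theorem n1699 : Sound.{u} (cP4r 2 0) s1699 0 :=
  (x1699_2.k7 c1699_0 :)
theorem x1700 : AuxS.{u} (cP4r 2 0) s1700 0 a1700 := aux_base3 tw420 rfl b1700
theorem x1700_1 : AuxS.{u} (cP4r 2 0) s1700 0 a1700_1 := (AuxS.up x1700 c1700_1 :)
theorem n1700 : Sound.{u} (cP4r 2 0) s1700 0 :=
  (x1700_1.k7 c1700_0 :)
theorem x1707 : AuxS.{u} (cP4r 2 0) s1707 0 a1707 := aux_base3 tw427 rfl b1707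
theorem x1707_1 : AuxS.{u} (cP4r 2 0) s1707 0 a1707_1 := x1707
theorem x1707_2 : AuxS.{u} (cP4r 2 0) s1707 0 a1707_2 := x1707_1
theorem n1707 : Sound.{u} (cP4r 2 0) s1707 0 :=
  (x1707_2.rho AllS.nil c1707_0 :)
theorem x1714 : AuxS.{u} (cP4r 2 0) s1714 0 a1714 := aux_base3 tw431 rfl b1714
theorem x1714_1 : AuxS.{u} (cP4r 2 0) s1714 0 a1714_1 := x1714
theorem x1714_2 : AuxS.{u} (cP4r 2 0) s1714 0 a1714_2 := x1714_1
theorem n1714 : Sound.{u} (cP4r 2 0) s1714 0 :=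
  (x1714_2.jump c1714_0 c1714_1 n1267 :)
theorem x1715 : AuxS.{u} (cP4r 2 0) s1715 0 a1715 := aux_base3 tw432 rfl b1715
theorem x1715_1 : AuxS.{u} (cP4r 2 0) s1715 0 a1715_1 := x1715
theorem x1715_2 : AuxS.{u} (cP4r 2 0) s1715 0 a1715_2 := x1715_1
theorem n1715 : Sound.{u} (cP4r 2 0) s1715 0 :=
  (x1715_2.jump c1715_0 c1715_1 n1266 :)
theorem x1712 : AuxS.{u} (cP4r 2 0) s1712 0 a1712 := aux_base3 tw429 rfl b1712
theorem x1712_1 : AuxS.{u} (cP4r 2 0) s1712 0 a1712_1 := x1712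
theorem x1712_2 : AuxS.{u} (cP4r 2 0) s1712 0 a1712_2 := x1712_1
theorem x1712_3 : AuxS.{u} (cP4r 2 0) s1712 0 a1712_3 := x1712_2
theorem x1712_4 : AuxS.{u} (cP4r 2 0) s1712 0 a1712_4 := x1712_3
theorem n1712 : Sound.{u} (cP4r 2 0) s1712 0 :=
  (x1712_4.fr2 GamS.nil (AllS.cons n1714 (AllS.cons n1715 AllS.nil)) c1712_0 :)
theorem x1713 : AuxS.{u} (cP4r 2 0) s1713 0 a1713 := aux_base3 tw429 rfl b1713
theorem n1713 : Sound.{u} (cP4r 2 0) s1713 0 :=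
  (x1713.k4 c1713_0 :)
theorem x1710 : AuxS.{u} (cP4r 2 0) s1710 0 a1710 := aux_base3 tw429 rfl b1710
theorem x1710_1 : AuxS.{u} (cP4r 2 0) s1710 0 a1710_1 := x1710
theorem x1710_2 : AuxS.{u} (cP4r 2 0) s1710 0 a1710_2 := x1710_1
theorem n1710 : Sound.{u} (cP4r 2 0) s1710 0 :=
  (x1710_2.fr GamS.nil (AllS.cons n1712 (AllS.cons n1713 AllS.nil)) c1710_0 :)
theorem x1716 : AuxS.{u} (cP4r 2 0) s1716 0 a1716 := aux_base3 tw430 rfl b1716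
theorem n1716 : Sound.{u} (cP4r 2 0) s1716 0 :=
  (x1716.k4 c1716_0 :)
theorem x1718 : AuxS.{u} (cP4r 2 0) s1718 0 a1718 := aux_base3 tw433 rfl b1718
theorem x1718_1 : AuxS.{u} (cP4r 2 0) s1718 0 a1718_1 := x1718
theorem x1718_2 : AuxS.{u} (cP4r 2 0) s1718 0 a1718_2 := x1718_1
theorem n1718 : Sound.{u} (cP4r 2 0) s1718 0 :=
  (x1718_2.jump c1718_0 c1718_1 n1278 :)
theorem x1719 : AuxS.{u} (cP4r 2 0) s1719 0 a1719 := aux_base3 tw434 rfl b1719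
theorem x1719_1 : AuxS.{u} (cP4r 2 0) s1719 0 a1719_1 := x1719
theorem x1719_2 : AuxS.{u} (cP4r 2 0) s1719 0 a1719_2 := x1719_1
theorem n1719 : Sound.{u} (cP4r 2 0) s1719 0 :=
  (x1719_2.jump c1719_0 c1719_1 n1279 :)
theorem x1717 : AuxS.{u} (cP4r 2 0) s1717 0 a1717 := aux_base3 tw430 rfl b1717
theorem x1717_1 : AuxS.{u} (cP4r 2 0) s1717 0 a1717_1 := x1717
theorem x1717_2 : AuxS.{u} (cP4r 2 0) s1717 0 a1717_2 := x1717_1
theorem x1717_3 : AuxS.{u} (cP4r 2 0) s1717 0 a1717_3 := x1717_2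
theorem x1717_4 : AuxS.{u} (cP4r 2 0) s1717 0 a1717_4 := x1717_3
theorem n1717 : Sound.{u} (cP4r 2 0) s1717 0 :=
  (x1717_4.fr2 GamS.nil (AllS.cons n1718 (AllS.cons n1719 AllS.nil)) c1717_0 :)
theorem x1711 : AuxS.{u} (cP4r 2 0) s1711 0 a1711 := aux_base3 tw430 rfl b1711
theorem x1711_1 : AuxS.{u} (cP4r 2 0) s1711 0 a1711_1 := x1711
theorem x1711_2 : AuxS.{u} (cP4r 2 0) s1711 0 a1711_2 := x1711_1
theorem n1711 : Sound.{u} (cP4r 2 0) s1711 0 :=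
  (x1711_2.fr GamS.nil (AllS.cons n1716 (AllS.cons n1717 AllS.nil)) c1711_0 :)
theorem x1709 : AuxS.{u} (cP4r 2 0) s1709 0 a1709 := aux_base3 tw421 rfl b1709
theorem x1709_1 : AuxS.{u} (cP4r 2 0) s1709 0 a1709_1 := (AuxS.up x1709 c1709_6 :)
theorem x1709_2 : AuxS.{u} (cP4r 2 0) s1709 0 a1709_2 := x1709_1
theorem p1709_0_1 : Phs s1709 a1709_2 (List.map Prod.fst g1709_0) [s1710, s1711] ct1709_0 v1709_0 5 w1709_0_1 := (Phs.fin c1709_1)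
theorem p1709_0_3 : Phs s1709 a1709_2 (List.map Prod.fst g1709_0) [s1710, s1711] ct1709_0 v1709_0 4 w1709_0_3 := (Phs.stp c1709_2 p1709_0_1)
theorem p1709_0_5 : Phs s1709 a1709_2 (List.map Prod.fst g1709_0) [s1710, s1711] ct1709_0 v1709_0 1 w1709_0_5 := (Phs.stp c1709_3 p1709_0_3)
theorem n1709 : Sound.{u} (cP4r 2 0) s1709 0 :=
  (x1709_2.ext2 (fun h => absurd h (by decide)) (AuxS.gam x1709_2 c1709_0) (AllS.cons n1710 (AllS.cons n1711 AllS.nil)) c1709_5 (Phs.stp c1709_4 p1709_0_5) (Phs.fin (ct := ct1709_0) rfl) :)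
theorem x1708 : AuxS.{u} (cP4r 2 0) s1708 0 a1708 := aux_base3 tw428 rfl b1708
theorem x1708_1 : AuxS.{u} (cP4r 2 0) s1708 0 a1708_1 := x1708
theorem x1708_2 : AuxS.{u} (cP4r 2 0) s1708 0 a1708_2 := x1708_1
theorem n1708 : Sound.{u} (cP4r 2 0) s1708 0 :=
  (x1708_2.jump c1708_0 c1708_1 n1709 :)
theorem x1701 : AuxS.{u} (cP4r 2 0) s1701 0 a1701 := aux_base3 tw421 rfl b1701
theorem x1701_1 : AuxS.{u} (cP4r 2 0) s1701 0 a1701_1 := x1701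
theorem x1701_2 : AuxS.{u} (cP4r 2 0) s1701 0 a1701_2 := x1701_1
theorem p1701_0_1 : Phs s1701 a1701_2 (List.map Prod.fst g1701_0) [s1707, s1708] ct1701_0 v1701_0 5 w1701_0_1 := (Phs.fin c1701_1)
theorem n1701 : Sound.{u} (cP4r 2 0) s1701 0 :=
  (x1701_2.ext2 (fun h => absurd h (by decide)) (AuxS.gam x1701_2 c1701_0) (AllS.cons n1707 (AllS.cons n1708 AllS.nil)) c1701_3 (Phs.fin (ct := ct1701_0) rfl) (Phs.stp c1701_2 p1701_0_1) :)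
theorem x1702 : AuxS.{u} (cP4r 2 0) s1702 0 a1702 := aux_base3 tw422 rfl b1702
theorem x1702_1 : AuxS.{u} (cP4r 2 0) s1702 0 a1702_1 := (AuxS.up x1702 c1702_1 :)
theorem n1702 : Sound.{u} (cP4r 2 0) s1702 0 :=
  (x1702_1.k7 c1702_0 :)
theorem x1703 : AuxS.{u} (cP4r 2 0) s1703 0 a1703 := aux_base3 tw423 rfl b1703
theorem x1703_1 : AuxS.{u} (cP4r 2 0) s1703 0 a1703_1 := (AuxS.up x1703 c1703_1 :)
theorem n1703 : Sound.{u} (cP4r 2 0) s1703 0 :=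
  (x1703_1.k7 c1703_0 :)
theorem x1704 : AuxS.{u} (cP4r 2 0) s1704 0 a1704 := aux_base3 tw424 rfl b1704
theorem x1704_1 : AuxS.{u} (cP4r 2 0) s1704 0 a1704_1 := (AuxS.up x1704 c1704_1 :)
theorem x1704_2 : AuxS.{u} (cP4r 2 0) s1704 0 a1704_2 := (AuxS.up2 x1704_1 c1704_2 :)
theorem n1704 : Sound.{u} (cP4r 2 0) s1704 0 :=
  (x1704_2.k7 c1704_0 :)
theorem x1705 : AuxS.{u} (cP4r 2 0) s1705 0 a1705 := aux_base3 tw425 rfl b1705
theorem x1705_1 : AuxS.{u} (cP4r 2 0) s1705 0 a1705_1 := (AuxS.up x1705 c1705_1 :)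
theorem n1705 : Sound.{u} (cP4r 2 0) s1705 0 :=
  (x1705_1.k7 c1705_0 :)
theorem x1720 : AuxS.{u} (cP4r 2 0) s1720 0 a1720 := aux_base3 tw435 rfl b1720
theorem x1720_1 : AuxS.{u} (cP4r 2 0) s1720 0 a1720_1 := x1720
theorem x1720_2 : AuxS.{u} (cP4r 2 0) s1720 0 a1720_2 := x1720_1
theorem x1720_3 : AuxS.{u} (cP4r 2 0) s1720 0 a1720_3 := x1720_2
theorem n1720 : Sound.{u} (cP4r 2 0) s1720 0 :=
  (x1720_3.rho AllS.nil c1720_0 :)
theorem x1722 : AuxS.{u} (cP4r 2 0) s1722 0 a1722 := aux_base3 tw426 rfl b1722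
theorem x1722_1 : AuxS.{u} (cP4r 2 0) s1722 0 a1722_1 := (AuxS.up x1722 c1722_4 :)
theorem x1722_2 : AuxS.{u} (cP4r 2 0) s1722 0 a1722_2 := (AuxS.up2 x1722_1 c1722_5 :)
theorem x1722_3 : AuxS.{u} (cP4r 2 0) s1722 0 a1722_3 := (AuxS.up x1722_2 c1722_6 :)
theorem x1722_4 : AuxS.{u} (cP4r 2 0) s1722 0 a1722_4 := x1722_3
theorem x1722_5 : AuxS.{u} (cP4r 2 0) s1722 0 a1722_5 := x1722_4
theorem x1722_6 : AuxS.{u} (cP4r 2 0) s1722 0 a1722_6 := x1722_5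
theorem p1722_0_1 : Phs s1722 a1722_6 [] [] ct1722_0 v1722_0 4 w1722_0_1 := (Phs.fin c1722_0)
theorem p1722_0_3 : Phs s1722 a1722_6 [] [] ct1722_0 v1722_0 1 w1722_0_3 := (Phs.stp c1722_1 p1722_0_1)
theorem n1722 : Sound.{u} (cP4r 2 0) s1722 0 :=
  (x1722_6.ext2 (fun h => absurd h (by decide)) GamS.nil AllS.nil c1722_3 (Phs.stp c1722_2 p1722_0_3) (Phs.fin (ct := ct1722_0) rfl) :)
theorem x1721 : AuxS.{u} (cP4r 2 0) s1721 0 a1721 := aux_base3 tw436 rfl b1721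
theorem x1721_1 : AuxS.{u} (cP4r 2 0) s1721 0 a1721_1 := x1721
theorem x1721_2 : AuxS.{u} (cP4r 2 0) s1721 0 a1721_2 := x1721_1
theorem x1721_3 : AuxS.{u} (cP4r 2 0) s1721 0 a1721_3 := x1721_2
theorem n1721 : Sound.{u} (cP4r 2 0) s1721 0 :=
  (x1721_3.jump c1721_0 c1721_1 n1722 :)
theorem x1706 : AuxS.{u} (cP4r 2 0) s1706 0 a1706 := aux_base3 tw426 rfl b1706
theorem x1706_1 : AuxS.{u} (cP4r 2 0) s1706 0 a1706_1 := x1706
theorem x1706_2 : AuxS.{u} (cP4r 2 0) s1706 0 a1706_2 := x1706_1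
theorem x1706_3 : AuxS.{u} (cP4r 2 0) s1706 0 a1706_3 := x1706_2
theorem x1706_4 : AuxS.{u} (cP4r 2 0) s1706 0 a1706_4 := x1706_3
theorem p1706_0_1 : Phs s1706 a1706_4 (List.map Prod.fst g1706_0) [s1720, s1721] ct1706_0 v1706_0 5 w1706_0_1 := (Phs.fin c1706_1)
theorem n1706 : Sound.{u} (cP4r 2 0) s1706 0 :=
  (x1706_4.ext2 (fun h => absurd h (by decide)) (AuxS.gam x1706_4 c1706_0) (AllS.cons n1720 (AllS.cons n1721 AllS.nil)) c1706_3 (Phs.fin (ct := ct1706_0) rfl) (Phs.stp c1706_2 p1706_0_1) :)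
theorem x27 : AuxS.{u} (cP4r 2 0) s27 0 a27 := aux_base3 tw27 rfl b27
theorem x27_1 : AuxS.{u} (cP4r 2 0) s27 0 a27_1 := (AuxS.up x27 c27_4 :)
theorem p27_0_1 : Phs s27 a27_1 [] [s1699, s1700, s1701, s1702, s1703, s1704, s1705, s1706] ct27_0 v27_0 4 w27_0_1 := (Phs.fin c27_0)
theorem p27_0_3 : Phs s27 a27_1 [] [s1699, s1700, s1701, s1702, s1703, s1704, s1705, s1706] ct27_0 v27_0 1 w27_0_3 := (Phs.stp c27_1 p27_0_1)
theorem n27 : Sound.{u} (cP4r 2 0) s27 0 :=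
  (x27_1.ext2 (fun h => absurd h (by decide)) GamS.nil (AllS.cons n1699 (AllS.cons n1700 (AllS.cons n1701 (AllS.cons n1702 (AllS.cons n1703 (AllS.cons n1704 (AllS.cons n1705 (AllS.cons n1706 AllS.nil)))))))) c27_3 (Phs.stp c27_2 p27_0_3) (Phs.fin (ct := ct27_0) rfl) :)
theorem x28 : AuxS.{u} (cP4r 2 0) s28 0 a28 := aux_base3 tw28 rfl b28
theorem x28_1 : AuxS.{u} (cP4r 2 0) s28 0 a28_1 := (AuxS.up x28 c28_1 :)
theorem n28 : Sound.{u} (cP4r 2 0) s28 0 :=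
  (x28_1.k7 c28_0 :)
theorem x29 : AuxS.{u} (cP4r 2 0) s29 0 a29 := aux_base3 tw29 rfl b29
theorem n29 : Sound.{u} (cP4r 2 0) s29 0 :=
  (x29.k3 c29_0 :)
theorem x30 : AuxS.{u} (cP4r 2 0) s30 0 a30 := aux_base3 tw30 rfl b30
theorem n30 : Sound.{u} (cP4r 2 0) s30 0 :=
  (x30.k3 c30_0 :)
theorem x31 : AuxS.{u} (cP4r 2 0) s31 0 a31 := aux_base3 tw31 rfl b31
theorem n31 : Sound.{u} (cP4r 2 0) s31 0 :=
  (x31.k3 c31_0 :)
theorem x32 : AuxS.{u} (cP4r 2 0) s32 0 a32 := aux_base3 tw32 rfl b32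
theorem n32 : Sound.{u} (cP4r 2 0) s32 0 :=
  (x32.k3 c32_0 :)
theorem x0 : AuxS.{u} (cP4r 2 0) s0 0 a0 := aux_base3 tw0 rfl b0
theorem x0_1 : AuxS.{u} (cP4r 2 0) s0 0 a0_1 := (AuxS.up x0 c0_3 :)
theorem p0_0_1 : Phs s0 a0_1 [] [s1, s2, s3, s4, s5, s6, s7, s8, s9, s10, s11, s12, s13, s14, s15, s16, s17, s18, s19, s20, s21, s22, s23, s24, s25, s26, s27, s28, s29, s30, s31, s32] ct0_0 v0_0 2 w0_0_1 := (Phs.fin c0_0)
theorem n0 : Sound.{u} (cP4r 2 0) s0 0 :=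
  (x0_1.ext2 (fun h => absurd h (by decide)) GamS.nil (AllS.cons n1 (AllS.cons n2 (AllS.cons n3 (AllS.cons n4 (AllS.cons n5 (AllS.cons n6 (AllS.cons n7 (AllS.cons n8 (AllS.cons n9 (AllS.cons n10 (AllS.cons n11 (AllS.cons n12 (AllS.cons n13 (AllS.cons n14 (AllS.cons n15 (AllS.cons n16 (AllS.cons n17 (AllS.cons n18 (AllS.cons n19 (AllS.cons n20 (AllS.cons n21 (AllS.cons n22 (AllS.cons n23 (AllS.cons n24 (AllS.cons n25 (AllS.cons n26 (AllS.cons n27 (AllS.cons n28 (AllS.cons n29 (AllS.cons n30 (AllS.cons n31 (AllS.cons n32 AllS.nil)))))))))))))))))))))))))))))))) c0_2 (Phs.stp c0_1 p0_0_1) (Phs.fin (ct := ct0_0) rfl) :)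

theorem main : Sound.{u} (cP4r 2 0) (root 2) 0 := n0

end

end CfsgLib.Dih8.TP20
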