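import Cfsg.Agent.Lib.Dih8.G.TP4C0
import Cfsg.Agent.Lib.Dih8.G.TP4C1
import Cfsg.Agent.Lib.Dih8.G.TP4C2
import Cfsg.Agent.Lib.Dih8.G.TP4C3
import Cfsg.Agent.Lib.Dih8.G.TP4C4
import Cfsg.Agent.Lib.Dih8.G.TP4C5
import Cfsg.Agent.Lib.Dih8.G.TP4C6
import Cfsg.Agent.Lib.Dih8.G.TP4C7
import Cfsg.Agent.Lib.Dih8.G.TP4C8
import Cfsg.Agent.Lib.Dih8.G.TP4C9
import Cfsg.Agent.Lib.Dih8.G.TP4C10
import Cfsg.Agent.Lib.Dih8.G.TP4C11
import Cfsg.Agent.Lib.Dih8.G.TP4C12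
import Cfsg.Agent.Lib.Dih8.G.TP4C13
import Cfsg.Agent.Lib.Dih8.G.TP4C14
import Cfsg.Agent.Lib.Dih8.G.TP4C15
import Cfsg.Agent.Lib.Dih8.G.TP4C16
import Cfsg.Agent.Lib.Dih8.G.TP4C17
import Cfsg.Agent.Lib.Dih8.G.TP4C18
import Cfsg.Agent.Lib.Dih8.G.TP4C19
import Cfsg.Agent.Lib.Dih8.G.TP4C20
import Cfsg.Agent.Lib.Dih8.G.TP4C21
import Cfsg.Agent.Lib.Dih8.G.TP4C22
import Cfsg.Agent.Lib.Dih8.Rules

/-! Generated certificates (plans/DIH8.md). -/

set_option autoImplicit false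
set_option maxRecDepth 100000
set_option Elab.async false
set_option maxHeartbeats 0
set_option linter.all false

namespace CfsgLib.Dih8.TP4

noncomputable section

universe u

theorem tw91 : Tow.{u} l91 t91 := tow_of tc91_0 (Rng.zero.step tc91_1) (Rng.zero.step tc91_2)
theorem tw92 : Tow.{u} l92 t92 := tow_of tc92_0 (Rng.zero.step tc92_1) (Rng.zero.step tc92_2)
theorem tw93 : Tow.{u} l93 t93 := tow_of tc93_0 (Rng.zero.step tc93_1) (Rng.zero.step tc93_2)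
theorem tw94 : Tow.{u} l94 t94 := tow_of tc94_0 (Rng.zero.step tc94_1) (Rng.zero.step tc94_2)
theorem tw95 : Tow.{u} l95 t95 := tow_of tc95_0 (Rng.zero.step tc95_1) (Rng.zero.step tc95_2)
theorem tw96 : Tow.{u} l96 t96 := tow_of tc96_0 (Rng.zero.step tc96_1) (Rng.zero.step tc96_2)
theorem tw97 : Tow.{u} l97 t97 := tow_of tc97_0 (Rng.zero.step tc97_1) (Rng.zero.step tc97_2)
theorem tw98 : Tow.{u} l98 t98 := tow_of tc98_0 (Rng.zero.step tc98_1) (Rng.zero.step tc98_2)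
theorem tw99 : Tow.{u} l99 t99 := tow_of tc99_0 (Rng.zero.step tc99_1) (Rng.zero.step tc99_2)
theorem tw100 : Tow.{u} l100 t100 := tow_of tc100_0 (Rng.zero.step tc100_1) (Rng.zero.step tc100_2)
theorem tw101 : Tow.{u} l101 t101 := tow_of tc101_0 (Rng.zero.step tc101_1) (Rng.zero.step tc101_2)
theorem tw102 : Tow.{u} l102 t102 := tow_of tc102_0 (Rng.zero.step tc102_1) (Rng.zero.step tc102_2)
theorem tw103 : Tow.{u} l103 t103 := tow_of tc103_0 (Rng.zero.step tc103_1) (Rng.zero.step tc103_2)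
theorem tw104 : Tow.{u} l104 t104 := tow_of tc104_0 (Rng.zero.step tc104_1) (Rng.zero.step tc104_2)
theorem tw105 : Tow.{u} l105 t105 := tow_of tc105_0 (Rng.zero.step tc105_1) (Rng.zero.step tc105_2)
theorem tw106 : Tow.{u} l106 t106 := tow_of tc106_0 (Rng.zero.step tc106_1) (Rng.zero.step tc106_2)
theorem tw59 : Tow.{u} l59 t59 := tow_of tc59_0 (Rng.zero.step tc59_1) (Rng.zero.step tc59_2)
theorem tw60 : Tow.{u} l60 t60 := tow_of tc60_0 (Rng.zero.step tc60_1) (Rng.zero.step tc60_2)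
theorem tw61 : Tow.{u} l61 t61 := tow_of tc61_0 (Rng.zero.step tc61_1) (Rng.zero.step tc61_2)
theorem tw62 : Tow.{u} l62 t62 := tow_of tc62_0 (Rng.zero.step tc62_1) (Rng.zero.step tc62_2)
theorem tw63 : Tow.{u} l63 t63 := tow_of tc63_0 (Rng.zero.step tc63_1) (Rng.zero.step tc63_2)
theorem tw64 : Tow.{u} l64 t64 := tow_of tc64_0 (Rng.zero.step tc64_1) (Rng.zero.step tc64_2)
theorem tw65 : Tow.{u} l65 t65 := tow_of tc65_0 (Rng.zero.step tc65_1) (Rng.zero.step tc65_2)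
theorem tw66 : Tow.{u} l66 t66 := tow_of tc66_0 (Rng.zero.step tc66_1) (Rng.zero.step tc66_2)
theorem tw67 : Tow.{u} l67 t67 := tow_of tc67_0 (Rng.zero.step tc67_1) (Rng.zero.step tc67_2)
theorem tw68 : Tow.{u} l68 t68 := tow_of tc68_0 (Rng.zero.step tc68_1) (Rng.zero.step tc68_2)
theorem tw69 : Tow.{u} l69 t69 := tow_of tc69_0 (Rng.zero.step tc69_1) (Rng.zero.step tc69_2)
theorem tw70 : Tow.{u} l70 t70 := tow_of tc70_0 (Rng.zero.step tc70_1) (Rng.zero.step tc70_2)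
theorem tw71 : Tow.{u} l71 t71 := tow_of tc71_0 (Rng.zero.step tc71_1) (Rng.zero.step tc71_2)
theorem tw72 : Tow.{u} l72 t72 := tow_of tc72_0 (Rng.zero.step tc72_1) (Rng.zero.step tc72_2)
theorem tw73 : Tow.{u} l73 t73 := tow_of tc73_0 (Rng.zero.step tc73_1) (Rng.zero.step tc73_2)
theorem tw74 : Tow.{u} l74 t74 := tow_of tc74_0 (Rng.zero.step tc74_1) (Rng.zero.step tc74_2)
theorem tw75 : Tow.{u} l75 t75 := tow_of tc75_0 (Rng.zero.step tc75_1) (Rng.zero.step tc75_2)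
theorem tw107 : Tow.{u} l107 t107 := tow_of tc107_0 (Rng.zero.step tc107_1) (Rng.zero.step tc107_2)
theorem tw108 : Tow.{u} l108 t108 := tow_of tc108_0 (Rng.zero.step tc108_1) (Rng.zero.step tc108_2)
theorem tw109 : Tow.{u} l109 t109 := tow_of tc109_0 (Rng.zero.step tc109_1) (Rng.zero.step tc109_2)
theorem tw110 : Tow.{u} l110 t110 := tow_of tc110_0 (Rng.zero.step tc110_1) (Rng.zero.step tc110_2)
theorem tw111 : Tow.{u} l111 t111 := tow_of tc111_0 (Rng.zero.step tc111_1) (Rng.zero.step tc111_2)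
theorem tw112 : Tow.{u} l112 t112 := tow_of tc112_0 (Rng.zero.step tc112_1) (Rng.zero.step tc112_2)
theorem tw113 : Tow.{u} l113 t113 := tow_of tc113_0 (Rng.zero.step tc113_1) (Rng.zero.step tc113_2)
theorem tw114 : Tow.{u} l114 t114 := tow_of tc114_0 (Rng.zero.step tc114_1) (Rng.zero.step tc114_2)
theorem tw76 : Tow.{u} l76 t76 := tow_of tc76_0 (Rng.zero.step tc76_1) (Rng.zero.step tc76_2)
theorem tw77 : Tow.{u} l77 t77 := tow_of tc77_0 (Rng.zero.step tc77_1) (Rng.zero.step tc77_2)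
theorem tw78 : Tow.{u} l78 t78 := tow_of tc78_0 (Rng.zero.step tc78_1) (Rng.zero.step tc78_2)
theorem tw79 : Tow.{u} l79 t79 := tow_of tc79_0 (Rng.zero.step tc79_1) (Rng.zero.step tc79_2)
theorem tw80 : Tow.{u} l80 t80 := tow_of tc80_0 (Rng.zero.step tc80_1) (Rng.zero.step tc80_2)
theorem tw81 : Tow.{u} l81 t81 := tow_of tc81_0 (Rng.zero.step tc81_1) (Rng.zero.step tc81_2)
theorem tw82 : Tow.{u} l82 t82 := tow_of tc82_0 (Rng.zero.step tc82_1) (Rng.zero.step tc82_2)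
theorem tw83 : Tow.{u} l83 t83 := tow_of tc83_0 (Rng.zero.step tc83_1) (Rng.zero.step tc83_2)
theorem tw84 : Tow.{u} l84 t84 := tow_of tc84_0 (Rng.zero.step tc84_1) (Rng.zero.step tc84_2)
theorem tw85 : Tow.{u} l85 t85 := tow_of tc85_0 (Rng.zero.step tc85_1) (Rng.zero.step tc85_2)
theorem tw86 : Tow.{u} l86 t86 := tow_of tc86_0 (Rng.zero.step tc86_1) (Rng.zero.step tc86_2)
theorem tw87 : Tow.{u} l87 t87 := tow_of tc87_0 (Rng.zero.step tc87_1) (Rng.zero.step tc87_2)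
theorem tw88 : Tow.{u} l88 t88 := tow_of tc88_0 (Rng.zero.step tc88_1) (Rng.zero.step tc88_2)
theorem tw89 : Tow.{u} l89 t89 := tow_of tc89_0 (Rng.zero.step tc89_1) (Rng.zero.step tc89_2)
theorem tw90 : Tow.{u} l90 t90 := tow_of tc90_0 (Rng.zero.step tc90_1) (Rng.zero.step tc90_2)
theorem tw33 : Tow.{u} l33 t33 := tow_of tc33_0 (Rng.zero.step tc33_1) (Rng.zero.step tc33_2)
theorem tw43 : Tow.{u} l43 t43 := tow_of tc43_0 (Rng.zero.step tc43_1) (Rng.zero.step tc43_2)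
theorem tw44 : Tow.{u} l44 t44 := tow_of tc44_0 (Rng.zero.step tc44_1) (Rng.zero.step tc44_2)
theorem tw45 : Tow.{u} l45 t45 := tow_of tc45_0 (Rng.zero.step tc45_1) (Rng.zero.step tc45_2)
theorem tw46 : Tow.{u} l46 t46 := tow_of tc46_0 (Rng.zero.step tc46_1) (Rng.zero.step tc46_2)
theorem tw47 : Tow.{u} l47 t47 := tow_of tc47_0 (Rng.zero.step tc47_1) (Rng.zero.step tc47_2)
theorem tw48 : Tow.{u} l48 t48 := tow_of tc48_0 (Rng.zero.step tc48_1) (Rng.zero.step tc48_2)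
theorem tw49 : Tow.{u} l49 t49 := tow_of tc49_0 (Rng.zero.step tc49_1) (Rng.zero.step tc49_2)
theorem tw50 : Tow.{u} l50 t50 := tow_of tc50_0 (Rng.zero.step tc50_1) (Rng.zero.step tc50_2)
theorem tw51 : Tow.{u} l51 t51 := tow_of tc51_0 (Rng.zero.step tc51_1) (Rng.zero.step tc51_2)
theorem tw52 : Tow.{u} l52 t52 := tow_of tc52_0 (Rng.zero.step tc52_1) (Rng.zero.step tc52_2)
theorem tw53 : Tow.{u} l53 t53 := tow_of tc53_0 (Rng.zero.step tc53_1) (Rng.zero.step tc53_2)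
theorem tw54 : Tow.{u} l54 t54 := tow_of tc54_0 (Rng.zero.step tc54_1) (Rng.zero.step tc54_2)
theorem tw55 : Tow.{u} l55 t55 := tow_of tc55_0 (Rng.zero.step tc55_1) (Rng.zero.step tc55_2)
theorem tw56 : Tow.{u} l56 t56 := tow_of tc56_0 (Rng.zero.step tc56_1) (Rng.zero.step tc56_2)
theorem tw57 : Tow.{u} l57 t57 := tow_of tc57_0 (Rng.zero.step tc57_1) (Rng.zero.step tc57_2)
theorem tw58 : Tow.{u} l58 t58 := tow_of tc58_0 (Rng.zero.step tc58_1) (Rng.zero.step tc58_2)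
theorem tw115 : Tow.{u} l115 t115 := tow_of tc115_0 (Rng.zero.step tc115_1) (Rng.zero.step tc115_2)
theorem tw116 : Tow.{u} l116 t116 := tow_of tc116_0 (Rng.zero.step tc116_1) (Rng.zero.step tc116_2)
theorem tw117 : Tow.{u} l117 t117 := tow_of tc117_0 (Rng.zero.step tc117_1) (Rng.zero.step tc117_2)
theorem tw118 : Tow.{u} l118 t118 := tow_of tc118_0 (Rng.zero.step tc118_1) (Rng.zero.step tc118_2)
theorem tw119 : Tow.{u} l119 t119 := tow_of tc119_0 (Rng.zero.step tc119_1) (Rng.zero.step tc119_2)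
theorem tw120 : Tow.{u} l120 t120 := tow_of tc120_0 (Rng.zero.step tc120_1) (Rng.zero.step tc120_2)
theorem tw121 : Tow.{u} l121 t121 := tow_of tc121_0 (Rng.zero.step tc121_1) (Rng.zero.step tc121_2)
theorem tw122 : Tow.{u} l122 t122 := tow_of tc122_0 (Rng.zero.step tc122_1) (Rng.zero.step tc122_2)
theorem tw123 : Tow.{u} l123 t123 := tow_of tc123_0 (Rng.zero.step tc123_1) (Rng.zero.step tc123_2)
theorem tw124 : Tow.{u} l124 t124 := tow_of tc124_0 (Rng.zero.step tc124_1) (Rng.zero.step tc124_2)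
theorem tw125 : Tow.{u} l125 t125 := tow_of tc125_0 (Rng.zero.step tc125_1) (Rng.zero.step tc125_2)
theorem tw126 : Tow.{u} l126 t126 := tow_of tc126_0 (Rng.zero.step tc126_1) (Rng.zero.step tc126_2)
theorem tw127 : Tow.{u} l127 t127 := tow_of tc127_0 (Rng.zero.step tc127_1) (Rng.zero.step tc127_2)
theorem tw128 : Tow.{u} l128 t128 := tow_of tc128_0 (Rng.zero.step tc128_1) (Rng.zero.step tc128_2)
theorem tw129 : Tow.{u} l129 t129 := tow_of tc129_0 (Rng.zero.step tc129_1) (Rng.zero.step tc129_2)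
theorem tw130 : Tow.{u} l130 t130 := tow_of tc130_0 (Rng.zero.step tc130_1) (Rng.zero.step tc130_2)
theorem tw34 : Tow.{u} l34 t34 := tow_of tc34_0 (Rng.zero.step tc34_1) (Rng.zero.step tc34_2)
theorem tw147 : Tow.{u} l147 t147 := tow_of tc147_0 (Rng.zero.step tc147_1) (Rng.zero.step tc147_2)
theorem tw148 : Tow.{u} l148 t148 := tow_of tc148_0 (Rng.zero.step tc148_1) (Rng.zero.step tc148_2)
theorem tw149 : Tow.{u} l149 t149 := tow_of tc149_0 (Rng.zero.step tc149_1) (Rng.zero.step tc149_2)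
theorem tw150 : Tow.{u} l150 t150 := tow_of tc150_0 (Rng.zero.step tc150_1) (Rng.zero.step tc150_2)
theorem tw151 : Tow.{u} l151 t151 := tow_of tc151_0 (Rng.zero.step tc151_1) (Rng.zero.step tc151_2)
theorem tw152 : Tow.{u} l152 t152 := tow_of tc152_0 (Rng.zero.step tc152_1) (Rng.zero.step tc152_2)
theorem tw153 : Tow.{u} l153 t153 := tow_of tc153_0 (Rng.zero.step tc153_1) (Rng.zero.step tc153_2)
theorem tw154 : Tow.{u} l154 t154 := tow_of tc154_0 (Rng.zero.step tc154_1) (Rng.zero.step tc154_2)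
theorem tw155 : Tow.{u} l155 t155 := tow_of tc155_0 (Rng.zero.step tc155_1) (Rng.zero.step tc155_2)
theorem tw156 : Tow.{u} l156 t156 := tow_of tc156_0 (Rng.zero.step tc156_1) (Rng.zero.step tc156_2)
theorem tw157 : Tow.{u} l157 t157 := tow_of tc157_0 (Rng.zero.step tc157_1) (Rng.zero.step tc157_2)
theorem tw158 : Tow.{u} l158 t158 := tow_of tc158_0 (Rng.zero.step tc158_1) (Rng.zero.step tc158_2)
theorem tw159 : Tow.{u} l159 t159 := tow_of tc159_0 (Rng.zero.step tc159_1) (Rng.zero.step tc159_2)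
theorem tw160 : Tow.{u} l160 t160 := tow_of tc160_0 (Rng.zero.step tc160_1) (Rng.zero.step tc160_2)
theorem tw161 : Tow.{u} l161 t161 := tow_of tc161_0 (Rng.zero.step tc161_1) (Rng.zero.step tc161_2)
theorem tw162 : Tow.{u} l162 t162 := tow_of tc162_0 (Rng.zero.step tc162_1) (Rng.zero.step tc162_2)
theorem tw163 : Tow.{u} l163 t163 := tow_of tc163_0 (Rng.zero.step tc163_1) (Rng.zero.step tc163_2)
theorem tw164 : Tow.{u} l164 t164 := tow_of tc164_0 (Rng.zero.step tc164_1) (Rng.zero.step tc164_2)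
theorem tw165 : Tow.{u} l165 t165 := tow_of tc165_0 (Rng.zero.step tc165_1) (Rng.zero.step tc165_2)
theorem tw166 : Tow.{u} l166 t166 := tow_of tc166_0 (Rng.zero.step tc166_1) (Rng.zero.step tc166_2)
theorem tw167 : Tow.{u} l167 t167 := tow_of tc167_0 (Rng.zero.step tc167_1) (Rng.zero.step tc167_2)
theorem tw168 : Tow.{u} l168 t168 := tow_of tc168_0 (Rng.zero.step tc168_1) (Rng.zero.step tc168_2)
theorem tw169 : Tow.{u} l169 t169 := tow_of tc169_0 (Rng.zero.step tc169_1) (Rng.zero.step tc169_2)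
theorem tw170 : Tow.{u} l170 t170 := tow_of tc170_0 (Rng.zero.step tc170_1) (Rng.zero.step tc170_2)
theorem tw171 : Tow.{u} l171 t171 := tow_of tc171_0 (Rng.zero.step tc171_1) (Rng.zero.step tc171_2)
theorem tw172 : Tow.{u} l172 t172 := tow_of tc172_0 (Rng.zero.step tc172_1) (Rng.zero.step tc172_2)
theorem tw173 : Tow.{u} l173 t173 := tow_of tc173_0 (Rng.zero.step tc173_1) (Rng.zero.step tc173_2)
theorem tw174 : Tow.{u} l174 t174 := tow_of tc174_0 (Rng.zero.step tc174_1) (Rng.zero.step tc174_2)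
theorem tw175 : Tow.{u} l175 t175 := tow_of tc175_0 (Rng.zero.step tc175_1) (Rng.zero.step tc175_2)
theorem tw176 : Tow.{u} l176 t176 := tow_of tc176_0 (Rng.zero.step tc176_1) (Rng.zero.step tc176_2)
theorem tw177 : Tow.{u} l177 t177 := tow_of tc177_0 (Rng.zero.step tc177_1) (Rng.zero.step tc177_2)
theorem tw178 : Tow.{u} l178 t178 := tow_of tc178_0 (Rng.zero.step tc178_1) (Rng.zero.step tc178_2)
theorem tw35 : Tow.{u} l35 t35 := tow_of tc35_0 (Rng.zero.step tc35_1) (Rng.zero.step tc35_2)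
theorem tw131 : Tow.{u} l131 t131 := tow_of tc131_0 (Rng.zero.step tc131_1) (Rng.zero.step tc131_2)
theorem tw132 : Tow.{u} l132 t132 := tow_of tc132_0 (Rng.zero.step tc132_1) (Rng.zero.step tc132_2)
theorem tw133 : Tow.{u} l133 t133 := tow_of tc133_0 (Rng.zero.step tc133_1) (Rng.zero.step tc133_2)
theorem tw134 : Tow.{u} l134 t134 := tow_of tc134_0 (Rng.zero.step tc134_1) (Rng.zero.step tc134_2)
theorem tw135 : Tow.{u} l135 t135 := tow_of tc135_0 (Rng.zero.step tc135_1) (Rng.zero.step tc135_2)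
theorem tw136 : Tow.{u} l136 t136 := tow_of tc136_0 (Rng.zero.step tc136_1) (Rng.zero.step tc136_2)
theorem tw137 : Tow.{u} l137 t137 := tow_of tc137_0 (Rng.zero.step tc137_1) (Rng.zero.step tc137_2)
theorem tw138 : Tow.{u} l138 t138 := tow_of tc138_0 (Rng.zero.step tc138_1) (Rng.zero.step tc138_2)
theorem tw139 : Tow.{u} l139 t139 := tow_of tc139_0 (Rng.zero.step tc139_1) (Rng.zero.step tc139_2)
theorem tw140 : Tow.{u} l140 t140 := tow_of tc140_0 (Rng.zero.step tc140_1) (Rng.zero.step tc140_2)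
theorem tw141 : Tow.{u} l141 t141 := tow_of tc141_0 (Rng.zero.step tc141_1) (Rng.zero.step tc141_2)
theorem tw142 : Tow.{u} l142 t142 := tow_of tc142_0 (Rng.zero.step tc142_1) (Rng.zero.step tc142_2)
theorem tw143 : Tow.{u} l143 t143 := tow_of tc143_0 (Rng.zero.step tc143_1) (Rng.zero.step tc143_2)
theorem tw144 : Tow.{u} l144 t144 := tow_of tc144_0 (Rng.zero.step tc144_1) (Rng.zero.step tc144_2)
theorem tw145 : Tow.{u} l145 t145 := tow_of tc145_0 (Rng.zero.step tc145_1) (Rng.zero.step tc145_2)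
theorem tw146 : Tow.{u} l146 t146 := tow_of tc146_0 (Rng.zero.step tc146_1) (Rng.zero.step tc146_2)
theorem tw179 : Tow.{u} l179 t179 := tow_of tc179_0 (Rng.zero.step tc179_1) (Rng.zero.step tc179_2)
theorem tw180 : Tow.{u} l180 t180 := tow_of tc180_0 (Rng.zero.step tc180_1) (Rng.zero.step tc180_2)
theorem tw181 : Tow.{u} l181 t181 := tow_of tc181_0 (Rng.zero.step tc181_1) (Rng.zero.step tc181_2)
theorem tw182 : Tow.{u} l182 t182 := tow_of tc182_0 (Rng.zero.step tc182_1) (Rng.zero.step tc182_2)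
theorem tw183 : Tow.{u} l183 t183 := tow_of tc183_0 (Rng.zero.step tc183_1) (Rng.zero.step tc183_2)
theorem tw184 : Tow.{u} l184 t184 := tow_of tc184_0 (Rng.zero.step tc184_1) (Rng.zero.step tc184_2)
theorem tw185 : Tow.{u} l185 t185 := tow_of tc185_0 (Rng.zero.step tc185_1) (Rng.zero.step tc185_2)
theorem tw186 : Tow.{u} l186 t186 := tow_of tc186_0 (Rng.zero.step tc186_1) (Rng.zero.step tc186_2)
theorem tw187 : Tow.{u} l187 t187 := tow_of tc187_0 (Rng.zero.step tc187_1) (Rng.zero.step tc187_2)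
theorem tw188 : Tow.{u} l188 t188 := tow_of tc188_0 (Rng.zero.step tc188_1) (Rng.zero.step tc188_2)
theorem tw189 : Tow.{u} l189 t189 := tow_of tc189_0 (Rng.zero.step tc189_1) (Rng.zero.step tc189_2)
theorem tw190 : Tow.{u} l190 t190 := tow_of tc190_0 (Rng.zero.step tc190_1) (Rng.zero.step tc190_2)
theorem tw191 : Tow.{u} l191 t191 := tow_of tc191_0 (Rng.zero.step tc191_1) (Rng.zero.step tc191_2)
theorem tw192 : Tow.{u} l192 t192 := tow_of tc192_0 (Rng.zero.step tc192_1) (Rng.zero.step tc192_2)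
theorem tw193 : Tow.{u} l193 t193 := tow_of tc193_0 (Rng.zero.step tc193_1) (Rng.zero.step tc193_2)
theorem tw194 : Tow.{u} l194 t194 := tow_of tc194_0 (Rng.zero.step tc194_1) (Rng.zero.step tc194_2)
theorem tw36 : Tow.{u} l36 t36 := tow_of tc36_0 (Rng.zero.step tc36_1) (Rng.zero.step tc36_2)
theorem tw195 : Tow.{u} l195 t195 := tow_of tc195_0 (Rng.zero.step tc195_1) (Rng.zero.step tc195_2)
theorem tw211 : Tow.{u} l211 t211 := tow_of tc211_0 (Rng.zero.step tc211_1) (Rng.zero.step tc211_2)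
theorem tw212 : Tow.{u} l212 t212 := tow_of tc212_0 (Rng.zero.step tc212_1) (Rng.zero.step tc212_2)
theorem tw213 : Tow.{u} l213 t213 := tow_of tc213_0 (Rng.zero.step tc213_1) (Rng.zero.step tc213_2)
theorem tw214 : Tow.{u} l214 t214 := tow_of tc214_0 (Rng.zero.step tc214_1) (Rng.zero.step tc214_2)
theorem tw215 : Tow.{u} l215 t215 := tow_of tc215_0 (Rng.zero.step tc215_1) (Rng.zero.step tc215_2)
theorem tw216 : Tow.{u} l216 t216 := tow_of tc216_0 (Rng.zero.step tc216_1) (Rng.zero.step tc216_2)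
theorem tw217 : Tow.{u} l217 t217 := tow_of tc217_0 (Rng.zero.step tc217_1) (Rng.zero.step tc217_2)
theorem tw218 : Tow.{u} l218 t218 := tow_of tc218_0 (Rng.zero.step tc218_1) (Rng.zero.step tc218_2)
theorem tw219 : Tow.{u} l219 t219 := tow_of tc219_0 (Rng.zero.step tc219_1) (Rng.zero.step tc219_2)
theorem tw220 : Tow.{u} l220 t220 := tow_of tc220_0 (Rng.zero.step tc220_1) (Rng.zero.step tc220_2)
theorem tw221 : Tow.{u} l221 t221 := tow_of tc221_0 (Rng.zero.step tc221_1) (Rng.zero.step tc221_2)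
theorem tw222 : Tow.{u} l222 t222 := tow_of tc222_0 (Rng.zero.step tc222_1) (Rng.zero.step tc222_2)
theorem tw223 : Tow.{u} l223 t223 := tow_of tc223_0 (Rng.zero.step tc223_1) (Rng.zero.step tc223_2)
theorem tw224 : Tow.{u} l224 t224 := tow_of tc224_0 (Rng.zero.step tc224_1) (Rng.zero.step tc224_2)
theorem tw225 : Tow.{u} l225 t225 := tow_of tc225_0 (Rng.zero.step tc225_1) (Rng.zero.step tc225_2)
theorem tw226 : Tow.{u} l226 t226 := tow_of tc226_0 (Rng.zero.step tc226_1) (Rng.zero.step tc226_2)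
theorem tw227 : Tow.{u} l227 t227 := tow_of tc227_0 (Rng.zero.step tc227_1) (Rng.zero.step tc227_2)
theorem tw228 : Tow.{u} l228 t228 := tow_of tc228_0 (Rng.zero.step tc228_1) (Rng.zero.step tc228_2)
theorem tw229 : Tow.{u} l229 t229 := tow_of tc229_0 (Rng.zero.step tc229_1) (Rng.zero.step tc229_2)
theorem tw230 : Tow.{u} l230 t230 := tow_of tc230_0 (Rng.zero.step tc230_1) (Rng.zero.step tc230_2)
theorem tw231 : Tow.{u} l231 t231 := tow_of tc231_0 (Rng.zero.step tc231_1) (Rng.zero.step tc231_2)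
theorem tw232 : Tow.{u} l232 t232 := tow_of tc232_0 (Rng.zero.step tc232_1) (Rng.zero.step tc232_2)
theorem tw233 : Tow.{u} l233 t233 := tow_of tc233_0 (Rng.zero.step tc233_1) (Rng.zero.step tc233_2)
theorem tw234 : Tow.{u} l234 t234 := tow_of tc234_0 (Rng.zero.step tc234_1) (Rng.zero.step tc234_2)
theorem tw235 : Tow.{u} l235 t235 := tow_of tc235_0 (Rng.zero.step tc235_1) (Rng.zero.step tc235_2)
theorem tw236 : Tow.{u} l236 t236 := tow_of tc236_0 (Rng.zero.step tc236_1) (Rng.zero.step tc236_2)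
theorem tw237 : Tow.{u} l237 t237 := tow_of tc237_0 (Rng.zero.step tc237_1) (Rng.zero.step tc237_2)
theorem tw238 : Tow.{u} l238 t238 := tow_of tc238_0 (Rng.zero.step tc238_1) (Rng.zero.step tc238_2)
theorem tw239 : Tow.{u} l239 t239 := tow_of tc239_0 (Rng.zero.step tc239_1) (Rng.zero.step tc239_2)
theorem tw240 : Tow.{u} l240 t240 := tow_of tc240_0 (Rng.zero.step tc240_1) (Rng.zero.step tc240_2)
theorem tw241 : Tow.{u} l241 t241 := tow_of tc241_0 (Rng.zero.step tc241_1) (Rng.zero.step tc241_2)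
theorem tw242 : Tow.{u} l242 t242 := tow_of tc242_0 (Rng.zero.step tc242_1) (Rng.zero.step tc242_2)
theorem tw37 : Tow.{u} l37 t37 := tow_of tc37_0 (Rng.zero.step tc37_1) (Rng.zero.step tc37_2)
theorem tw196 : Tow.{u} l196 t196 := tow_of tc196_0 (Rng.zero.step tc196_1) (Rng.zero.step tc196_2)
theorem tw197 : Tow.{u} l197 t197 := tow_of tc197_0 (Rng.zero.step tc197_1) (Rng.zero.step tc197_2)
theorem tw198 : Tow.{u} l198 t198 := tow_of tc198_0 (Rng.zero.step tc198_1) (Rng.zero.step tc198_2)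
theorem tw199 : Tow.{u} l199 t199 := tow_of tc199_0 (Rng.zero.step tc199_1) (Rng.zero.step tc199_2)
theorem tw200 : Tow.{u} l200 t200 := tow_of tc200_0 (Rng.zero.step tc200_1) (Rng.zero.step tc200_2)
theorem tw201 : Tow.{u} l201 t201 := tow_of tc201_0 (Rng.zero.step tc201_1) (Rng.zero.step tc201_2)
theorem tw202 : Tow.{u} l202 t202 := tow_of tc202_0 (Rng.zero.step tc202_1) (Rng.zero.step tc202_2)
theorem tw203 : Tow.{u} l203 t203 := tow_of tc203_0 (Rng.zero.step tc203_1) (Rng.zero.step tc203_2)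
theorem tw204 : Tow.{u} l204 t204 := tow_of tc204_0 (Rng.zero.step tc204_1) (Rng.zero.step tc204_2)
theorem tw205 : Tow.{u} l205 t205 := tow_of tc205_0 (Rng.zero.step tc205_1) (Rng.zero.step tc205_2)
theorem tw206 : Tow.{u} l206 t206 := tow_of tc206_0 (Rng.zero.step tc206_1) (Rng.zero.step tc206_2)
theorem tw207 : Tow.{u} l207 t207 := tow_of tc207_0 (Rng.zero.step tc207_1) (Rng.zero.step tc207_2)
theorem tw208 : Tow.{u} l208 t208 := tow_of tc208_0 (Rng.zero.step tc208_1) (Rng.zero.step tc208_2)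
theorem tw209 : Tow.{u} l209 t209 := tow_of tc209_0 (Rng.zero.step tc209_1) (Rng.zero.step tc209_2)
theorem tw210 : Tow.{u} l210 t210 := tow_of tc210_0 (Rng.zero.step tc210_1) (Rng.zero.step tc210_2)
theorem tw243 : Tow.{u} l243 t243 := tow_of tc243_0 (Rng.zero.step tc243_1) (Rng.zero.step tc243_2)
theorem tw244 : Tow.{u} l244 t244 := tow_of tc244_0 (Rng.zero.step tc244_1) (Rng.zero.step tc244_2)
theorem tw245 : Tow.{u} l245 t245 := tow_of tc245_0 (Rng.zero.step tc245_1) (Rng.zero.step tc245_2)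
theorem tw246 : Tow.{u} l246 t246 := tow_of tc246_0 (Rng.zero.step tc246_1) (Rng.zero.step tc246_2)
theorem tw247 : Tow.{u} l247 t247 := tow_of tc247_0 (Rng.zero.step tc247_1) (Rng.zero.step tc247_2)
theorem tw248 : Tow.{u} l248 t248 := tow_of tc248_0 (Rng.zero.step tc248_1) (Rng.zero.step tc248_2)
theorem tw249 : Tow.{u} l249 t249 := tow_of tc249_0 (Rng.zero.step tc249_1) (Rng.zero.step tc249_2)
theorem tw250 : Tow.{u} l250 t250 := tow_of tc250_0 (Rng.zero.step tc250_1) (Rng.zero.step tc250_2)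
theorem tw251 : Tow.{u} l251 t251 := tow_of tc251_0 (Rng.zero.step tc251_1) (Rng.zero.step tc251_2)
theorem tw252 : Tow.{u} l252 t252 := tow_of tc252_0 (Rng.zero.step tc252_1) (Rng.zero.step tc252_2)
theorem tw253 : Tow.{u} l253 t253 := tow_of tc253_0 (Rng.zero.step tc253_1) (Rng.zero.step tc253_2)
theorem tw254 : Tow.{u} l254 t254 := tow_of tc254_0 (Rng.zero.step tc254_1) (Rng.zero.step tc254_2)
theorem tw255 : Tow.{u} l255 t255 := tow_of tc255_0 (Rng.zero.step tc255_1) (Rng.zero.step tc255_2)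
theorem tw256 : Tow.{u} l256 t256 := tow_of tc256_0 (Rng.zero.step tc256_1) (Rng.zero.step tc256_2)
theorem tw257 : Tow.{u} l257 t257 := tow_of tc257_0 (Rng.zero.step tc257_1) (Rng.zero.step tc257_2)
theorem tw258 : Tow.{u} l258 t258 := tow_of tc258_0 (Rng.zero.step tc258_1) (Rng.zero.step tc258_2)
theorem tw38 : Tow.{u} l38 t38 := tow_of tc38_0 (Rng.zero.step tc38_1) (Rng.zero.step tc38_2)
theorem tw259 : Tow.{u} l259 t259 := tow_of tc259_0 (Rng.zero.step tc259_1) (Rng.zero.step tc259_2)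
theorem tw275 : Tow.{u} l275 t275 := tow_of tc275_0 (Rng.zero.step tc275_1) (Rng.zero.step tc275_2)
theorem tw276 : Tow.{u} l276 t276 := tow_of tc276_0 (Rng.zero.step tc276_1) (Rng.zero.step tc276_2)
theorem tw277 : Tow.{u} l277 t277 := tow_of tc277_0 (Rng.zero.step tc277_1) (Rng.zero.step tc277_2)
theorem tw278 : Tow.{u} l278 t278 := tow_of tc278_0 (Rng.zero.step tc278_1) (Rng.zero.step tc278_2)
theorem tw279 : Tow.{u} l279 t279 := tow_of tc279_0 (Rng.zero.step tc279_1) (Rng.zero.step tc279_2)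
theorem tw280 : Tow.{u} l280 t280 := tow_of tc280_0 (Rng.zero.step tc280_1) (Rng.zero.step tc280_2)
theorem tw281 : Tow.{u} l281 t281 := tow_of tc281_0 (Rng.zero.step tc281_1) (Rng.zero.step tc281_2)
theorem tw282 : Tow.{u} l282 t282 := tow_of tc282_0 (Rng.zero.step tc282_1) (Rng.zero.step tc282_2)
theorem tw283 : Tow.{u} l283 t283 := tow_of tc283_0 (Rng.zero.step tc283_1) (Rng.zero.step tc283_2)
theorem tw284 : Tow.{u} l284 t284 := tow_of tc284_0 (Rng.zero.step tc284_1) (Rng.zero.step tc284_2)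
theorem tw285 : Tow.{u} l285 t285 := tow_of tc285_0 (Rng.zero.step tc285_1) (Rng.zero.step tc285_2)
theorem tw286 : Tow.{u} l286 t286 := tow_of tc286_0 (Rng.zero.step tc286_1) (Rng.zero.step tc286_2)
theorem tw287 : Tow.{u} l287 t287 := tow_of tc287_0 (Rng.zero.step tc287_1) (Rng.zero.step tc287_2)
theorem tw288 : Tow.{u} l288 t288 := tow_of tc288_0 (Rng.zero.step tc288_1) (Rng.zero.step tc288_2)
theorem tw289 : Tow.{u} l289 t289 := tow_of tc289_0 (Rng.zero.step tc289_1) (Rng.zero.step tc289_2)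
theorem tw290 : Tow.{u} l290 t290 := tow_of tc290_0 (Rng.zero.step tc290_1) (Rng.zero.step tc290_2)
theorem tw291 : Tow.{u} l291 t291 := tow_of tc291_0 (Rng.zero.step tc291_1) (Rng.zero.step tc291_2)
theorem tw292 : Tow.{u} l292 t292 := tow_of tc292_0 (Rng.zero.step tc292_1) (Rng.zero.step tc292_2)
theorem tw293 : Tow.{u} l293 t293 := tow_of tc293_0 (Rng.zero.step tc293_1) (Rng.zero.step tc293_2)
theorem tw294 : Tow.{u} l294 t294 := tow_of tc294_0 (Rng.zero.step tc294_1) (Rng.zero.step tc294_2)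
theorem tw295 : Tow.{u} l295 t295 := tow_of tc295_0 (Rng.zero.step tc295_1) (Rng.zero.step tc295_2)
theorem tw296 : Tow.{u} l296 t296 := tow_of tc296_0 (Rng.zero.step tc296_1) (Rng.zero.step tc296_2)
theorem tw297 : Tow.{u} l297 t297 := tow_of tc297_0 (Rng.zero.step tc297_1) (Rng.zero.step tc297_2)
theorem tw298 : Tow.{u} l298 t298 := tow_of tc298_0 (Rng.zero.step tc298_1) (Rng.zero.step tc298_2)
theorem tw299 : Tow.{u} l299 t299 := tow_of tc299_0 (Rng.zero.step tc299_1) (Rng.zero.step tc299_2)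
theorem tw300 : Tow.{u} l300 t300 := tow_of tc300_0 (Rng.zero.step tc300_1) (Rng.zero.step tc300_2)
theorem tw301 : Tow.{u} l301 t301 := tow_of tc301_0 (Rng.zero.step tc301_1) (Rng.zero.step tc301_2)
theorem tw302 : Tow.{u} l302 t302 := tow_of tc302_0 (Rng.zero.step tc302_1) (Rng.zero.step tc302_2)
theorem tw303 : Tow.{u} l303 t303 := tow_of tc303_0 (Rng.zero.step tc303_1) (Rng.zero.step tc303_2)
theorem tw304 : Tow.{u} l304 t304 := tow_of tc304_0 (Rng.zero.step tc304_1) (Rng.zero.step tc304_2)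
theorem tw305 : Tow.{u} l305 t305 := tow_of tc305_0 (Rng.zero.step tc305_1) (Rng.zero.step tc305_2)
theorem tw306 : Tow.{u} l306 t306 := tow_of tc306_0 (Rng.zero.step tc306_1) (Rng.zero.step tc306_2)
theorem tw39 : Tow.{u} l39 t39 := tow_of tc39_0 (Rng.zero.step tc39_1) (Rng.zero.step tc39_2)
theorem tw260 : Tow.{u} l260 t260 := tow_of tc260_0 (Rng.zero.step tc260_1) (Rng.zero.step tc260_2)
theorem tw261 : Tow.{u} l261 t261 := tow_of tc261_0 (Rng.zero.step tc261_1) (Rng.zero.step tc261_2)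
theorem tw262 : Tow.{u} l262 t262 := tow_of tc262_0 (Rng.zero.step tc262_1) (Rng.zero.step tc262_2)
theorem tw263 : Tow.{u} l263 t263 := tow_of tc263_0 (Rng.zero.step tc263_1) (Rng.zero.step tc263_2)
theorem tw264 : Tow.{u} l264 t264 := tow_of tc264_0 (Rng.zero.step tc264_1) (Rng.zero.step tc264_2)
theorem tw265 : Tow.{u} l265 t265 := tow_of tc265_0 (Rng.zero.step tc265_1) (Rng.zero.step tc265_2)
theorem tw266 : Tow.{u} l266 t266 := tow_of tc266_0 (Rng.zero.step tc266_1) (Rng.zero.step tc266_2)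
theorem tw267 : Tow.{u} l267 t267 := tow_of tc267_0 (Rng.zero.step tc267_1) (Rng.zero.step tc267_2)
theorem tw268 : Tow.{u} l268 t268 := tow_of tc268_0 (Rng.zero.step tc268_1) (Rng.zero.step tc268_2)
theorem tw269 : Tow.{u} l269 t269 := tow_of tc269_0 (Rng.zero.step tc269_1) (Rng.zero.step tc269_2)
theorem tw270 : Tow.{u} l270 t270 := tow_of tc270_0 (Rng.zero.step tc270_1) (Rng.zero.step tc270_2)
theorem tw271 : Tow.{u} l271 t271 := tow_of tc271_0 (Rng.zero.step tc271_1) (Rng.zero.step tc271_2)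
theorem tw272 : Tow.{u} l272 t272 := tow_of tc272_0 (Rng.zero.step tc272_1) (Rng.zero.step tc272_2)
theorem tw273 : Tow.{u} l273 t273 := tow_of tc273_0 (Rng.zero.step tc273_1) (Rng.zero.step tc273_2)
theorem tw274 : Tow.{u} l274 t274 := tow_of tc274_0 (Rng.zero.step tc274_1) (Rng.zero.step tc274_2)
theorem tw307 : Tow.{u} l307 t307 := tow_of tc307_0 (Rng.zero.step tc307_1) (Rng.zero.step tc307_2)
theorem tw308 : Tow.{u} l308 t308 := tow_of tc308_0 (Rng.zero.step tc308_1) (Rng.zero.step tc308_2)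
theorem tw309 : Tow.{u} l309 t309 := tow_of tc309_0 (Rng.zero.step tc309_1) (Rng.zero.step tc309_2)
theorem tw310 : Tow.{u} l310 t310 := tow_of tc310_0 (Rng.zero.step tc310_1) (Rng.zero.step tc310_2)
theorem tw311 : Tow.{u} l311 t311 := tow_of tc311_0 (Rng.zero.step tc311_1) (Rng.zero.step tc311_2)
theorem tw312 : Tow.{u} l312 t312 := tow_of tc312_0 (Rng.zero.step tc312_1) (Rng.zero.step tc312_2)
theorem tw313 : Tow.{u} l313 t313 := tow_of tc313_0 (Rng.zero.step tc313_1) (Rng.zero.step tc313_2)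
theorem tw314 : Tow.{u} l314 t314 := tow_of tc314_0 (Rng.zero.step tc314_1) (Rng.zero.step tc314_2)
theorem tw315 : Tow.{u} l315 t315 := tow_of tc315_0 (Rng.zero.step tc315_1) (Rng.zero.step tc315_2)
theorem tw316 : Tow.{u} l316 t316 := tow_of tc316_0 (Rng.zero.step tc316_1) (Rng.zero.step tc316_2)
theorem tw317 : Tow.{u} l317 t317 := tow_of tc317_0 (Rng.zero.step tc317_1) (Rng.zero.step tc317_2)
theorem tw318 : Tow.{u} l318 t318 := tow_of tc318_0 (Rng.zero.step tc318_1) (Rng.zero.step tc318_2)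
theorem tw319 : Tow.{u} l319 t319 := tow_of tc319_0 (Rng.zero.step tc319_1) (Rng.zero.step tc319_2)
theorem tw320 : Tow.{u} l320 t320 := tow_of tc320_0 (Rng.zero.step tc320_1) (Rng.zero.step tc320_2)
theorem tw321 : Tow.{u} l321 t321 := tow_of tc321_0 (Rng.zero.step tc321_1) (Rng.zero.step tc321_2)
theorem tw322 : Tow.{u} l322 t322 := tow_of tc322_0 (Rng.zero.step tc322_1) (Rng.zero.step tc322_2)
theorem tw40 : Tow.{u} l40 t40 := tow_of tc40_0 (Rng.zero.step tc40_1) (Rng.zero.step tc40_2)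
theorem tw41 : Tow.{u} l41 t41 := tow_of tc41_0 (Rng.zero.step tc41_1) (Rng.zero.step tc41_2)
theorem tw42 : Tow.{u} l42 t42 := tow_of tc42_0 (Rng.zero.step tc42_1) (Rng.zero.step tc42_2)
theorem tw1 : Tow.{u} l1 t1 := tow_of tc1_0 (Rng.zero.step tc1_1) (Rng.zero.step tc1_2)
theorem tw2 : Tow.{u} l2 t2 := tow_of tc2_0 (Rng.zero.step tc2_1) (Rng.zero.step tc2_2)
theorem tw3 : Tow.{u} l3 t3 := tow_of tc3_0 (Rng.zero.step tc3_1) (Rng.zero.step tc3_2)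
theorem tw323 : Tow.{u} l323 t323 := tow_of tc323_0 (Rng.zero.step tc323_1) (Rng.zero.step tc323_2)
theorem tw324 : Tow.{u} l324 t324 := tow_of tc324_0 (Rng.zero.step tc324_1) (Rng.zero.step tc324_2)
theorem tw332 : Tow.{u} l332 t332 := tow_of tc332_0 (Rng.zero.step tc332_1) (Rng.zero.step tc332_2)
theorem tw333 : Tow.{u} l333 t333 := tow_of tc333_0 (Rng.zero.step tc333_1) (Rng.zero.step tc333_2)
theorem tw334 : Tow.{u} l334 t334 := tow_of tc334_0 (Rng.zero.step tc334_1) (Rng.zero.step tc334_2)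
theorem tw335 : Tow.{u} l335 t335 := tow_of tc335_0 (Rng.zero.step tc335_1) (Rng.zero.step tc335_2)
theorem tw336 : Tow.{u} l336 t336 := tow_of tc336_0 (Rng.zero.step tc336_1) (Rng.zero.step tc336_2)
theorem tw337 : Tow.{u} l337 t337 := tow_of tc337_0 (Rng.zero.step tc337_1) (Rng.zero.step tc337_2)
theorem tw338 : Tow.{u} l338 t338 := tow_of tc338_0 (Rng.zero.step tc338_1) (Rng.zero.step tc338_2)
theorem tw339 : Tow.{u} l339 t339 := tow_of tc339_0 (Rng.zero.step tc339_1) (Rng.zero.step tc339_2)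
theorem tw348 : Tow.{u} l348 t348 := tow_of tc348_0 (Rng.zero.step tc348_1) (Rng.zero.step tc348_2)
theorem tw349 : Tow.{u} l349 t349 := tow_of tc349_0 (Rng.zero.step tc349_1) (Rng.zero.step tc349_2)
theorem tw365 : Tow.{u} l365 t365 := tow_of tc365_0 (Rng.zero.step tc365_1) (Rng.zero.step tc365_2)
theorem tw366 : Tow.{u} l366 t366 := tow_of tc366_0 (Rng.zero.step tc366_1) (Rng.zero.step tc366_2)
theorem tw367 : Tow.{u} l367 t367 := tow_of tc367_0 (Rng.zero.step tc367_1) (Rng.zero.step tc367_2)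
theorem tw368 : Tow.{u} l368 t368 := tow_of tc368_0 (Rng.zero.step tc368_1) (Rng.zero.step tc368_2)
theorem tw369 : Tow.{u} l369 t369 := tow_of tc369_0 (Rng.zero.step tc369_1) (Rng.zero.step tc369_2)
theorem tw370 : Tow.{u} l370 t370 := tow_of tc370_0 (Rng.zero.step tc370_1) (Rng.zero.step tc370_2)
theorem tw371 : Tow.{u} l371 t371 := tow_of tc371_0 (Rng.zero.step tc371_1) (Rng.zero.step tc371_2)
theorem tw372 : Tow.{u} l372 t372 := tow_of tc372_0 (Rng.zero.step tc372_1) (Rng.zero.step tc372_2)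
theorem tw364 : Tow.{u} l364 t364 := tow_of tc364_0 (Rng.zero.step tc364_1) (Rng.zero.step tc364_2)
theorem tw350 : Tow.{u} l350 t350 := tow_of tc350_0 (Rng.zero.step tc350_1) (Rng.zero.step tc350_2)
theorem tw351 : Tow.{u} l351 t351 := tow_of tc351_0 (Rng.zero.step tc351_1) (Rng.zero.step tc351_2)
theorem tw352 : Tow.{u} l352 t352 := tow_of tc352_0 (Rng.zero.step tc352_1) (Rng.zero.step tc352_2)
theorem tw353 : Tow.{u} l353 t353 := tow_of tc353_0 (Rng.zero.step tc353_1) (Rng.zero.step tc353_2)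
theorem tw354 : Tow.{u} l354 t354 := tow_of tc354_0 (Rng.zero.step tc354_1) (Rng.zero.step tc354_2)
theorem tw355 : Tow.{u} l355 t355 := tow_of tc355_0 (Rng.zero.step tc355_1) (Rng.zero.step tc355_2)
theorem tw356 : Tow.{u} l356 t356 := tow_of tc356_0 (Rng.zero.step tc356_1) (Rng.zero.step tc356_2)
theorem tw357 : Tow.{u} l357 t357 := tow_of tc357_0 (Rng.zero.step tc357_1) (Rng.zero.step tc357_2)
theorem tw358 : Tow.{u} l358 t358 := tow_of tc358_0 (Rng.zero.step tc358_1) (Rng.zero.step tc358_2)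
theorem tw359 : Tow.{u} l359 t359 := tow_of tc359_0 (Rng.zero.step tc359_1) (Rng.zero.step tc359_2)
theorem tw360 : Tow.{u} l360 t360 := tow_of tc360_0 (Rng.zero.step tc360_1) (Rng.zero.step tc360_2)
theorem tw361 : Tow.{u} l361 t361 := tow_of tc361_0 (Rng.zero.step tc361_1) (Rng.zero.step tc361_2)
theorem tw362 : Tow.{u} l362 t362 := tow_of tc362_0 (Rng.zero.step tc362_1) (Rng.zero.step tc362_2)
theorem tw363 : Tow.{u} l363 t363 := tow_of tc363_0 (Rng.zero.step tc363_1) (Rng.zero.step tc363_2)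
theorem tw373 : Tow.{u} l373 t373 := tow_of tc373_0 (Rng.zero.step tc373_1) (Rng.zero.step tc373_2)
theorem tw374 : Tow.{u} l374 t374 := tow_of tc374_0 (Rng.zero.step tc374_1) (Rng.zero.step tc374_2)
theorem tw375 : Tow.{u} l375 t375 := tow_of tc375_0 (Rng.zero.step tc375_1) (Rng.zero.step tc375_2)
theorem tw376 : Tow.{u} l376 t376 := tow_of tc376_0 (Rng.zero.step tc376_1) (Rng.zero.step tc376_2)
theorem tw377 : Tow.{u} l377 t377 := tow_of tc377_0 (Rng.zero.step tc377_1) (Rng.zero.step tc377_2)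
theorem tw378 : Tow.{u} l378 t378 := tow_of tc378_0 (Rng.zero.step tc378_1) (Rng.zero.step tc378_2)
theorem tw379 : Tow.{u} l379 t379 := tow_of tc379_0 (Rng.zero.step tc379_1) (Rng.zero.step tc379_2)
theorem tw380 : Tow.{u} l380 t380 := tow_of tc380_0 (Rng.zero.step tc380_1) (Rng.zero.step tc380_2)
theorem tw390 : Tow.{u} l390 t390 := tow_of tc390_0 (Rng.zero.step tc390_1) (Rng.zero.step tc390_2)
theorem tw391 : Tow.{u} l391 t391 := tow_of tc391_0 (Rng.zero.step tc391_1) (Rng.zero.step tc391_2)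
theorem tw392 : Tow.{u} l392 t392 := tow_of tc392_0 (Rng.zero.step tc392_1) (Rng.zero.step tc392_2)
theorem tw393 : Tow.{u} l393 t393 := tow_of tc393_0 (Rng.zero.step tc393_1) (Rng.zero.step tc393_2)
theorem tw394 : Tow.{u} l394 t394 := tow_of tc394_0 (Rng.zero.step tc394_1) (Rng.zero.step tc394_2)
theorem tw395 : Tow.{u} l395 t395 := tow_of tc395_0 (Rng.zero.step tc395_1) (Rng.zero.step tc395_2)
theorem tw396 : Tow.{u} l396 t396 := tow_of tc396_0 (Rng.zero.step tc396_1) (Rng.zero.step tc396_2)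
theorem tw397 : Tow.{u} l397 t397 := tow_of tc397_0 (Rng.zero.step tc397_1) (Rng.zero.step tc397_2)
theorem tw389 : Tow.{u} l389 t389 := tow_of tc389_0 (Rng.zero.step tc389_1) (Rng.zero.step tc389_2)
theorem tw381 : Tow.{u} l381 t381 := tow_of tc381_0 (Rng.zero.step tc381_1) (Rng.zero.step tc381_2)
theorem tw382 : Tow.{u} l382 t382 := tow_of tc382_0 (Rng.zero.step tc382_1) (Rng.zero.step tc382_2)
theorem tw383 : Tow.{u} l383 t383 := tow_of tc383_0 (Rng.zero.step tc383_1) (Rng.zero.step tc383_2)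
theorem tw384 : Tow.{u} l384 t384 := tow_of tc384_0 (Rng.zero.step tc384_1) (Rng.zero.step tc384_2)
theorem tw385 : Tow.{u} l385 t385 := tow_of tc385_0 (Rng.zero.step tc385_1) (Rng.zero.step tc385_2)
theorem tw386 : Tow.{u} l386 t386 := tow_of tc386_0 (Rng.zero.step tc386_1) (Rng.zero.step tc386_2)
theorem tw387 : Tow.{u} l387 t387 := tow_of tc387_0 (Rng.zero.step tc387_1) (Rng.zero.step tc387_2)
theorem tw388 : Tow.{u} l388 t388 := tow_of tc388_0 (Rng.zero.step tc388_1) (Rng.zero.step tc388_2)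
theorem tw340 : Tow.{u} l340 t340 := tow_of tc340_0 (Rng.zero.step tc340_1) (Rng.zero.step tc340_2)
theorem tw341 : Tow.{u} l341 t341 := tow_of tc341_0 (Rng.zero.step tc341_1) (Rng.zero.step tc341_2)
theorem tw342 : Tow.{u} l342 t342 := tow_of tc342_0 (Rng.zero.step tc342_1) (Rng.zero.step tc342_2)
theorem tw343 : Tow.{u} l343 t343 := tow_of tc343_0 (Rng.zero.step tc343_1) (Rng.zero.step tc343_2)
theorem tw344 : Tow.{u} l344 t344 := tow_of tc344_0 (Rng.zero.step tc344_1) (Rng.zero.step tc344_2)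
theorem tw345 : Tow.{u} l345 t345 := tow_of tc345_0 (Rng.zero.step tc345_1) (Rng.zero.step tc345_2)
theorem tw346 : Tow.{u} l346 t346 := tow_of tc346_0 (Rng.zero.step tc346_1) (Rng.zero.step tc346_2)
theorem tw347 : Tow.{u} l347 t347 := tow_of tc347_0 (Rng.zero.step tc347_1) (Rng.zero.step tc347_2)
theorem tw325 : Tow.{u} l325 t325 := tow_of tc325_0 (Rng.zero.step tc325_1) (Rng.zero.step tc325_2)
theorem tw331 : Tow.{u} l331 t331 := tow_of tc331_0 (Rng.zero.step tc331_1) (Rng.zero.step tc331_2)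
theorem tw326 : Tow.{u} l326 t326 := tow_of tc326_0 (Rng.zero.step tc326_1) (Rng.zero.step tc326_2)
theorem tw327 : Tow.{u} l327 t327 := tow_of tc327_0 (Rng.zero.step tc327_1) (Rng.zero.step tc327_2)
theorem tw328 : Tow.{u} l328 t328 := tow_of tc328_0 (Rng.zero.step tc328_1) (Rng.zero.step tc328_2)
theorem tw329 : Tow.{u} l329 t329 := tow_of tc329_0 (Rng.zero.step tc329_1) (Rng.zero.step tc329_2)
theorem tw330 : Tow.{u} l330 t330 := tow_of tc330_0 (Rng.zero.step tc330_1) (Rng.zero.step tc330_2)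
theorem tw4 : Tow.{u} l4 t4 := tow_of tc4_0 (Rng.zero.step tc4_1) (Rng.zero.step tc4_2)
theorem tw5 : Tow.{u} l5 t5 := tow_of tc5_0 (Rng.zero.step tc5_1) (Rng.zero.step tc5_2)
theorem tw398 : Tow.{u} l398 t398 := tow_of tc398_0 (Rng.zero.step tc398_1) (Rng.zero.step tc398_2)
theorem tw399 : Tow.{u} l399 t399 := tow_of tc399_0 (Rng.zero.step tc399_1) (Rng.zero.step tc399_2)
theorem tw406 : Tow.{u} l406 t406 := tow_of tc406_0 (Rng.zero.step tc406_1) (Rng.zero.step tc406_2)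
theorem tw407 : Tow.{u} l407 t407 := tow_of tc407_0 (Rng.zero.step tc407_1) (Rng.zero.step tc407_2)
theorem tw400 : Tow.{u} l400 t400 := tow_of tc400_0 (Rng.zero.step tc400_1) (Rng.zero.step tc400_2)
theorem tw408 : Tow.{u} l408 t408 := tow_of tc408_0 (Rng.zero.step tc408_1) (Rng.zero.step tc408_2)
theorem tw409 : Tow.{u} l409 t409 := tow_of tc409_0 (Rng.zero.step tc409_1) (Rng.zero.step tc409_2)
theorem tw410 : Tow.{u} l410 t410 := tow_of tc410_0 (Rng.zero.step tc410_1) (Rng.zero.step tc410_2)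
theorem tw411 : Tow.{u} l411 t411 := tow_of tc411_0 (Rng.zero.step tc411_1) (Rng.zero.step tc411_2)
theorem tw412 : Tow.{u} l412 t412 := tow_of tc412_0 (Rng.zero.step tc412_1) (Rng.zero.step tc412_2)
theorem tw413 : Tow.{u} l413 t413 := tow_of tc413_0 (Rng.zero.step tc413_1) (Rng.zero.step tc413_2)
theorem tw414 : Tow.{u} l414 t414 := tow_of tc414_0 (Rng.zero.step tc414_1) (Rng.zero.step tc414_2)
theorem tw415 : Tow.{u} l415 t415 := tow_of tc415_0 (Rng.zero.step tc415_1) (Rng.zero.step tc415_2)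
theorem tw416 : Tow.{u} l416 t416 := tow_of tc416_0 (Rng.zero.step tc416_1) (Rng.zero.step tc416_2)
theorem tw417 : Tow.{u} l417 t417 := tow_of tc417_0 (Rng.zero.step tc417_1) (Rng.zero.step tc417_2)
theorem tw418 : Tow.{u} l418 t418 := tow_of tc418_0 (Rng.zero.step tc418_1) (Rng.zero.step tc418_2)
theorem tw419 : Tow.{u} l419 t419 := tow_of tc419_0 (Rng.zero.step tc419_1) (Rng.zero.step tc419_2)
theorem tw420 : Tow.{u} l420 t420 := tow_of tc420_0 (Rng.zero.step tc420_1) (Rng.zero.step tc420_2)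
theorem tw421 : Tow.{u} l421 t421 := tow_of tc421_0 (Rng.zero.step tc421_1) (Rng.zero.step tc421_2)
theorem tw401 : Tow.{u} l401 t401 := tow_of tc401_0 (Rng.zero.step tc401_1) (Rng.zero.step tc401_2)
theorem tw422 : Tow.{u} l422 t422 := tow_of tc422_0 (Rng.zero.step tc422_1) (Rng.zero.step tc422_2)
theorem tw423 : Tow.{u} l423 t423 := tow_of tc423_0 (Rng.zero.step tc423_1) (Rng.zero.step tc423_2)
theorem tw424 : Tow.{u} l424 t424 := tow_of tc424_0 (Rng.zero.step tc424_1) (Rng.zero.step tc424_2)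
theorem tw438 : Tow.{u} l438 t438 := tow_of tc438_0 (Rng.zero.step tc438_1) (Rng.zero.step tc438_2)
theorem tw441 : Tow.{u} l441 t441 := tow_of tc441_0 (Rng.zero.step tc441_1) (Rng.zero.step tc441_2)
theorem tw442 : Tow.{u} l442 t442 := tow_of tc442_0 (Rng.zero.step tc442_1) (Rng.zero.step tc442_2)
theorem tw445 : Tow.{u} l445 t445 := tow_of tc445_0 (Rng.zero.step tc445_1) (Rng.zero.step tc445_2)
theorem tw446 : Tow.{u} l446 t446 := tow_of tc446_0 (Rng.zero.step tc446_1) (Rng.zero.step tc446_2)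
theorem tw447 : Tow.{u} l447 t447 := tow_of tc447_0 (Rng.zero.step tc447_1) (Rng.zero.step tc447_2)
theorem tw448 : Tow.{u} l448 t448 := tow_of tc448_0 (Rng.zero.step tc448_1) (Rng.zero.step tc448_2)
theorem tw449 : Tow.{u} l449 t449 := tow_of tc449_0 (Rng.zero.step tc449_1) (Rng.zero.step tc449_2)
theorem tw450 : Tow.{u} l450 t450 := tow_of tc450_0 (Rng.zero.step tc450_1) (Rng.zero.step tc450_2)
theorem tw451 : Tow.{u} l451 t451 := tow_of tc451_0 (Rng.zero.step tc451_1) (Rng.zero.step tc451_2)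
theorem tw452 : Tow.{u} l452 t452 := tow_of tc452_0 (Rng.zero.step tc452_1) (Rng.zero.step tc452_2)
theorem tw443 : Tow.{u} l443 t443 := tow_of tc443_0 (Rng.zero.step tc443_1) (Rng.zero.step tc443_2)
theorem tw444 : Tow.{u} l444 t444 := tow_of tc444_0 (Rng.zero.step tc444_1) (Rng.zero.step tc444_2)
theorem tw439 : Tow.{u} l439 t439 := tow_of tc439_0 (Rng.zero.step tc439_1) (Rng.zero.step tc439_2)
theorem tw453 : Tow.{u} l453 t453 := tow_of tc453_0 (Rng.zero.step tc453_1) (Rng.zero.step tc453_2)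
theorem tw454 : Tow.{u} l454 t454 := tow_of tc454_0 (Rng.zero.step tc454_1) (Rng.zero.step tc454_2)
theorem tw455 : Tow.{u} l455 t455 := tow_of tc455_0 (Rng.zero.step tc455_1) (Rng.zero.step tc455_2)
theorem tw456 : Tow.{u} l456 t456 := tow_of tc456_0 (Rng.zero.step tc456_1) (Rng.zero.step tc456_2)
theorem tw457 : Tow.{u} l457 t457 := tow_of tc457_0 (Rng.zero.step tc457_1) (Rng.zero.step tc457_2)
theorem tw458 : Tow.{u} l458 t458 := tow_of tc458_0 (Rng.zero.step tc458_1) (Rng.zero.step tc458_2)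
theorem tw459 : Tow.{u} l459 t459 := tow_of tc459_0 (Rng.zero.step tc459_1) (Rng.zero.step tc459_2)
theorem tw460 : Tow.{u} l460 t460 := tow_of tc460_0 (Rng.zero.step tc460_1) (Rng.zero.step tc460_2)
theorem tw461 : Tow.{u} l461 t461 := tow_of tc461_0 (Rng.zero.step tc461_1) (Rng.zero.step tc461_2)
theorem tw462 : Tow.{u} l462 t462 := tow_of tc462_0 (Rng.zero.step tc462_1) (Rng.zero.step tc462_2)
theorem tw463 : Tow.{u} l463 t463 := tow_of tc463_0 (Rng.zero.step tc463_1) (Rng.zero.step tc463_2)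
theorem tw464 : Tow.{u} l464 t464 := tow_of tc464_0 (Rng.zero.step tc464_1) (Rng.zero.step tc464_2)
theorem tw440 : Tow.{u} l440 t440 := tow_of tc440_0 (Rng.zero.step tc440_1) (Rng.zero.step tc440_2)
theorem tw402 : Tow.{u} l402 t402 := tow_of tc402_0 (Rng.zero.step tc402_1) (Rng.zero.step tc402_2)
theorem tw425 : Tow.{u} l425 t425 := tow_of tc425_0 (Rng.zero.step tc425_1) (Rng.zero.step tc425_2)
theorem tw426 : Tow.{u} l426 t426 := tow_of tc426_0 (Rng.zero.step tc426_1) (Rng.zero.step tc426_2)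
theorem tw427 : Tow.{u} l427 t427 := tow_of tc427_0 (Rng.zero.step tc427_1) (Rng.zero.step tc427_2)
theorem tw428 : Tow.{u} l428 t428 := tow_of tc428_0 (Rng.zero.step tc428_1) (Rng.zero.step tc428_2)
theorem tw429 : Tow.{u} l429 t429 := tow_of tc429_0 (Rng.zero.step tc429_1) (Rng.zero.step tc429_2)
theorem tw430 : Tow.{u} l430 t430 := tow_of tc430_0 (Rng.zero.step tc430_1) (Rng.zero.step tc430_2)
theorem tw431 : Tow.{u} l431 t431 := tow_of tc431_0 (Rng.zero.step tc431_1) (Rng.zero.step tc431_2)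
theorem tw432 : Tow.{u} l432 t432 := tow_of tc432_0 (Rng.zero.step tc432_1) (Rng.zero.step tc432_2)
theorem tw433 : Tow.{u} l433 t433 := tow_of tc433_0 (Rng.zero.step tc433_1) (Rng.zero.step tc433_2)
theorem tw434 : Tow.{u} l434 t434 := tow_of tc434_0 (Rng.zero.step tc434_1) (Rng.zero.step tc434_2)
theorem tw435 : Tow.{u} l435 t435 := tow_of tc435_0 (Rng.zero.step tc435_1) (Rng.zero.step tc435_2)
theorem tw436 : Tow.{u} l436 t436 := tow_of tc436_0 (Rng.zero.step tc436_1) (Rng.zero.step tc436_2)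
theorem tw437 : Tow.{u} l437 t437 := tow_of tc437_0 (Rng.zero.step tc437_1) (Rng.zero.step tc437_2)
theorem tw403 : Tow.{u} l403 t403 := tow_of tc403_0 (Rng.zero.step tc403_1) (Rng.zero.step tc403_2)
theorem tw465 : Tow.{u} l465 t465 := tow_of tc465_0 (Rng.zero.step tc465_1) (Rng.zero.step tc465_2)
theorem tw466 : Tow.{u} l466 t466 := tow_of tc466_0 (Rng.zero.step tc466_1) (Rng.zero.step tc466_2)
theorem tw467 : Tow.{u} l467 t467 := tow_of tc467_0 (Rng.zero.step tc467_1) (Rng.zero.step tc467_2)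
theorem tw404 : Tow.{u} l404 t404 := tow_of tc404_0 (Rng.zero.step tc404_1) (Rng.zero.step tc404_2)
theorem tw468 : Tow.{u} l468 t468 := tow_of tc468_0 (Rng.zero.step tc468_1) (Rng.zero.step tc468_2)
theorem tw469 : Tow.{u} l469 t469 := tow_of tc469_0 (Rng.zero.step tc469_1) (Rng.zero.step tc469_2)
theorem tw470 : Tow.{u} l470 t470 := tow_of tc470_0 (Rng.zero.step tc470_1) (Rng.zero.step tc470_2)
theorem tw471 : Tow.{u} l471 t471 := tow_of tc471_0 (Rng.zero.step tc471_1) (Rng.zero.step tc471_2)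
theorem tw472 : Tow.{u} l472 t472 := tow_of tc472_0 (Rng.zero.step tc472_1) (Rng.zero.step tc472_2)
theorem tw473 : Tow.{u} l473 t473 := tow_of tc473_0 (Rng.zero.step tc473_1) (Rng.zero.step tc473_2)
theorem tw474 : Tow.{u} l474 t474 := tow_of tc474_0 (Rng.zero.step tc474_1) (Rng.zero.step tc474_2)
theorem tw475 : Tow.{u} l475 t475 := tow_of tc475_0 (Rng.zero.step tc475_1) (Rng.zero.step tc475_2)
theorem tw476 : Tow.{u} l476 t476 := tow_of tc476_0 (Rng.zero.step tc476_1) (Rng.zero.step tc476_2)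
theorem tw477 : Tow.{u} l477 t477 := tow_of tc477_0 (Rng.zero.step tc477_1) (Rng.zero.step tc477_2)
theorem tw478 : Tow.{u} l478 t478 := tow_of tc478_0 (Rng.zero.step tc478_1) (Rng.zero.step tc478_2)
theorem tw479 : Tow.{u} l479 t479 := tow_of tc479_0 (Rng.zero.step tc479_1) (Rng.zero.step tc479_2)
theorem tw480 : Tow.{u} l480 t480 := tow_of tc480_0 (Rng.zero.step tc480_1) (Rng.zero.step tc480_2)
theorem tw405 : Tow.{u} l405 t405 := tow_of tc405_0 (Rng.zero.step tc405_1) (Rng.zero.step tc405_2)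
theorem tw6 : Tow.{u} l6 t6 := tow_of tc6_0 (Rng.zero.step tc6_1) (Rng.zero.step tc6_2)
theorem tw481 : Tow.{u} l481 t481 := tow_of tc481_0 (Rng.zero.step tc481_1) (Rng.zero.step tc481_2)
theorem tw482 : Tow.{u} l482 t482 := tow_of tc482_0 (Rng.zero.step tc482_1) (Rng.zero.step tc482_2)
theorem tw483 : Tow.{u} l483 t483 := tow_of tc483_0 (Rng.zero.step tc483_1) (Rng.zero.step tc483_2)
theorem tw484 : Tow.{u} l484 t484 := tow_of tc484_0 (Rng.zero.step tc484_1) (Rng.zero.step tc484_2)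
theorem tw485 : Tow.{u} l485 t485 := tow_of tc485_0 (Rng.zero.step tc485_1) (Rng.zero.step tc485_2)
theorem tw486 : Tow.{u} l486 t486 := tow_of tc486_0 (Rng.zero.step tc486_1) (Rng.zero.step tc486_2)
theorem tw487 : Tow.{u} l487 t487 := tow_of tc487_0 (Rng.zero.step tc487_1) (Rng.zero.step tc487_2)
theorem tw488 : Tow.{u} l488 t488 := tow_of tc488_0 (Rng.zero.step tc488_1) (Rng.zero.step tc488_2)
theorem tw7 : Tow.{u} l7 t7 := tow_of tc7_0 (Rng.zero.step tc7_1) (Rng.zero.step tc7_2)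
theorem tw489 : Tow.{u} l489 t489 := tow_of tc489_0 (Rng.zero.step tc489_1) (Rng.zero.step tc489_2)
theorem tw490 : Tow.{u} l490 t490 := tow_of tc490_0 (Rng.zero.step tc490_1) (Rng.zero.step tc490_2)
theorem tw498 : Tow.{u} l498 t498 := tow_of tc498_0 (Rng.zero.step tc498_1) (Rng.zero.step tc498_2)
theorem tw499 : Tow.{u} l499 t499 := tow_of tc499_0 (Rng.zero.step tc499_1) (Rng.zero.step tc499_2)
theorem tw500 : Tow.{u} l500 t500 := tow_of tc500_0 (Rng.zero.step tc500_1) (Rng.zero.step tc500_2)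
theorem tw501 : Tow.{u} l501 t501 := tow_of tc501_0 (Rng.zero.step tc501_1) (Rng.zero.step tc501_2)
theorem tw491 : Tow.{u} l491 t491 := tow_of tc491_0 (Rng.zero.step tc491_1) (Rng.zero.step tc491_2)
theorem tw497 : Tow.{u} l497 t497 := tow_of tc497_0 (Rng.zero.step tc497_1) (Rng.zero.step tc497_2)
theorem tw492 : Tow.{u} l492 t492 := tow_of tc492_0 (Rng.zero.step tc492_1) (Rng.zero.step tc492_2)
theorem tw493 : Tow.{u} l493 t493 := tow_of tc493_0 (Rng.zero.step tc493_1) (Rng.zero.step tc493_2)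
theorem tw494 : Tow.{u} l494 t494 := tow_of tc494_0 (Rng.zero.step tc494_1) (Rng.zero.step tc494_2)
theorem tw495 : Tow.{u} l495 t495 := tow_of tc495_0 (Rng.zero.step tc495_1) (Rng.zero.step tc495_2)
theorem tw496 : Tow.{u} l496 t496 := tow_of tc496_0 (Rng.zero.step tc496_1) (Rng.zero.step tc496_2)
theorem tw8 : Tow.{u} l8 t8 := tow_of tc8_0 (Rng.zero.step tc8_1) (Rng.zero.step tc8_2)
theorem tw9 : Tow.{u} l9 t9 := tow_of tc9_0 (Rng.zero.step tc9_1) (Rng.zero.step tc9_2)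
theorem tw10 : Tow.{u} l10 t10 := tow_of tc10_0 (Rng.zero.step tc10_1) (Rng.zero.step tc10_2)
theorem tw11 : Tow.{u} l11 t11 := tow_of tc11_0 (Rng.zero.step tc11_1) (Rng.zero.step tc11_2)
theorem tw12 : Tow.{u} l12 t12 := tow_of tc12_0 (Rng.zero.step tc12_1) (Rng.zero.step tc12_2)
theorem tw13 : Tow.{u} l13 t13 := tow_of tc13_0 (Rng.zero.step tc13_1) (Rng.zero.step tc13_2)
theorem tw14 : Tow.{u} l14 t14 := tow_of tc14_0 (Rng.zero.step tc14_1) (Rng.zero.step tc14_2)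
theorem tw15 : Tow.{u} l15 t15 := tow_of tc15_0 (Rng.zero.step tc15_1) (Rng.zero.step tc15_2)
theorem tw16 : Tow.{u} l16 t16 := tow_of tc16_0 (Rng.zero.step tc16_1) (Rng.zero.step tc16_2)
theorem tw566 : Tow.{u} l566 t566 := tow_of tc566_0 (Rng.zero.step tc566_1) (Rng.zero.step tc566_2)
theorem tw567 : Tow.{u} l567 t567 := tow_of tc567_0 (Rng.zero.step tc567_1) (Rng.zero.step tc567_2)
theorem tw568 : Tow.{u} l568 t568 := tow_of tc568_0 (Rng.zero.step tc568_1) (Rng.zero.step tc568_2)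
theorem tw569 : Tow.{u} l569 t569 := tow_of tc569_0 (Rng.zero.step tc569_1) (Rng.zero.step tc569_2)
theorem tw570 : Tow.{u} l570 t570 := tow_of tc570_0 (Rng.zero.step tc570_1) (Rng.zero.step tc570_2)
theorem tw571 : Tow.{u} l571 t571 := tow_of tc571_0 (Rng.zero.step tc571_1) (Rng.zero.step tc571_2)
theorem tw572 : Tow.{u} l572 t572 := tow_of tc572_0 (Rng.zero.step tc572_1) (Rng.zero.step tc572_2)
theorem tw573 : Tow.{u} l573 t573 := tow_of tc573_0 (Rng.zero.step tc573_1) (Rng.zero.step tc573_2)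
theorem tw574 : Tow.{u} l574 t574 := tow_of tc574_0 (Rng.zero.step tc574_1) (Rng.zero.step tc574_2)
theorem tw575 : Tow.{u} l575 t575 := tow_of tc575_0 (Rng.zero.step tc575_1) (Rng.zero.step tc575_2)
theorem tw576 : Tow.{u} l576 t576 := tow_of tc576_0 (Rng.zero.step tc576_1) (Rng.zero.step tc576_2)
theorem tw577 : Tow.{u} l577 t577 := tow_of tc577_0 (Rng.zero.step tc577_1) (Rng.zero.step tc577_2)
theorem tw578 : Tow.{u} l578 t578 := tow_of tc578_0 (Rng.zero.step tc578_1) (Rng.zero.step tc578_2)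
theorem tw579 : Tow.{u} l579 t579 := tow_of tc579_0 (Rng.zero.step tc579_1) (Rng.zero.step tc579_2)
theorem tw580 : Tow.{u} l580 t580 := tow_of tc580_0 (Rng.zero.step tc580_1) (Rng.zero.step tc580_2)
theorem tw581 : Tow.{u} l581 t581 := tow_of tc581_0 (Rng.zero.step tc581_1) (Rng.zero.step tc581_2)
theorem tw534 : Tow.{u} l534 t534 := tow_of tc534_0 (Rng.zero.step tc534_1) (Rng.zero.step tc534_2)
theorem tw535 : Tow.{u} l535 t535 := tow_of tc535_0 (Rng.zero.step tc535_1) (Rng.zero.step tc535_2)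
theorem tw536 : Tow.{u} l536 t536 := tow_of tc536_0 (Rng.zero.step tc536_1) (Rng.zero.step tc536_2)
theorem tw537 : Tow.{u} l537 t537 := tow_of tc537_0 (Rng.zero.step tc537_1) (Rng.zero.step tc537_2)
theorem tw538 : Tow.{u} l538 t538 := tow_of tc538_0 (Rng.zero.step tc538_1) (Rng.zero.step tc538_2)
theorem tw539 : Tow.{u} l539 t539 := tow_of tc539_0 (Rng.zero.step tc539_1) (Rng.zero.step tc539_2)
theorem tw540 : Tow.{u} l540 t540 := tow_of tc540_0 (Rng.zero.step tc540_1) (Rng.zero.step tc540_2)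
theorem tw541 : Tow.{u} l541 t541 := tow_of tc541_0 (Rng.zero.step tc541_1) (Rng.zero.step tc541_2)
theorem tw542 : Tow.{u} l542 t542 := tow_of tc542_0 (Rng.zero.step tc542_1) (Rng.zero.step tc542_2)
theorem tw543 : Tow.{u} l543 t543 := tow_of tc543_0 (Rng.zero.step tc543_1) (Rng.zero.step tc543_2)
theorem tw544 : Tow.{u} l544 t544 := tow_of tc544_0 (Rng.zero.step tc544_1) (Rng.zero.step tc544_2)
theorem tw545 : Tow.{u} l545 t545 := tow_of tc545_0 (Rng.zero.step tc545_1) (Rng.zero.step tc545_2)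
theorem tw546 : Tow.{u} l546 t546 := tow_of tc546_0 (Rng.zero.step tc546_1) (Rng.zero.step tc546_2)
theorem tw547 : Tow.{u} l547 t547 := tow_of tc547_0 (Rng.zero.step tc547_1) (Rng.zero.step tc547_2)
theorem tw548 : Tow.{u} l548 t548 := tow_of tc548_0 (Rng.zero.step tc548_1) (Rng.zero.step tc548_2)
theorem tw549 : Tow.{u} l549 t549 := tow_of tc549_0 (Rng.zero.step tc549_1) (Rng.zero.step tc549_2)
theorem tw550 : Tow.{u} l550 t550 := tow_of tc550_0 (Rng.zero.step tc550_1) (Rng.zero.step tc550_2)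
theorem tw582 : Tow.{u} l582 t582 := tow_of tc582_0 (Rng.zero.step tc582_1) (Rng.zero.step tc582_2)
theorem tw583 : Tow.{u} l583 t583 := tow_of tc583_0 (Rng.zero.step tc583_1) (Rng.zero.step tc583_2)
theorem tw584 : Tow.{u} l584 t584 := tow_of tc584_0 (Rng.zero.step tc584_1) (Rng.zero.step tc584_2)
theorem tw585 : Tow.{u} l585 t585 := tow_of tc585_0 (Rng.zero.step tc585_1) (Rng.zero.step tc585_2)
theorem tw586 : Tow.{u} l586 t586 := tow_of tc586_0 (Rng.zero.step tc586_1) (Rng.zero.step tc586_2)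
theorem tw587 : Tow.{u} l587 t587 := tow_of tc587_0 (Rng.zero.step tc587_1) (Rng.zero.step tc587_2)
theorem tw588 : Tow.{u} l588 t588 := tow_of tc588_0 (Rng.zero.step tc588_1) (Rng.zero.step tc588_2)
theorem tw589 : Tow.{u} l589 t589 := tow_of tc589_0 (Rng.zero.step tc589_1) (Rng.zero.step tc589_2)
theorem tw551 : Tow.{u} l551 t551 := tow_of tc551_0 (Rng.zero.step tc551_1) (Rng.zero.step tc551_2)
theorem tw552 : Tow.{u} l552 t552 := tow_of tc552_0 (Rng.zero.step tc552_1) (Rng.zero.step tc552_2)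
theorem tw553 : Tow.{u} l553 t553 := tow_of tc553_0 (Rng.zero.step tc553_1) (Rng.zero.step tc553_2)
theorem tw554 : Tow.{u} l554 t554 := tow_of tc554_0 (Rng.zero.step tc554_1) (Rng.zero.step tc554_2)
theorem tw555 : Tow.{u} l555 t555 := tow_of tc555_0 (Rng.zero.step tc555_1) (Rng.zero.step tc555_2)
theorem tw556 : Tow.{u} l556 t556 := tow_of tc556_0 (Rng.zero.step tc556_1) (Rng.zero.step tc556_2)
theorem tw557 : Tow.{u} l557 t557 := tow_of tc557_0 (Rng.zero.step tc557_1) (Rng.zero.step tc557_2)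
theorem tw558 : Tow.{u} l558 t558 := tow_of tc558_0 (Rng.zero.step tc558_1) (Rng.zero.step tc558_2)
theorem tw559 : Tow.{u} l559 t559 := tow_of tc559_0 (Rng.zero.step tc559_1) (Rng.zero.step tc559_2)
theorem tw560 : Tow.{u} l560 t560 := tow_of tc560_0 (Rng.zero.step tc560_1) (Rng.zero.step tc560_2)
theorem tw561 : Tow.{u} l561 t561 := tow_of tc561_0 (Rng.zero.step tc561_1) (Rng.zero.step tc561_2)
theorem tw562 : Tow.{u} l562 t562 := tow_of tc562_0 (Rng.zero.step tc562_1) (Rng.zero.step tc562_2)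
theorem tw563 : Tow.{u} l563 t563 := tow_of tc563_0 (Rng.zero.step tc563_1) (Rng.zero.step tc563_2)
theorem tw564 : Tow.{u} l564 t564 := tow_of tc564_0 (Rng.zero.step tc564_1) (Rng.zero.step tc564_2)
theorem tw565 : Tow.{u} l565 t565 := tow_of tc565_0 (Rng.zero.step tc565_1) (Rng.zero.step tc565_2)
theorem tw502 : Tow.{u} l502 t502 := tow_of tc502_0 (Rng.zero.step tc502_1) (Rng.zero.step tc502_2)
theorem tw518 : Tow.{u} l518 t518 := tow_of tc518_0 (Rng.zero.step tc518_1) (Rng.zero.step tc518_2)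
theorem tw519 : Tow.{u} l519 t519 := tow_of tc519_0 (Rng.zero.step tc519_1) (Rng.zero.step tc519_2)
theorem tw520 : Tow.{u} l520 t520 := tow_of tc520_0 (Rng.zero.step tc520_1) (Rng.zero.step tc520_2)
theorem tw521 : Tow.{u} l521 t521 := tow_of tc521_0 (Rng.zero.step tc521_1) (Rng.zero.step tc521_2)
theorem tw522 : Tow.{u} l522 t522 := tow_of tc522_0 (Rng.zero.step tc522_1) (Rng.zero.step tc522_2)
theorem tw523 : Tow.{u} l523 t523 := tow_of tc523_0 (Rng.zero.step tc523_1) (Rng.zero.step tc523_2)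
theorem tw524 : Tow.{u} l524 t524 := tow_of tc524_0 (Rng.zero.step tc524_1) (Rng.zero.step tc524_2)
theorem tw525 : Tow.{u} l525 t525 := tow_of tc525_0 (Rng.zero.step tc525_1) (Rng.zero.step tc525_2)
theorem tw526 : Tow.{u} l526 t526 := tow_of tc526_0 (Rng.zero.step tc526_1) (Rng.zero.step tc526_2)
theorem tw527 : Tow.{u} l527 t527 := tow_of tc527_0 (Rng.zero.step tc527_1) (Rng.zero.step tc527_2)
theorem tw528 : Tow.{u} l528 t528 := tow_of tc528_0 (Rng.zero.step tc528_1) (Rng.zero.step tc528_2)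
theorem tw529 : Tow.{u} l529 t529 := tow_of tc529_0 (Rng.zero.step tc529_1) (Rng.zero.step tc529_2)
theorem tw530 : Tow.{u} l530 t530 := tow_of tc530_0 (Rng.zero.step tc530_1) (Rng.zero.step tc530_2)
theorem tw531 : Tow.{u} l531 t531 := tow_of tc531_0 (Rng.zero.step tc531_1) (Rng.zero.step tc531_2)
theorem tw532 : Tow.{u} l532 t532 := tow_of tc532_0 (Rng.zero.step tc532_1) (Rng.zero.step tc532_2)
theorem tw533 : Tow.{u} l533 t533 := tow_of tc533_0 (Rng.zero.step tc533_1) (Rng.zero.step tc533_2)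
theorem tw590 : Tow.{u} l590 t590 := tow_of tc590_0 (Rng.zero.step tc590_1) (Rng.zero.step tc590_2)
theorem tw606 : Tow.{u} l606 t606 := tow_of tc606_0 (Rng.zero.step tc606_1) (Rng.zero.step tc606_2)
theorem tw607 : Tow.{u} l607 t607 := tow_of tc607_0 (Rng.zero.step tc607_1) (Rng.zero.step tc607_2)
theorem tw608 : Tow.{u} l608 t608 := tow_of tc608_0 (Rng.zero.step tc608_1) (Rng.zero.step tc608_2)
theorem tw609 : Tow.{u} l609 t609 := tow_of tc609_0 (Rng.zero.step tc609_1) (Rng.zero.step tc609_2)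
theorem tw610 : Tow.{u} l610 t610 := tow_of tc610_0 (Rng.zero.step tc610_1) (Rng.zero.step tc610_2)
theorem tw611 : Tow.{u} l611 t611 := tow_of tc611_0 (Rng.zero.step tc611_1) (Rng.zero.step tc611_2)
theorem tw612 : Tow.{u} l612 t612 := tow_of tc612_0 (Rng.zero.step tc612_1) (Rng.zero.step tc612_2)
theorem tw613 : Tow.{u} l613 t613 := tow_of tc613_0 (Rng.zero.step tc613_1) (Rng.zero.step tc613_2)
theorem tw614 : Tow.{u} l614 t614 := tow_of tc614_0 (Rng.zero.step tc614_1) (Rng.zero.step tc614_2)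
theorem tw615 : Tow.{u} l615 t615 := tow_of tc615_0 (Rng.zero.step tc615_1) (Rng.zero.step tc615_2)
theorem tw616 : Tow.{u} l616 t616 := tow_of tc616_0 (Rng.zero.step tc616_1) (Rng.zero.step tc616_2)
theorem tw617 : Tow.{u} l617 t617 := tow_of tc617_0 (Rng.zero.step tc617_1) (Rng.zero.step tc617_2)
theorem tw618 : Tow.{u} l618 t618 := tow_of tc618_0 (Rng.zero.step tc618_1) (Rng.zero.step tc618_2)
theorem tw619 : Tow.{u} l619 t619 := tow_of tc619_0 (Rng.zero.step tc619_1) (Rng.zero.step tc619_2)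
theorem tw620 : Tow.{u} l620 t620 := tow_of tc620_0 (Rng.zero.step tc620_1) (Rng.zero.step tc620_2)
theorem tw621 : Tow.{u} l621 t621 := tow_of tc621_0 (Rng.zero.step tc621_1) (Rng.zero.step tc621_2)
theorem tw622 : Tow.{u} l622 t622 := tow_of tc622_0 (Rng.zero.step tc622_1) (Rng.zero.step tc622_2)
theorem tw623 : Tow.{u} l623 t623 := tow_of tc623_0 (Rng.zero.step tc623_1) (Rng.zero.step tc623_2)
theorem tw624 : Tow.{u} l624 t624 := tow_of tc624_0 (Rng.zero.step tc624_1) (Rng.zero.step tc624_2)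
theorem tw625 : Tow.{u} l625 t625 := tow_of tc625_0 (Rng.zero.step tc625_1) (Rng.zero.step tc625_2)
theorem tw626 : Tow.{u} l626 t626 := tow_of tc626_0 (Rng.zero.step tc626_1) (Rng.zero.step tc626_2)
theorem tw627 : Tow.{u} l627 t627 := tow_of tc627_0 (Rng.zero.step tc627_1) (Rng.zero.step tc627_2)
theorem tw628 : Tow.{u} l628 t628 := tow_of tc628_0 (Rng.zero.step tc628_1) (Rng.zero.step tc628_2)
theorem tw629 : Tow.{u} l629 t629 := tow_of tc629_0 (Rng.zero.step tc629_1) (Rng.zero.step tc629_2)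
theorem tw630 : Tow.{u} l630 t630 := tow_of tc630_0 (Rng.zero.step tc630_1) (Rng.zero.step tc630_2)
theorem tw631 : Tow.{u} l631 t631 := tow_of tc631_0 (Rng.zero.step tc631_1) (Rng.zero.step tc631_2)
theorem tw632 : Tow.{u} l632 t632 := tow_of tc632_0 (Rng.zero.step tc632_1) (Rng.zero.step tc632_2)
theorem tw633 : Tow.{u} l633 t633 := tow_of tc633_0 (Rng.zero.step tc633_1) (Rng.zero.step tc633_2)
theorem tw634 : Tow.{u} l634 t634 := tow_of tc634_0 (Rng.zero.step tc634_1) (Rng.zero.step tc634_2)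
theorem tw635 : Tow.{u} l635 t635 := tow_of tc635_0 (Rng.zero.step tc635_1) (Rng.zero.step tc635_2)
theorem tw636 : Tow.{u} l636 t636 := tow_of tc636_0 (Rng.zero.step tc636_1) (Rng.zero.step tc636_2)
theorem tw637 : Tow.{u} l637 t637 := tow_of tc637_0 (Rng.zero.step tc637_1) (Rng.zero.step tc637_2)
theorem tw503 : Tow.{u} l503 t503 := tow_of tc503_0 (Rng.zero.step tc503_1) (Rng.zero.step tc503_2)
theorem tw591 : Tow.{u} l591 t591 := tow_of tc591_0 (Rng.zero.step tc591_1) (Rng.zero.step tc591_2)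
theorem tw592 : Tow.{u} l592 t592 := tow_of tc592_0 (Rng.zero.step tc592_1) (Rng.zero.step tc592_2)
theorem tw593 : Tow.{u} l593 t593 := tow_of tc593_0 (Rng.zero.step tc593_1) (Rng.zero.step tc593_2)
theorem tw594 : Tow.{u} l594 t594 := tow_of tc594_0 (Rng.zero.step tc594_1) (Rng.zero.step tc594_2)
theorem tw595 : Tow.{u} l595 t595 := tow_of tc595_0 (Rng.zero.step tc595_1) (Rng.zero.step tc595_2)
theorem tw596 : Tow.{u} l596 t596 := tow_of tc596_0 (Rng.zero.step tc596_1) (Rng.zero.step tc596_2)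
theorem tw597 : Tow.{u} l597 t597 := tow_of tc597_0 (Rng.zero.step tc597_1) (Rng.zero.step tc597_2)
theorem tw598 : Tow.{u} l598 t598 := tow_of tc598_0 (Rng.zero.step tc598_1) (Rng.zero.step tc598_2)
theorem tw599 : Tow.{u} l599 t599 := tow_of tc599_0 (Rng.zero.step tc599_1) (Rng.zero.step tc599_2)
theorem tw600 : Tow.{u} l600 t600 := tow_of tc600_0 (Rng.zero.step tc600_1) (Rng.zero.step tc600_2)
theorem tw601 : Tow.{u} l601 t601 := tow_of tc601_0 (Rng.zero.step tc601_1) (Rng.zero.step tc601_2)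
theorem tw602 : Tow.{u} l602 t602 := tow_of tc602_0 (Rng.zero.step tc602_1) (Rng.zero.step tc602_2)
theorem tw603 : Tow.{u} l603 t603 := tow_of tc603_0 (Rng.zero.step tc603_1) (Rng.zero.step tc603_2)
theorem tw604 : Tow.{u} l604 t604 := tow_of tc604_0 (Rng.zero.step tc604_1) (Rng.zero.step tc604_2)
theorem tw605 : Tow.{u} l605 t605 := tow_of tc605_0 (Rng.zero.step tc605_1) (Rng.zero.step tc605_2)
theorem tw504 : Tow.{u} l504 t504 := tow_of tc504_0 (Rng.zero.step tc504_1) (Rng.zero.step tc504_2)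
theorem tw505 : Tow.{u} l505 t505 := tow_of tc505_0 (Rng.zero.step tc505_1) (Rng.zero.step tc505_2)
theorem tw654 : Tow.{u} l654 t654 := tow_of tc654_0 (Rng.zero.step tc654_1) (Rng.zero.step tc654_2)
theorem tw655 : Tow.{u} l655 t655 := tow_of tc655_0 (Rng.zero.step tc655_1) (Rng.zero.step tc655_2)
theorem tw656 : Tow.{u} l656 t656 := tow_of tc656_0 (Rng.zero.step tc656_1) (Rng.zero.step tc656_2)
theorem tw657 : Tow.{u} l657 t657 := tow_of tc657_0 (Rng.zero.step tc657_1) (Rng.zero.step tc657_2)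
theorem tw658 : Tow.{u} l658 t658 := tow_of tc658_0 (Rng.zero.step tc658_1) (Rng.zero.step tc658_2)
theorem tw659 : Tow.{u} l659 t659 := tow_of tc659_0 (Rng.zero.step tc659_1) (Rng.zero.step tc659_2)
theorem tw660 : Tow.{u} l660 t660 := tow_of tc660_0 (Rng.zero.step tc660_1) (Rng.zero.step tc660_2)
theorem tw661 : Tow.{u} l661 t661 := tow_of tc661_0 (Rng.zero.step tc661_1) (Rng.zero.step tc661_2)
theorem tw662 : Tow.{u} l662 t662 := tow_of tc662_0 (Rng.zero.step tc662_1) (Rng.zero.step tc662_2)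
theorem tw663 : Tow.{u} l663 t663 := tow_of tc663_0 (Rng.zero.step tc663_1) (Rng.zero.step tc663_2)
theorem tw664 : Tow.{u} l664 t664 := tow_of tc664_0 (Rng.zero.step tc664_1) (Rng.zero.step tc664_2)
theorem tw665 : Tow.{u} l665 t665 := tow_of tc665_0 (Rng.zero.step tc665_1) (Rng.zero.step tc665_2)
theorem tw666 : Tow.{u} l666 t666 := tow_of tc666_0 (Rng.zero.step tc666_1) (Rng.zero.step tc666_2)
theorem tw667 : Tow.{u} l667 t667 := tow_of tc667_0 (Rng.zero.step tc667_1) (Rng.zero.step tc667_2)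
theorem tw668 : Tow.{u} l668 t668 := tow_of tc668_0 (Rng.zero.step tc668_1) (Rng.zero.step tc668_2)
theorem tw669 : Tow.{u} l669 t669 := tow_of tc669_0 (Rng.zero.step tc669_1) (Rng.zero.step tc669_2)
theorem tw670 : Tow.{u} l670 t670 := tow_of tc670_0 (Rng.zero.step tc670_1) (Rng.zero.step tc670_2)
theorem tw671 : Tow.{u} l671 t671 := tow_of tc671_0 (Rng.zero.step tc671_1) (Rng.zero.step tc671_2)
theorem tw672 : Tow.{u} l672 t672 := tow_of tc672_0 (Rng.zero.step tc672_1) (Rng.zero.step tc672_2)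
theorem tw673 : Tow.{u} l673 t673 := tow_of tc673_0 (Rng.zero.step tc673_1) (Rng.zero.step tc673_2)
theorem tw674 : Tow.{u} l674 t674 := tow_of tc674_0 (Rng.zero.step tc674_1) (Rng.zero.step tc674_2)
theorem tw675 : Tow.{u} l675 t675 := tow_of tc675_0 (Rng.zero.step tc675_1) (Rng.zero.step tc675_2)
theorem tw676 : Tow.{u} l676 t676 := tow_of tc676_0 (Rng.zero.step tc676_1) (Rng.zero.step tc676_2)
theorem tw677 : Tow.{u} l677 t677 := tow_of tc677_0 (Rng.zero.step tc677_1) (Rng.zero.step tc677_2)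
theorem tw678 : Tow.{u} l678 t678 := tow_of tc678_0 (Rng.zero.step tc678_1) (Rng.zero.step tc678_2)
theorem tw679 : Tow.{u} l679 t679 := tow_of tc679_0 (Rng.zero.step tc679_1) (Rng.zero.step tc679_2)
theorem tw680 : Tow.{u} l680 t680 := tow_of tc680_0 (Rng.zero.step tc680_1) (Rng.zero.step tc680_2)
theorem tw681 : Tow.{u} l681 t681 := tow_of tc681_0 (Rng.zero.step tc681_1) (Rng.zero.step tc681_2)
theorem tw682 : Tow.{u} l682 t682 := tow_of tc682_0 (Rng.zero.step tc682_1) (Rng.zero.step tc682_2)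
theorem tw683 : Tow.{u} l683 t683 := tow_of tc683_0 (Rng.zero.step tc683_1) (Rng.zero.step tc683_2)
theorem tw684 : Tow.{u} l684 t684 := tow_of tc684_0 (Rng.zero.step tc684_1) (Rng.zero.step tc684_2)
theorem tw685 : Tow.{u} l685 t685 := tow_of tc685_0 (Rng.zero.step tc685_1) (Rng.zero.step tc685_2)
theorem tw506 : Tow.{u} l506 t506 := tow_of tc506_0 (Rng.zero.step tc506_1) (Rng.zero.step tc506_2)
theorem tw638 : Tow.{u} l638 t638 := tow_of tc638_0 (Rng.zero.step tc638_1) (Rng.zero.step tc638_2)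
theorem tw639 : Tow.{u} l639 t639 := tow_of tc639_0 (Rng.zero.step tc639_1) (Rng.zero.step tc639_2)
theorem tw640 : Tow.{u} l640 t640 := tow_of tc640_0 (Rng.zero.step tc640_1) (Rng.zero.step tc640_2)
theorem tw641 : Tow.{u} l641 t641 := tow_of tc641_0 (Rng.zero.step tc641_1) (Rng.zero.step tc641_2)
theorem tw642 : Tow.{u} l642 t642 := tow_of tc642_0 (Rng.zero.step tc642_1) (Rng.zero.step tc642_2)
theorem tw643 : Tow.{u} l643 t643 := tow_of tc643_0 (Rng.zero.step tc643_1) (Rng.zero.step tc643_2)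
theorem tw644 : Tow.{u} l644 t644 := tow_of tc644_0 (Rng.zero.step tc644_1) (Rng.zero.step tc644_2)
theorem tw645 : Tow.{u} l645 t645 := tow_of tc645_0 (Rng.zero.step tc645_1) (Rng.zero.step tc645_2)
theorem tw646 : Tow.{u} l646 t646 := tow_of tc646_0 (Rng.zero.step tc646_1) (Rng.zero.step tc646_2)
theorem tw647 : Tow.{u} l647 t647 := tow_of tc647_0 (Rng.zero.step tc647_1) (Rng.zero.step tc647_2)
theorem tw648 : Tow.{u} l648 t648 := tow_of tc648_0 (Rng.zero.step tc648_1) (Rng.zero.step tc648_2)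
theorem tw649 : Tow.{u} l649 t649 := tow_of tc649_0 (Rng.zero.step tc649_1) (Rng.zero.step tc649_2)
theorem tw650 : Tow.{u} l650 t650 := tow_of tc650_0 (Rng.zero.step tc650_1) (Rng.zero.step tc650_2)
theorem tw651 : Tow.{u} l651 t651 := tow_of tc651_0 (Rng.zero.step tc651_1) (Rng.zero.step tc651_2)
theorem tw652 : Tow.{u} l652 t652 := tow_of tc652_0 (Rng.zero.step tc652_1) (Rng.zero.step tc652_2)
theorem tw653 : Tow.{u} l653 t653 := tow_of tc653_0 (Rng.zero.step tc653_1) (Rng.zero.step tc653_2)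
theorem tw686 : Tow.{u} l686 t686 := tow_of tc686_0 (Rng.zero.step tc686_1) (Rng.zero.step tc686_2)
theorem tw702 : Tow.{u} l702 t702 := tow_of tc702_0 (Rng.zero.step tc702_1) (Rng.zero.step tc702_2)
theorem tw703 : Tow.{u} l703 t703 := tow_of tc703_0 (Rng.zero.step tc703_1) (Rng.zero.step tc703_2)
theorem tw704 : Tow.{u} l704 t704 := tow_of tc704_0 (Rng.zero.step tc704_1) (Rng.zero.step tc704_2)
theorem tw705 : Tow.{u} l705 t705 := tow_of tc705_0 (Rng.zero.step tc705_1) (Rng.zero.step tc705_2)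
theorem tw706 : Tow.{u} l706 t706 := tow_of tc706_0 (Rng.zero.step tc706_1) (Rng.zero.step tc706_2)
theorem tw707 : Tow.{u} l707 t707 := tow_of tc707_0 (Rng.zero.step tc707_1) (Rng.zero.step tc707_2)
theorem tw708 : Tow.{u} l708 t708 := tow_of tc708_0 (Rng.zero.step tc708_1) (Rng.zero.step tc708_2)
theorem tw709 : Tow.{u} l709 t709 := tow_of tc709_0 (Rng.zero.step tc709_1) (Rng.zero.step tc709_2)
theorem tw710 : Tow.{u} l710 t710 := tow_of tc710_0 (Rng.zero.step tc710_1) (Rng.zero.step tc710_2)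
theorem tw711 : Tow.{u} l711 t711 := tow_of tc711_0 (Rng.zero.step tc711_1) (Rng.zero.step tc711_2)
theorem tw712 : Tow.{u} l712 t712 := tow_of tc712_0 (Rng.zero.step tc712_1) (Rng.zero.step tc712_2)
theorem tw713 : Tow.{u} l713 t713 := tow_of tc713_0 (Rng.zero.step tc713_1) (Rng.zero.step tc713_2)
theorem tw714 : Tow.{u} l714 t714 := tow_of tc714_0 (Rng.zero.step tc714_1) (Rng.zero.step tc714_2)
theorem tw715 : Tow.{u} l715 t715 := tow_of tc715_0 (Rng.zero.step tc715_1) (Rng.zero.step tc715_2)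
theorem tw716 : Tow.{u} l716 t716 := tow_of tc716_0 (Rng.zero.step tc716_1) (Rng.zero.step tc716_2)
theorem tw717 : Tow.{u} l717 t717 := tow_of tc717_0 (Rng.zero.step tc717_1) (Rng.zero.step tc717_2)
theorem tw718 : Tow.{u} l718 t718 := tow_of tc718_0 (Rng.zero.step tc718_1) (Rng.zero.step tc718_2)
theorem tw719 : Tow.{u} l719 t719 := tow_of tc719_0 (Rng.zero.step tc719_1) (Rng.zero.step tc719_2)
theorem tw720 : Tow.{u} l720 t720 := tow_of tc720_0 (Rng.zero.step tc720_1) (Rng.zero.step tc720_2)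
theorem tw721 : Tow.{u} l721 t721 := tow_of tc721_0 (Rng.zero.step tc721_1) (Rng.zero.step tc721_2)
theorem tw722 : Tow.{u} l722 t722 := tow_of tc722_0 (Rng.zero.step tc722_1) (Rng.zero.step tc722_2)
theorem tw723 : Tow.{u} l723 t723 := tow_of tc723_0 (Rng.zero.step tc723_1) (Rng.zero.step tc723_2)
theorem tw724 : Tow.{u} l724 t724 := tow_of tc724_0 (Rng.zero.step tc724_1) (Rng.zero.step tc724_2)
theorem tw725 : Tow.{u} l725 t725 := tow_of tc725_0 (Rng.zero.step tc725_1) (Rng.zero.step tc725_2)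
theorem tw726 : Tow.{u} l726 t726 := tow_of tc726_0 (Rng.zero.step tc726_1) (Rng.zero.step tc726_2)
theorem tw727 : Tow.{u} l727 t727 := tow_of tc727_0 (Rng.zero.step tc727_1) (Rng.zero.step tc727_2)
theorem tw728 : Tow.{u} l728 t728 := tow_of tc728_0 (Rng.zero.step tc728_1) (Rng.zero.step tc728_2)
theorem tw729 : Tow.{u} l729 t729 := tow_of tc729_0 (Rng.zero.step tc729_1) (Rng.zero.step tc729_2)
theorem tw730 : Tow.{u} l730 t730 := tow_of tc730_0 (Rng.zero.step tc730_1) (Rng.zero.step tc730_2)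
theorem tw731 : Tow.{u} l731 t731 := tow_of tc731_0 (Rng.zero.step tc731_1) (Rng.zero.step tc731_2)
theorem tw732 : Tow.{u} l732 t732 := tow_of tc732_0 (Rng.zero.step tc732_1) (Rng.zero.step tc732_2)
theorem tw733 : Tow.{u} l733 t733 := tow_of tc733_0 (Rng.zero.step tc733_1) (Rng.zero.step tc733_2)
theorem tw507 : Tow.{u} l507 t507 := tow_of tc507_0 (Rng.zero.step tc507_1) (Rng.zero.step tc507_2)
theorem tw687 : Tow.{u} l687 t687 := tow_of tc687_0 (Rng.zero.step tc687_1) (Rng.zero.step tc687_2)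
theorem tw688 : Tow.{u} l688 t688 := tow_of tc688_0 (Rng.zero.step tc688_1) (Rng.zero.step tc688_2)
theorem tw689 : Tow.{u} l689 t689 := tow_of tc689_0 (Rng.zero.step tc689_1) (Rng.zero.step tc689_2)
theorem tw690 : Tow.{u} l690 t690 := tow_of tc690_0 (Rng.zero.step tc690_1) (Rng.zero.step tc690_2)
theorem tw691 : Tow.{u} l691 t691 := tow_of tc691_0 (Rng.zero.step tc691_1) (Rng.zero.step tc691_2)
theorem tw692 : Tow.{u} l692 t692 := tow_of tc692_0 (Rng.zero.step tc692_1) (Rng.zero.step tc692_2)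
theorem tw693 : Tow.{u} l693 t693 := tow_of tc693_0 (Rng.zero.step tc693_1) (Rng.zero.step tc693_2)
theorem tw694 : Tow.{u} l694 t694 := tow_of tc694_0 (Rng.zero.step tc694_1) (Rng.zero.step tc694_2)
theorem tw695 : Tow.{u} l695 t695 := tow_of tc695_0 (Rng.zero.step tc695_1) (Rng.zero.step tc695_2)
theorem tw696 : Tow.{u} l696 t696 := tow_of tc696_0 (Rng.zero.step tc696_1) (Rng.zero.step tc696_2)
theorem tw697 : Tow.{u} l697 t697 := tow_of tc697_0 (Rng.zero.step tc697_1) (Rng.zero.step tc697_2)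
theorem tw698 : Tow.{u} l698 t698 := tow_of tc698_0 (Rng.zero.step tc698_1) (Rng.zero.step tc698_2)
theorem tw699 : Tow.{u} l699 t699 := tow_of tc699_0 (Rng.zero.step tc699_1) (Rng.zero.step tc699_2)
theorem tw700 : Tow.{u} l700 t700 := tow_of tc700_0 (Rng.zero.step tc700_1) (Rng.zero.step tc700_2)
theorem tw701 : Tow.{u} l701 t701 := tow_of tc701_0 (Rng.zero.step tc701_1) (Rng.zero.step tc701_2)
theorem tw508 : Tow.{u} l508 t508 := tow_of tc508_0 (Rng.zero.step tc508_1) (Rng.zero.step tc508_2)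
theorem tw509 : Tow.{u} l509 t509 := tow_of tc509_0 (Rng.zero.step tc509_1) (Rng.zero.step tc509_2)
theorem tw510 : Tow.{u} l510 t510 := tow_of tc510_0 (Rng.zero.step tc510_1) (Rng.zero.step tc510_2)
theorem tw511 : Tow.{u} l511 t511 := tow_of tc511_0 (Rng.zero.step tc511_1) (Rng.zero.step tc511_2)
theorem tw512 : Tow.{u} l512 t512 := tow_of tc512_0 (Rng.zero.step tc512_1) (Rng.zero.step tc512_2)
theorem tw513 : Tow.{u} l513 t513 := tow_of tc513_0 (Rng.zero.step tc513_1) (Rng.zero.step tc513_2)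
theorem tw514 : Tow.{u} l514 t514 := tow_of tc514_0 (Rng.zero.step tc514_1) (Rng.zero.step tc514_2)
theorem tw515 : Tow.{u} l515 t515 := tow_of tc515_0 (Rng.zero.step tc515_1) (Rng.zero.step tc515_2)
theorem tw735 : Tow.{u} l735 t735 := tow_of tc735_0 (Rng.zero.step tc735_1) (Rng.zero.step tc735_2)
theorem tw736 : Tow.{u} l736 t736 := tow_of tc736_0 (Rng.zero.step tc736_1) (Rng.zero.step tc736_2)
theorem tw737 : Tow.{u} l737 t737 := tow_of tc737_0 (Rng.zero.step tc737_1) (Rng.zero.step tc737_2)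
theorem tw738 : Tow.{u} l738 t738 := tow_of tc738_0 (Rng.zero.step tc738_1) (Rng.zero.step tc738_2)
theorem tw739 : Tow.{u} l739 t739 := tow_of tc739_0 (Rng.zero.step tc739_1) (Rng.zero.step tc739_2)
theorem tw740 : Tow.{u} l740 t740 := tow_of tc740_0 (Rng.zero.step tc740_1) (Rng.zero.step tc740_2)
theorem tw741 : Tow.{u} l741 t741 := tow_of tc741_0 (Rng.zero.step tc741_1) (Rng.zero.step tc741_2)
theorem tw742 : Tow.{u} l742 t742 := tow_of tc742_0 (Rng.zero.step tc742_1) (Rng.zero.step tc742_2)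
theorem tw743 : Tow.{u} l743 t743 := tow_of tc743_0 (Rng.zero.step tc743_1) (Rng.zero.step tc743_2)
theorem tw744 : Tow.{u} l744 t744 := tow_of tc744_0 (Rng.zero.step tc744_1) (Rng.zero.step tc744_2)
theorem tw745 : Tow.{u} l745 t745 := tow_of tc745_0 (Rng.zero.step tc745_1) (Rng.zero.step tc745_2)
theorem tw746 : Tow.{u} l746 t746 := tow_of tc746_0 (Rng.zero.step tc746_1) (Rng.zero.step tc746_2)
theorem tw751 : Tow.{u} l751 t751 := tow_of tc751_0 (Rng.zero.step tc751_1) (Rng.zero.step tc751_2)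
theorem tw752 : Tow.{u} l752 t752 := tow_of tc752_0 (Rng.zero.step tc752_1) (Rng.zero.step tc752_2)
theorem tw753 : Tow.{u} l753 t753 := tow_of tc753_0 (Rng.zero.step tc753_1) (Rng.zero.step tc753_2)
theorem tw754 : Tow.{u} l754 t754 := tow_of tc754_0 (Rng.zero.step tc754_1) (Rng.zero.step tc754_2)
theorem tw755 : Tow.{u} l755 t755 := tow_of tc755_0 (Rng.zero.step tc755_1) (Rng.zero.step tc755_2)
theorem tw756 : Tow.{u} l756 t756 := tow_of tc756_0 (Rng.zero.step tc756_1) (Rng.zero.step tc756_2)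
theorem tw757 : Tow.{u} l757 t757 := tow_of tc757_0 (Rng.zero.step tc757_1) (Rng.zero.step tc757_2)
theorem tw758 : Tow.{u} l758 t758 := tow_of tc758_0 (Rng.zero.step tc758_1) (Rng.zero.step tc758_2)
theorem tw767 : Tow.{u} l767 t767 := tow_of tc767_0 (Rng.zero.step tc767_1) (Rng.zero.step tc767_2)
theorem tw759 : Tow.{u} l759 t759 := tow_of tc759_0 (Rng.zero.step tc759_1) (Rng.zero.step tc759_2)
theorem tw760 : Tow.{u} l760 t760 := tow_of tc760_0 (Rng.zero.step tc760_1) (Rng.zero.step tc760_2)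
theorem tw761 : Tow.{u} l761 t761 := tow_of tc761_0 (Rng.zero.step tc761_1) (Rng.zero.step tc761_2)
theorem tw762 : Tow.{u} l762 t762 := tow_of tc762_0 (Rng.zero.step tc762_1) (Rng.zero.step tc762_2)
theorem tw763 : Tow.{u} l763 t763 := tow_of tc763_0 (Rng.zero.step tc763_1) (Rng.zero.step tc763_2)
theorem tw764 : Tow.{u} l764 t764 := tow_of tc764_0 (Rng.zero.step tc764_1) (Rng.zero.step tc764_2)
theorem tw765 : Tow.{u} l765 t765 := tow_of tc765_0 (Rng.zero.step tc765_1) (Rng.zero.step tc765_2)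
theorem tw766 : Tow.{u} l766 t766 := tow_of tc766_0 (Rng.zero.step tc766_1) (Rng.zero.step tc766_2)
theorem tw768 : Tow.{u} l768 t768 := tow_of tc768_0 (Rng.zero.step tc768_1) (Rng.zero.step tc768_2)
theorem tw769 : Tow.{u} l769 t769 := tow_of tc769_0 (Rng.zero.step tc769_1) (Rng.zero.step tc769_2)
theorem tw784 : Tow.{u} l784 t784 := tow_of tc784_0 (Rng.zero.step tc784_1) (Rng.zero.step tc784_2)
theorem tw770 : Tow.{u} l770 t770 := tow_of tc770_0 (Rng.zero.step tc770_1) (Rng.zero.step tc770_2)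
theorem tw771 : Tow.{u} l771 t771 := tow_of tc771_0 (Rng.zero.step tc771_1) (Rng.zero.step tc771_2)
theorem tw772 : Tow.{u} l772 t772 := tow_of tc772_0 (Rng.zero.step tc772_1) (Rng.zero.step tc772_2)
theorem tw773 : Tow.{u} l773 t773 := tow_of tc773_0 (Rng.zero.step tc773_1) (Rng.zero.step tc773_2)
theorem tw774 : Tow.{u} l774 t774 := tow_of tc774_0 (Rng.zero.step tc774_1) (Rng.zero.step tc774_2)
theorem tw775 : Tow.{u} l775 t775 := tow_of tc775_0 (Rng.zero.step tc775_1) (Rng.zero.step tc775_2)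
theorem tw776 : Tow.{u} l776 t776 := tow_of tc776_0 (Rng.zero.step tc776_1) (Rng.zero.step tc776_2)
theorem tw777 : Tow.{u} l777 t777 := tow_of tc777_0 (Rng.zero.step tc777_1) (Rng.zero.step tc777_2)
theorem tw778 : Tow.{u} l778 t778 := tow_of tc778_0 (Rng.zero.step tc778_1) (Rng.zero.step tc778_2)
theorem tw779 : Tow.{u} l779 t779 := tow_of tc779_0 (Rng.zero.step tc779_1) (Rng.zero.step tc779_2)
theorem tw780 : Tow.{u} l780 t780 := tow_of tc780_0 (Rng.zero.step tc780_1) (Rng.zero.step tc780_2)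
theorem tw781 : Tow.{u} l781 t781 := tow_of tc781_0 (Rng.zero.step tc781_1) (Rng.zero.step tc781_2)
theorem tw782 : Tow.{u} l782 t782 := tow_of tc782_0 (Rng.zero.step tc782_1) (Rng.zero.step tc782_2)
theorem tw783 : Tow.{u} l783 t783 := tow_of tc783_0 (Rng.zero.step tc783_1) (Rng.zero.step tc783_2)
theorem tw747 : Tow.{u} l747 t747 := tow_of tc747_0 (Rng.zero.step tc747_1) (Rng.zero.step tc747_2)
theorem tw748 : Tow.{u} l748 t748 := tow_of tc748_0 (Rng.zero.step tc748_1) (Rng.zero.step tc748_2)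
theorem tw749 : Tow.{u} l749 t749 := tow_of tc749_0 (Rng.zero.step tc749_1) (Rng.zero.step tc749_2)
theorem tw750 : Tow.{u} l750 t750 := tow_of tc750_0 (Rng.zero.step tc750_1) (Rng.zero.step tc750_2)
theorem tw516 : Tow.{u} l516 t516 := tow_of tc516_0 (Rng.zero.step tc516_1) (Rng.zero.step tc516_2)
theorem tw734 : Tow.{u} l734 t734 := tow_of tc734_0 (Rng.zero.step tc734_1) (Rng.zero.step tc734_2)
theorem tw517 : Tow.{u} l517 t517 := tow_of tc517_0 (Rng.zero.step tc517_1) (Rng.zero.step tc517_2)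
theorem tw17 : Tow.{u} l17 t17 := tow_of tc17_0 (Rng.zero.step tc17_1) (Rng.zero.step tc17_2)
theorem tw801 : Tow.{u} l801 t801 := tow_of tc801_0 (Rng.zero.step tc801_1) (Rng.zero.step tc801_2)
theorem tw802 : Tow.{u} l802 t802 := tow_of tc802_0 (Rng.zero.step tc802_1) (Rng.zero.step tc802_2)
theorem tw803 : Tow.{u} l803 t803 := tow_of tc803_0 (Rng.zero.step tc803_1) (Rng.zero.step tc803_2)
theorem tw804 : Tow.{u} l804 t804 := tow_of tc804_0 (Rng.zero.step tc804_1) (Rng.zero.step tc804_2)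
theorem tw805 : Tow.{u} l805 t805 := tow_of tc805_0 (Rng.zero.step tc805_1) (Rng.zero.step tc805_2)
theorem tw806 : Tow.{u} l806 t806 := tow_of tc806_0 (Rng.zero.step tc806_1) (Rng.zero.step tc806_2)
theorem tw807 : Tow.{u} l807 t807 := tow_of tc807_0 (Rng.zero.step tc807_1) (Rng.zero.step tc807_2)
theorem tw808 : Tow.{u} l808 t808 := tow_of tc808_0 (Rng.zero.step tc808_1) (Rng.zero.step tc808_2)
theorem tw809 : Tow.{u} l809 t809 := tow_of tc809_0 (Rng.zero.step tc809_1) (Rng.zero.step tc809_2)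
theorem tw810 : Tow.{u} l810 t810 := tow_of tc810_0 (Rng.zero.step tc810_1) (Rng.zero.step tc810_2)
theorem tw811 : Tow.{u} l811 t811 := tow_of tc811_0 (Rng.zero.step tc811_1) (Rng.zero.step tc811_2)
theorem tw812 : Tow.{u} l812 t812 := tow_of tc812_0 (Rng.zero.step tc812_1) (Rng.zero.step tc812_2)
theorem tw813 : Tow.{u} l813 t813 := tow_of tc813_0 (Rng.zero.step tc813_1) (Rng.zero.step tc813_2)
theorem tw814 : Tow.{u} l814 t814 := tow_of tc814_0 (Rng.zero.step tc814_1) (Rng.zero.step tc814_2)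
theorem tw815 : Tow.{u} l815 t815 := tow_of tc815_0 (Rng.zero.step tc815_1) (Rng.zero.step tc815_2)
theorem tw816 : Tow.{u} l816 t816 := tow_of tc816_0 (Rng.zero.step tc816_1) (Rng.zero.step tc816_2)
theorem tw785 : Tow.{u} l785 t785 := tow_of tc785_0 (Rng.zero.step tc785_1) (Rng.zero.step tc785_2)
theorem tw817 : Tow.{u} l817 t817 := tow_of tc817_0 (Rng.zero.step tc817_1) (Rng.zero.step tc817_2)
theorem tw818 : Tow.{u} l818 t818 := tow_of tc818_0 (Rng.zero.step tc818_1) (Rng.zero.step tc818_2)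
theorem tw819 : Tow.{u} l819 t819 := tow_of tc819_0 (Rng.zero.step tc819_1) (Rng.zero.step tc819_2)
theorem tw820 : Tow.{u} l820 t820 := tow_of tc820_0 (Rng.zero.step tc820_1) (Rng.zero.step tc820_2)
theorem tw821 : Tow.{u} l821 t821 := tow_of tc821_0 (Rng.zero.step tc821_1) (Rng.zero.step tc821_2)
theorem tw822 : Tow.{u} l822 t822 := tow_of tc822_0 (Rng.zero.step tc822_1) (Rng.zero.step tc822_2)
theorem tw823 : Tow.{u} l823 t823 := tow_of tc823_0 (Rng.zero.step tc823_1) (Rng.zero.step tc823_2)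
theorem tw824 : Tow.{u} l824 t824 := tow_of tc824_0 (Rng.zero.step tc824_1) (Rng.zero.step tc824_2)
theorem tw825 : Tow.{u} l825 t825 := tow_of tc825_0 (Rng.zero.step tc825_1) (Rng.zero.step tc825_2)
theorem tw826 : Tow.{u} l826 t826 := tow_of tc826_0 (Rng.zero.step tc826_1) (Rng.zero.step tc826_2)
theorem tw827 : Tow.{u} l827 t827 := tow_of tc827_0 (Rng.zero.step tc827_1) (Rng.zero.step tc827_2)
theorem tw828 : Tow.{u} l828 t828 := tow_of tc828_0 (Rng.zero.step tc828_1) (Rng.zero.step tc828_2)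
theorem tw829 : Tow.{u} l829 t829 := tow_of tc829_0 (Rng.zero.step tc829_1) (Rng.zero.step tc829_2)
theorem tw830 : Tow.{u} l830 t830 := tow_of tc830_0 (Rng.zero.step tc830_1) (Rng.zero.step tc830_2)
theorem tw831 : Tow.{u} l831 t831 := tow_of tc831_0 (Rng.zero.step tc831_1) (Rng.zero.step tc831_2)
theorem tw832 : Tow.{u} l832 t832 := tow_of tc832_0 (Rng.zero.step tc832_1) (Rng.zero.step tc832_2)
theorem tw786 : Tow.{u} l786 t786 := tow_of tc786_0 (Rng.zero.step tc786_1) (Rng.zero.step tc786_2)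
theorem tw787 : Tow.{u} l787 t787 := tow_of tc787_0 (Rng.zero.step tc787_1) (Rng.zero.step tc787_2)
theorem tw788 : Tow.{u} l788 t788 := tow_of tc788_0 (Rng.zero.step tc788_1) (Rng.zero.step tc788_2)
theorem tw833 : Tow.{u} l833 t833 := tow_of tc833_0 (Rng.zero.step tc833_1) (Rng.zero.step tc833_2)
theorem tw834 : Tow.{u} l834 t834 := tow_of tc834_0 (Rng.zero.step tc834_1) (Rng.zero.step tc834_2)
theorem tw835 : Tow.{u} l835 t835 := tow_of tc835_0 (Rng.zero.step tc835_1) (Rng.zero.step tc835_2)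
theorem tw836 : Tow.{u} l836 t836 := tow_of tc836_0 (Rng.zero.step tc836_1) (Rng.zero.step tc836_2)
theorem tw837 : Tow.{u} l837 t837 := tow_of tc837_0 (Rng.zero.step tc837_1) (Rng.zero.step tc837_2)
theorem tw838 : Tow.{u} l838 t838 := tow_of tc838_0 (Rng.zero.step tc838_1) (Rng.zero.step tc838_2)
theorem tw839 : Tow.{u} l839 t839 := tow_of tc839_0 (Rng.zero.step tc839_1) (Rng.zero.step tc839_2)
theorem tw840 : Tow.{u} l840 t840 := tow_of tc840_0 (Rng.zero.step tc840_1) (Rng.zero.step tc840_2)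
theorem tw841 : Tow.{u} l841 t841 := tow_of tc841_0 (Rng.zero.step tc841_1) (Rng.zero.step tc841_2)
theorem tw842 : Tow.{u} l842 t842 := tow_of tc842_0 (Rng.zero.step tc842_1) (Rng.zero.step tc842_2)
theorem tw843 : Tow.{u} l843 t843 := tow_of tc843_0 (Rng.zero.step tc843_1) (Rng.zero.step tc843_2)
theorem tw844 : Tow.{u} l844 t844 := tow_of tc844_0 (Rng.zero.step tc844_1) (Rng.zero.step tc844_2)
theorem tw845 : Tow.{u} l845 t845 := tow_of tc845_0 (Rng.zero.step tc845_1) (Rng.zero.step tc845_2)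
theorem tw846 : Tow.{u} l846 t846 := tow_of tc846_0 (Rng.zero.step tc846_1) (Rng.zero.step tc846_2)
theorem tw847 : Tow.{u} l847 t847 := tow_of tc847_0 (Rng.zero.step tc847_1) (Rng.zero.step tc847_2)
theorem tw848 : Tow.{u} l848 t848 := tow_of tc848_0 (Rng.zero.step tc848_1) (Rng.zero.step tc848_2)
theorem tw789 : Tow.{u} l789 t789 := tow_of tc789_0 (Rng.zero.step tc789_1) (Rng.zero.step tc789_2)
theorem tw849 : Tow.{u} l849 t849 := tow_of tc849_0 (Rng.zero.step tc849_1) (Rng.zero.step tc849_2)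
theorem tw850 : Tow.{u} l850 t850 := tow_of tc850_0 (Rng.zero.step tc850_1) (Rng.zero.step tc850_2)
theorem tw851 : Tow.{u} l851 t851 := tow_of tc851_0 (Rng.zero.step tc851_1) (Rng.zero.step tc851_2)
theorem tw852 : Tow.{u} l852 t852 := tow_of tc852_0 (Rng.zero.step tc852_1) (Rng.zero.step tc852_2)
theorem tw853 : Tow.{u} l853 t853 := tow_of tc853_0 (Rng.zero.step tc853_1) (Rng.zero.step tc853_2)
theorem tw854 : Tow.{u} l854 t854 := tow_of tc854_0 (Rng.zero.step tc854_1) (Rng.zero.step tc854_2)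
theorem tw855 : Tow.{u} l855 t855 := tow_of tc855_0 (Rng.zero.step tc855_1) (Rng.zero.step tc855_2)
theorem tw856 : Tow.{u} l856 t856 := tow_of tc856_0 (Rng.zero.step tc856_1) (Rng.zero.step tc856_2)
theorem tw857 : Tow.{u} l857 t857 := tow_of tc857_0 (Rng.zero.step tc857_1) (Rng.zero.step tc857_2)
theorem tw858 : Tow.{u} l858 t858 := tow_of tc858_0 (Rng.zero.step tc858_1) (Rng.zero.step tc858_2)
theorem tw859 : Tow.{u} l859 t859 := tow_of tc859_0 (Rng.zero.step tc859_1) (Rng.zero.step tc859_2)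
theorem tw860 : Tow.{u} l860 t860 := tow_of tc860_0 (Rng.zero.step tc860_1) (Rng.zero.step tc860_2)
theorem tw861 : Tow.{u} l861 t861 := tow_of tc861_0 (Rng.zero.step tc861_1) (Rng.zero.step tc861_2)
theorem tw862 : Tow.{u} l862 t862 := tow_of tc862_0 (Rng.zero.step tc862_1) (Rng.zero.step tc862_2)
theorem tw863 : Tow.{u} l863 t863 := tow_of tc863_0 (Rng.zero.step tc863_1) (Rng.zero.step tc863_2)
theorem tw864 : Tow.{u} l864 t864 := tow_of tc864_0 (Rng.zero.step tc864_1) (Rng.zero.step tc864_2)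
theorem tw790 : Tow.{u} l790 t790 := tow_of tc790_0 (Rng.zero.step tc790_1) (Rng.zero.step tc790_2)
theorem tw791 : Tow.{u} l791 t791 := tow_of tc791_0 (Rng.zero.step tc791_1) (Rng.zero.step tc791_2)
theorem tw792 : Tow.{u} l792 t792 := tow_of tc792_0 (Rng.zero.step tc792_1) (Rng.zero.step tc792_2)
theorem tw793 : Tow.{u} l793 t793 := tow_of tc793_0 (Rng.zero.step tc793_1) (Rng.zero.step tc793_2)
theorem tw794 : Tow.{u} l794 t794 := tow_of tc794_0 (Rng.zero.step tc794_1) (Rng.zero.step tc794_2)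
theorem tw795 : Tow.{u} l795 t795 := tow_of tc795_0 (Rng.zero.step tc795_1) (Rng.zero.step tc795_2)
theorem tw796 : Tow.{u} l796 t796 := tow_of tc796_0 (Rng.zero.step tc796_1) (Rng.zero.step tc796_2)
theorem tw797 : Tow.{u} l797 t797 := tow_of tc797_0 (Rng.zero.step tc797_1) (Rng.zero.step tc797_2)
theorem tw798 : Tow.{u} l798 t798 := tow_of tc798_0 (Rng.zero.step tc798_1) (Rng.zero.step tc798_2)
theorem tw799 : Tow.{u} l799 t799 := tow_of tc799_0 (Rng.zero.step tc799_1) (Rng.zero.step tc799_2)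
theorem tw800 : Tow.{u} l800 t800 := tow_of tc800_0 (Rng.zero.step tc800_1) (Rng.zero.step tc800_2)
theorem tw18 : Tow.{u} l18 t18 := tow_of tc18_0 (Rng.zero.step tc18_1) (Rng.zero.step tc18_2)
theorem tw19 : Tow.{u} l19 t19 := tow_of tc19_0 (Rng.zero.step tc19_1) (Rng.zero.step tc19_2)
theorem tw20 : Tow.{u} l20 t20 := tow_of tc20_0 (Rng.zero.step tc20_1) (Rng.zero.step tc20_2)
theorem tw865 : Tow.{u} l865 t865 := tow_of tc865_0 (Rng.zero.step tc865_1) (Rng.zero.step tc865_2)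
theorem tw866 : Tow.{u} l866 t866 := tow_of tc866_0 (Rng.zero.step tc866_1) (Rng.zero.step tc866_2)
theorem tw867 : Tow.{u} l867 t867 := tow_of tc867_0 (Rng.zero.step tc867_1) (Rng.zero.step tc867_2)
theorem tw881 : Tow.{u} l881 t881 := tow_of tc881_0 (Rng.zero.step tc881_1) (Rng.zero.step tc881_2)
theorem tw882 : Tow.{u} l882 t882 := tow_of tc882_0 (Rng.zero.step tc882_1) (Rng.zero.step tc882_2)
theorem tw883 : Tow.{u} l883 t883 := tow_of tc883_0 (Rng.zero.step tc883_1) (Rng.zero.step tc883_2)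
theorem tw897 : Tow.{u} l897 t897 := tow_of tc897_0 (Rng.zero.step tc897_1) (Rng.zero.step tc897_2)
theorem tw900 : Tow.{u} l900 t900 := tow_of tc900_0 (Rng.zero.step tc900_1) (Rng.zero.step tc900_2)
theorem tw901 : Tow.{u} l901 t901 := tow_of tc901_0 (Rng.zero.step tc901_1) (Rng.zero.step tc901_2)
theorem tw902 : Tow.{u} l902 t902 := tow_of tc902_0 (Rng.zero.step tc902_1) (Rng.zero.step tc902_2)
theorem tw903 : Tow.{u} l903 t903 := tow_of tc903_0 (Rng.zero.step tc903_1) (Rng.zero.step tc903_2)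
theorem tw898 : Tow.{u} l898 t898 := tow_of tc898_0 (Rng.zero.step tc898_1) (Rng.zero.step tc898_2)
theorem tw904 : Tow.{u} l904 t904 := tow_of tc904_0 (Rng.zero.step tc904_1) (Rng.zero.step tc904_2)
theorem tw905 : Tow.{u} l905 t905 := tow_of tc905_0 (Rng.zero.step tc905_1) (Rng.zero.step tc905_2)
theorem tw906 : Tow.{u} l906 t906 := tow_of tc906_0 (Rng.zero.step tc906_1) (Rng.zero.step tc906_2)
theorem tw907 : Tow.{u} l907 t907 := tow_of tc907_0 (Rng.zero.step tc907_1) (Rng.zero.step tc907_2)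
theorem tw899 : Tow.{u} l899 t899 := tow_of tc899_0 (Rng.zero.step tc899_1) (Rng.zero.step tc899_2)
theorem tw868 : Tow.{u} l868 t868 := tow_of tc868_0 (Rng.zero.step tc868_1) (Rng.zero.step tc868_2)
theorem tw884 : Tow.{u} l884 t884 := tow_of tc884_0 (Rng.zero.step tc884_1) (Rng.zero.step tc884_2)
theorem tw885 : Tow.{u} l885 t885 := tow_of tc885_0 (Rng.zero.step tc885_1) (Rng.zero.step tc885_2)
theorem tw886 : Tow.{u} l886 t886 := tow_of tc886_0 (Rng.zero.step tc886_1) (Rng.zero.step tc886_2)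
theorem tw887 : Tow.{u} l887 t887 := tow_of tc887_0 (Rng.zero.step tc887_1) (Rng.zero.step tc887_2)
theorem tw888 : Tow.{u} l888 t888 := tow_of tc888_0 (Rng.zero.step tc888_1) (Rng.zero.step tc888_2)
theorem tw889 : Tow.{u} l889 t889 := tow_of tc889_0 (Rng.zero.step tc889_1) (Rng.zero.step tc889_2)
theorem tw890 : Tow.{u} l890 t890 := tow_of tc890_0 (Rng.zero.step tc890_1) (Rng.zero.step tc890_2)
theorem tw891 : Tow.{u} l891 t891 := tow_of tc891_0 (Rng.zero.step tc891_1) (Rng.zero.step tc891_2)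
theorem tw892 : Tow.{u} l892 t892 := tow_of tc892_0 (Rng.zero.step tc892_1) (Rng.zero.step tc892_2)
theorem tw893 : Tow.{u} l893 t893 := tow_of tc893_0 (Rng.zero.step tc893_1) (Rng.zero.step tc893_2)
theorem tw894 : Tow.{u} l894 t894 := tow_of tc894_0 (Rng.zero.step tc894_1) (Rng.zero.step tc894_2)
theorem tw895 : Tow.{u} l895 t895 := tow_of tc895_0 (Rng.zero.step tc895_1) (Rng.zero.step tc895_2)
theorem tw896 : Tow.{u} l896 t896 := tow_of tc896_0 (Rng.zero.step tc896_1) (Rng.zero.step tc896_2)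
theorem tw869 : Tow.{u} l869 t869 := tow_of tc869_0 (Rng.zero.step tc869_1) (Rng.zero.step tc869_2)
theorem tw870 : Tow.{u} l870 t870 := tow_of tc870_0 (Rng.zero.step tc870_1) (Rng.zero.step tc870_2)
theorem tw908 : Tow.{u} l908 t908 := tow_of tc908_0 (Rng.zero.step tc908_1) (Rng.zero.step tc908_2)
theorem tw909 : Tow.{u} l909 t909 := tow_of tc909_0 (Rng.zero.step tc909_1) (Rng.zero.step tc909_2)
theorem tw871 : Tow.{u} l871 t871 := tow_of tc871_0 (Rng.zero.step tc871_1) (Rng.zero.step tc871_2)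
theorem tw910 : Tow.{u} l910 t910 := tow_of tc910_0 (Rng.zero.step tc910_1) (Rng.zero.step tc910_2)
theorem tw911 : Tow.{u} l911 t911 := tow_of tc911_0 (Rng.zero.step tc911_1) (Rng.zero.step tc911_2)
theorem tw912 : Tow.{u} l912 t912 := tow_of tc912_0 (Rng.zero.step tc912_1) (Rng.zero.step tc912_2)
theorem tw913 : Tow.{u} l913 t913 := tow_of tc913_0 (Rng.zero.step tc913_1) (Rng.zero.step tc913_2)
theorem tw914 : Tow.{u} l914 t914 := tow_of tc914_0 (Rng.zero.step tc914_1) (Rng.zero.step tc914_2)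
theorem tw915 : Tow.{u} l915 t915 := tow_of tc915_0 (Rng.zero.step tc915_1) (Rng.zero.step tc915_2)
theorem tw916 : Tow.{u} l916 t916 := tow_of tc916_0 (Rng.zero.step tc916_1) (Rng.zero.step tc916_2)
theorem tw917 : Tow.{u} l917 t917 := tow_of tc917_0 (Rng.zero.step tc917_1) (Rng.zero.step tc917_2)
theorem tw918 : Tow.{u} l918 t918 := tow_of tc918_0 (Rng.zero.step tc918_1) (Rng.zero.step tc918_2)
theorem tw919 : Tow.{u} l919 t919 := tow_of tc919_0 (Rng.zero.step tc919_1) (Rng.zero.step tc919_2)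
theorem tw920 : Tow.{u} l920 t920 := tow_of tc920_0 (Rng.zero.step tc920_1) (Rng.zero.step tc920_2)
theorem tw921 : Tow.{u} l921 t921 := tow_of tc921_0 (Rng.zero.step tc921_1) (Rng.zero.step tc921_2)
theorem tw922 : Tow.{u} l922 t922 := tow_of tc922_0 (Rng.zero.step tc922_1) (Rng.zero.step tc922_2)
theorem tw923 : Tow.{u} l923 t923 := tow_of tc923_0 (Rng.zero.step tc923_1) (Rng.zero.step tc923_2)
theorem tw924 : Tow.{u} l924 t924 := tow_of tc924_0 (Rng.zero.step tc924_1) (Rng.zero.step tc924_2)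
theorem tw925 : Tow.{u} l925 t925 := tow_of tc925_0 (Rng.zero.step tc925_1) (Rng.zero.step tc925_2)
theorem tw926 : Tow.{u} l926 t926 := tow_of tc926_0 (Rng.zero.step tc926_1) (Rng.zero.step tc926_2)
theorem tw872 : Tow.{u} l872 t872 := tow_of tc872_0 (Rng.zero.step tc872_1) (Rng.zero.step tc872_2)
theorem tw927 : Tow.{u} l927 t927 := tow_of tc927_0 (Rng.zero.step tc927_1) (Rng.zero.step tc927_2)
theorem tw928 : Tow.{u} l928 t928 := tow_of tc928_0 (Rng.zero.step tc928_1) (Rng.zero.step tc928_2)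
theorem tw929 : Tow.{u} l929 t929 := tow_of tc929_0 (Rng.zero.step tc929_1) (Rng.zero.step tc929_2)
theorem tw930 : Tow.{u} l930 t930 := tow_of tc930_0 (Rng.zero.step tc930_1) (Rng.zero.step tc930_2)
theorem tw931 : Tow.{u} l931 t931 := tow_of tc931_0 (Rng.zero.step tc931_1) (Rng.zero.step tc931_2)
theorem tw932 : Tow.{u} l932 t932 := tow_of tc932_0 (Rng.zero.step tc932_1) (Rng.zero.step tc932_2)
theorem tw933 : Tow.{u} l933 t933 := tow_of tc933_0 (Rng.zero.step tc933_1) (Rng.zero.step tc933_2)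
theorem tw934 : Tow.{u} l934 t934 := tow_of tc934_0 (Rng.zero.step tc934_1) (Rng.zero.step tc934_2)
theorem tw935 : Tow.{u} l935 t935 := tow_of tc935_0 (Rng.zero.step tc935_1) (Rng.zero.step tc935_2)
theorem tw936 : Tow.{u} l936 t936 := tow_of tc936_0 (Rng.zero.step tc936_1) (Rng.zero.step tc936_2)
theorem tw937 : Tow.{u} l937 t937 := tow_of tc937_0 (Rng.zero.step tc937_1) (Rng.zero.step tc937_2)
theorem tw938 : Tow.{u} l938 t938 := tow_of tc938_0 (Rng.zero.step tc938_1) (Rng.zero.step tc938_2)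
theorem tw939 : Tow.{u} l939 t939 := tow_of tc939_0 (Rng.zero.step tc939_1) (Rng.zero.step tc939_2)
theorem tw873 : Tow.{u} l873 t873 := tow_of tc873_0 (Rng.zero.step tc873_1) (Rng.zero.step tc873_2)
theorem tw874 : Tow.{u} l874 t874 := tow_of tc874_0 (Rng.zero.step tc874_1) (Rng.zero.step tc874_2)
theorem tw875 : Tow.{u} l875 t875 := tow_of tc875_0 (Rng.zero.step tc875_1) (Rng.zero.step tc875_2)
theorem tw876 : Tow.{u} l876 t876 := tow_of tc876_0 (Rng.zero.step tc876_1) (Rng.zero.step tc876_2)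
theorem tw877 : Tow.{u} l877 t877 := tow_of tc877_0 (Rng.zero.step tc877_1) (Rng.zero.step tc877_2)
theorem tw878 : Tow.{u} l878 t878 := tow_of tc878_0 (Rng.zero.step tc878_1) (Rng.zero.step tc878_2)
theorem tw941 : Tow.{u} l941 t941 := tow_of tc941_0 (Rng.zero.step tc941_1) (Rng.zero.step tc941_2)
theorem tw942 : Tow.{u} l942 t942 := tow_of tc942_0 (Rng.zero.step tc942_1) (Rng.zero.step tc942_2)
theorem tw943 : Tow.{u} l943 t943 := tow_of tc943_0 (Rng.zero.step tc943_1) (Rng.zero.step tc943_2)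
theorem tw944 : Tow.{u} l944 t944 := tow_of tc944_0 (Rng.zero.step tc944_1) (Rng.zero.step tc944_2)
theorem tw879 : Tow.{u} l879 t879 := tow_of tc879_0 (Rng.zero.step tc879_1) (Rng.zero.step tc879_2)
theorem tw940 : Tow.{u} l940 t940 := tow_of tc940_0 (Rng.zero.step tc940_1) (Rng.zero.step tc940_2)
theorem tw880 : Tow.{u} l880 t880 := tow_of tc880_0 (Rng.zero.step tc880_1) (Rng.zero.step tc880_2)
theorem tw21 : Tow.{u} l21 t21 := tow_of tc21_0 (Rng.zero.step tc21_1) (Rng.zero.step tc21_2)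
theorem tw22 : Tow.{u} l22 t22 := tow_of tc22_0 (Rng.zero.step tc22_1) (Rng.zero.step tc22_2)
theorem tw23 : Tow.{u} l23 t23 := tow_of tc23_0 (Rng.zero.step tc23_1) (Rng.zero.step tc23_2)
theorem tw24 : Tow.{u} l24 t24 := tow_of tc24_0 (Rng.zero.step tc24_1) (Rng.zero.step tc24_2)
theorem tw1009 : Tow.{u} l1009 t1009 := tow_of tc1009_0 (Rng.zero.step tc1009_1) (Rng.zero.step tc1009_2)
theorem tw1010 : Tow.{u} l1010 t1010 := tow_of tc1010_0 (Rng.zero.step tc1010_1) (Rng.zero.step tc1010_2)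
theorem tw1011 : Tow.{u} l1011 t1011 := tow_of tc1011_0 (Rng.zero.step tc1011_1) (Rng.zero.step tc1011_2)
theorem tw1012 : Tow.{u} l1012 t1012 := tow_of tc1012_0 (Rng.zero.step tc1012_1) (Rng.zero.step tc1012_2)
theorem tw1013 : Tow.{u} l1013 t1013 := tow_of tc1013_0 (Rng.zero.step tc1013_1) (Rng.zero.step tc1013_2)
theorem tw1014 : Tow.{u} l1014 t1014 := tow_of tc1014_0 (Rng.zero.step tc1014_1) (Rng.zero.step tc1014_2)
theorem tw1015 : Tow.{u} l1015 t1015 := tow_of tc1015_0 (Rng.zero.step tc1015_1) (Rng.zero.step tc1015_2)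
theorem tw1016 : Tow.{u} l1016 t1016 := tow_of tc1016_0 (Rng.zero.step tc1016_1) (Rng.zero.step tc1016_2)
theorem tw1017 : Tow.{u} l1017 t1017 := tow_of tc1017_0 (Rng.zero.step tc1017_1) (Rng.zero.step tc1017_2)
theorem tw1018 : Tow.{u} l1018 t1018 := tow_of tc1018_0 (Rng.zero.step tc1018_1) (Rng.zero.step tc1018_2)
theorem tw1019 : Tow.{u} l1019 t1019 := tow_of tc1019_0 (Rng.zero.step tc1019_1) (Rng.zero.step tc1019_2)
theorem tw1020 : Tow.{u} l1020 t1020 := tow_of tc1020_0 (Rng.zero.step tc1020_1) (Rng.zero.step tc1020_2)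
theorem tw1021 : Tow.{u} l1021 t1021 := tow_of tc1021_0 (Rng.zero.step tc1021_1) (Rng.zero.step tc1021_2)
theorem tw1022 : Tow.{u} l1022 t1022 := tow_of tc1022_0 (Rng.zero.step tc1022_1) (Rng.zero.step tc1022_2)
theorem tw1023 : Tow.{u} l1023 t1023 := tow_of tc1023_0 (Rng.zero.step tc1023_1) (Rng.zero.step tc1023_2)
theorem tw1024 : Tow.{u} l1024 t1024 := tow_of tc1024_0 (Rng.zero.step tc1024_1) (Rng.zero.step tc1024_2)
theorem tw977 : Tow.{u} l977 t977 := tow_of tc977_0 (Rng.zero.step tc977_1) (Rng.zero.step tc977_2)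
theorem tw978 : Tow.{u} l978 t978 := tow_of tc978_0 (Rng.zero.step tc978_1) (Rng.zero.step tc978_2)
theorem tw979 : Tow.{u} l979 t979 := tow_of tc979_0 (Rng.zero.step tc979_1) (Rng.zero.step tc979_2)
theorem tw980 : Tow.{u} l980 t980 := tow_of tc980_0 (Rng.zero.step tc980_1) (Rng.zero.step tc980_2)
theorem tw981 : Tow.{u} l981 t981 := tow_of tc981_0 (Rng.zero.step tc981_1) (Rng.zero.step tc981_2)
theorem tw982 : Tow.{u} l982 t982 := tow_of tc982_0 (Rng.zero.step tc982_1) (Rng.zero.step tc982_2)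
theorem tw983 : Tow.{u} l983 t983 := tow_of tc983_0 (Rng.zero.step tc983_1) (Rng.zero.step tc983_2)
theorem tw984 : Tow.{u} l984 t984 := tow_of tc984_0 (Rng.zero.step tc984_1) (Rng.zero.step tc984_2)
theorem tw985 : Tow.{u} l985 t985 := tow_of tc985_0 (Rng.zero.step tc985_1) (Rng.zero.step tc985_2)
theorem tw986 : Tow.{u} l986 t986 := tow_of tc986_0 (Rng.zero.step tc986_1) (Rng.zero.step tc986_2)
theorem tw987 : Tow.{u} l987 t987 := tow_of tc987_0 (Rng.zero.step tc987_1) (Rng.zero.step tc987_2)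
theorem tw988 : Tow.{u} l988 t988 := tow_of tc988_0 (Rng.zero.step tc988_1) (Rng.zero.step tc988_2)
theorem tw989 : Tow.{u} l989 t989 := tow_of tc989_0 (Rng.zero.step tc989_1) (Rng.zero.step tc989_2)
theorem tw990 : Tow.{u} l990 t990 := tow_of tc990_0 (Rng.zero.step tc990_1) (Rng.zero.step tc990_2)
theorem tw991 : Tow.{u} l991 t991 := tow_of tc991_0 (Rng.zero.step tc991_1) (Rng.zero.step tc991_2)
theorem tw992 : Tow.{u} l992 t992 := tow_of tc992_0 (Rng.zero.step tc992_1) (Rng.zero.step tc992_2)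
theorem tw993 : Tow.{u} l993 t993 := tow_of tc993_0 (Rng.zero.step tc993_1) (Rng.zero.step tc993_2)
theorem tw1025 : Tow.{u} l1025 t1025 := tow_of tc1025_0 (Rng.zero.step tc1025_1) (Rng.zero.step tc1025_2)
theorem tw1026 : Tow.{u} l1026 t1026 := tow_of tc1026_0 (Rng.zero.step tc1026_1) (Rng.zero.step tc1026_2)
theorem tw1027 : Tow.{u} l1027 t1027 := tow_of tc1027_0 (Rng.zero.step tc1027_1) (Rng.zero.step tc1027_2)
theorem tw1028 : Tow.{u} l1028 t1028 := tow_of tc1028_0 (Rng.zero.step tc1028_1) (Rng.zero.step tc1028_2)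
theorem tw1029 : Tow.{u} l1029 t1029 := tow_of tc1029_0 (Rng.zero.step tc1029_1) (Rng.zero.step tc1029_2)
theorem tw1030 : Tow.{u} l1030 t1030 := tow_of tc1030_0 (Rng.zero.step tc1030_1) (Rng.zero.step tc1030_2)
theorem tw1031 : Tow.{u} l1031 t1031 := tow_of tc1031_0 (Rng.zero.step tc1031_1) (Rng.zero.step tc1031_2)
theorem tw1032 : Tow.{u} l1032 t1032 := tow_of tc1032_0 (Rng.zero.step tc1032_1) (Rng.zero.step tc1032_2)
theorem tw994 : Tow.{u} l994 t994 := tow_of tc994_0 (Rng.zero.step tc994_1) (Rng.zero.step tc994_2)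
theorem tw995 : Tow.{u} l995 t995 := tow_of tc995_0 (Rng.zero.step tc995_1) (Rng.zero.step tc995_2)
theorem tw996 : Tow.{u} l996 t996 := tow_of tc996_0 (Rng.zero.step tc996_1) (Rng.zero.step tc996_2)
theorem tw997 : Tow.{u} l997 t997 := tow_of tc997_0 (Rng.zero.step tc997_1) (Rng.zero.step tc997_2)
theorem tw998 : Tow.{u} l998 t998 := tow_of tc998_0 (Rng.zero.step tc998_1) (Rng.zero.step tc998_2)
theorem tw999 : Tow.{u} l999 t999 := tow_of tc999_0 (Rng.zero.step tc999_1) (Rng.zero.step tc999_2)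
theorem tw1000 : Tow.{u} l1000 t1000 := tow_of tc1000_0 (Rng.zero.step tc1000_1) (Rng.zero.step tc1000_2)
theorem tw1001 : Tow.{u} l1001 t1001 := tow_of tc1001_0 (Rng.zero.step tc1001_1) (Rng.zero.step tc1001_2)
theorem tw1002 : Tow.{u} l1002 t1002 := tow_of tc1002_0 (Rng.zero.step tc1002_1) (Rng.zero.step tc1002_2)
theorem tw1003 : Tow.{u} l1003 t1003 := tow_of tc1003_0 (Rng.zero.step tc1003_1) (Rng.zero.step tc1003_2)
theorem tw1004 : Tow.{u} l1004 t1004 := tow_of tc1004_0 (Rng.zero.step tc1004_1) (Rng.zero.step tc1004_2)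
theorem tw1005 : Tow.{u} l1005 t1005 := tow_of tc1005_0 (Rng.zero.step tc1005_1) (Rng.zero.step tc1005_2)
theorem tw1006 : Tow.{u} l1006 t1006 := tow_of tc1006_0 (Rng.zero.step tc1006_1) (Rng.zero.step tc1006_2)
theorem tw1007 : Tow.{u} l1007 t1007 := tow_of tc1007_0 (Rng.zero.step tc1007_1) (Rng.zero.step tc1007_2)
theorem tw1008 : Tow.{u} l1008 t1008 := tow_of tc1008_0 (Rng.zero.step tc1008_1) (Rng.zero.step tc1008_2)
theorem tw945 : Tow.{u} l945 t945 := tow_of tc945_0 (Rng.zero.step tc945_1) (Rng.zero.step tc945_2)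
theorem tw961 : Tow.{u} l961 t961 := tow_of tc961_0 (Rng.zero.step tc961_1) (Rng.zero.step tc961_2)
theorem tw962 : Tow.{u} l962 t962 := tow_of tc962_0 (Rng.zero.step tc962_1) (Rng.zero.step tc962_2)
theorem tw963 : Tow.{u} l963 t963 := tow_of tc963_0 (Rng.zero.step tc963_1) (Rng.zero.step tc963_2)
theorem tw964 : Tow.{u} l964 t964 := tow_of tc964_0 (Rng.zero.step tc964_1) (Rng.zero.step tc964_2)
theorem tw965 : Tow.{u} l965 t965 := tow_of tc965_0 (Rng.zero.step tc965_1) (Rng.zero.step tc965_2)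
theorem tw966 : Tow.{u} l966 t966 := tow_of tc966_0 (Rng.zero.step tc966_1) (Rng.zero.step tc966_2)
theorem tw967 : Tow.{u} l967 t967 := tow_of tc967_0 (Rng.zero.step tc967_1) (Rng.zero.step tc967_2)
theorem tw968 : Tow.{u} l968 t968 := tow_of tc968_0 (Rng.zero.step tc968_1) (Rng.zero.step tc968_2)
theorem tw969 : Tow.{u} l969 t969 := tow_of tc969_0 (Rng.zero.step tc969_1) (Rng.zero.step tc969_2)
theorem tw970 : Tow.{u} l970 t970 := tow_of tc970_0 (Rng.zero.step tc970_1) (Rng.zero.step tc970_2)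
theorem tw971 : Tow.{u} l971 t971 := tow_of tc971_0 (Rng.zero.step tc971_1) (Rng.zero.step tc971_2)
theorem tw972 : Tow.{u} l972 t972 := tow_of tc972_0 (Rng.zero.step tc972_1) (Rng.zero.step tc972_2)
theorem tw973 : Tow.{u} l973 t973 := tow_of tc973_0 (Rng.zero.step tc973_1) (Rng.zero.step tc973_2)
theorem tw974 : Tow.{u} l974 t974 := tow_of tc974_0 (Rng.zero.step tc974_1) (Rng.zero.step tc974_2)
theorem tw975 : Tow.{u} l975 t975 := tow_of tc975_0 (Rng.zero.step tc975_1) (Rng.zero.step tc975_2)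
theorem tw976 : Tow.{u} l976 t976 := tow_of tc976_0 (Rng.zero.step tc976_1) (Rng.zero.step tc976_2)
theorem tw1033 : Tow.{u} l1033 t1033 := tow_of tc1033_0 (Rng.zero.step tc1033_1) (Rng.zero.step tc1033_2)
theorem tw1034 : Tow.{u} l1034 t1034 := tow_of tc1034_0 (Rng.zero.step tc1034_1) (Rng.zero.step tc1034_2)
theorem tw1035 : Tow.{u} l1035 t1035 := tow_of tc1035_0 (Rng.zero.step tc1035_1) (Rng.zero.step tc1035_2)
theorem tw1036 : Tow.{u} l1036 t1036 := tow_of tc1036_0 (Rng.zero.step tc1036_1) (Rng.zero.step tc1036_2)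
theorem tw1037 : Tow.{u} l1037 t1037 := tow_of tc1037_0 (Rng.zero.step tc1037_1) (Rng.zero.step tc1037_2)
theorem tw1038 : Tow.{u} l1038 t1038 := tow_of tc1038_0 (Rng.zero.step tc1038_1) (Rng.zero.step tc1038_2)
theorem tw1039 : Tow.{u} l1039 t1039 := tow_of tc1039_0 (Rng.zero.step tc1039_1) (Rng.zero.step tc1039_2)
theorem tw1040 : Tow.{u} l1040 t1040 := tow_of tc1040_0 (Rng.zero.step tc1040_1) (Rng.zero.step tc1040_2)
theorem tw1041 : Tow.{u} l1041 t1041 := tow_of tc1041_0 (Rng.zero.step tc1041_1) (Rng.zero.step tc1041_2)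
theorem tw1042 : Tow.{u} l1042 t1042 := tow_of tc1042_0 (Rng.zero.step tc1042_1) (Rng.zero.step tc1042_2)
theorem tw1043 : Tow.{u} l1043 t1043 := tow_of tc1043_0 (Rng.zero.step tc1043_1) (Rng.zero.step tc1043_2)
theorem tw1044 : Tow.{u} l1044 t1044 := tow_of tc1044_0 (Rng.zero.step tc1044_1) (Rng.zero.step tc1044_2)
theorem tw1045 : Tow.{u} l1045 t1045 := tow_of tc1045_0 (Rng.zero.step tc1045_1) (Rng.zero.step tc1045_2)
theorem tw1046 : Tow.{u} l1046 t1046 := tow_of tc1046_0 (Rng.zero.step tc1046_1) (Rng.zero.step tc1046_2)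
theorem tw1047 : Tow.{u} l1047 t1047 := tow_of tc1047_0 (Rng.zero.step tc1047_1) (Rng.zero.step tc1047_2)
theorem tw1048 : Tow.{u} l1048 t1048 := tow_of tc1048_0 (Rng.zero.step tc1048_1) (Rng.zero.step tc1048_2)
theorem tw946 : Tow.{u} l946 t946 := tow_of tc946_0 (Rng.zero.step tc946_1) (Rng.zero.step tc946_2)
theorem tw947 : Tow.{u} l947 t947 := tow_of tc947_0 (Rng.zero.step tc947_1) (Rng.zero.step tc947_2)
theorem tw948 : Tow.{u} l948 t948 := tow_of tc948_0 (Rng.zero.step tc948_1) (Rng.zero.step tc948_2)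
theorem tw1049 : Tow.{u} l1049 t1049 := tow_of tc1049_0 (Rng.zero.step tc1049_1) (Rng.zero.step tc1049_2)
theorem tw1050 : Tow.{u} l1050 t1050 := tow_of tc1050_0 (Rng.zero.step tc1050_1) (Rng.zero.step tc1050_2)
theorem tw1051 : Tow.{u} l1051 t1051 := tow_of tc1051_0 (Rng.zero.step tc1051_1) (Rng.zero.step tc1051_2)
theorem tw1052 : Tow.{u} l1052 t1052 := tow_of tc1052_0 (Rng.zero.step tc1052_1) (Rng.zero.step tc1052_2)
theorem tw1053 : Tow.{u} l1053 t1053 := tow_of tc1053_0 (Rng.zero.step tc1053_1) (Rng.zero.step tc1053_2)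
theorem tw1054 : Tow.{u} l1054 t1054 := tow_of tc1054_0 (Rng.zero.step tc1054_1) (Rng.zero.step tc1054_2)
theorem tw1055 : Tow.{u} l1055 t1055 := tow_of tc1055_0 (Rng.zero.step tc1055_1) (Rng.zero.step tc1055_2)
theorem tw1056 : Tow.{u} l1056 t1056 := tow_of tc1056_0 (Rng.zero.step tc1056_1) (Rng.zero.step tc1056_2)
theorem tw1057 : Tow.{u} l1057 t1057 := tow_of tc1057_0 (Rng.zero.step tc1057_1) (Rng.zero.step tc1057_2)
theorem tw1058 : Tow.{u} l1058 t1058 := tow_of tc1058_0 (Rng.zero.step tc1058_1) (Rng.zero.step tc1058_2)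
theorem tw1059 : Tow.{u} l1059 t1059 := tow_of tc1059_0 (Rng.zero.step tc1059_1) (Rng.zero.step tc1059_2)
theorem tw1060 : Tow.{u} l1060 t1060 := tow_of tc1060_0 (Rng.zero.step tc1060_1) (Rng.zero.step tc1060_2)
theorem tw1061 : Tow.{u} l1061 t1061 := tow_of tc1061_0 (Rng.zero.step tc1061_1) (Rng.zero.step tc1061_2)
theorem tw1062 : Tow.{u} l1062 t1062 := tow_of tc1062_0 (Rng.zero.step tc1062_1) (Rng.zero.step tc1062_2)
theorem tw1063 : Tow.{u} l1063 t1063 := tow_of tc1063_0 (Rng.zero.step tc1063_1) (Rng.zero.step tc1063_2)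
theorem tw1064 : Tow.{u} l1064 t1064 := tow_of tc1064_0 (Rng.zero.step tc1064_1) (Rng.zero.step tc1064_2)
theorem tw949 : Tow.{u} l949 t949 := tow_of tc949_0 (Rng.zero.step tc949_1) (Rng.zero.step tc949_2)
theorem tw1065 : Tow.{u} l1065 t1065 := tow_of tc1065_0 (Rng.zero.step tc1065_1) (Rng.zero.step tc1065_2)
theorem tw1081 : Tow.{u} l1081 t1081 := tow_of tc1081_0 (Rng.zero.step tc1081_1) (Rng.zero.step tc1081_2)
theorem tw1082 : Tow.{u} l1082 t1082 := tow_of tc1082_0 (Rng.zero.step tc1082_1) (Rng.zero.step tc1082_2)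
theorem tw1083 : Tow.{u} l1083 t1083 := tow_of tc1083_0 (Rng.zero.step tc1083_1) (Rng.zero.step tc1083_2)
theorem tw1084 : Tow.{u} l1084 t1084 := tow_of tc1084_0 (Rng.zero.step tc1084_1) (Rng.zero.step tc1084_2)
theorem tw1085 : Tow.{u} l1085 t1085 := tow_of tc1085_0 (Rng.zero.step tc1085_1) (Rng.zero.step tc1085_2)
theorem tw1086 : Tow.{u} l1086 t1086 := tow_of tc1086_0 (Rng.zero.step tc1086_1) (Rng.zero.step tc1086_2)
theorem tw1087 : Tow.{u} l1087 t1087 := tow_of tc1087_0 (Rng.zero.step tc1087_1) (Rng.zero.step tc1087_2)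
theorem tw1088 : Tow.{u} l1088 t1088 := tow_of tc1088_0 (Rng.zero.step tc1088_1) (Rng.zero.step tc1088_2)
theorem tw1089 : Tow.{u} l1089 t1089 := tow_of tc1089_0 (Rng.zero.step tc1089_1) (Rng.zero.step tc1089_2)
theorem tw1090 : Tow.{u} l1090 t1090 := tow_of tc1090_0 (Rng.zero.step tc1090_1) (Rng.zero.step tc1090_2)
theorem tw1091 : Tow.{u} l1091 t1091 := tow_of tc1091_0 (Rng.zero.step tc1091_1) (Rng.zero.step tc1091_2)
theorem tw1092 : Tow.{u} l1092 t1092 := tow_of tc1092_0 (Rng.zero.step tc1092_1) (Rng.zero.step tc1092_2)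
theorem tw1093 : Tow.{u} l1093 t1093 := tow_of tc1093_0 (Rng.zero.step tc1093_1) (Rng.zero.step tc1093_2)
theorem tw1094 : Tow.{u} l1094 t1094 := tow_of tc1094_0 (Rng.zero.step tc1094_1) (Rng.zero.step tc1094_2)
theorem tw1095 : Tow.{u} l1095 t1095 := tow_of tc1095_0 (Rng.zero.step tc1095_1) (Rng.zero.step tc1095_2)
theorem tw1096 : Tow.{u} l1096 t1096 := tow_of tc1096_0 (Rng.zero.step tc1096_1) (Rng.zero.step tc1096_2)
theorem tw1097 : Tow.{u} l1097 t1097 := tow_of tc1097_0 (Rng.zero.step tc1097_1) (Rng.zero.step tc1097_2)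
theorem tw1098 : Tow.{u} l1098 t1098 := tow_of tc1098_0 (Rng.zero.step tc1098_1) (Rng.zero.step tc1098_2)
theorem tw1099 : Tow.{u} l1099 t1099 := tow_of tc1099_0 (Rng.zero.step tc1099_1) (Rng.zero.step tc1099_2)
theorem tw1100 : Tow.{u} l1100 t1100 := tow_of tc1100_0 (Rng.zero.step tc1100_1) (Rng.zero.step tc1100_2)
theorem tw1101 : Tow.{u} l1101 t1101 := tow_of tc1101_0 (Rng.zero.step tc1101_1) (Rng.zero.step tc1101_2)
theorem tw1102 : Tow.{u} l1102 t1102 := tow_of tc1102_0 (Rng.zero.step tc1102_1) (Rng.zero.step tc1102_2)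
theorem tw1103 : Tow.{u} l1103 t1103 := tow_of tc1103_0 (Rng.zero.step tc1103_1) (Rng.zero.step tc1103_2)
theorem tw1104 : Tow.{u} l1104 t1104 := tow_of tc1104_0 (Rng.zero.step tc1104_1) (Rng.zero.step tc1104_2)
theorem tw1105 : Tow.{u} l1105 t1105 := tow_of tc1105_0 (Rng.zero.step tc1105_1) (Rng.zero.step tc1105_2)
theorem tw1106 : Tow.{u} l1106 t1106 := tow_of tc1106_0 (Rng.zero.step tc1106_1) (Rng.zero.step tc1106_2)
theorem tw1107 : Tow.{u} l1107 t1107 := tow_of tc1107_0 (Rng.zero.step tc1107_1) (Rng.zero.step tc1107_2)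
theorem tw1108 : Tow.{u} l1108 t1108 := tow_of tc1108_0 (Rng.zero.step tc1108_1) (Rng.zero.step tc1108_2)
theorem tw1109 : Tow.{u} l1109 t1109 := tow_of tc1109_0 (Rng.zero.step tc1109_1) (Rng.zero.step tc1109_2)
theorem tw1110 : Tow.{u} l1110 t1110 := tow_of tc1110_0 (Rng.zero.step tc1110_1) (Rng.zero.step tc1110_2)
theorem tw1111 : Tow.{u} l1111 t1111 := tow_of tc1111_0 (Rng.zero.step tc1111_1) (Rng.zero.step tc1111_2)
theorem tw1112 : Tow.{u} l1112 t1112 := tow_of tc1112_0 (Rng.zero.step tc1112_1) (Rng.zero.step tc1112_2)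
theorem tw950 : Tow.{u} l950 t950 := tow_of tc950_0 (Rng.zero.step tc950_1) (Rng.zero.step tc950_2)
theorem tw1066 : Tow.{u} l1066 t1066 := tow_of tc1066_0 (Rng.zero.step tc1066_1) (Rng.zero.step tc1066_2)
theorem tw1067 : Tow.{u} l1067 t1067 := tow_of tc1067_0 (Rng.zero.step tc1067_1) (Rng.zero.step tc1067_2)
theorem tw1068 : Tow.{u} l1068 t1068 := tow_of tc1068_0 (Rng.zero.step tc1068_1) (Rng.zero.step tc1068_2)
theorem tw1069 : Tow.{u} l1069 t1069 := tow_of tc1069_0 (Rng.zero.step tc1069_1) (Rng.zero.step tc1069_2)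
theorem tw1070 : Tow.{u} l1070 t1070 := tow_of tc1070_0 (Rng.zero.step tc1070_1) (Rng.zero.step tc1070_2)
theorem tw1071 : Tow.{u} l1071 t1071 := tow_of tc1071_0 (Rng.zero.step tc1071_1) (Rng.zero.step tc1071_2)
theorem tw1072 : Tow.{u} l1072 t1072 := tow_of tc1072_0 (Rng.zero.step tc1072_1) (Rng.zero.step tc1072_2)
theorem tw1073 : Tow.{u} l1073 t1073 := tow_of tc1073_0 (Rng.zero.step tc1073_1) (Rng.zero.step tc1073_2)
theorem tw1074 : Tow.{u} l1074 t1074 := tow_of tc1074_0 (Rng.zero.step tc1074_1) (Rng.zero.step tc1074_2)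
theorem tw1075 : Tow.{u} l1075 t1075 := tow_of tc1075_0 (Rng.zero.step tc1075_1) (Rng.zero.step tc1075_2)
theorem tw1076 : Tow.{u} l1076 t1076 := tow_of tc1076_0 (Rng.zero.step tc1076_1) (Rng.zero.step tc1076_2)
theorem tw1077 : Tow.{u} l1077 t1077 := tow_of tc1077_0 (Rng.zero.step tc1077_1) (Rng.zero.step tc1077_2)
theorem tw1078 : Tow.{u} l1078 t1078 := tow_of tc1078_0 (Rng.zero.step tc1078_1) (Rng.zero.step tc1078_2)
theorem tw1079 : Tow.{u} l1079 t1079 := tow_of tc1079_0 (Rng.zero.step tc1079_1) (Rng.zero.step tc1079_2)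
theorem tw1080 : Tow.{u} l1080 t1080 := tow_of tc1080_0 (Rng.zero.step tc1080_1) (Rng.zero.step tc1080_2)
theorem tw951 : Tow.{u} l951 t951 := tow_of tc951_0 (Rng.zero.step tc951_1) (Rng.zero.step tc951_2)
theorem tw952 : Tow.{u} l952 t952 := tow_of tc952_0 (Rng.zero.step tc952_1) (Rng.zero.step tc952_2)
theorem tw953 : Tow.{u} l953 t953 := tow_of tc953_0 (Rng.zero.step tc953_1) (Rng.zero.step tc953_2)
theorem tw954 : Tow.{u} l954 t954 := tow_of tc954_0 (Rng.zero.step tc954_1) (Rng.zero.step tc954_2)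
theorem tw1113 : Tow.{u} l1113 t1113 := tow_of tc1113_0 (Rng.zero.step tc1113_1) (Rng.zero.step tc1113_2)
theorem tw1114 : Tow.{u} l1114 t1114 := tow_of tc1114_0 (Rng.zero.step tc1114_1) (Rng.zero.step tc1114_2)
theorem tw1115 : Tow.{u} l1115 t1115 := tow_of tc1115_0 (Rng.zero.step tc1115_1) (Rng.zero.step tc1115_2)
theorem tw1116 : Tow.{u} l1116 t1116 := tow_of tc1116_0 (Rng.zero.step tc1116_1) (Rng.zero.step tc1116_2)
theorem tw1117 : Tow.{u} l1117 t1117 := tow_of tc1117_0 (Rng.zero.step tc1117_1) (Rng.zero.step tc1117_2)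
theorem tw1118 : Tow.{u} l1118 t1118 := tow_of tc1118_0 (Rng.zero.step tc1118_1) (Rng.zero.step tc1118_2)
theorem tw1119 : Tow.{u} l1119 t1119 := tow_of tc1119_0 (Rng.zero.step tc1119_1) (Rng.zero.step tc1119_2)
theorem tw1120 : Tow.{u} l1120 t1120 := tow_of tc1120_0 (Rng.zero.step tc1120_1) (Rng.zero.step tc1120_2)
theorem tw1121 : Tow.{u} l1121 t1121 := tow_of tc1121_0 (Rng.zero.step tc1121_1) (Rng.zero.step tc1121_2)
theorem tw1122 : Tow.{u} l1122 t1122 := tow_of tc1122_0 (Rng.zero.step tc1122_1) (Rng.zero.step tc1122_2)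
theorem tw1123 : Tow.{u} l1123 t1123 := tow_of tc1123_0 (Rng.zero.step tc1123_1) (Rng.zero.step tc1123_2)
theorem tw1124 : Tow.{u} l1124 t1124 := tow_of tc1124_0 (Rng.zero.step tc1124_1) (Rng.zero.step tc1124_2)
theorem tw1125 : Tow.{u} l1125 t1125 := tow_of tc1125_0 (Rng.zero.step tc1125_1) (Rng.zero.step tc1125_2)
theorem tw1126 : Tow.{u} l1126 t1126 := tow_of tc1126_0 (Rng.zero.step tc1126_1) (Rng.zero.step tc1126_2)
theorem tw1127 : Tow.{u} l1127 t1127 := tow_of tc1127_0 (Rng.zero.step tc1127_1) (Rng.zero.step tc1127_2)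
theorem tw955 : Tow.{u} l955 t955 := tow_of tc955_0 (Rng.zero.step tc955_1) (Rng.zero.step tc955_2)
theorem tw1128 : Tow.{u} l1128 t1128 := tow_of tc1128_0 (Rng.zero.step tc1128_1) (Rng.zero.step tc1128_2)
theorem tw956 : Tow.{u} l956 t956 := tow_of tc956_0 (Rng.zero.step tc956_1) (Rng.zero.step tc956_2)
theorem tw957 : Tow.{u} l957 t957 := tow_of tc957_0 (Rng.zero.step tc957_1) (Rng.zero.step tc957_2)
theorem tw958 : Tow.{u} l958 t958 := tow_of tc958_0 (Rng.zero.step tc958_1) (Rng.zero.step tc958_2)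
theorem tw959 : Tow.{u} l959 t959 := tow_of tc959_0 (Rng.zero.step tc959_1) (Rng.zero.step tc959_2)
theorem tw1129 : Tow.{u} l1129 t1129 := tow_of tc1129_0 (Rng.zero.step tc1129_1) (Rng.zero.step tc1129_2)
theorem tw1130 : Tow.{u} l1130 t1130 := tow_of tc1130_0 (Rng.zero.step tc1130_1) (Rng.zero.step tc1130_2)
theorem tw1131 : Tow.{u} l1131 t1131 := tow_of tc1131_0 (Rng.zero.step tc1131_1) (Rng.zero.step tc1131_2)
theorem tw1132 : Tow.{u} l1132 t1132 := tow_of tc1132_0 (Rng.zero.step tc1132_1) (Rng.zero.step tc1132_2)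
theorem tw1133 : Tow.{u} l1133 t1133 := tow_of tc1133_0 (Rng.zero.step tc1133_1) (Rng.zero.step tc1133_2)
theorem tw1134 : Tow.{u} l1134 t1134 := tow_of tc1134_0 (Rng.zero.step tc1134_1) (Rng.zero.step tc1134_2)
theorem tw1135 : Tow.{u} l1135 t1135 := tow_of tc1135_0 (Rng.zero.step tc1135_1) (Rng.zero.step tc1135_2)
theorem tw1136 : Tow.{u} l1136 t1136 := tow_of tc1136_0 (Rng.zero.step tc1136_1) (Rng.zero.step tc1136_2)
theorem tw1137 : Tow.{u} l1137 t1137 := tow_of tc1137_0 (Rng.zero.step tc1137_1) (Rng.zero.step tc1137_2)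
theorem tw1138 : Tow.{u} l1138 t1138 := tow_of tc1138_0 (Rng.zero.step tc1138_1) (Rng.zero.step tc1138_2)
theorem tw1139 : Tow.{u} l1139 t1139 := tow_of tc1139_0 (Rng.zero.step tc1139_1) (Rng.zero.step tc1139_2)
theorem tw1140 : Tow.{u} l1140 t1140 := tow_of tc1140_0 (Rng.zero.step tc1140_1) (Rng.zero.step tc1140_2)
theorem tw1141 : Tow.{u} l1141 t1141 := tow_of tc1141_0 (Rng.zero.step tc1141_1) (Rng.zero.step tc1141_2)
theorem tw1142 : Tow.{u} l1142 t1142 := tow_of tc1142_0 (Rng.zero.step tc1142_1) (Rng.zero.step tc1142_2)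
theorem tw1143 : Tow.{u} l1143 t1143 := tow_of tc1143_0 (Rng.zero.step tc1143_1) (Rng.zero.step tc1143_2)
theorem tw1148 : Tow.{u} l1148 t1148 := tow_of tc1148_0 (Rng.zero.step tc1148_1) (Rng.zero.step tc1148_2)
theorem tw1149 : Tow.{u} l1149 t1149 := tow_of tc1149_0 (Rng.zero.step tc1149_1) (Rng.zero.step tc1149_2)
theorem tw1150 : Tow.{u} l1150 t1150 := tow_of tc1150_0 (Rng.zero.step tc1150_1) (Rng.zero.step tc1150_2)
theorem tw1151 : Tow.{u} l1151 t1151 := tow_of tc1151_0 (Rng.zero.step tc1151_1) (Rng.zero.step tc1151_2)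
theorem tw1146 : Tow.{u} l1146 t1146 := tow_of tc1146_0 (Rng.zero.step tc1146_1) (Rng.zero.step tc1146_2)
theorem tw1152 : Tow.{u} l1152 t1152 := tow_of tc1152_0 (Rng.zero.step tc1152_1) (Rng.zero.step tc1152_2)
theorem tw1153 : Tow.{u} l1153 t1153 := tow_of tc1153_0 (Rng.zero.step tc1153_1) (Rng.zero.step tc1153_2)
theorem tw1154 : Tow.{u} l1154 t1154 := tow_of tc1154_0 (Rng.zero.step tc1154_1) (Rng.zero.step tc1154_2)
theorem tw1155 : Tow.{u} l1155 t1155 := tow_of tc1155_0 (Rng.zero.step tc1155_1) (Rng.zero.step tc1155_2)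
theorem tw1147 : Tow.{u} l1147 t1147 := tow_of tc1147_0 (Rng.zero.step tc1147_1) (Rng.zero.step tc1147_2)
theorem tw1145 : Tow.{u} l1145 t1145 := tow_of tc1145_0 (Rng.zero.step tc1145_1) (Rng.zero.step tc1145_2)
theorem tw960 : Tow.{u} l960 t960 := tow_of tc960_0 (Rng.zero.step tc960_1) (Rng.zero.step tc960_2)
theorem tw1144 : Tow.{u} l1144 t1144 := tow_of tc1144_0 (Rng.zero.step tc1144_1) (Rng.zero.step tc1144_2)
theorem tw25 : Tow.{u} l25 t25 := tow_of tc25_0 (Rng.zero.step tc25_1) (Rng.zero.step tc25_2)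
theorem tw1172 : Tow.{u} l1172 t1172 := tow_of tc1172_0 (Rng.zero.step tc1172_1) (Rng.zero.step tc1172_2)
theorem tw1173 : Tow.{u} l1173 t1173 := tow_of tc1173_0 (Rng.zero.step tc1173_1) (Rng.zero.step tc1173_2)
theorem tw1174 : Tow.{u} l1174 t1174 := tow_of tc1174_0 (Rng.zero.step tc1174_1) (Rng.zero.step tc1174_2)
theorem tw1175 : Tow.{u} l1175 t1175 := tow_of tc1175_0 (Rng.zero.step tc1175_1) (Rng.zero.step tc1175_2)
theorem tw1176 : Tow.{u} l1176 t1176 := tow_of tc1176_0 (Rng.zero.step tc1176_1) (Rng.zero.step tc1176_2)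
theorem tw1177 : Tow.{u} l1177 t1177 := tow_of tc1177_0 (Rng.zero.step tc1177_1) (Rng.zero.step tc1177_2)
theorem tw1178 : Tow.{u} l1178 t1178 := tow_of tc1178_0 (Rng.zero.step tc1178_1) (Rng.zero.step tc1178_2)
theorem tw1179 : Tow.{u} l1179 t1179 := tow_of tc1179_0 (Rng.zero.step tc1179_1) (Rng.zero.step tc1179_2)
theorem tw1180 : Tow.{u} l1180 t1180 := tow_of tc1180_0 (Rng.zero.step tc1180_1) (Rng.zero.step tc1180_2)
theorem tw1181 : Tow.{u} l1181 t1181 := tow_of tc1181_0 (Rng.zero.step tc1181_1) (Rng.zero.step tc1181_2)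
theorem tw1182 : Tow.{u} l1182 t1182 := tow_of tc1182_0 (Rng.zero.step tc1182_1) (Rng.zero.step tc1182_2)
theorem tw1183 : Tow.{u} l1183 t1183 := tow_of tc1183_0 (Rng.zero.step tc1183_1) (Rng.zero.step tc1183_2)
theorem tw1184 : Tow.{u} l1184 t1184 := tow_of tc1184_0 (Rng.zero.step tc1184_1) (Rng.zero.step tc1184_2)
theorem tw1185 : Tow.{u} l1185 t1185 := tow_of tc1185_0 (Rng.zero.step tc1185_1) (Rng.zero.step tc1185_2)
theorem tw1186 : Tow.{u} l1186 t1186 := tow_of tc1186_0 (Rng.zero.step tc1186_1) (Rng.zero.step tc1186_2)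
theorem tw1187 : Tow.{u} l1187 t1187 := tow_of tc1187_0 (Rng.zero.step tc1187_1) (Rng.zero.step tc1187_2)
theorem tw1156 : Tow.{u} l1156 t1156 := tow_of tc1156_0 (Rng.zero.step tc1156_1) (Rng.zero.step tc1156_2)
theorem tw1188 : Tow.{u} l1188 t1188 := tow_of tc1188_0 (Rng.zero.step tc1188_1) (Rng.zero.step tc1188_2)
theorem tw1204 : Tow.{u} l1204 t1204 := tow_of tc1204_0 (Rng.zero.step tc1204_1) (Rng.zero.step tc1204_2)
theorem tw1205 : Tow.{u} l1205 t1205 := tow_of tc1205_0 (Rng.zero.step tc1205_1) (Rng.zero.step tc1205_2)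
theorem tw1206 : Tow.{u} l1206 t1206 := tow_of tc1206_0 (Rng.zero.step tc1206_1) (Rng.zero.step tc1206_2)
theorem tw1207 : Tow.{u} l1207 t1207 := tow_of tc1207_0 (Rng.zero.step tc1207_1) (Rng.zero.step tc1207_2)
theorem tw1208 : Tow.{u} l1208 t1208 := tow_of tc1208_0 (Rng.zero.step tc1208_1) (Rng.zero.step tc1208_2)
theorem tw1209 : Tow.{u} l1209 t1209 := tow_of tc1209_0 (Rng.zero.step tc1209_1) (Rng.zero.step tc1209_2)
theorem tw1210 : Tow.{u} l1210 t1210 := tow_of tc1210_0 (Rng.zero.step tc1210_1) (Rng.zero.step tc1210_2)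
theorem tw1211 : Tow.{u} l1211 t1211 := tow_of tc1211_0 (Rng.zero.step tc1211_1) (Rng.zero.step tc1211_2)
theorem tw1212 : Tow.{u} l1212 t1212 := tow_of tc1212_0 (Rng.zero.step tc1212_1) (Rng.zero.step tc1212_2)
theorem tw1213 : Tow.{u} l1213 t1213 := tow_of tc1213_0 (Rng.zero.step tc1213_1) (Rng.zero.step tc1213_2)
theorem tw1214 : Tow.{u} l1214 t1214 := tow_of tc1214_0 (Rng.zero.step tc1214_1) (Rng.zero.step tc1214_2)
theorem tw1215 : Tow.{u} l1215 t1215 := tow_of tc1215_0 (Rng.zero.step tc1215_1) (Rng.zero.step tc1215_2)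
theorem tw1216 : Tow.{u} l1216 t1216 := tow_of tc1216_0 (Rng.zero.step tc1216_1) (Rng.zero.step tc1216_2)
theorem tw1217 : Tow.{u} l1217 t1217 := tow_of tc1217_0 (Rng.zero.step tc1217_1) (Rng.zero.step tc1217_2)
theorem tw1218 : Tow.{u} l1218 t1218 := tow_of tc1218_0 (Rng.zero.step tc1218_1) (Rng.zero.step tc1218_2)
theorem tw1219 : Tow.{u} l1219 t1219 := tow_of tc1219_0 (Rng.zero.step tc1219_1) (Rng.zero.step tc1219_2)
theorem tw1220 : Tow.{u} l1220 t1220 := tow_of tc1220_0 (Rng.zero.step tc1220_1) (Rng.zero.step tc1220_2)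
theorem tw1221 : Tow.{u} l1221 t1221 := tow_of tc1221_0 (Rng.zero.step tc1221_1) (Rng.zero.step tc1221_2)
theorem tw1222 : Tow.{u} l1222 t1222 := tow_of tc1222_0 (Rng.zero.step tc1222_1) (Rng.zero.step tc1222_2)
theorem tw1223 : Tow.{u} l1223 t1223 := tow_of tc1223_0 (Rng.zero.step tc1223_1) (Rng.zero.step tc1223_2)
theorem tw1224 : Tow.{u} l1224 t1224 := tow_of tc1224_0 (Rng.zero.step tc1224_1) (Rng.zero.step tc1224_2)
theorem tw1225 : Tow.{u} l1225 t1225 := tow_of tc1225_0 (Rng.zero.step tc1225_1) (Rng.zero.step tc1225_2)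
theorem tw1226 : Tow.{u} l1226 t1226 := tow_of tc1226_0 (Rng.zero.step tc1226_1) (Rng.zero.step tc1226_2)
theorem tw1227 : Tow.{u} l1227 t1227 := tow_of tc1227_0 (Rng.zero.step tc1227_1) (Rng.zero.step tc1227_2)
theorem tw1228 : Tow.{u} l1228 t1228 := tow_of tc1228_0 (Rng.zero.step tc1228_1) (Rng.zero.step tc1228_2)
theorem tw1229 : Tow.{u} l1229 t1229 := tow_of tc1229_0 (Rng.zero.step tc1229_1) (Rng.zero.step tc1229_2)
theorem tw1230 : Tow.{u} l1230 t1230 := tow_of tc1230_0 (Rng.zero.step tc1230_1) (Rng.zero.step tc1230_2)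
theorem tw1231 : Tow.{u} l1231 t1231 := tow_of tc1231_0 (Rng.zero.step tc1231_1) (Rng.zero.step tc1231_2)
theorem tw1232 : Tow.{u} l1232 t1232 := tow_of tc1232_0 (Rng.zero.step tc1232_1) (Rng.zero.step tc1232_2)
theorem tw1233 : Tow.{u} l1233 t1233 := tow_of tc1233_0 (Rng.zero.step tc1233_1) (Rng.zero.step tc1233_2)
theorem tw1234 : Tow.{u} l1234 t1234 := tow_of tc1234_0 (Rng.zero.step tc1234_1) (Rng.zero.step tc1234_2)
theorem tw1235 : Tow.{u} l1235 t1235 := tow_of tc1235_0 (Rng.zero.step tc1235_1) (Rng.zero.step tc1235_2)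
theorem tw1157 : Tow.{u} l1157 t1157 := tow_of tc1157_0 (Rng.zero.step tc1157_1) (Rng.zero.step tc1157_2)
theorem tw1189 : Tow.{u} l1189 t1189 := tow_of tc1189_0 (Rng.zero.step tc1189_1) (Rng.zero.step tc1189_2)
theorem tw1190 : Tow.{u} l1190 t1190 := tow_of tc1190_0 (Rng.zero.step tc1190_1) (Rng.zero.step tc1190_2)
theorem tw1191 : Tow.{u} l1191 t1191 := tow_of tc1191_0 (Rng.zero.step tc1191_1) (Rng.zero.step tc1191_2)
theorem tw1192 : Tow.{u} l1192 t1192 := tow_of tc1192_0 (Rng.zero.step tc1192_1) (Rng.zero.step tc1192_2)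
theorem tw1193 : Tow.{u} l1193 t1193 := tow_of tc1193_0 (Rng.zero.step tc1193_1) (Rng.zero.step tc1193_2)
theorem tw1194 : Tow.{u} l1194 t1194 := tow_of tc1194_0 (Rng.zero.step tc1194_1) (Rng.zero.step tc1194_2)
theorem tw1195 : Tow.{u} l1195 t1195 := tow_of tc1195_0 (Rng.zero.step tc1195_1) (Rng.zero.step tc1195_2)
theorem tw1196 : Tow.{u} l1196 t1196 := tow_of tc1196_0 (Rng.zero.step tc1196_1) (Rng.zero.step tc1196_2)
theorem tw1197 : Tow.{u} l1197 t1197 := tow_of tc1197_0 (Rng.zero.step tc1197_1) (Rng.zero.step tc1197_2)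
theorem tw1198 : Tow.{u} l1198 t1198 := tow_of tc1198_0 (Rng.zero.step tc1198_1) (Rng.zero.step tc1198_2)
theorem tw1199 : Tow.{u} l1199 t1199 := tow_of tc1199_0 (Rng.zero.step tc1199_1) (Rng.zero.step tc1199_2)
theorem tw1200 : Tow.{u} l1200 t1200 := tow_of tc1200_0 (Rng.zero.step tc1200_1) (Rng.zero.step tc1200_2)
theorem tw1201 : Tow.{u} l1201 t1201 := tow_of tc1201_0 (Rng.zero.step tc1201_1) (Rng.zero.step tc1201_2)
theorem tw1202 : Tow.{u} l1202 t1202 := tow_of tc1202_0 (Rng.zero.step tc1202_1) (Rng.zero.step tc1202_2)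
theorem tw1203 : Tow.{u} l1203 t1203 := tow_of tc1203_0 (Rng.zero.step tc1203_1) (Rng.zero.step tc1203_2)
theorem tw1158 : Tow.{u} l1158 t1158 := tow_of tc1158_0 (Rng.zero.step tc1158_1) (Rng.zero.step tc1158_2)
theorem tw1159 : Tow.{u} l1159 t1159 := tow_of tc1159_0 (Rng.zero.step tc1159_1) (Rng.zero.step tc1159_2)
theorem tw1252 : Tow.{u} l1252 t1252 := tow_of tc1252_0 (Rng.zero.step tc1252_1) (Rng.zero.step tc1252_2)
theorem tw1253 : Tow.{u} l1253 t1253 := tow_of tc1253_0 (Rng.zero.step tc1253_1) (Rng.zero.step tc1253_2)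
theorem tw1254 : Tow.{u} l1254 t1254 := tow_of tc1254_0 (Rng.zero.step tc1254_1) (Rng.zero.step tc1254_2)
theorem tw1255 : Tow.{u} l1255 t1255 := tow_of tc1255_0 (Rng.zero.step tc1255_1) (Rng.zero.step tc1255_2)
theorem tw1256 : Tow.{u} l1256 t1256 := tow_of tc1256_0 (Rng.zero.step tc1256_1) (Rng.zero.step tc1256_2)
theorem tw1257 : Tow.{u} l1257 t1257 := tow_of tc1257_0 (Rng.zero.step tc1257_1) (Rng.zero.step tc1257_2)
theorem tw1258 : Tow.{u} l1258 t1258 := tow_of tc1258_0 (Rng.zero.step tc1258_1) (Rng.zero.step tc1258_2)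
theorem tw1259 : Tow.{u} l1259 t1259 := tow_of tc1259_0 (Rng.zero.step tc1259_1) (Rng.zero.step tc1259_2)
theorem tw1260 : Tow.{u} l1260 t1260 := tow_of tc1260_0 (Rng.zero.step tc1260_1) (Rng.zero.step tc1260_2)
theorem tw1261 : Tow.{u} l1261 t1261 := tow_of tc1261_0 (Rng.zero.step tc1261_1) (Rng.zero.step tc1261_2)
theorem tw1262 : Tow.{u} l1262 t1262 := tow_of tc1262_0 (Rng.zero.step tc1262_1) (Rng.zero.step tc1262_2)
theorem tw1263 : Tow.{u} l1263 t1263 := tow_of tc1263_0 (Rng.zero.step tc1263_1) (Rng.zero.step tc1263_2)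
theorem tw1264 : Tow.{u} l1264 t1264 := tow_of tc1264_0 (Rng.zero.step tc1264_1) (Rng.zero.step tc1264_2)
theorem tw1265 : Tow.{u} l1265 t1265 := tow_of tc1265_0 (Rng.zero.step tc1265_1) (Rng.zero.step tc1265_2)
theorem tw1266 : Tow.{u} l1266 t1266 := tow_of tc1266_0 (Rng.zero.step tc1266_1) (Rng.zero.step tc1266_2)
theorem tw1267 : Tow.{u} l1267 t1267 := tow_of tc1267_0 (Rng.zero.step tc1267_1) (Rng.zero.step tc1267_2)
theorem tw1268 : Tow.{u} l1268 t1268 := tow_of tc1268_0 (Rng.zero.step tc1268_1) (Rng.zero.step tc1268_2)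
theorem tw1269 : Tow.{u} l1269 t1269 := tow_of tc1269_0 (Rng.zero.step tc1269_1) (Rng.zero.step tc1269_2)
theorem tw1270 : Tow.{u} l1270 t1270 := tow_of tc1270_0 (Rng.zero.step tc1270_1) (Rng.zero.step tc1270_2)
theorem tw1271 : Tow.{u} l1271 t1271 := tow_of tc1271_0 (Rng.zero.step tc1271_1) (Rng.zero.step tc1271_2)
theorem tw1272 : Tow.{u} l1272 t1272 := tow_of tc1272_0 (Rng.zero.step tc1272_1) (Rng.zero.step tc1272_2)
theorem tw1273 : Tow.{u} l1273 t1273 := tow_of tc1273_0 (Rng.zero.step tc1273_1) (Rng.zero.step tc1273_2)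
theorem tw1274 : Tow.{u} l1274 t1274 := tow_of tc1274_0 (Rng.zero.step tc1274_1) (Rng.zero.step tc1274_2)
theorem tw1275 : Tow.{u} l1275 t1275 := tow_of tc1275_0 (Rng.zero.step tc1275_1) (Rng.zero.step tc1275_2)
theorem tw1276 : Tow.{u} l1276 t1276 := tow_of tc1276_0 (Rng.zero.step tc1276_1) (Rng.zero.step tc1276_2)
theorem tw1277 : Tow.{u} l1277 t1277 := tow_of tc1277_0 (Rng.zero.step tc1277_1) (Rng.zero.step tc1277_2)
theorem tw1278 : Tow.{u} l1278 t1278 := tow_of tc1278_0 (Rng.zero.step tc1278_1) (Rng.zero.step tc1278_2)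
theorem tw1279 : Tow.{u} l1279 t1279 := tow_of tc1279_0 (Rng.zero.step tc1279_1) (Rng.zero.step tc1279_2)
theorem tw1280 : Tow.{u} l1280 t1280 := tow_of tc1280_0 (Rng.zero.step tc1280_1) (Rng.zero.step tc1280_2)
theorem tw1281 : Tow.{u} l1281 t1281 := tow_of tc1281_0 (Rng.zero.step tc1281_1) (Rng.zero.step tc1281_2)
theorem tw1282 : Tow.{u} l1282 t1282 := tow_of tc1282_0 (Rng.zero.step tc1282_1) (Rng.zero.step tc1282_2)
theorem tw1283 : Tow.{u} l1283 t1283 := tow_of tc1283_0 (Rng.zero.step tc1283_1) (Rng.zero.step tc1283_2)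
theorem tw1160 : Tow.{u} l1160 t1160 := tow_of tc1160_0 (Rng.zero.step tc1160_1) (Rng.zero.step tc1160_2)
theorem tw1236 : Tow.{u} l1236 t1236 := tow_of tc1236_0 (Rng.zero.step tc1236_1) (Rng.zero.step tc1236_2)
theorem tw1237 : Tow.{u} l1237 t1237 := tow_of tc1237_0 (Rng.zero.step tc1237_1) (Rng.zero.step tc1237_2)
theorem tw1238 : Tow.{u} l1238 t1238 := tow_of tc1238_0 (Rng.zero.step tc1238_1) (Rng.zero.step tc1238_2)
theorem tw1239 : Tow.{u} l1239 t1239 := tow_of tc1239_0 (Rng.zero.step tc1239_1) (Rng.zero.step tc1239_2)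
theorem tw1240 : Tow.{u} l1240 t1240 := tow_of tc1240_0 (Rng.zero.step tc1240_1) (Rng.zero.step tc1240_2)
theorem tw1241 : Tow.{u} l1241 t1241 := tow_of tc1241_0 (Rng.zero.step tc1241_1) (Rng.zero.step tc1241_2)
theorem tw1242 : Tow.{u} l1242 t1242 := tow_of tc1242_0 (Rng.zero.step tc1242_1) (Rng.zero.step tc1242_2)
theorem tw1243 : Tow.{u} l1243 t1243 := tow_of tc1243_0 (Rng.zero.step tc1243_1) (Rng.zero.step tc1243_2)
theorem tw1244 : Tow.{u} l1244 t1244 := tow_of tc1244_0 (Rng.zero.step tc1244_1) (Rng.zero.step tc1244_2)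
theorem tw1245 : Tow.{u} l1245 t1245 := tow_of tc1245_0 (Rng.zero.step tc1245_1) (Rng.zero.step tc1245_2)
theorem tw1246 : Tow.{u} l1246 t1246 := tow_of tc1246_0 (Rng.zero.step tc1246_1) (Rng.zero.step tc1246_2)
theorem tw1247 : Tow.{u} l1247 t1247 := tow_of tc1247_0 (Rng.zero.step tc1247_1) (Rng.zero.step tc1247_2)
theorem tw1248 : Tow.{u} l1248 t1248 := tow_of tc1248_0 (Rng.zero.step tc1248_1) (Rng.zero.step tc1248_2)
theorem tw1249 : Tow.{u} l1249 t1249 := tow_of tc1249_0 (Rng.zero.step tc1249_1) (Rng.zero.step tc1249_2)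
theorem tw1250 : Tow.{u} l1250 t1250 := tow_of tc1250_0 (Rng.zero.step tc1250_1) (Rng.zero.step tc1250_2)
theorem tw1251 : Tow.{u} l1251 t1251 := tow_of tc1251_0 (Rng.zero.step tc1251_1) (Rng.zero.step tc1251_2)
theorem tw1284 : Tow.{u} l1284 t1284 := tow_of tc1284_0 (Rng.zero.step tc1284_1) (Rng.zero.step tc1284_2)
theorem tw1285 : Tow.{u} l1285 t1285 := tow_of tc1285_0 (Rng.zero.step tc1285_1) (Rng.zero.step tc1285_2)
theorem tw1286 : Tow.{u} l1286 t1286 := tow_of tc1286_0 (Rng.zero.step tc1286_1) (Rng.zero.step tc1286_2)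
theorem tw1287 : Tow.{u} l1287 t1287 := tow_of tc1287_0 (Rng.zero.step tc1287_1) (Rng.zero.step tc1287_2)
theorem tw1288 : Tow.{u} l1288 t1288 := tow_of tc1288_0 (Rng.zero.step tc1288_1) (Rng.zero.step tc1288_2)
theorem tw1289 : Tow.{u} l1289 t1289 := tow_of tc1289_0 (Rng.zero.step tc1289_1) (Rng.zero.step tc1289_2)
theorem tw1290 : Tow.{u} l1290 t1290 := tow_of tc1290_0 (Rng.zero.step tc1290_1) (Rng.zero.step tc1290_2)
theorem tw1291 : Tow.{u} l1291 t1291 := tow_of tc1291_0 (Rng.zero.step tc1291_1) (Rng.zero.step tc1291_2)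
theorem tw1292 : Tow.{u} l1292 t1292 := tow_of tc1292_0 (Rng.zero.step tc1292_1) (Rng.zero.step tc1292_2)
theorem tw1293 : Tow.{u} l1293 t1293 := tow_of tc1293_0 (Rng.zero.step tc1293_1) (Rng.zero.step tc1293_2)
theorem tw1294 : Tow.{u} l1294 t1294 := tow_of tc1294_0 (Rng.zero.step tc1294_1) (Rng.zero.step tc1294_2)
theorem tw1295 : Tow.{u} l1295 t1295 := tow_of tc1295_0 (Rng.zero.step tc1295_1) (Rng.zero.step tc1295_2)
theorem tw1296 : Tow.{u} l1296 t1296 := tow_of tc1296_0 (Rng.zero.step tc1296_1) (Rng.zero.step tc1296_2)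
theorem tw1297 : Tow.{u} l1297 t1297 := tow_of tc1297_0 (Rng.zero.step tc1297_1) (Rng.zero.step tc1297_2)
theorem tw1298 : Tow.{u} l1298 t1298 := tow_of tc1298_0 (Rng.zero.step tc1298_1) (Rng.zero.step tc1298_2)
theorem tw1299 : Tow.{u} l1299 t1299 := tow_of tc1299_0 (Rng.zero.step tc1299_1) (Rng.zero.step tc1299_2)
theorem tw1161 : Tow.{u} l1161 t1161 := tow_of tc1161_0 (Rng.zero.step tc1161_1) (Rng.zero.step tc1161_2)
theorem tw1162 : Tow.{u} l1162 t1162 := tow_of tc1162_0 (Rng.zero.step tc1162_1) (Rng.zero.step tc1162_2)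
theorem tw1163 : Tow.{u} l1163 t1163 := tow_of tc1163_0 (Rng.zero.step tc1163_1) (Rng.zero.step tc1163_2)
theorem tw1164 : Tow.{u} l1164 t1164 := tow_of tc1164_0 (Rng.zero.step tc1164_1) (Rng.zero.step tc1164_2)
theorem tw1165 : Tow.{u} l1165 t1165 := tow_of tc1165_0 (Rng.zero.step tc1165_1) (Rng.zero.step tc1165_2)
theorem tw1166 : Tow.{u} l1166 t1166 := tow_of tc1166_0 (Rng.zero.step tc1166_1) (Rng.zero.step tc1166_2)
theorem tw1300 : Tow.{u} l1300 t1300 := tow_of tc1300_0 (Rng.zero.step tc1300_1) (Rng.zero.step tc1300_2)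
theorem tw1301 : Tow.{u} l1301 t1301 := tow_of tc1301_0 (Rng.zero.step tc1301_1) (Rng.zero.step tc1301_2)
theorem tw1302 : Tow.{u} l1302 t1302 := tow_of tc1302_0 (Rng.zero.step tc1302_1) (Rng.zero.step tc1302_2)
theorem tw1303 : Tow.{u} l1303 t1303 := tow_of tc1303_0 (Rng.zero.step tc1303_1) (Rng.zero.step tc1303_2)
theorem tw1304 : Tow.{u} l1304 t1304 := tow_of tc1304_0 (Rng.zero.step tc1304_1) (Rng.zero.step tc1304_2)
theorem tw1305 : Tow.{u} l1305 t1305 := tow_of tc1305_0 (Rng.zero.step tc1305_1) (Rng.zero.step tc1305_2)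
theorem tw1306 : Tow.{u} l1306 t1306 := tow_of tc1306_0 (Rng.zero.step tc1306_1) (Rng.zero.step tc1306_2)
theorem tw1307 : Tow.{u} l1307 t1307 := tow_of tc1307_0 (Rng.zero.step tc1307_1) (Rng.zero.step tc1307_2)
theorem tw1308 : Tow.{u} l1308 t1308 := tow_of tc1308_0 (Rng.zero.step tc1308_1) (Rng.zero.step tc1308_2)
theorem tw1309 : Tow.{u} l1309 t1309 := tow_of tc1309_0 (Rng.zero.step tc1309_1) (Rng.zero.step tc1309_2)
theorem tw1310 : Tow.{u} l1310 t1310 := tow_of tc1310_0 (Rng.zero.step tc1310_1) (Rng.zero.step tc1310_2)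
theorem tw1311 : Tow.{u} l1311 t1311 := tow_of tc1311_0 (Rng.zero.step tc1311_1) (Rng.zero.step tc1311_2)
theorem tw1312 : Tow.{u} l1312 t1312 := tow_of tc1312_0 (Rng.zero.step tc1312_1) (Rng.zero.step tc1312_2)
theorem tw1313 : Tow.{u} l1313 t1313 := tow_of tc1313_0 (Rng.zero.step tc1313_1) (Rng.zero.step tc1313_2)
theorem tw1314 : Tow.{u} l1314 t1314 := tow_of tc1314_0 (Rng.zero.step tc1314_1) (Rng.zero.step tc1314_2)
theorem tw1167 : Tow.{u} l1167 t1167 := tow_of tc1167_0 (Rng.zero.step tc1167_1) (Rng.zero.step tc1167_2)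
theorem tw1315 : Tow.{u} l1315 t1315 := tow_of tc1315_0 (Rng.zero.step tc1315_1) (Rng.zero.step tc1315_2)
theorem tw1168 : Tow.{u} l1168 t1168 := tow_of tc1168_0 (Rng.zero.step tc1168_1) (Rng.zero.step tc1168_2)
theorem tw1169 : Tow.{u} l1169 t1169 := tow_of tc1169_0 (Rng.zero.step tc1169_1) (Rng.zero.step tc1169_2)
theorem tw1170 : Tow.{u} l1170 t1170 := tow_of tc1170_0 (Rng.zero.step tc1170_1) (Rng.zero.step tc1170_2)
theorem tw1171 : Tow.{u} l1171 t1171 := tow_of tc1171_0 (Rng.zero.step tc1171_1) (Rng.zero.step tc1171_2)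
theorem tw26 : Tow.{u} l26 t26 := tow_of tc26_0 (Rng.zero.step tc26_1) (Rng.zero.step tc26_2)
theorem tw1316 : Tow.{u} l1316 t1316 := tow_of tc1316_0 (Rng.zero.step tc1316_1) (Rng.zero.step tc1316_2)
theorem tw1317 : Tow.{u} l1317 t1317 := tow_of tc1317_0 (Rng.zero.step tc1317_1) (Rng.zero.step tc1317_2)
theorem tw1332 : Tow.{u} l1332 t1332 := tow_of tc1332_0 (Rng.zero.step tc1332_1) (Rng.zero.step tc1332_2)
theorem tw1333 : Tow.{u} l1333 t1333 := tow_of tc1333_0 (Rng.zero.step tc1333_1) (Rng.zero.step tc1333_2)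
theorem tw1334 : Tow.{u} l1334 t1334 := tow_of tc1334_0 (Rng.zero.step tc1334_1) (Rng.zero.step tc1334_2)
theorem tw1335 : Tow.{u} l1335 t1335 := tow_of tc1335_0 (Rng.zero.step tc1335_1) (Rng.zero.step tc1335_2)
theorem tw1336 : Tow.{u} l1336 t1336 := tow_of tc1336_0 (Rng.zero.step tc1336_1) (Rng.zero.step tc1336_2)
theorem tw1337 : Tow.{u} l1337 t1337 := tow_of tc1337_0 (Rng.zero.step tc1337_1) (Rng.zero.step tc1337_2)
theorem tw1338 : Tow.{u} l1338 t1338 := tow_of tc1338_0 (Rng.zero.step tc1338_1) (Rng.zero.step tc1338_2)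
theorem tw1339 : Tow.{u} l1339 t1339 := tow_of tc1339_0 (Rng.zero.step tc1339_1) (Rng.zero.step tc1339_2)
theorem tw1340 : Tow.{u} l1340 t1340 := tow_of tc1340_0 (Rng.zero.step tc1340_1) (Rng.zero.step tc1340_2)
theorem tw1349 : Tow.{u} l1349 t1349 := tow_of tc1349_0 (Rng.zero.step tc1349_1) (Rng.zero.step tc1349_2)
theorem tw1350 : Tow.{u} l1350 t1350 := tow_of tc1350_0 (Rng.zero.step tc1350_1) (Rng.zero.step tc1350_2)
theorem tw1351 : Tow.{u} l1351 t1351 := tow_of tc1351_0 (Rng.zero.step tc1351_1) (Rng.zero.step tc1351_2)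
theorem tw1352 : Tow.{u} l1352 t1352 := tow_of tc1352_0 (Rng.zero.step tc1352_1) (Rng.zero.step tc1352_2)
theorem tw1353 : Tow.{u} l1353 t1353 := tow_of tc1353_0 (Rng.zero.step tc1353_1) (Rng.zero.step tc1353_2)
theorem tw1354 : Tow.{u} l1354 t1354 := tow_of tc1354_0 (Rng.zero.step tc1354_1) (Rng.zero.step tc1354_2)
theorem tw1355 : Tow.{u} l1355 t1355 := tow_of tc1355_0 (Rng.zero.step tc1355_1) (Rng.zero.step tc1355_2)
theorem tw1356 : Tow.{u} l1356 t1356 := tow_of tc1356_0 (Rng.zero.step tc1356_1) (Rng.zero.step tc1356_2)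
theorem tw1365 : Tow.{u} l1365 t1365 := tow_of tc1365_0 (Rng.zero.step tc1365_1) (Rng.zero.step tc1365_2)
theorem tw1357 : Tow.{u} l1357 t1357 := tow_of tc1357_0 (Rng.zero.step tc1357_1) (Rng.zero.step tc1357_2)
theorem tw1358 : Tow.{u} l1358 t1358 := tow_of tc1358_0 (Rng.zero.step tc1358_1) (Rng.zero.step tc1358_2)
theorem tw1359 : Tow.{u} l1359 t1359 := tow_of tc1359_0 (Rng.zero.step tc1359_1) (Rng.zero.step tc1359_2)
theorem tw1360 : Tow.{u} l1360 t1360 := tow_of tc1360_0 (Rng.zero.step tc1360_1) (Rng.zero.step tc1360_2)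
theorem tw1361 : Tow.{u} l1361 t1361 := tow_of tc1361_0 (Rng.zero.step tc1361_1) (Rng.zero.step tc1361_2)
theorem tw1362 : Tow.{u} l1362 t1362 := tow_of tc1362_0 (Rng.zero.step tc1362_1) (Rng.zero.step tc1362_2)
theorem tw1363 : Tow.{u} l1363 t1363 := tow_of tc1363_0 (Rng.zero.step tc1363_1) (Rng.zero.step tc1363_2)
theorem tw1364 : Tow.{u} l1364 t1364 := tow_of tc1364_0 (Rng.zero.step tc1364_1) (Rng.zero.step tc1364_2)
theorem tw1366 : Tow.{u} l1366 t1366 := tow_of tc1366_0 (Rng.zero.step tc1366_1) (Rng.zero.step tc1366_2)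
theorem tw1367 : Tow.{u} l1367 t1367 := tow_of tc1367_0 (Rng.zero.step tc1367_1) (Rng.zero.step tc1367_2)
theorem tw1382 : Tow.{u} l1382 t1382 := tow_of tc1382_0 (Rng.zero.step tc1382_1) (Rng.zero.step tc1382_2)
theorem tw1368 : Tow.{u} l1368 t1368 := tow_of tc1368_0 (Rng.zero.step tc1368_1) (Rng.zero.step tc1368_2)
theorem tw1369 : Tow.{u} l1369 t1369 := tow_of tc1369_0 (Rng.zero.step tc1369_1) (Rng.zero.step tc1369_2)
theorem tw1370 : Tow.{u} l1370 t1370 := tow_of tc1370_0 (Rng.zero.step tc1370_1) (Rng.zero.step tc1370_2)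
theorem tw1371 : Tow.{u} l1371 t1371 := tow_of tc1371_0 (Rng.zero.step tc1371_1) (Rng.zero.step tc1371_2)
theorem tw1372 : Tow.{u} l1372 t1372 := tow_of tc1372_0 (Rng.zero.step tc1372_1) (Rng.zero.step tc1372_2)
theorem tw1373 : Tow.{u} l1373 t1373 := tow_of tc1373_0 (Rng.zero.step tc1373_1) (Rng.zero.step tc1373_2)
theorem tw1374 : Tow.{u} l1374 t1374 := tow_of tc1374_0 (Rng.zero.step tc1374_1) (Rng.zero.step tc1374_2)
theorem tw1375 : Tow.{u} l1375 t1375 := tow_of tc1375_0 (Rng.zero.step tc1375_1) (Rng.zero.step tc1375_2)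
theorem tw1376 : Tow.{u} l1376 t1376 := tow_of tc1376_0 (Rng.zero.step tc1376_1) (Rng.zero.step tc1376_2)
theorem tw1377 : Tow.{u} l1377 t1377 := tow_of tc1377_0 (Rng.zero.step tc1377_1) (Rng.zero.step tc1377_2)
theorem tw1378 : Tow.{u} l1378 t1378 := tow_of tc1378_0 (Rng.zero.step tc1378_1) (Rng.zero.step tc1378_2)
theorem tw1379 : Tow.{u} l1379 t1379 := tow_of tc1379_0 (Rng.zero.step tc1379_1) (Rng.zero.step tc1379_2)
theorem tw1380 : Tow.{u} l1380 t1380 := tow_of tc1380_0 (Rng.zero.step tc1380_1) (Rng.zero.step tc1380_2)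
theorem tw1381 : Tow.{u} l1381 t1381 := tow_of tc1381_0 (Rng.zero.step tc1381_1) (Rng.zero.step tc1381_2)
theorem tw1341 : Tow.{u} l1341 t1341 := tow_of tc1341_0 (Rng.zero.step tc1341_1) (Rng.zero.step tc1341_2)
theorem tw1342 : Tow.{u} l1342 t1342 := tow_of tc1342_0 (Rng.zero.step tc1342_1) (Rng.zero.step tc1342_2)
theorem tw1343 : Tow.{u} l1343 t1343 := tow_of tc1343_0 (Rng.zero.step tc1343_1) (Rng.zero.step tc1343_2)
theorem tw1344 : Tow.{u} l1344 t1344 := tow_of tc1344_0 (Rng.zero.step tc1344_1) (Rng.zero.step tc1344_2)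
theorem tw1345 : Tow.{u} l1345 t1345 := tow_of tc1345_0 (Rng.zero.step tc1345_1) (Rng.zero.step tc1345_2)
theorem tw1346 : Tow.{u} l1346 t1346 := tow_of tc1346_0 (Rng.zero.step tc1346_1) (Rng.zero.step tc1346_2)
theorem tw1347 : Tow.{u} l1347 t1347 := tow_of tc1347_0 (Rng.zero.step tc1347_1) (Rng.zero.step tc1347_2)
theorem tw1348 : Tow.{u} l1348 t1348 := tow_of tc1348_0 (Rng.zero.step tc1348_1) (Rng.zero.step tc1348_2)
theorem tw1318 : Tow.{u} l1318 t1318 := tow_of tc1318_0 (Rng.zero.step tc1318_1) (Rng.zero.step tc1318_2)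
theorem tw1319 : Tow.{u} l1319 t1319 := tow_of tc1319_0 (Rng.zero.step tc1319_1) (Rng.zero.step tc1319_2)
theorem tw1320 : Tow.{u} l1320 t1320 := tow_of tc1320_0 (Rng.zero.step tc1320_1) (Rng.zero.step tc1320_2)
theorem tw1321 : Tow.{u} l1321 t1321 := tow_of tc1321_0 (Rng.zero.step tc1321_1) (Rng.zero.step tc1321_2)
theorem tw1322 : Tow.{u} l1322 t1322 := tow_of tc1322_0 (Rng.zero.step tc1322_1) (Rng.zero.step tc1322_2)
theorem tw1323 : Tow.{u} l1323 t1323 := tow_of tc1323_0 (Rng.zero.step tc1323_1) (Rng.zero.step tc1323_2)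
theorem tw1324 : Tow.{u} l1324 t1324 := tow_of tc1324_0 (Rng.zero.step tc1324_1) (Rng.zero.step tc1324_2)
theorem tw1325 : Tow.{u} l1325 t1325 := tow_of tc1325_0 (Rng.zero.step tc1325_1) (Rng.zero.step tc1325_2)
theorem tw1383 : Tow.{u} l1383 t1383 := tow_of tc1383_0 (Rng.zero.step tc1383_1) (Rng.zero.step tc1383_2)
theorem tw1384 : Tow.{u} l1384 t1384 := tow_of tc1384_0 (Rng.zero.step tc1384_1) (Rng.zero.step tc1384_2)
theorem tw1385 : Tow.{u} l1385 t1385 := tow_of tc1385_0 (Rng.zero.step tc1385_1) (Rng.zero.step tc1385_2)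
theorem tw1386 : Tow.{u} l1386 t1386 := tow_of tc1386_0 (Rng.zero.step tc1386_1) (Rng.zero.step tc1386_2)
theorem tw1387 : Tow.{u} l1387 t1387 := tow_of tc1387_0 (Rng.zero.step tc1387_1) (Rng.zero.step tc1387_2)
theorem tw1326 : Tow.{u} l1326 t1326 := tow_of tc1326_0 (Rng.zero.step tc1326_1) (Rng.zero.step tc1326_2)
theorem tw1327 : Tow.{u} l1327 t1327 := tow_of tc1327_0 (Rng.zero.step tc1327_1) (Rng.zero.step tc1327_2)
theorem tw1328 : Tow.{u} l1328 t1328 := tow_of tc1328_0 (Rng.zero.step tc1328_1) (Rng.zero.step tc1328_2)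
theorem tw1329 : Tow.{u} l1329 t1329 := tow_of tc1329_0 (Rng.zero.step tc1329_1) (Rng.zero.step tc1329_2)
theorem tw1330 : Tow.{u} l1330 t1330 := tow_of tc1330_0 (Rng.zero.step tc1330_1) (Rng.zero.step tc1330_2)
theorem tw1331 : Tow.{u} l1331 t1331 := tow_of tc1331_0 (Rng.zero.step tc1331_1) (Rng.zero.step tc1331_2)
theorem tw27 : Tow.{u} l27 t27 := tow_of tc27_0 (Rng.zero.step tc27_1) (Rng.zero.step tc27_2)
theorem tw28 : Tow.{u} l28 t28 := tow_of tc28_0 (Rng.zero.step tc28_1) (Rng.zero.step tc28_2)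
theorem tw29 : Tow.{u} l29 t29 := tow_of tc29_0 (Rng.zero.step tc29_1) (Rng.zero.step tc29_2)
theorem tw30 : Tow.{u} l30 t30 := tow_of tc30_0 (Rng.zero.step tc30_1) (Rng.zero.step tc30_2)
theorem tw31 : Tow.{u} l31 t31 := tow_of tc31_0 (Rng.zero.step tc31_1) (Rng.zero.step tc31_2)
theorem tw32 : Tow.{u} l32 t32 := tow_of tc32_0 (Rng.zero.step tc32_1) (Rng.zero.step tc32_2)
theorem tw0 : Tow.{u} [] t0 := tow_of tc0_0 (Rng.zero.step tc0_1) (Rng.zero.step tc0_2)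
theorem x172 : AuxS.{u} (cP4) s172 0 a172 := aux_base3 tw91 rfl b172
theorem x172_1 : AuxS.{u} (cP4) s172 0 a172_1 := (AuxS.up x172 c172_9 :)
theorem x172_L65_1 : AuxS.{u} (cP4) s172 (65 + 2) a172_L65_1 := (AuxS.hp (x172_1.lam 65) c172_3 :)
theorem x172_L65_2 : AuxS.{u} (cP4) s172 (65 + 2) a172_L65_2 := (AuxS.ne x172_L65_1 c172_4 :)
theorem x172_L65_3 : AuxS.{u} (cP4) s172 (65 + 2) a172_L65_3 := (AuxS.nf x172_L65_2 c172_5 :)
theorem x172_L65_4 : AuxS.{u} (cP4) s172 (65 + 2) a172_L65_4 := (AuxS.ne x172_L65_3 c172_6 :)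
theorem n172 : Sound.{u} (cP4) s172 0 :=
  (x172_1.spl c172_0 (AllM.cons ((x172_1.lam 0).tp c172_1 :) (AllM.cons ((x172_1.lam 1).cl2 c172_2 :) (AllM.cons (x172_L65_4.tp c172_7 :) AllM.nil))) ((x172_1.weaken 1).ext2 (fun _ => rfl) GamS.nil AllS.nil c172_8 (Phs.fin (ct := ct172_8) rfl) (Phs.fin (ct := ct172_8) rfl)) :)
theorem x173 : AuxS.{u} (cP4) s173 0 a173 := aux_base3 tw91 rfl b173
theorem n173 : Sound.{u} (cP4) s173 0 :=
  (x173.k4 c173_0 :)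
theorem x174 : AuxS.{u} (cP4) s174 0 a174 := aux_base3 tw91 rfl b174
theorem n174 : Sound.{u} (cP4) s174 0 :=
  (x174.k4 c174_0 :)
theorem x175 : AuxS.{u} (cP4) s175 0 a175 := aux_base3 tw91 rfl b175
theorem n175 : Sound.{u} (cP4) s175 0 :=
  (x175.k4 c175_0 :)
theorem x176 : AuxS.{u} (cP4) s176 0 a176 := aux_base3 tw91 rfl b176
theorem n176 : Sound.{u} (cP4) s176 0 :=
  (x176.k4 c176_0 :)
theorem x177 : AuxS.{u} (cP4) s177 0 a177 := aux_base3 tw91 rfl b177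
theorem n177 : Sound.{u} (cP4) s177 0 :=
  (x177.k4 c177_0 :)
theorem x178 : AuxS.{u} (cP4) s178 0 a178 := aux_base3 tw91 rfl b178
theorem n178 : Sound.{u} (cP4) s178 0 :=
  (x178.k4 c178_0 :)
theorem x179 : AuxS.{u} (cP4) s179 0 a179 := aux_base3 tw91 rfl b179
theorem n179 : Sound.{u} (cP4) s179 0 :=
  (x179.k4 c179_0 :)
theorem x180 : AuxS.{u} (cP4) s180 0 a180 := aux_base3 tw91 rfl b180
theorem n180 : Sound.{u} (cP4) s180 0 :=
  (x180.k4 c180_0 :)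
theorem x181 : AuxS.{u} (cP4) s181 0 a181 := aux_base3 tw91 rfl b181
theorem n181 : Sound.{u} (cP4) s181 0 :=
  (x181.k4 c181_0 :)
theorem x182 : AuxS.{u} (cP4) s182 0 a182 := aux_base3 tw91 rfl b182
theorem n182 : Sound.{u} (cP4) s182 0 :=
  (x182.k4 c182_0 :)
theorem x183 : AuxS.{u} (cP4) s183 0 a183 := aux_base3 tw91 rfl b183
theorem n183 : Sound.{u} (cP4) s183 0 :=
  (x183.k4 c183_0 :)
theorem x184 : AuxS.{u} (cP4) s184 0 a184 := aux_base3 tw91 rfl b184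
theorem n184 : Sound.{u} (cP4) s184 0 :=
  (x184.k4 c184_0 :)
theorem x185 : AuxS.{u} (cP4) s185 0 a185 := aux_base3 tw91 rfl b185
theorem n185 : Sound.{u} (cP4) s185 0 :=
  (x185.k4 c185_0 :)
theorem x186 : AuxS.{u} (cP4) s186 0 a186 := aux_base3 tw91 rfl b186
theorem n186 : Sound.{u} (cP4) s186 0 :=
  (x186.k4 c186_0 :)
theorem x187 : AuxS.{u} (cP4) s187 0 a187 := aux_base3 tw91 rfl b187
theorem n187 : Sound.{u} (cP4) s187 0 :=
  (x187.k4 c187_0 :)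
theorem x188 : AuxS.{u} (cP4) s188 0 a188 := aux_base3 tw91 rfl b188
theorem n188 : Sound.{u} (cP4) s188 0 :=
  (x188.k4 c188_0 :)
theorem x189 : AuxS.{u} (cP4) s189 0 a189 := aux_base3 tw91 rfl b189
theorem n189 : Sound.{u} (cP4) s189 0 :=
  (x189.k4 c189_0 :)
theorem x190 : AuxS.{u} (cP4) s190 0 a190 := aux_base3 tw91 rfl b190
theorem n190 : Sound.{u} (cP4) s190 0 :=
  (x190.k4 c190_0 :)
theorem x191 : AuxS.{u} (cP4) s191 0 a191 := aux_base3 tw91 rfl b191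
theorem n191 : Sound.{u} (cP4) s191 0 :=
  (x191.k4 c191_0 :)
theorem x192 : AuxS.{u} (cP4) s192 0 a192 := aux_base3 tw91 rfl b192
theorem n192 : Sound.{u} (cP4) s192 0 :=
  (x192.k4 c192_0 :)
theorem x193 : AuxS.{u} (cP4) s193 0 a193 := aux_base3 tw91 rfl b193
theorem n193 : Sound.{u} (cP4) s193 0 :=
  (x193.k4 c193_0 :)
theorem x194 : AuxS.{u} (cP4) s194 0 a194 := aux_base3 tw91 rfl b194
theorem n194 : Sound.{u} (cP4) s194 0 :=
  (x194.k4 c194_0 :)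
theorem x195 : AuxS.{u} (cP4) s195 0 a195 := aux_base3 tw91 rfl b195
theorem n195 : Sound.{u} (cP4) s195 0 :=
  (x195.k4 c195_0 :)
theorem x196 : AuxS.{u} (cP4) s196 0 a196 := aux_base3 tw91 rfl b196
theorem n196 : Sound.{u} (cP4) s196 0 :=
  (x196.k4 c196_0 :)
theorem x197 : AuxS.{u} (cP4) s197 0 a197 := aux_base3 tw91 rfl b197
theorem n197 : Sound.{u} (cP4) s197 0 :=
  (x197.k4 c197_0 :)
theorem x198 : AuxS.{u} (cP4) s198 0 a198 := aux_base3 tw91 rfl b198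
theorem n198 : Sound.{u} (cP4) s198 0 :=
  (x198.k4 c198_0 :)
theorem x199 : AuxS.{u} (cP4) s199 0 a199 := aux_base3 tw91 rfl b199
theorem n199 : Sound.{u} (cP4) s199 0 :=
  (x199.k4 c199_0 :)
theorem x200 : AuxS.{u} (cP4) s200 0 a200 := aux_base3 tw91 rfl b200
theorem n200 : Sound.{u} (cP4) s200 0 :=
  (x200.k4 c200_0 :)
theorem x201 : AuxS.{u} (cP4) s201 0 a201 := aux_base3 tw91 rfl b201
theorem n201 : Sound.{u} (cP4) s201 0 :=
  (x201.k4 c201_0 :)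
theorem x202 : AuxS.{u} (cP4) s202 0 a202 := aux_base3 tw91 rfl b202
theorem n202 : Sound.{u} (cP4) s202 0 :=
  (x202.k4 c202_0 :)
theorem x203 : AuxS.{u} (cP4) s203 0 a203 := aux_base3 tw91 rfl b203
theorem n203 : Sound.{u} (cP4) s203 0 :=
  (x203.k4 c203_0 :)
theorem x156 : AuxS.{u} (cP4) s156 0 a156 := aux_base3 tw91 rfl b156
theorem x156_1 : AuxS.{u} (cP4) s156 0 a156_1 := x156
theorem n156 : Sound.{u} (cP4) s156 0 :=
  (x156_1.fr (AuxS.gam x156_1 c156_0) (AllS.cons n172 (AllS.cons n173 (AllS.cons n174 (AllS.cons n175 (AllS.cons n176 (AllS.cons n177 (AllS.cons n178 (AllS.cons n179 (AllS.cons n180 (AllS.cons n181 (AllS.cons n182 (AllS.cons n183 (AllS.cons n184 (AllS.cons n185 (AllS.cons n186 (AllS.cons n187 (AllS.cons n188 (AllS.cons n189 (AllS.cons n190 (AllS.cons n191 (AllS.cons n192 (AllS.cons n193 (AllS.cons n194 (AllS.cons n195 (AllS.cons n196 (AllS.cons n197 (AllS.cons n198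 (AllS.cons n199 (AllS.cons n200 (AllS.cons n201 (AllS.cons n202 (AllS.cons n203 AllS.nil)))))))))))))))))))))))))))))))) c156_1 :)
theorem x157 : AuxS.{u} (cP4) s157 0 a157 := aux_base3 tw92 rfl b157
theorem x157_1 : AuxS.{u} (cP4) s157 0 a157_1 := x157
theorem n157 : Sound.{u} (cP4) s157 0 :=
  (x157_1.fr GamS.nil AllS.nil c157_0 :)
theorem x158 : AuxS.{u} (cP4) s158 0 a158 := aux_base3 tw93 rfl b158
theorem x158_1 : AuxS.{u} (cP4) s158 0 a158_1 := x158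
theorem n158 : Sound.{u} (cP4) s158 0 :=
  (x158_1.fr GamS.nil AllS.nil c158_0 :)
theorem x159 : AuxS.{u} (cP4) s159 0 a159 := aux_base3 tw94 rfl b159
theorem x159_1 : AuxS.{u} (cP4) s159 0 a159_1 := x159
theorem n159 : Sound.{u} (cP4) s159 0 :=
  (x159_1.fr GamS.nil AllS.nil c159_0 :)
theorem x204 : AuxS.{u} (cP4) s204 0 a204 := aux_base3 tw95 rfl b204
theorem x204_1 : AuxS.{u} (cP4) s204 0 a204_1 := (AuxS.up x204 c204_6 :)
theorem x204_L65_1 : AuxS.{u} (cP4) s204 (65 + 2) a204_L65_1 := (AuxS.hp (x204_1.lam 65) c204_3 :)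
theorem n204 : Sound.{u} (cP4) s204 0 :=
  (x204_1.spl c204_0 (AllM.cons ((x204_1.lam 0).tp c204_1 :) (AllM.cons ((x204_1.lam 1).cl2 c204_2 :) (AllM.cons (x204_L65_1.tp c204_4 :) AllM.nil))) ((x204_1.weaken 1).ext2 (fun _ => rfl) GamS.nil AllS.nil c204_5 (Phs.fin (ct := ct204_5) rfl) (Phs.fin (ct := ct204_5) rfl)) :)
theorem x205 : AuxS.{u} (cP4) s205 0 a205 := aux_base3 tw95 rfl b205
theorem n205 : Sound.{u} (cP4) s205 0 :=
  (x205.k4 c205_0 :)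
theorem x206 : AuxS.{u} (cP4) s206 0 a206 := aux_base3 tw95 rfl b206
theorem n206 : Sound.{u} (cP4) s206 0 :=
  (x206.k4 c206_0 :)
theorem x207 : AuxS.{u} (cP4) s207 0 a207 := aux_base3 tw95 rfl b207
theorem n207 : Sound.{u} (cP4) s207 0 :=
  (x207.k4 c207_0 :)
theorem x208 : AuxS.{u} (cP4) s208 0 a208 := aux_base3 tw95 rfl b208
theorem n208 : Sound.{u} (cP4) s208 0 :=
  (x208.k4 c208_0 :)
theorem x209 : AuxS.{u} (cP4) s209 0 a209 := aux_base3 tw95 rfl b209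
theorem n209 : Sound.{u} (cP4) s209 0 :=
  (x209.k4 c209_0 :)
theorem x210 : AuxS.{u} (cP4) s210 0 a210 := aux_base3 tw95 rfl b210
theorem n210 : Sound.{u} (cP4) s210 0 :=
  (x210.k4 c210_0 :)
theorem x211 : AuxS.{u} (cP4) s211 0 a211 := aux_base3 tw95 rfl b211
theorem n211 : Sound.{u} (cP4) s211 0 :=
  (x211.k4 c211_0 :)
theorem x212 : AuxS.{u} (cP4) s212 0 a212 := aux_base3 tw95 rfl b212
theorem n212 : Sound.{u} (cP4) s212 0 :=
  (x212.k4 c212_0 :)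
theorem x213 : AuxS.{u} (cP4) s213 0 a213 := aux_base3 tw95 rfl b213
theorem n213 : Sound.{u} (cP4) s213 0 :=
  (x213.k4 c213_0 :)
theorem x214 : AuxS.{u} (cP4) s214 0 a214 := aux_base3 tw95 rfl b214
theorem n214 : Sound.{u} (cP4) s214 0 :=
  (x214.k4 c214_0 :)
theorem x215 : AuxS.{u} (cP4) s215 0 a215 := aux_base3 tw95 rfl b215
theorem n215 : Sound.{u} (cP4) s215 0 :=
  (x215.k4 c215_0 :)
theorem x216 : AuxS.{u} (cP4) s216 0 a216 := aux_base3 tw95 rfl b216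
theorem n216 : Sound.{u} (cP4) s216 0 :=
  (x216.k4 c216_0 :)
theorem x217 : AuxS.{u} (cP4) s217 0 a217 := aux_base3 tw95 rfl b217
theorem n217 : Sound.{u} (cP4) s217 0 :=
  (x217.k4 c217_0 :)
theorem x218 : AuxS.{u} (cP4) s218 0 a218 := aux_base3 tw95 rfl b218
theorem n218 : Sound.{u} (cP4) s218 0 :=
  (x218.k4 c218_0 :)
theorem x219 : AuxS.{u} (cP4) s219 0 a219 := aux_base3 tw95 rfl b219
theorem n219 : Sound.{u} (cP4) s219 0 :=
  (x219.k4 c219_0 :)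
theorem x220 : AuxS.{u} (cP4) s220 0 a220 := aux_base3 tw95 rfl b220
theorem n220 : Sound.{u} (cP4) s220 0 :=
  (x220.k4 c220_0 :)
theorem x221 : AuxS.{u} (cP4) s221 0 a221 := aux_base3 tw95 rfl b221
theorem n221 : Sound.{u} (cP4) s221 0 :=
  (x221.k4 c221_0 :)
theorem x222 : AuxS.{u} (cP4) s222 0 a222 := aux_base3 tw95 rfl b222
theorem n222 : Sound.{u} (cP4) s222 0 :=
  (x222.k4 c222_0 :)
theorem x223 : AuxS.{u} (cP4) s223 0 a223 := aux_base3 tw95 rfl b223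
theorem n223 : Sound.{u} (cP4) s223 0 :=
  (x223.k4 c223_0 :)
theorem x224 : AuxS.{u} (cP4) s224 0 a224 := aux_base3 tw95 rfl b224
theorem n224 : Sound.{u} (cP4) s224 0 :=
  (x224.k4 c224_0 :)
theorem x225 : AuxS.{u} (cP4) s225 0 a225 := aux_base3 tw95 rfl b225
theorem n225 : Sound.{u} (cP4) s225 0 :=
  (x225.k4 c225_0 :)
theorem x226 : AuxS.{u} (cP4) s226 0 a226 := aux_base3 tw95 rfl b226
theorem n226 : Sound.{u} (cP4) s226 0 :=
  (x226.k4 c226_0 :)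
theorem x227 : AuxS.{u} (cP4) s227 0 a227 := aux_base3 tw95 rfl b227
theorem n227 : Sound.{u} (cP4) s227 0 :=
  (x227.k4 c227_0 :)
theorem x228 : AuxS.{u} (cP4) s228 0 a228 := aux_base3 tw95 rfl b228
theorem n228 : Sound.{u} (cP4) s228 0 :=
  (x228.k4 c228_0 :)
theorem x229 : AuxS.{u} (cP4) s229 0 a229 := aux_base3 tw95 rfl b229
theorem n229 : Sound.{u} (cP4) s229 0 :=
  (x229.k4 c229_0 :)
theorem x230 : AuxS.{u} (cP4) s230 0 a230 := aux_base3 tw95 rfl b230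
theorem n230 : Sound.{u} (cP4) s230 0 :=
  (x230.k4 c230_0 :)
theorem x231 : AuxS.{u} (cP4) s231 0 a231 := aux_base3 tw95 rfl b231
theorem n231 : Sound.{u} (cP4) s231 0 :=
  (x231.k4 c231_0 :)
theorem x232 : AuxS.{u} (cP4) s232 0 a232 := aux_base3 tw95 rfl b232
theorem n232 : Sound.{u} (cP4) s232 0 :=
  (x232.k4 c232_0 :)
theorem x233 : AuxS.{u} (cP4) s233 0 a233 := aux_base3 tw95 rfl b233
theorem n233 : Sound.{u} (cP4) s233 0 :=
  (x233.k4 c233_0 :)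
theorem x234 : AuxS.{u} (cP4) s234 0 a234 := aux_base3 tw95 rfl b234
theorem n234 : Sound.{u} (cP4) s234 0 :=
  (x234.k4 c234_0 :)
theorem x235 : AuxS.{u} (cP4) s235 0 a235 := aux_base3 tw95 rfl b235
theorem n235 : Sound.{u} (cP4) s235 0 :=
  (x235.k4 c235_0 :)
theorem x160 : AuxS.{u} (cP4) s160 0 a160 := aux_base3 tw95 rfl b160
theorem x160_1 : AuxS.{u} (cP4) s160 0 a160_1 := x160
theorem n160 : Sound.{u} (cP4) s160 0 :=
  (x160_1.fr (AuxS.gam x160_1 c160_0) (AllS.cons n204 (AllS.cons n205 (AllS.cons n206 (AllS.cons n207 (AllS.cons n208 (AllS.cons n209 (AllS.cons n210 (AllS.cons n211 (AllS.cons n212 (AllS.cons n213 (AllS.cons n214 (AllS.cons n215 (AllS.cons n216 (AllS.cons n217 (AllS.cons n218 (AllS.cons n219 (AllS.cons n220 (AllS.cons n221 (AllS.cons n222 (AllS.cons n223 (AllS.cons n224 (AllS.cons n225 (AllS.cons n226 (AllS.cons n227 (AllS.cons n228 (AllS.cons n229 (AllS.cons n230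 (AllS.cons n231 (AllS.cons n232 (AllS.cons n233 (AllS.cons n234 (AllS.cons n235 AllS.nil)))))))))))))))))))))))))))))))) c160_1 :)
theorem x161 : AuxS.{u} (cP4) s161 0 a161 := aux_base3 tw96 rfl b161
theorem x161_1 : AuxS.{u} (cP4) s161 0 a161_1 := x161
theorem n161 : Sound.{u} (cP4) s161 0 :=
  (x161_1.fr GamS.nil AllS.nil c161_0 :)
theorem x162 : AuxS.{u} (cP4) s162 0 a162 := aux_base3 tw97 rfl b162
theorem x162_1 : AuxS.{u} (cP4) s162 0 a162_1 := x162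
theorem n162 : Sound.{u} (cP4) s162 0 :=
  (x162_1.fr GamS.nil AllS.nil c162_0 :)
theorem x163 : AuxS.{u} (cP4) s163 0 a163 := aux_base3 tw98 rfl b163
theorem x163_1 : AuxS.{u} (cP4) s163 0 a163_1 := x163
theorem n163 : Sound.{u} (cP4) s163 0 :=
  (x163_1.fr GamS.nil AllS.nil c163_0 :)
theorem x236 : AuxS.{u} (cP4) s236 0 a236 := aux_base3 tw99 rfl b236
theorem x236_1 : AuxS.{u} (cP4) s236 0 a236_1 := (AuxS.up x236 c236_6 :)
theorem x236_L65_1 : AuxS.{u} (cP4) s236 (65 + 2) a236_L65_1 := (AuxS.hp (x236_1.lam 65) c236_3 :)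
theorem n236 : Sound.{u} (cP4) s236 0 :=
  (x236_1.spl c236_0 (AllM.cons ((x236_1.lam 0).tp c236_1 :) (AllM.cons ((x236_1.lam 1).cl2 c236_2 :) (AllM.cons (x236_L65_1.tp c236_4 :) AllM.nil))) ((x236_1.weaken 1).ext2 (fun _ => rfl) GamS.nil AllS.nil c236_5 (Phs.fin (ct := ct236_5) rfl) (Phs.fin (ct := ct236_5) rfl)) :)
theorem x237 : AuxS.{u} (cP4) s237 0 a237 := aux_base3 tw99 rfl b237
theorem n237 : Sound.{u} (cP4) s237 0 :=
  (x237.k4 c237_0 :)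
theorem x238 : AuxS.{u} (cP4) s238 0 a238 := aux_base3 tw99 rfl b238
theorem n238 : Sound.{u} (cP4) s238 0 :=
  (x238.k4 c238_0 :)
theorem x239 : AuxS.{u} (cP4) s239 0 a239 := aux_base3 tw99 rfl b239
theorem n239 : Sound.{u} (cP4) s239 0 :=
  (x239.k4 c239_0 :)
theorem x240 : AuxS.{u} (cP4) s240 0 a240 := aux_base3 tw99 rfl b240
theorem n240 : Sound.{u} (cP4) s240 0 :=
  (x240.k4 c240_0 :)
theorem x241 : AuxS.{u} (cP4) s241 0 a241 := aux_base3 tw99 rfl b241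
theorem n241 : Sound.{u} (cP4) s241 0 :=
  (x241.k4 c241_0 :)
theorem x242 : AuxS.{u} (cP4) s242 0 a242 := aux_base3 tw99 rfl b242
theorem n242 : Sound.{u} (cP4) s242 0 :=
  (x242.k4 c242_0 :)
theorem x243 : AuxS.{u} (cP4) s243 0 a243 := aux_base3 tw99 rfl b243
theorem n243 : Sound.{u} (cP4) s243 0 :=
  (x243.k4 c243_0 :)
theorem x244 : AuxS.{u} (cP4) s244 0 a244 := aux_base3 tw99 rfl b244
theorem n244 : Sound.{u} (cP4) s244 0 :=
  (x244.k4 c244_0 :)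
theorem x245 : AuxS.{u} (cP4) s245 0 a245 := aux_base3 tw99 rfl b245
theorem n245 : Sound.{u} (cP4) s245 0 :=
  (x245.k4 c245_0 :)
theorem x246 : AuxS.{u} (cP4) s246 0 a246 := aux_base3 tw99 rfl b246
theorem n246 : Sound.{u} (cP4) s246 0 :=
  (x246.k4 c246_0 :)
theorem x247 : AuxS.{u} (cP4) s247 0 a247 := aux_base3 tw99 rfl b247
theorem n247 : Sound.{u} (cP4) s247 0 :=
  (x247.k4 c247_0 :)
theorem x248 : AuxS.{u} (cP4) s248 0 a248 := aux_base3 tw99 rfl b248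
theorem n248 : Sound.{u} (cP4) s248 0 :=
  (x248.k4 c248_0 :)
theorem x249 : AuxS.{u} (cP4) s249 0 a249 := aux_base3 tw99 rfl b249
theorem n249 : Sound.{u} (cP4) s249 0 :=
  (x249.k4 c249_0 :)
theorem x250 : AuxS.{u} (cP4) s250 0 a250 := aux_base3 tw99 rfl b250
theorem n250 : Sound.{u} (cP4) s250 0 :=
  (x250.k4 c250_0 :)
theorem x251 : AuxS.{u} (cP4) s251 0 a251 := aux_base3 tw99 rfl b251
theorem n251 : Sound.{u} (cP4) s251 0 :=
  (x251.k4 c251_0 :)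
theorem x252 : AuxS.{u} (cP4) s252 0 a252 := aux_base3 tw99 rfl b252
theorem n252 : Sound.{u} (cP4) s252 0 :=
  (x252.k4 c252_0 :)
theorem x253 : AuxS.{u} (cP4) s253 0 a253 := aux_base3 tw99 rfl b253
theorem n253 : Sound.{u} (cP4) s253 0 :=
  (x253.k4 c253_0 :)
theorem x254 : AuxS.{u} (cP4) s254 0 a254 := aux_base3 tw99 rfl b254
theorem n254 : Sound.{u} (cP4) s254 0 :=
  (x254.k4 c254_0 :)
theorem x255 : AuxS.{u} (cP4) s255 0 a255 := aux_base3 tw99 rfl b255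
theorem n255 : Sound.{u} (cP4) s255 0 :=
  (x255.k4 c255_0 :)
theorem x256 : AuxS.{u} (cP4) s256 0 a256 := aux_base3 tw99 rfl b256
theorem n256 : Sound.{u} (cP4) s256 0 :=
  (x256.k4 c256_0 :)
theorem x257 : AuxS.{u} (cP4) s257 0 a257 := aux_base3 tw99 rfl b257
theorem n257 : Sound.{u} (cP4) s257 0 :=
  (x257.k4 c257_0 :)
theorem x258 : AuxS.{u} (cP4) s258 0 a258 := aux_base3 tw99 rfl b258
theorem n258 : Sound.{u} (cP4) s258 0 :=
  (x258.k4 c258_0 :)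
theorem x259 : AuxS.{u} (cP4) s259 0 a259 := aux_base3 tw99 rfl b259
theorem n259 : Sound.{u} (cP4) s259 0 :=
  (x259.k4 c259_0 :)
theorem x260 : AuxS.{u} (cP4) s260 0 a260 := aux_base3 tw99 rfl b260
theorem n260 : Sound.{u} (cP4) s260 0 :=
  (x260.k4 c260_0 :)
theorem x261 : AuxS.{u} (cP4) s261 0 a261 := aux_base3 tw99 rfl b261
theorem n261 : Sound.{u} (cP4) s261 0 :=
  (x261.k4 c261_0 :)
theorem x262 : AuxS.{u} (cP4) s262 0 a262 := aux_base3 tw99 rfl b262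
theorem n262 : Sound.{u} (cP4) s262 0 :=
  (x262.k4 c262_0 :)
theorem x263 : AuxS.{u} (cP4) s263 0 a263 := aux_base3 tw99 rfl b263
theorem n263 : Sound.{u} (cP4) s263 0 :=
  (x263.k4 c263_0 :)
theorem x264 : AuxS.{u} (cP4) s264 0 a264 := aux_base3 tw99 rfl b264
theorem n264 : Sound.{u} (cP4) s264 0 :=
  (x264.k4 c264_0 :)
theorem x265 : AuxS.{u} (cP4) s265 0 a265 := aux_base3 tw99 rfl b265
theorem n265 : Sound.{u} (cP4) s265 0 :=
  (x265.k4 c265_0 :)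
theorem x266 : AuxS.{u} (cP4) s266 0 a266 := aux_base3 tw99 rfl b266
theorem n266 : Sound.{u} (cP4) s266 0 :=
  (x266.k4 c266_0 :)
theorem x267 : AuxS.{u} (cP4) s267 0 a267 := aux_base3 tw99 rfl b267
theorem n267 : Sound.{u} (cP4) s267 0 :=
  (x267.k4 c267_0 :)
theorem x164 : AuxS.{u} (cP4) s164 0 a164 := aux_base3 tw99 rfl b164
theorem x164_1 : AuxS.{u} (cP4) s164 0 a164_1 := x164
theorem n164 : Sound.{u} (cP4) s164 0 :=
  (x164_1.fr (AuxS.gam x164_1 c164_0) (AllS.cons n236 (AllS.cons n237 (AllS.cons n238 (AllS.cons n239 (AllS.cons n240 (AllS.cons n241 (AllS.cons n242 (AllS.cons n243 (AllS.cons n244 (AllS.cons n245 (AllS.cons n246 (AllS.cons n247 (AllS.cons n248 (AllS.cons n249 (AllS.cons n250 (AllS.cons n251 (AllS.cons n252 (AllS.cons n253 (AllS.cons n254 (AllS.cons n255 (AllS.cons n256 (AllS.cons n257 (AllS.cons n258 (AllS.cons n259 (AllS.cons n260 (AllS.cons n261 (AllS.cons n262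 (AllS.cons n263 (AllS.cons n264 (AllS.cons n265 (AllS.cons n266 (AllS.cons n267 AllS.nil)))))))))))))))))))))))))))))))) c164_1 :)
theorem x165 : AuxS.{u} (cP4) s165 0 a165 := aux_base3 tw100 rfl b165
theorem x165_1 : AuxS.{u} (cP4) s165 0 a165_1 := x165
theorem n165 : Sound.{u} (cP4) s165 0 :=
  (x165_1.fr GamS.nil AllS.nil c165_0 :)
theorem x166 : AuxS.{u} (cP4) s166 0 a166 := aux_base3 tw101 rfl b166
theorem x166_1 : AuxS.{u} (cP4) s166 0 a166_1 := x166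
theorem x166_2 : AuxS.{u} (cP4) s166 0 a166_2 := x166_1
theorem n166 : Sound.{u} (cP4) s166 0 :=
  (x166_2.fr GamS.nil AllS.nil c166_0 :)
theorem x167 : AuxS.{u} (cP4) s167 0 a167 := aux_base3 tw102 rfl b167
theorem x167_1 : AuxS.{u} (cP4) s167 0 a167_1 := x167
theorem n167 : Sound.{u} (cP4) s167 0 :=
  (x167_1.fr GamS.nil AllS.nil c167_0 :)
theorem x268 : AuxS.{u} (cP4) s268 0 a268 := aux_base3 tw103 rfl b268
theorem x268_1 : AuxS.{u} (cP4) s268 0 a268_1 := (AuxS.up x268 c268_6 :)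
theorem x268_L65_1 : AuxS.{u} (cP4) s268 (65 + 2) a268_L65_1 := (AuxS.hp (x268_1.lam 65) c268_3 :)
theorem n268 : Sound.{u} (cP4) s268 0 :=
  (x268_1.spl c268_0 (AllM.cons ((x268_1.lam 0).tp c268_1 :) (AllM.cons ((x268_1.lam 1).cl2 c268_2 :) (AllM.cons (x268_L65_1.tp c268_4 :) AllM.nil))) ((x268_1.weaken 1).ext2 (fun _ => rfl) GamS.nil AllS.nil c268_5 (Phs.fin (ct := ct268_5) rfl) (Phs.fin (ct := ct268_5) rfl)) :)
theorem x269 : AuxS.{u} (cP4) s269 0 a269 := aux_base3 tw103 rfl b269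
theorem n269 : Sound.{u} (cP4) s269 0 :=
  (x269.k4 c269_0 :)
theorem x270 : AuxS.{u} (cP4) s270 0 a270 := aux_base3 tw103 rfl b270
theorem n270 : Sound.{u} (cP4) s270 0 :=
  (x270.k4 c270_0 :)
theorem x271 : AuxS.{u} (cP4) s271 0 a271 := aux_base3 tw103 rfl b271
theorem n271 : Sound.{u} (cP4) s271 0 :=
  (x271.k4 c271_0 :)
theorem x272 : AuxS.{u} (cP4) s272 0 a272 := aux_base3 tw103 rfl b272
theorem n272 : Sound.{u} (cP4) s272 0 :=
  (x272.k4 c272_0 :)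
theorem x273 : AuxS.{u} (cP4) s273 0 a273 := aux_base3 tw103 rfl b273
theorem n273 : Sound.{u} (cP4) s273 0 :=
  (x273.k4 c273_0 :)
theorem x274 : AuxS.{u} (cP4) s274 0 a274 := aux_base3 tw103 rfl b274
theorem n274 : Sound.{u} (cP4) s274 0 :=
  (x274.k4 c274_0 :)
theorem x275 : AuxS.{u} (cP4) s275 0 a275 := aux_base3 tw103 rfl b275
theorem n275 : Sound.{u} (cP4) s275 0 :=
  (x275.k4 c275_0 :)
theorem x276 : AuxS.{u} (cP4) s276 0 a276 := aux_base3 tw103 rfl b276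
theorem n276 : Sound.{u} (cP4) s276 0 :=
  (x276.k4 c276_0 :)
theorem x277 : AuxS.{u} (cP4) s277 0 a277 := aux_base3 tw103 rfl b277
theorem n277 : Sound.{u} (cP4) s277 0 :=
  (x277.k4 c277_0 :)
theorem x278 : AuxS.{u} (cP4) s278 0 a278 := aux_base3 tw103 rfl b278
theorem n278 : Sound.{u} (cP4) s278 0 :=
  (x278.k4 c278_0 :)
theorem x279 : AuxS.{u} (cP4) s279 0 a279 := aux_base3 tw103 rfl b279
theorem n279 : Sound.{u} (cP4) s279 0 :=
  (x279.k4 c279_0 :)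
theorem x280 : AuxS.{u} (cP4) s280 0 a280 := aux_base3 tw103 rfl b280
theorem n280 : Sound.{u} (cP4) s280 0 :=
  (x280.k4 c280_0 :)
theorem x281 : AuxS.{u} (cP4) s281 0 a281 := aux_base3 tw103 rfl b281
theorem n281 : Sound.{u} (cP4) s281 0 :=
  (x281.k4 c281_0 :)
theorem x282 : AuxS.{u} (cP4) s282 0 a282 := aux_base3 tw103 rfl b282
theorem n282 : Sound.{u} (cP4) s282 0 :=
  (x282.k4 c282_0 :)
theorem x283 : AuxS.{u} (cP4) s283 0 a283 := aux_base3 tw103 rfl b283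
theorem n283 : Sound.{u} (cP4) s283 0 :=
  (x283.k4 c283_0 :)
theorem x284 : AuxS.{u} (cP4) s284 0 a284 := aux_base3 tw103 rfl b284
theorem n284 : Sound.{u} (cP4) s284 0 :=
  (x284.k4 c284_0 :)
theorem x285 : AuxS.{u} (cP4) s285 0 a285 := aux_base3 tw103 rfl b285
theorem n285 : Sound.{u} (cP4) s285 0 :=
  (x285.k4 c285_0 :)
theorem x286 : AuxS.{u} (cP4) s286 0 a286 := aux_base3 tw103 rfl b286
theorem n286 : Sound.{u} (cP4) s286 0 :=
  (x286.k4 c286_0 :)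
theorem x287 : AuxS.{u} (cP4) s287 0 a287 := aux_base3 tw103 rfl b287
theorem n287 : Sound.{u} (cP4) s287 0 :=
  (x287.k4 c287_0 :)
theorem x288 : AuxS.{u} (cP4) s288 0 a288 := aux_base3 tw103 rfl b288
theorem n288 : Sound.{u} (cP4) s288 0 :=
  (x288.k4 c288_0 :)
theorem x289 : AuxS.{u} (cP4) s289 0 a289 := aux_base3 tw103 rfl b289
theorem n289 : Sound.{u} (cP4) s289 0 :=
  (x289.k4 c289_0 :)
theorem x290 : AuxS.{u} (cP4) s290 0 a290 := aux_base3 tw103 rfl b290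
theorem n290 : Sound.{u} (cP4) s290 0 :=
  (x290.k4 c290_0 :)
theorem x291 : AuxS.{u} (cP4) s291 0 a291 := aux_base3 tw103 rfl b291
theorem n291 : Sound.{u} (cP4) s291 0 :=
  (x291.k4 c291_0 :)
theorem x292 : AuxS.{u} (cP4) s292 0 a292 := aux_base3 tw103 rfl b292
theorem n292 : Sound.{u} (cP4) s292 0 :=
  (x292.k4 c292_0 :)
theorem x293 : AuxS.{u} (cP4) s293 0 a293 := aux_base3 tw103 rfl b293
theorem n293 : Sound.{u} (cP4) s293 0 :=
  (x293.k4 c293_0 :)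
theorem x294 : AuxS.{u} (cP4) s294 0 a294 := aux_base3 tw103 rfl b294
theorem n294 : Sound.{u} (cP4) s294 0 :=
  (x294.k4 c294_0 :)
theorem x295 : AuxS.{u} (cP4) s295 0 a295 := aux_base3 tw103 rfl b295
theorem n295 : Sound.{u} (cP4) s295 0 :=
  (x295.k4 c295_0 :)
theorem x296 : AuxS.{u} (cP4) s296 0 a296 := aux_base3 tw103 rfl b296
theorem n296 : Sound.{u} (cP4) s296 0 :=
  (x296.k4 c296_0 :)
theorem x297 : AuxS.{u} (cP4) s297 0 a297 := aux_base3 tw103 rfl b297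
theorem n297 : Sound.{u} (cP4) s297 0 :=
  (x297.k4 c297_0 :)
theorem x298 : AuxS.{u} (cP4) s298 0 a298 := aux_base3 tw103 rfl b298
theorem n298 : Sound.{u} (cP4) s298 0 :=
  (x298.k4 c298_0 :)
theorem x299 : AuxS.{u} (cP4) s299 0 a299 := aux_base3 tw103 rfl b299
theorem n299 : Sound.{u} (cP4) s299 0 :=
  (x299.k4 c299_0 :)
theorem x168 : AuxS.{u} (cP4) s168 0 a168 := aux_base3 tw103 rfl b168
theorem x168_1 : AuxS.{u} (cP4) s168 0 a168_1 := x168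
theorem n168 : Sound.{u} (cP4) s168 0 :=
  (x168_1.fr (AuxS.gam x168_1 c168_0) (AllS.cons n268 (AllS.cons n269 (AllS.cons n270 (AllS.cons n271 (AllS.cons n272 (AllS.cons n273 (AllS.cons n274 (AllS.cons n275 (AllS.cons n276 (AllS.cons n277 (AllS.cons n278 (AllS.cons n279 (AllS.cons n280 (AllS.cons n281 (AllS.cons n282 (AllS.cons n283 (AllS.cons n284 (AllS.cons n285 (AllS.cons n286 (AllS.cons n287 (AllS.cons n288 (AllS.cons n289 (AllS.cons n290 (AllS.cons n291 (AllS.cons n292 (AllS.cons n293 (AllS.cons n294 (AllS.cons n295 (AllS.cons n296 (AllS.cons n297 (AllS.cons n298 (AllS.cons n299 AllS.nil)))))))))))))))))))))))))))))))) c168_1 :)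
theorem x169 : AuxS.{u} (cP4) s169 0 a169 := aux_base3 tw104 rfl b169
theorem x169_1 : AuxS.{u} (cP4) s169 0 a169_1 := x169
theorem n169 : Sound.{u} (cP4) s169 0 :=
  (x169_1.fr GamS.nil AllS.nil c169_0 :)
theorem x170 : AuxS.{u} (cP4) s170 0 a170 := aux_base3 tw105 rfl b170
theorem x170_1 : AuxS.{u} (cP4) s170 0 a170_1 := x170
theorem n170 : Sound.{u} (cP4) s170 0 :=
  (x170_1.fr GamS.nil AllS.nil c170_0 :)
theorem x171 : AuxS.{u} (cP4) s171 0 a171 := aux_base3 tw106 rfl b171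
theorem x171_1 : AuxS.{u} (cP4) s171 0 a171_1 := x171
theorem x171_2 : AuxS.{u} (cP4) s171 0 a171_2 := x171_1
theorem n171 : Sound.{u} (cP4) s171 0 :=
  (x171_2.fr GamS.nil AllS.nil c171_0 :)
theorem x124 : AuxS.{u} (cP4) s124 0 a124 := aux_base3 tw59 rfl b124
theorem x124_1 : AuxS.{u} (cP4) s124 0 a124_1 := x124
theorem x124_2 : AuxS.{u} (cP4) s124 0 a124_2 := x124_1
theorem n124 : Sound.{u} (cP4) s124 0 :=
  (x124_2.fr2 GamS.nil (AllS.cons n156 (AllS.cons n157 (AllS.cons n158 (AllS.cons n159 (AllS.cons n160 (AllS.cons n161 (AllS.cons n162 (AllS.cons n163 (AllS.cons n164 (AllS.cons n165 (AllS.cons n166 (AllS.cons n167 (AllS.cons n168 (AllS.cons n169 (AllS.cons n170 (AllS.cons n171 AllS.nil)))))))))))))))) c124_0 :)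
theorem x125 : AuxS.{u} (cP4) s125 0 a125 := aux_base3 tw59 rfl b125
theorem n125 : Sound.{u} (cP4) s125 0 :=
  (x125.k4 c125_0 :)
theorem x126 : AuxS.{u} (cP4) s126 0 a126 := aux_base3 tw59 rfl b126
theorem n126 : Sound.{u} (cP4) s126 0 :=
  (x126.k4 c126_0 :)
theorem x127 : AuxS.{u} (cP4) s127 0 a127 := aux_base3 tw59 rfl b127
theorem n127 : Sound.{u} (cP4) s127 0 :=
  (x127.k4 c127_0 :)
theorem x128 : AuxS.{u} (cP4) s128 0 a128 := aux_base3 tw59 rfl b128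
theorem n128 : Sound.{u} (cP4) s128 0 :=
  (x128.k4 c128_0 :)
theorem x129 : AuxS.{u} (cP4) s129 0 a129 := aux_base3 tw59 rfl b129
theorem n129 : Sound.{u} (cP4) s129 0 :=
  (x129.k4 c129_0 :)
theorem x130 : AuxS.{u} (cP4) s130 0 a130 := aux_base3 tw59 rfl b130
theorem n130 : Sound.{u} (cP4) s130 0 :=
  (x130.k4 c130_0 :)
theorem x131 : AuxS.{u} (cP4) s131 0 a131 := aux_base3 tw59 rfl b131
theorem n131 : Sound.{u} (cP4) s131 0 :=
  (x131.k4 c131_0 :)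
theorem x132 : AuxS.{u} (cP4) s132 0 a132 := aux_base3 tw59 rfl b132
theorem n132 : Sound.{u} (cP4) s132 0 :=
  (x132.k4 c132_0 :)
theorem x133 : AuxS.{u} (cP4) s133 0 a133 := aux_base3 tw59 rfl b133
theorem n133 : Sound.{u} (cP4) s133 0 :=
  (x133.k4 c133_0 :)
theorem x134 : AuxS.{u} (cP4) s134 0 a134 := aux_base3 tw59 rfl b134
theorem n134 : Sound.{u} (cP4) s134 0 :=
  (x134.k4 c134_0 :)
theorem x135 : AuxS.{u} (cP4) s135 0 a135 := aux_base3 tw59 rfl b135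
theorem n135 : Sound.{u} (cP4) s135 0 :=
  (x135.k4 c135_0 :)
theorem x136 : AuxS.{u} (cP4) s136 0 a136 := aux_base3 tw59 rfl b136
theorem n136 : Sound.{u} (cP4) s136 0 :=
  (x136.k4 c136_0 :)
theorem x137 : AuxS.{u} (cP4) s137 0 a137 := aux_base3 tw59 rfl b137
theorem n137 : Sound.{u} (cP4) s137 0 :=
  (x137.k4 c137_0 :)
theorem x138 : AuxS.{u} (cP4) s138 0 a138 := aux_base3 tw59 rfl b138
theorem n138 : Sound.{u} (cP4) s138 0 :=
  (x138.k4 c138_0 :)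
theorem x139 : AuxS.{u} (cP4) s139 0 a139 := aux_base3 tw59 rfl b139
theorem n139 : Sound.{u} (cP4) s139 0 :=
  (x139.k4 c139_0 :)
theorem x140 : AuxS.{u} (cP4) s140 0 a140 := aux_base3 tw59 rfl b140
theorem n140 : Sound.{u} (cP4) s140 0 :=
  (x140.k4 c140_0 :)
theorem x141 : AuxS.{u} (cP4) s141 0 a141 := aux_base3 tw59 rfl b141
theorem n141 : Sound.{u} (cP4) s141 0 :=
  (x141.k4 c141_0 :)
theorem x142 : AuxS.{u} (cP4) s142 0 a142 := aux_base3 tw59 rfl b142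
theorem n142 : Sound.{u} (cP4) s142 0 :=
  (x142.k4 c142_0 :)
theorem x143 : AuxS.{u} (cP4) s143 0 a143 := aux_base3 tw59 rfl b143
theorem n143 : Sound.{u} (cP4) s143 0 :=
  (x143.k4 c143_0 :)
theorem x144 : AuxS.{u} (cP4) s144 0 a144 := aux_base3 tw59 rfl b144
theorem n144 : Sound.{u} (cP4) s144 0 :=
  (x144.k4 c144_0 :)
theorem x145 : AuxS.{u} (cP4) s145 0 a145 := aux_base3 tw59 rfl b145
theorem n145 : Sound.{u} (cP4) s145 0 :=
  (x145.k4 c145_0 :)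
theorem x146 : AuxS.{u} (cP4) s146 0 a146 := aux_base3 tw59 rfl b146
theorem n146 : Sound.{u} (cP4) s146 0 :=
  (x146.k4 c146_0 :)
theorem x147 : AuxS.{u} (cP4) s147 0 a147 := aux_base3 tw59 rfl b147
theorem n147 : Sound.{u} (cP4) s147 0 :=
  (x147.k4 c147_0 :)
theorem x148 : AuxS.{u} (cP4) s148 0 a148 := aux_base3 tw59 rfl b148
theorem n148 : Sound.{u} (cP4) s148 0 :=
  (x148.k4 c148_0 :)
theorem x149 : AuxS.{u} (cP4) s149 0 a149 := aux_base3 tw59 rfl b149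
theorem n149 : Sound.{u} (cP4) s149 0 :=
  (x149.k4 c149_0 :)
theorem x150 : AuxS.{u} (cP4) s150 0 a150 := aux_base3 tw59 rfl b150
theorem n150 : Sound.{u} (cP4) s150 0 :=
  (x150.k4 c150_0 :)
theorem x151 : AuxS.{u} (cP4) s151 0 a151 := aux_base3 tw59 rfl b151
theorem n151 : Sound.{u} (cP4) s151 0 :=
  (x151.k4 c151_0 :)
theorem x152 : AuxS.{u} (cP4) s152 0 a152 := aux_base3 tw59 rfl b152
theorem n152 : Sound.{u} (cP4) s152 0 :=
  (x152.k4 c152_0 :)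
theorem x153 : AuxS.{u} (cP4) s153 0 a153 := aux_base3 tw59 rfl b153
theorem n153 : Sound.{u} (cP4) s153 0 :=
  (x153.k4 c153_0 :)
theorem x154 : AuxS.{u} (cP4) s154 0 a154 := aux_base3 tw59 rfl b154
theorem n154 : Sound.{u} (cP4) s154 0 :=
  (x154.k4 c154_0 :)
theorem x155 : AuxS.{u} (cP4) s155 0 a155 := aux_base3 tw59 rfl b155
theorem n155 : Sound.{u} (cP4) s155 0 :=
  (x155.k4 c155_0 :)
theorem x92 : AuxS.{u} (cP4) s92 0 a92 := aux_base3 tw59 rfl b92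
theorem x92_1 : AuxS.{u} (cP4) s92 0 a92_1 := x92
theorem x92_2 : AuxS.{u} (cP4) s92 0 a92_2 := x92_1
theorem n92 : Sound.{u} (cP4) s92 0 :=
  (x92_2.fr (AuxS.gam x92_2 c92_0) (AllS.cons n124 (AllS.cons n125 (AllS.cons n126 (AllS.cons n127 (AllS.cons n128 (AllS.cons n129 (AllS.cons n130 (AllS.cons n131 (AllS.cons n132 (AllS.cons n133 (AllS.cons n134 (AllS.cons n135 (AllS.cons n136 (AllS.cons n137 (AllS.cons n138 (AllS.cons n139 (AllS.cons n140 (AllS.cons n141 (AllS.cons n142 (AllS.cons n143 (AllS.cons n144 (AllS.cons n145 (AllS.cons n146 (AllS.cons n147 (AllS.cons n148 (AllS.cons n149 (AllS.cons n150 (AllS.cons n151 (AllS.cons n152 (AllS.cons n153 (AllS.cons n154 (AllS.cons n155 AllS.nil)))))))))))))))))))))))))))))))) c92_1 :)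
theorem x93 : AuxS.{u} (cP4) s93 0 a93 := aux_base3 tw60 rfl b93
theorem x93_1 : AuxS.{u} (cP4) s93 0 a93_1 := x93
theorem x93_2 : AuxS.{u} (cP4) s93 0 a93_2 := x93_1
theorem n93 : Sound.{u} (cP4) s93 0 :=
  (x93_2.fr GamS.nil AllS.nil c93_0 :)
theorem x94 : AuxS.{u} (cP4) s94 0 a94 := aux_base3 tw61 rfl b94
theorem x94_1 : AuxS.{u} (cP4) s94 0 a94_1 := x94
theorem x94_2 : AuxS.{u} (cP4) s94 0 a94_2 := x94_1
theorem n94 : Sound.{u} (cP4) s94 0 :=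
  (x94_2.fr GamS.nil AllS.nil c94_0 :)
theorem x95 : AuxS.{u} (cP4) s95 0 a95 := aux_base3 tw62 rfl b95
theorem x95_1 : AuxS.{u} (cP4) s95 0 a95_1 := x95
theorem x95_2 : AuxS.{u} (cP4) s95 0 a95_2 := x95_1
theorem n95 : Sound.{u} (cP4) s95 0 :=
  (x95_2.fr GamS.nil AllS.nil c95_0 :)
theorem x96 : AuxS.{u} (cP4) s96 0 a96 := aux_base3 tw63 rfl b96
theorem x96_1 : AuxS.{u} (cP4) s96 0 a96_1 := x96
theorem x96_2 : AuxS.{u} (cP4) s96 0 a96_2 := x96_1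
theorem n96 : Sound.{u} (cP4) s96 0 :=
  (x96_2.fr GamS.nil AllS.nil c96_0 :)
theorem x97 : AuxS.{u} (cP4) s97 0 a97 := aux_base3 tw64 rfl b97
theorem x97_1 : AuxS.{u} (cP4) s97 0 a97_1 := x97
theorem x97_2 : AuxS.{u} (cP4) s97 0 a97_2 := x97_1
theorem n97 : Sound.{u} (cP4) s97 0 :=
  (x97_2.fr GamS.nil AllS.nil c97_0 :)
theorem x98 : AuxS.{u} (cP4) s98 0 a98 := aux_base3 tw65 rfl b98
theorem x98_1 : AuxS.{u} (cP4) s98 0 a98_1 := x98
theorem x98_2 : AuxS.{u} (cP4) s98 0 a98_2 := x98_1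
theorem n98 : Sound.{u} (cP4) s98 0 :=
  (x98_2.fr GamS.nil AllS.nil c98_0 :)
theorem x99 : AuxS.{u} (cP4) s99 0 a99 := aux_base3 tw66 rfl b99
theorem x99_1 : AuxS.{u} (cP4) s99 0 a99_1 := x99
theorem x99_2 : AuxS.{u} (cP4) s99 0 a99_2 := x99_1
theorem n99 : Sound.{u} (cP4) s99 0 :=
  (x99_2.fr GamS.nil AllS.nil c99_0 :)
theorem x100 : AuxS.{u} (cP4) s100 0 a100 := aux_base3 tw67 rfl b100
theorem x100_1 : AuxS.{u} (cP4) s100 0 a100_1 := x100
theorem x100_2 : AuxS.{u} (cP4) s100 0 a100_2 := x100_1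
theorem n100 : Sound.{u} (cP4) s100 0 :=
  (x100_2.fr GamS.nil AllS.nil c100_0 :)
theorem x101 : AuxS.{u} (cP4) s101 0 a101 := aux_base3 tw68 rfl b101
theorem x101_1 : AuxS.{u} (cP4) s101 0 a101_1 := x101
theorem x101_2 : AuxS.{u} (cP4) s101 0 a101_2 := x101_1
theorem n101 : Sound.{u} (cP4) s101 0 :=
  (x101_2.fr GamS.nil AllS.nil c101_0 :)
theorem x102 : AuxS.{u} (cP4) s102 0 a102 := aux_base3 tw69 rfl b102
theorem x102_1 : AuxS.{u} (cP4) s102 0 a102_1 := x102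
theorem x102_2 : AuxS.{u} (cP4) s102 0 a102_2 := x102_1
theorem n102 : Sound.{u} (cP4) s102 0 :=
  (x102_2.fr GamS.nil AllS.nil c102_0 :)
theorem x103 : AuxS.{u} (cP4) s103 0 a103 := aux_base3 tw70 rfl b103
theorem x103_1 : AuxS.{u} (cP4) s103 0 a103_1 := x103
theorem x103_2 : AuxS.{u} (cP4) s103 0 a103_2 := x103_1
theorem n103 : Sound.{u} (cP4) s103 0 :=
  (x103_2.fr GamS.nil AllS.nil c103_0 :)
theorem x104 : AuxS.{u} (cP4) s104 0 a104 := aux_base3 tw71 rfl b104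
theorem x104_1 : AuxS.{u} (cP4) s104 0 a104_1 := x104
theorem x104_2 : AuxS.{u} (cP4) s104 0 a104_2 := x104_1
theorem n104 : Sound.{u} (cP4) s104 0 :=
  (x104_2.fr GamS.nil AllS.nil c104_0 :)
theorem x105 : AuxS.{u} (cP4) s105 0 a105 := aux_base3 tw72 rfl b105
theorem x105_1 : AuxS.{u} (cP4) s105 0 a105_1 := x105
theorem x105_2 : AuxS.{u} (cP4) s105 0 a105_2 := x105_1
theorem n105 : Sound.{u} (cP4) s105 0 :=
  (x105_2.fr GamS.nil AllS.nil c105_0 :)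
theorem x106 : AuxS.{u} (cP4) s106 0 a106 := aux_base3 tw73 rfl b106
theorem x106_1 : AuxS.{u} (cP4) s106 0 a106_1 := x106
theorem x106_2 : AuxS.{u} (cP4) s106 0 a106_2 := x106_1
theorem n106 : Sound.{u} (cP4) s106 0 :=
  (x106_2.fr GamS.nil AllS.nil c106_0 :)
theorem x107 : AuxS.{u} (cP4) s107 0 a107 := aux_base3 tw74 rfl b107
theorem x107_1 : AuxS.{u} (cP4) s107 0 a107_1 := x107
theorem x107_2 : AuxS.{u} (cP4) s107 0 a107_2 := x107_1
theorem n107 : Sound.{u} (cP4) s107 0 :=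
  (x107_2.fr GamS.nil AllS.nil c107_0 :)
theorem x300 : AuxS.{u} (cP4) s300 0 a300 := aux_base3 tw75 rfl b300
theorem n300 : Sound.{u} (cP4) s300 0 :=
  (x300.k4 c300_0 :)
theorem x301 : AuxS.{u} (cP4) s301 0 a301 := aux_base3 tw75 rfl b301
theorem n301 : Sound.{u} (cP4) s301 0 :=
  (x301.k4 c301_0 :)
theorem x302 : AuxS.{u} (cP4) s302 0 a302 := aux_base3 tw75 rfl b302
theorem n302 : Sound.{u} (cP4) s302 0 :=
  (x302.k4 c302_0 :)
theorem x303 : AuxS.{u} (cP4) s303 0 a303 := aux_base3 tw75 rfl b303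
theorem n303 : Sound.{u} (cP4) s303 0 :=
  (x303.k4 c303_0 :)
theorem x304 : AuxS.{u} (cP4) s304 0 a304 := aux_base3 tw75 rfl b304
theorem n304 : Sound.{u} (cP4) s304 0 :=
  (x304.k4 c304_0 :)
theorem x305 : AuxS.{u} (cP4) s305 0 a305 := aux_base3 tw75 rfl b305
theorem n305 : Sound.{u} (cP4) s305 0 :=
  (x305.k4 c305_0 :)
theorem x306 : AuxS.{u} (cP4) s306 0 a306 := aux_base3 tw75 rfl b306
theorem n306 : Sound.{u} (cP4) s306 0 :=
  (x306.k4 c306_0 :)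
theorem x307 : AuxS.{u} (cP4) s307 0 a307 := aux_base3 tw75 rfl b307
theorem n307 : Sound.{u} (cP4) s307 0 :=
  (x307.k4 c307_0 :)
theorem x308 : AuxS.{u} (cP4) s308 0 a308 := aux_base3 tw75 rfl b308
theorem n308 : Sound.{u} (cP4) s308 0 :=
  (x308.k4 c308_0 :)
theorem x309 : AuxS.{u} (cP4) s309 0 a309 := aux_base3 tw75 rfl b309
theorem n309 : Sound.{u} (cP4) s309 0 :=
  (x309.k4 c309_0 :)
theorem x310 : AuxS.{u} (cP4) s310 0 a310 := aux_base3 tw75 rfl b310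
theorem n310 : Sound.{u} (cP4) s310 0 :=
  (x310.k4 c310_0 :)
theorem x311 : AuxS.{u} (cP4) s311 0 a311 := aux_base3 tw75 rfl b311
theorem n311 : Sound.{u} (cP4) s311 0 :=
  (x311.k4 c311_0 :)
theorem x312 : AuxS.{u} (cP4) s312 0 a312 := aux_base3 tw75 rfl b312
theorem n312 : Sound.{u} (cP4) s312 0 :=
  (x312.k4 c312_0 :)
theorem x313 : AuxS.{u} (cP4) s313 0 a313 := aux_base3 tw75 rfl b313
theorem n313 : Sound.{u} (cP4) s313 0 :=
  (x313.k4 c313_0 :)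
theorem x314 : AuxS.{u} (cP4) s314 0 a314 := aux_base3 tw75 rfl b314
theorem n314 : Sound.{u} (cP4) s314 0 :=
  (x314.k4 c314_0 :)
theorem x315 : AuxS.{u} (cP4) s315 0 a315 := aux_base3 tw75 rfl b315
theorem n315 : Sound.{u} (cP4) s315 0 :=
  (x315.k4 c315_0 :)
theorem x316 : AuxS.{u} (cP4) s316 0 a316 := aux_base3 tw75 rfl b316
theorem n316 : Sound.{u} (cP4) s316 0 :=
  (x316.k4 c316_0 :)
theorem x317 : AuxS.{u} (cP4) s317 0 a317 := aux_base3 tw75 rfl b317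
theorem n317 : Sound.{u} (cP4) s317 0 :=
  (x317.k4 c317_0 :)
theorem x318 : AuxS.{u} (cP4) s318 0 a318 := aux_base3 tw75 rfl b318
theorem n318 : Sound.{u} (cP4) s318 0 :=
  (x318.k4 c318_0 :)
theorem x319 : AuxS.{u} (cP4) s319 0 a319 := aux_base3 tw75 rfl b319
theorem n319 : Sound.{u} (cP4) s319 0 :=
  (x319.k4 c319_0 :)
theorem x320 : AuxS.{u} (cP4) s320 0 a320 := aux_base3 tw75 rfl b320
theorem n320 : Sound.{u} (cP4) s320 0 :=
  (x320.k4 c320_0 :)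
theorem x321 : AuxS.{u} (cP4) s321 0 a321 := aux_base3 tw75 rfl b321
theorem n321 : Sound.{u} (cP4) s321 0 :=
  (x321.k4 c321_0 :)
theorem x322 : AuxS.{u} (cP4) s322 0 a322 := aux_base3 tw75 rfl b322
theorem n322 : Sound.{u} (cP4) s322 0 :=
  (x322.k4 c322_0 :)
theorem x323 : AuxS.{u} (cP4) s323 0 a323 := aux_base3 tw75 rfl b323
theorem n323 : Sound.{u} (cP4) s323 0 :=
  (x323.k4 c323_0 :)
theorem x324 : AuxS.{u} (cP4) s324 0 a324 := aux_base3 tw75 rfl b324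
theorem n324 : Sound.{u} (cP4) s324 0 :=
  (x324.k4 c324_0 :)
theorem x325 : AuxS.{u} (cP4) s325 0 a325 := aux_base3 tw75 rfl b325
theorem n325 : Sound.{u} (cP4) s325 0 :=
  (x325.k4 c325_0 :)
theorem x326 : AuxS.{u} (cP4) s326 0 a326 := aux_base3 tw75 rfl b326
theorem n326 : Sound.{u} (cP4) s326 0 :=
  (x326.k4 c326_0 :)
theorem x327 : AuxS.{u} (cP4) s327 0 a327 := aux_base3 tw75 rfl b327
theorem n327 : Sound.{u} (cP4) s327 0 :=
  (x327.k4 c327_0 :)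
theorem x328 : AuxS.{u} (cP4) s328 0 a328 := aux_base3 tw75 rfl b328
theorem n328 : Sound.{u} (cP4) s328 0 :=
  (x328.k4 c328_0 :)
theorem x329 : AuxS.{u} (cP4) s329 0 a329 := aux_base3 tw75 rfl b329
theorem n329 : Sound.{u} (cP4) s329 0 :=
  (x329.k4 c329_0 :)
theorem x330 : AuxS.{u} (cP4) s330 0 a330 := aux_base3 tw75 rfl b330
theorem n330 : Sound.{u} (cP4) s330 0 :=
  (x330.k4 c330_0 :)
theorem x340 : AuxS.{u} (cP4) s340 0 a340 := aux_base3 tw107 rfl b340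
theorem x340_1 : AuxS.{u} (cP4) s340 0 a340_1 := (AuxS.up x340 c340_4 :)
theorem n340 : Sound.{u} (cP4) s340 0 :=
  (x340_1.spl c340_0 (AllM.cons ((x340_1.lam 0).tp c340_1 :) (AllM.cons ((x340_1.lam 1).cl2 c340_2 :) AllM.nil)) ((x340_1.weaken 1).ext2 (fun _ => rfl) GamS.nil AllS.nil c340_3 (Phs.fin (ct := ct340_3) rfl) (Phs.fin (ct := ct340_3) rfl)) :)
theorem x341 : AuxS.{u} (cP4) s341 0 a341 := aux_base3 tw107 rfl b341
theorem n341 : Sound.{u} (cP4) s341 0 :=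
  (x341.k4 c341_0 :)
theorem x342 : AuxS.{u} (cP4) s342 0 a342 := aux_base3 tw107 rfl b342
theorem n342 : Sound.{u} (cP4) s342 0 :=
  (x342.k4 c342_0 :)
theorem x343 : AuxS.{u} (cP4) s343 0 a343 := aux_base3 tw107 rfl b343
theorem n343 : Sound.{u} (cP4) s343 0 :=
  (x343.k4 c343_0 :)
theorem x344 : AuxS.{u} (cP4) s344 0 a344 := aux_base3 tw107 rfl b344
theorem n344 : Sound.{u} (cP4) s344 0 :=
  (x344.k4 c344_0 :)
theorem x345 : AuxS.{u} (cP4) s345 0 a345 := aux_base3 tw107 rfl b345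
theorem n345 : Sound.{u} (cP4) s345 0 :=
  (x345.k4 c345_0 :)
theorem x346 : AuxS.{u} (cP4) s346 0 a346 := aux_base3 tw107 rfl b346
theorem n346 : Sound.{u} (cP4) s346 0 :=
  (x346.k4 c346_0 :)
theorem x347 : AuxS.{u} (cP4) s347 0 a347 := aux_base3 tw107 rfl b347
theorem n347 : Sound.{u} (cP4) s347 0 :=
  (x347.k4 c347_0 :)
theorem x348 : AuxS.{u} (cP4) s348 0 a348 := aux_base3 tw107 rfl b348
theorem n348 : Sound.{u} (cP4) s348 0 :=
  (x348.k4 c348_0 :)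
theorem x349 : AuxS.{u} (cP4) s349 0 a349 := aux_base3 tw107 rfl b349
theorem n349 : Sound.{u} (cP4) s349 0 :=
  (x349.k4 c349_0 :)
theorem x350 : AuxS.{u} (cP4) s350 0 a350 := aux_base3 tw107 rfl b350
theorem n350 : Sound.{u} (cP4) s350 0 :=
  (x350.k4 c350_0 :)
theorem x351 : AuxS.{u} (cP4) s351 0 a351 := aux_base3 tw107 rfl b351
theorem n351 : Sound.{u} (cP4) s351 0 :=
  (x351.k4 c351_0 :)
theorem x352 : AuxS.{u} (cP4) s352 0 a352 := aux_base3 tw107 rfl b352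
theorem n352 : Sound.{u} (cP4) s352 0 :=
  (x352.k4 c352_0 :)
theorem x353 : AuxS.{u} (cP4) s353 0 a353 := aux_base3 tw107 rfl b353
theorem n353 : Sound.{u} (cP4) s353 0 :=
  (x353.k4 c353_0 :)
theorem x354 : AuxS.{u} (cP4) s354 0 a354 := aux_base3 tw107 rfl b354
theorem n354 : Sound.{u} (cP4) s354 0 :=
  (x354.k4 c354_0 :)
theorem x355 : AuxS.{u} (cP4) s355 0 a355 := aux_base3 tw107 rfl b355
theorem n355 : Sound.{u} (cP4) s355 0 :=
  (x355.k4 c355_0 :)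
theorem x356 : AuxS.{u} (cP4) s356 0 a356 := aux_base3 tw107 rfl b356
theorem n356 : Sound.{u} (cP4) s356 0 :=
  (x356.k4 c356_0 :)
theorem x357 : AuxS.{u} (cP4) s357 0 a357 := aux_base3 tw107 rfl b357
theorem n357 : Sound.{u} (cP4) s357 0 :=
  (x357.k4 c357_0 :)
theorem x358 : AuxS.{u} (cP4) s358 0 a358 := aux_base3 tw107 rfl b358
theorem n358 : Sound.{u} (cP4) s358 0 :=
  (x358.k4 c358_0 :)
theorem x359 : AuxS.{u} (cP4) s359 0 a359 := aux_base3 tw107 rfl b359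
theorem n359 : Sound.{u} (cP4) s359 0 :=
  (x359.k4 c359_0 :)
theorem x360 : AuxS.{u} (cP4) s360 0 a360 := aux_base3 tw107 rfl b360
theorem n360 : Sound.{u} (cP4) s360 0 :=
  (x360.k4 c360_0 :)
theorem x361 : AuxS.{u} (cP4) s361 0 a361 := aux_base3 tw107 rfl b361
theorem n361 : Sound.{u} (cP4) s361 0 :=
  (x361.k4 c361_0 :)
theorem x362 : AuxS.{u} (cP4) s362 0 a362 := aux_base3 tw107 rfl b362
theorem n362 : Sound.{u} (cP4) s362 0 :=
  (x362.k4 c362_0 :)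
theorem x363 : AuxS.{u} (cP4) s363 0 a363 := aux_base3 tw107 rfl b363
theorem n363 : Sound.{u} (cP4) s363 0 :=
  (x363.k4 c363_0 :)
theorem x364 : AuxS.{u} (cP4) s364 0 a364 := aux_base3 tw107 rfl b364
theorem n364 : Sound.{u} (cP4) s364 0 :=
  (x364.k4 c364_0 :)
theorem x365 : AuxS.{u} (cP4) s365 0 a365 := aux_base3 tw107 rfl b365
theorem n365 : Sound.{u} (cP4) s365 0 :=
  (x365.k4 c365_0 :)
theorem x366 : AuxS.{u} (cP4) s366 0 a366 := aux_base3 tw107 rfl b366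
theorem n366 : Sound.{u} (cP4) s366 0 :=
  (x366.k4 c366_0 :)
theorem x367 : AuxS.{u} (cP4) s367 0 a367 := aux_base3 tw107 rfl b367
theorem n367 : Sound.{u} (cP4) s367 0 :=
  (x367.k4 c367_0 :)
theorem x368 : AuxS.{u} (cP4) s368 0 a368 := aux_base3 tw107 rfl b368
theorem n368 : Sound.{u} (cP4) s368 0 :=
  (x368.k4 c368_0 :)
theorem x369 : AuxS.{u} (cP4) s369 0 a369 := aux_base3 tw107 rfl b369
theorem n369 : Sound.{u} (cP4) s369 0 :=
  (x369.k4 c369_0 :)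
theorem x370 : AuxS.{u} (cP4) s370 0 a370 := aux_base3 tw107 rfl b370
theorem n370 : Sound.{u} (cP4) s370 0 :=
  (x370.k4 c370_0 :)
theorem x371 : AuxS.{u} (cP4) s371 0 a371 := aux_base3 tw107 rfl b371
theorem n371 : Sound.{u} (cP4) s371 0 :=
  (x371.k4 c371_0 :)
theorem x372 : AuxS.{u} (cP4) s372 0 a372 := aux_base3 tw107 rfl b372
theorem n372 : Sound.{u} (cP4) s372 0 :=
  (x372.k4 c372_0 :)
theorem x373 : AuxS.{u} (cP4) s373 0 a373 := aux_base3 tw107 rfl b373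
theorem n373 : Sound.{u} (cP4) s373 0 :=
  (x373.k4 c373_0 :)
theorem x374 : AuxS.{u} (cP4) s374 0 a374 := aux_base3 tw107 rfl b374
theorem n374 : Sound.{u} (cP4) s374 0 :=
  (x374.k4 c374_0 :)
theorem x375 : AuxS.{u} (cP4) s375 0 a375 := aux_base3 tw107 rfl b375
theorem n375 : Sound.{u} (cP4) s375 0 :=
  (x375.k4 c375_0 :)
theorem x376 : AuxS.{u} (cP4) s376 0 a376 := aux_base3 tw107 rfl b376
theorem n376 : Sound.{u} (cP4) s376 0 :=
  (x376.k4 c376_0 :)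
theorem x377 : AuxS.{u} (cP4) s377 0 a377 := aux_base3 tw107 rfl b377
theorem n377 : Sound.{u} (cP4) s377 0 :=
  (x377.k4 c377_0 :)
theorem x378 : AuxS.{u} (cP4) s378 0 a378 := aux_base3 tw107 rfl b378
theorem n378 : Sound.{u} (cP4) s378 0 :=
  (x378.k4 c378_0 :)
theorem x379 : AuxS.{u} (cP4) s379 0 a379 := aux_base3 tw107 rfl b379
theorem n379 : Sound.{u} (cP4) s379 0 :=
  (x379.k4 c379_0 :)
theorem x380 : AuxS.{u} (cP4) s380 0 a380 := aux_base3 tw107 rfl b380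
theorem x380_1 : AuxS.{u} (cP4) s380 0 a380_1 := (AuxS.up x380 c380_4 :)
theorem n380 : Sound.{u} (cP4) s380 0 :=
  (x380_1.spl c380_0 (AllM.cons ((x380_1.lam 0).tp c380_1 :) (AllM.cons ((x380_1.lam 1).cl2 c380_2 :) AllM.nil)) ((x380_1.weaken 1).ext2 (fun _ => rfl) GamS.nil AllS.nil c380_3 (Phs.fin (ct := ct380_3) rfl) (Phs.fin (ct := ct380_3) rfl)) :)
theorem x381 : AuxS.{u} (cP4) s381 0 a381 := aux_base3 tw107 rfl b381
theorem n381 : Sound.{u} (cP4) s381 0 :=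
  (x381.k4 c381_0 :)
theorem x382 : AuxS.{u} (cP4) s382 0 a382 := aux_base3 tw107 rfl b382
theorem n382 : Sound.{u} (cP4) s382 0 :=
  (x382.k4 c382_0 :)
theorem x383 : AuxS.{u} (cP4) s383 0 a383 := aux_base3 tw107 rfl b383
theorem n383 : Sound.{u} (cP4) s383 0 :=
  (x383.k4 c383_0 :)
theorem x384 : AuxS.{u} (cP4) s384 0 a384 := aux_base3 tw107 rfl b384
theorem n384 : Sound.{u} (cP4) s384 0 :=
  (x384.k4 c384_0 :)
theorem x385 : AuxS.{u} (cP4) s385 0 a385 := aux_base3 tw107 rfl b385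
theorem n385 : Sound.{u} (cP4) s385 0 :=
  (x385.k4 c385_0 :)
theorem x386 : AuxS.{u} (cP4) s386 0 a386 := aux_base3 tw107 rfl b386
theorem n386 : Sound.{u} (cP4) s386 0 :=
  (x386.k4 c386_0 :)
theorem x387 : AuxS.{u} (cP4) s387 0 a387 := aux_base3 tw107 rfl b387
theorem n387 : Sound.{u} (cP4) s387 0 :=
  (x387.k4 c387_0 :)
theorem x388 : AuxS.{u} (cP4) s388 0 a388 := aux_base3 tw107 rfl b388
theorem n388 : Sound.{u} (cP4) s388 0 :=
  (x388.k4 c388_0 :)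
theorem x389 : AuxS.{u} (cP4) s389 0 a389 := aux_base3 tw107 rfl b389
theorem n389 : Sound.{u} (cP4) s389 0 :=
  (x389.k4 c389_0 :)
theorem x390 : AuxS.{u} (cP4) s390 0 a390 := aux_base3 tw107 rfl b390
theorem n390 : Sound.{u} (cP4) s390 0 :=
  (x390.k4 c390_0 :)
theorem x391 : AuxS.{u} (cP4) s391 0 a391 := aux_base3 tw107 rfl b391
theorem n391 : Sound.{u} (cP4) s391 0 :=
  (x391.k4 c391_0 :)
theorem x392 : AuxS.{u} (cP4) s392 0 a392 := aux_base3 tw107 rfl b392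
theorem n392 : Sound.{u} (cP4) s392 0 :=
  (x392.k4 c392_0 :)
theorem x393 : AuxS.{u} (cP4) s393 0 a393 := aux_base3 tw107 rfl b393
theorem n393 : Sound.{u} (cP4) s393 0 :=
  (x393.k4 c393_0 :)
theorem x394 : AuxS.{u} (cP4) s394 0 a394 := aux_base3 tw107 rfl b394
theorem n394 : Sound.{u} (cP4) s394 0 :=
  (x394.k4 c394_0 :)
theorem x395 : AuxS.{u} (cP4) s395 0 a395 := aux_base3 tw107 rfl b395
theorem n395 : Sound.{u} (cP4) s395 0 :=
  (x395.k4 c395_0 :)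
theorem x396 : AuxS.{u} (cP4) s396 0 a396 := aux_base3 tw107 rfl b396
theorem n396 : Sound.{u} (cP4) s396 0 :=
  (x396.k4 c396_0 :)
theorem x397 : AuxS.{u} (cP4) s397 0 a397 := aux_base3 tw107 rfl b397
theorem n397 : Sound.{u} (cP4) s397 0 :=
  (x397.k4 c397_0 :)
theorem x398 : AuxS.{u} (cP4) s398 0 a398 := aux_base3 tw107 rfl b398
theorem n398 : Sound.{u} (cP4) s398 0 :=
  (x398.k4 c398_0 :)
theorem x399 : AuxS.{u} (cP4) s399 0 a399 := aux_base3 tw107 rfl b399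
theorem n399 : Sound.{u} (cP4) s399 0 :=
  (x399.k4 c399_0 :)
theorem x400 : AuxS.{u} (cP4) s400 0 a400 := aux_base3 tw107 rfl b400
theorem n400 : Sound.{u} (cP4) s400 0 :=
  (x400.k4 c400_0 :)
theorem x401 : AuxS.{u} (cP4) s401 0 a401 := aux_base3 tw107 rfl b401
theorem n401 : Sound.{u} (cP4) s401 0 :=
  (x401.k4 c401_0 :)
theorem x402 : AuxS.{u} (cP4) s402 0 a402 := aux_base3 tw107 rfl b402
theorem n402 : Sound.{u} (cP4) s402 0 :=
  (x402.k4 c402_0 :)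
theorem x403 : AuxS.{u} (cP4) s403 0 a403 := aux_base3 tw107 rfl b403
theorem n403 : Sound.{u} (cP4) s403 0 :=
  (x403.k4 c403_0 :)
theorem x332 : AuxS.{u} (cP4) s332 0 a332 := aux_base3 tw107 rfl b332
theorem x332_1 : AuxS.{u} (cP4) s332 0 a332_1 := x332
theorem n332 : Sound.{u} (cP4) s332 0 :=
  (x332_1.fr (AuxS.gam x332_1 c332_0) (AllS.cons n340 (AllS.cons n341 (AllS.cons n342 (AllS.cons n343 (AllS.cons n344 (AllS.cons n345 (AllS.cons n346 (AllS.cons n347 (AllS.cons n348 (AllS.cons n349 (AllS.cons n350 (AllS.cons n351 (AllS.cons n352 (AllS.cons n353 (AllS.cons n354 (AllS.cons n355 (AllS.cons n356 (AllS.cons n357 (AllS.cons n358 (AllS.cons n359 (AllS.cons n360 (AllS.cons n361 (AllS.cons n362 (AllS.cons n363 (AllS.cons n364 (AllS.cons n365 (AllS.cons n366 (AllS.cons n367 (AllS.cons n368 (AllS.cons n369 (AllS.cons n370 (AllS.cons n371 (AllS.cons n372 (AllS.cons n373 (AllS.cons n374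 (AllS.cons n375 (AllS.cons n376 (AllS.cons n377 (AllS.cons n378 (AllS.cons n379 (AllS.cons n380 (AllS.cons n381 (AllS.cons n382 (AllS.cons n383 (AllS.cons n384 (AllS.cons n385 (AllS.cons n386 (AllS.cons n387 (AllS.cons n388 (AllS.cons n389 (AllS.cons n390 (AllS.cons n391 (AllS.cons n392 (AllS.cons n393 (AllS.cons n394 (AllS.cons n395 (AllS.cons n396 (AllS.cons n397 (AllS.cons n398 (AllS.cons n399 (AllS.cons n400 (AllS.cons n401 (AllS.cons n402 (AllS.cons n403 AllS.nil)))))))))))))))))))))))))))))))))))))))))))))))))))))))))))))))) c332_1 :)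
theorem x333 : AuxS.{u} (cP4) s333 0 a333 := aux_base3 tw108 rfl b333
theorem x333_1 : AuxS.{u} (cP4) s333 0 a333_1 := x333
theorem n333 : Sound.{u} (cP4) s333 0 :=
  (x333_1.fr GamS.nil AllS.nil c333_0 :)
theorem x334 : AuxS.{u} (cP4) s334 0 a334 := aux_base3 tw109 rfl b334
theorem x334_1 : AuxS.{u} (cP4) s334 0 a334_1 := x334
theorem n334 : Sound.{u} (cP4) s334 0 :=
  (x334_1.fr GamS.nil AllS.nil c334_0 :)
theorem x335 : AuxS.{u} (cP4) s335 0 a335 := aux_base3 tw110 rfl b335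
theorem x335_1 : AuxS.{u} (cP4) s335 0 a335_1 := x335
theorem n335 : Sound.{u} (cP4) s335 0 :=
  (x335_1.fr GamS.nil AllS.nil c335_0 :)
theorem x404 : AuxS.{u} (cP4) s404 0 a404 := aux_base3 tw111 rfl b404
theorem x404_1 : AuxS.{u} (cP4) s404 0 a404_1 := (AuxS.up x404 c404_4 :)
theorem n404 : Sound.{u} (cP4) s404 0 :=
  (x404_1.spl c404_0 (AllM.cons ((x404_1.lam 0).tp c404_1 :) (AllM.cons ((x404_1.lam 1).cl2 c404_2 :) AllM.nil)) ((x404_1.weaken 1).ext2 (fun _ => rfl) GamS.nil AllS.nil c404_3 (Phs.fin (ct := ct404_3) rfl) (Phs.fin (ct := ct404_3) rfl)) :)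
theorem x405 : AuxS.{u} (cP4) s405 0 a405 := aux_base3 tw111 rfl b405
theorem n405 : Sound.{u} (cP4) s405 0 :=
  (x405.k4 c405_0 :)
theorem x406 : AuxS.{u} (cP4) s406 0 a406 := aux_base3 tw111 rfl b406
theorem n406 : Sound.{u} (cP4) s406 0 :=
  (x406.k4 c406_0 :)
theorem x407 : AuxS.{u} (cP4) s407 0 a407 := aux_base3 tw111 rfl b407
theorem n407 : Sound.{u} (cP4) s407 0 :=
  (x407.k4 c407_0 :)
theorem x408 : AuxS.{u} (cP4) s408 0 a408 := aux_base3 tw111 rfl b408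
theorem n408 : Sound.{u} (cP4) s408 0 :=
  (x408.k4 c408_0 :)
theorem x409 : AuxS.{u} (cP4) s409 0 a409 := aux_base3 tw111 rfl b409
theorem n409 : Sound.{u} (cP4) s409 0 :=
  (x409.k4 c409_0 :)
theorem x410 : AuxS.{u} (cP4) s410 0 a410 := aux_base3 tw111 rfl b410
theorem n410 : Sound.{u} (cP4) s410 0 :=
  (x410.k4 c410_0 :)
theorem x411 : AuxS.{u} (cP4) s411 0 a411 := aux_base3 tw111 rfl b411
theorem n411 : Sound.{u} (cP4) s411 0 :=
  (x411.k4 c411_0 :)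
theorem x412 : AuxS.{u} (cP4) s412 0 a412 := aux_base3 tw111 rfl b412
theorem n412 : Sound.{u} (cP4) s412 0 :=
  (x412.k4 c412_0 :)
theorem x413 : AuxS.{u} (cP4) s413 0 a413 := aux_base3 tw111 rfl b413
theorem n413 : Sound.{u} (cP4) s413 0 :=
  (x413.k4 c413_0 :)
theorem x414 : AuxS.{u} (cP4) s414 0 a414 := aux_base3 tw111 rfl b414
theorem n414 : Sound.{u} (cP4) s414 0 :=
  (x414.k4 c414_0 :)
theorem x415 : AuxS.{u} (cP4) s415 0 a415 := aux_base3 tw111 rfl b415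
theorem n415 : Sound.{u} (cP4) s415 0 :=
  (x415.k4 c415_0 :)
theorem x416 : AuxS.{u} (cP4) s416 0 a416 := aux_base3 tw111 rfl b416
theorem n416 : Sound.{u} (cP4) s416 0 :=
  (x416.k4 c416_0 :)
theorem x417 : AuxS.{u} (cP4) s417 0 a417 := aux_base3 tw111 rfl b417
theorem n417 : Sound.{u} (cP4) s417 0 :=
  (x417.k4 c417_0 :)
theorem x418 : AuxS.{u} (cP4) s418 0 a418 := aux_base3 tw111 rfl b418
theorem n418 : Sound.{u} (cP4) s418 0 :=
  (x418.k4 c418_0 :)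
theorem x419 : AuxS.{u} (cP4) s419 0 a419 := aux_base3 tw111 rfl b419
theorem n419 : Sound.{u} (cP4) s419 0 :=
  (x419.k4 c419_0 :)
theorem x420 : AuxS.{u} (cP4) s420 0 a420 := aux_base3 tw111 rfl b420
theorem n420 : Sound.{u} (cP4) s420 0 :=
  (x420.k4 c420_0 :)
theorem x421 : AuxS.{u} (cP4) s421 0 a421 := aux_base3 tw111 rfl b421
theorem n421 : Sound.{u} (cP4) s421 0 :=
  (x421.k4 c421_0 :)
theorem x422 : AuxS.{u} (cP4) s422 0 a422 := aux_base3 tw111 rfl b422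
theorem n422 : Sound.{u} (cP4) s422 0 :=
  (x422.k4 c422_0 :)
theorem x423 : AuxS.{u} (cP4) s423 0 a423 := aux_base3 tw111 rfl b423
theorem n423 : Sound.{u} (cP4) s423 0 :=
  (x423.k4 c423_0 :)
theorem x424 : AuxS.{u} (cP4) s424 0 a424 := aux_base3 tw111 rfl b424
theorem n424 : Sound.{u} (cP4) s424 0 :=
  (x424.k4 c424_0 :)
theorem x425 : AuxS.{u} (cP4) s425 0 a425 := aux_base3 tw111 rfl b425
theorem n425 : Sound.{u} (cP4) s425 0 :=
  (x425.k4 c425_0 :)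
theorem x426 : AuxS.{u} (cP4) s426 0 a426 := aux_base3 tw111 rfl b426
theorem n426 : Sound.{u} (cP4) s426 0 :=
  (x426.k4 c426_0 :)
theorem x427 : AuxS.{u} (cP4) s427 0 a427 := aux_base3 tw111 rfl b427
theorem n427 : Sound.{u} (cP4) s427 0 :=
  (x427.k4 c427_0 :)
theorem x428 : AuxS.{u} (cP4) s428 0 a428 := aux_base3 tw111 rfl b428
theorem n428 : Sound.{u} (cP4) s428 0 :=
  (x428.k4 c428_0 :)
theorem x429 : AuxS.{u} (cP4) s429 0 a429 := aux_base3 tw111 rfl b429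
theorem n429 : Sound.{u} (cP4) s429 0 :=
  (x429.k4 c429_0 :)
theorem x430 : AuxS.{u} (cP4) s430 0 a430 := aux_base3 tw111 rfl b430
theorem n430 : Sound.{u} (cP4) s430 0 :=
  (x430.k4 c430_0 :)
theorem x431 : AuxS.{u} (cP4) s431 0 a431 := aux_base3 tw111 rfl b431
theorem n431 : Sound.{u} (cP4) s431 0 :=
  (x431.k4 c431_0 :)
theorem x432 : AuxS.{u} (cP4) s432 0 a432 := aux_base3 tw111 rfl b432
theorem n432 : Sound.{u} (cP4) s432 0 :=
  (x432.k4 c432_0 :)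
theorem x433 : AuxS.{u} (cP4) s433 0 a433 := aux_base3 tw111 rfl b433
theorem n433 : Sound.{u} (cP4) s433 0 :=
  (x433.k4 c433_0 :)
theorem x434 : AuxS.{u} (cP4) s434 0 a434 := aux_base3 tw111 rfl b434
theorem n434 : Sound.{u} (cP4) s434 0 :=
  (x434.k4 c434_0 :)
theorem x435 : AuxS.{u} (cP4) s435 0 a435 := aux_base3 tw111 rfl b435
theorem n435 : Sound.{u} (cP4) s435 0 :=
  (x435.k4 c435_0 :)
theorem x436 : AuxS.{u} (cP4) s436 0 a436 := aux_base3 tw111 rfl b436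
theorem n436 : Sound.{u} (cP4) s436 0 :=
  (x436.k4 c436_0 :)
theorem x437 : AuxS.{u} (cP4) s437 0 a437 := aux_base3 tw111 rfl b437
theorem n437 : Sound.{u} (cP4) s437 0 :=
  (x437.k4 c437_0 :)
theorem x438 : AuxS.{u} (cP4) s438 0 a438 := aux_base3 tw111 rfl b438
theorem n438 : Sound.{u} (cP4) s438 0 :=
  (x438.k4 c438_0 :)
theorem x439 : AuxS.{u} (cP4) s439 0 a439 := aux_base3 tw111 rfl b439
theorem n439 : Sound.{u} (cP4) s439 0 :=
  (x439.k4 c439_0 :)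
theorem x440 : AuxS.{u} (cP4) s440 0 a440 := aux_base3 tw111 rfl b440
theorem n440 : Sound.{u} (cP4) s440 0 :=
  (x440.k4 c440_0 :)
theorem x441 : AuxS.{u} (cP4) s441 0 a441 := aux_base3 tw111 rfl b441
theorem n441 : Sound.{u} (cP4) s441 0 :=
  (x441.k4 c441_0 :)
theorem x442 : AuxS.{u} (cP4) s442 0 a442 := aux_base3 tw111 rfl b442
theorem n442 : Sound.{u} (cP4) s442 0 :=
  (x442.k4 c442_0 :)
theorem x443 : AuxS.{u} (cP4) s443 0 a443 := aux_base3 tw111 rfl b443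
theorem n443 : Sound.{u} (cP4) s443 0 :=
  (x443.k4 c443_0 :)
theorem x444 : AuxS.{u} (cP4) s444 0 a444 := aux_base3 tw111 rfl b444
theorem x444_1 : AuxS.{u} (cP4) s444 0 a444_1 := (AuxS.up x444 c444_4 :)
theorem n444 : Sound.{u} (cP4) s444 0 :=
  (x444_1.spl c444_0 (AllM.cons ((x444_1.lam 0).tp c444_1 :) (AllM.cons ((x444_1.lam 1).cl2 c444_2 :) AllM.nil)) ((x444_1.weaken 1).ext2 (fun _ => rfl) GamS.nil AllS.nil c444_3 (Phs.fin (ct := ct444_3) rfl) (Phs.fin (ct := ct444_3) rfl)) :)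
theorem x445 : AuxS.{u} (cP4) s445 0 a445 := aux_base3 tw111 rfl b445
theorem n445 : Sound.{u} (cP4) s445 0 :=
  (x445.k4 c445_0 :)
theorem x446 : AuxS.{u} (cP4) s446 0 a446 := aux_base3 tw111 rfl b446
theorem n446 : Sound.{u} (cP4) s446 0 :=
  (x446.k4 c446_0 :)
theorem x447 : AuxS.{u} (cP4) s447 0 a447 := aux_base3 tw111 rfl b447
theorem n447 : Sound.{u} (cP4) s447 0 :=
  (x447.k4 c447_0 :)
theorem x448 : AuxS.{u} (cP4) s448 0 a448 := aux_base3 tw111 rfl b448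
theorem n448 : Sound.{u} (cP4) s448 0 :=
  (x448.k4 c448_0 :)
theorem x449 : AuxS.{u} (cP4) s449 0 a449 := aux_base3 tw111 rfl b449
theorem n449 : Sound.{u} (cP4) s449 0 :=
  (x449.k4 c449_0 :)
theorem x450 : AuxS.{u} (cP4) s450 0 a450 := aux_base3 tw111 rfl b450
theorem n450 : Sound.{u} (cP4) s450 0 :=
  (x450.k4 c450_0 :)
theorem x451 : AuxS.{u} (cP4) s451 0 a451 := aux_base3 tw111 rfl b451
theorem n451 : Sound.{u} (cP4) s451 0 :=
  (x451.k4 c451_0 :)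
theorem x452 : AuxS.{u} (cP4) s452 0 a452 := aux_base3 tw111 rfl b452
theorem n452 : Sound.{u} (cP4) s452 0 :=
  (x452.k4 c452_0 :)
theorem x453 : AuxS.{u} (cP4) s453 0 a453 := aux_base3 tw111 rfl b453
theorem n453 : Sound.{u} (cP4) s453 0 :=
  (x453.k4 c453_0 :)
theorem x454 : AuxS.{u} (cP4) s454 0 a454 := aux_base3 tw111 rfl b454
theorem n454 : Sound.{u} (cP4) s454 0 :=
  (x454.k4 c454_0 :)
theorem x455 : AuxS.{u} (cP4) s455 0 a455 := aux_base3 tw111 rfl b455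
theorem n455 : Sound.{u} (cP4) s455 0 :=
  (x455.k4 c455_0 :)
theorem x456 : AuxS.{u} (cP4) s456 0 a456 := aux_base3 tw111 rfl b456
theorem n456 : Sound.{u} (cP4) s456 0 :=
  (x456.k4 c456_0 :)
theorem x457 : AuxS.{u} (cP4) s457 0 a457 := aux_base3 tw111 rfl b457
theorem n457 : Sound.{u} (cP4) s457 0 :=
  (x457.k4 c457_0 :)
theorem x458 : AuxS.{u} (cP4) s458 0 a458 := aux_base3 tw111 rfl b458
theorem n458 : Sound.{u} (cP4) s458 0 :=
  (x458.k4 c458_0 :)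
theorem x459 : AuxS.{u} (cP4) s459 0 a459 := aux_base3 tw111 rfl b459
theorem n459 : Sound.{u} (cP4) s459 0 :=
  (x459.k4 c459_0 :)
theorem x460 : AuxS.{u} (cP4) s460 0 a460 := aux_base3 tw111 rfl b460
theorem n460 : Sound.{u} (cP4) s460 0 :=
  (x460.k4 c460_0 :)
theorem x461 : AuxS.{u} (cP4) s461 0 a461 := aux_base3 tw111 rfl b461
theorem n461 : Sound.{u} (cP4) s461 0 :=
  (x461.k4 c461_0 :)
theorem x462 : AuxS.{u} (cP4) s462 0 a462 := aux_base3 tw111 rfl b462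
theorem n462 : Sound.{u} (cP4) s462 0 :=
  (x462.k4 c462_0 :)
theorem x463 : AuxS.{u} (cP4) s463 0 a463 := aux_base3 tw111 rfl b463
theorem n463 : Sound.{u} (cP4) s463 0 :=
  (x463.k4 c463_0 :)
theorem x464 : AuxS.{u} (cP4) s464 0 a464 := aux_base3 tw111 rfl b464
theorem n464 : Sound.{u} (cP4) s464 0 :=
  (x464.k4 c464_0 :)
theorem x465 : AuxS.{u} (cP4) s465 0 a465 := aux_base3 tw111 rfl b465
theorem n465 : Sound.{u} (cP4) s465 0 :=
  (x465.k4 c465_0 :)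
theorem x466 : AuxS.{u} (cP4) s466 0 a466 := aux_base3 tw111 rfl b466
theorem n466 : Sound.{u} (cP4) s466 0 :=
  (x466.k4 c466_0 :)
theorem x467 : AuxS.{u} (cP4) s467 0 a467 := aux_base3 tw111 rfl b467
theorem n467 : Sound.{u} (cP4) s467 0 :=
  (x467.k4 c467_0 :)
theorem x336 : AuxS.{u} (cP4) s336 0 a336 := aux_base3 tw111 rfl b336
theorem x336_1 : AuxS.{u} (cP4) s336 0 a336_1 := x336
theorem n336 : Sound.{u} (cP4) s336 0 :=
  (x336_1.fr (AuxS.gam x336_1 c336_0) (AllS.cons n404 (AllS.cons n405 (AllS.cons n406 (AllS.cons n407 (AllS.cons n408 (AllS.cons n409 (AllS.cons n410 (AllS.cons n411 (AllS.cons n412 (AllS.cons n413 (AllS.cons n414 (AllS.cons n415 (AllS.cons n416 (AllS.cons n417 (AllS.cons n418 (AllS.cons n419 (AllS.cons n420 (AllS.cons n421 (AllS.cons n422 (AllS.cons n423 (AllS.cons n424 (AllS.cons n425 (AllS.cons n426 (AllS.cons n427 (AllS.cons n428 (AllS.cons n429 (AllS.cons n430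 (AllS.cons n431 (AllS.cons n432 (AllS.cons n433 (AllS.cons n434 (AllS.cons n435 (AllS.cons n436 (AllS.cons n437 (AllS.cons n438 (AllS.cons n439 (AllS.cons n440 (AllS.cons n441 (AllS.cons n442 (AllS.cons n443 (AllS.cons n444 (AllS.cons n445 (AllS.cons n446 (AllS.cons n447 (AllS.cons n448 (AllS.cons n449 (AllS.cons n450 (AllS.cons n451 (AllS.cons n452 (AllS.cons n453 (AllS.cons n454 (AllS.cons n455 (AllS.cons n456 (AllS.cons n457 (AllS.cons n458 (AllS.cons n459 (AllS.cons n460 (AllS.cons n461 (AllS.cons n462 (AllS.cons n463 (AllS.cons n464 (AllS.cons n465 (AllS.cons n466 (AllS.cons n467 AllS.nil)))))))))))))))))))))))))))))))))))))))))))))))))))))))))))))))) c336_1 :)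
theorem x337 : AuxS.{u} (cP4) s337 0 a337 := aux_base3 tw112 rfl b337
theorem x337_1 : AuxS.{u} (cP4) s337 0 a337_1 := x337
theorem n337 : Sound.{u} (cP4) s337 0 :=
  (x337_1.fr GamS.nil AllS.nil c337_0 :)
theorem x338 : AuxS.{u} (cP4) s338 0 a338 := aux_base3 tw113 rfl b338
theorem x338_1 : AuxS.{u} (cP4) s338 0 a338_1 := x338
theorem n338 : Sound.{u} (cP4) s338 0 :=
  (x338_1.fr GamS.nil AllS.nil c338_0 :)
theorem x339 : AuxS.{u} (cP4) s339 0 a339 := aux_base3 tw114 rfl b339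
theorem x339_1 : AuxS.{u} (cP4) s339 0 a339_1 := x339
theorem n339 : Sound.{u} (cP4) s339 0 :=
  (x339_1.fr GamS.nil AllS.nil c339_0 :)
theorem x331 : AuxS.{u} (cP4) s331 0 a331 := aux_base3 tw75 rfl b331
theorem x331_1 : AuxS.{u} (cP4) s331 0 a331_1 := x331
theorem x331_2 : AuxS.{u} (cP4) s331 0 a331_2 := x331_1
theorem n331 : Sound.{u} (cP4) s331 0 :=
  (x331_2.fr2 (AuxS.gam x331_2 c331_0) (AllS.cons n332 (AllS.cons n333 (AllS.cons n334 (AllS.cons n335 (AllS.cons n336 (AllS.cons n337 (AllS.cons n338 (AllS.cons n339 AllS.nil)))))))) c331_1 :)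
theorem x108 : AuxS.{u} (cP4) s108 0 a108 := aux_base3 tw75 rfl b108
theorem x108_1 : AuxS.{u} (cP4) s108 0 a108_1 := x108
theorem x108_2 : AuxS.{u} (cP4) s108 0 a108_2 := x108_1
theorem n108 : Sound.{u} (cP4) s108 0 :=
  (x108_2.fr (AuxS.gam x108_2 c108_0) (AllS.cons n300 (AllS.cons n301 (AllS.cons n302 (AllS.cons n303 (AllS.cons n304 (AllS.cons n305 (AllS.cons n306 (AllS.cons n307 (AllS.cons n308 (AllS.cons n309 (AllS.cons n310 (AllS.cons n311 (AllS.cons n312 (AllS.cons n313 (AllS.cons n314 (AllS.cons n315 (AllS.cons n316 (AllS.cons n317 (AllS.cons n318 (AllS.cons n319 (AllS.cons n320 (AllS.cons n321 (AllS.cons n322 (AllS.cons n323 (AllS.cons n324 (AllS.cons n325 (AllS.cons n326 (AllS.cons n327 (AllS.cons n328 (AllS.cons n329 (AllS.cons n330 (AllS.cons n331 AllS.nil)))))))))))))))))))))))))))))))) c108_1 :)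
theorem x109 : AuxS.{u} (cP4) s109 0 a109 := aux_base3 tw76 rfl b109
theorem x109_1 : AuxS.{u} (cP4) s109 0 a109_1 := x109
theorem x109_2 : AuxS.{u} (cP4) s109 0 a109_2 := x109_1
theorem n109 : Sound.{u} (cP4) s109 0 :=
  (x109_2.fr GamS.nil AllS.nil c109_0 :)
theorem x110 : AuxS.{u} (cP4) s110 0 a110 := aux_base3 tw77 rfl b110
theorem x110_1 : AuxS.{u} (cP4) s110 0 a110_1 := x110
theorem x110_2 : AuxS.{u} (cP4) s110 0 a110_2 := x110_1
theorem n110 : Sound.{u} (cP4) s110 0 :=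
  (x110_2.fr GamS.nil AllS.nil c110_0 :)
theorem x111 : AuxS.{u} (cP4) s111 0 a111 := aux_base3 tw78 rfl b111
theorem x111_1 : AuxS.{u} (cP4) s111 0 a111_1 := x111
theorem x111_2 : AuxS.{u} (cP4) s111 0 a111_2 := x111_1
theorem n111 : Sound.{u} (cP4) s111 0 :=
  (x111_2.fr GamS.nil AllS.nil c111_0 :)
theorem x112 : AuxS.{u} (cP4) s112 0 a112 := aux_base3 tw79 rfl b112
theorem x112_1 : AuxS.{u} (cP4) s112 0 a112_1 := x112
theorem x112_2 : AuxS.{u} (cP4) s112 0 a112_2 := x112_1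
theorem n112 : Sound.{u} (cP4) s112 0 :=
  (x112_2.fr GamS.nil AllS.nil c112_0 :)
theorem x113 : AuxS.{u} (cP4) s113 0 a113 := aux_base3 tw80 rfl b113
theorem x113_1 : AuxS.{u} (cP4) s113 0 a113_1 := x113
theorem x113_2 : AuxS.{u} (cP4) s113 0 a113_2 := x113_1
theorem n113 : Sound.{u} (cP4) s113 0 :=
  (x113_2.fr GamS.nil AllS.nil c113_0 :)
theorem x114 : AuxS.{u} (cP4) s114 0 a114 := aux_base3 tw81 rfl b114
theorem x114_1 : AuxS.{u} (cP4) s114 0 a114_1 := x114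
theorem x114_2 : AuxS.{u} (cP4) s114 0 a114_2 := x114_1
theorem n114 : Sound.{u} (cP4) s114 0 :=
  (x114_2.fr GamS.nil AllS.nil c114_0 :)
theorem x115 : AuxS.{u} (cP4) s115 0 a115 := aux_base3 tw82 rfl b115
theorem x115_1 : AuxS.{u} (cP4) s115 0 a115_1 := x115
theorem x115_2 : AuxS.{u} (cP4) s115 0 a115_2 := x115_1
theorem n115 : Sound.{u} (cP4) s115 0 :=
  (x115_2.fr GamS.nil AllS.nil c115_0 :)
theorem x116 : AuxS.{u} (cP4) s116 0 a116 := aux_base3 tw83 rfl b116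
theorem x116_1 : AuxS.{u} (cP4) s116 0 a116_1 := x116
theorem x116_2 : AuxS.{u} (cP4) s116 0 a116_2 := x116_1
theorem n116 : Sound.{u} (cP4) s116 0 :=
  (x116_2.fr GamS.nil AllS.nil c116_0 :)
theorem x117 : AuxS.{u} (cP4) s117 0 a117 := aux_base3 tw84 rfl b117
theorem x117_1 : AuxS.{u} (cP4) s117 0 a117_1 := x117
theorem x117_2 : AuxS.{u} (cP4) s117 0 a117_2 := x117_1
theorem n117 : Sound.{u} (cP4) s117 0 :=
  (x117_2.fr GamS.nil AllS.nil c117_0 :)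
theorem x118 : AuxS.{u} (cP4) s118 0 a118 := aux_base3 tw85 rfl b118
theorem x118_1 : AuxS.{u} (cP4) s118 0 a118_1 := x118
theorem x118_2 : AuxS.{u} (cP4) s118 0 a118_2 := x118_1
theorem n118 : Sound.{u} (cP4) s118 0 :=
  (x118_2.fr GamS.nil AllS.nil c118_0 :)
theorem x119 : AuxS.{u} (cP4) s119 0 a119 := aux_base3 tw86 rfl b119
theorem x119_1 : AuxS.{u} (cP4) s119 0 a119_1 := x119
theorem x119_2 : AuxS.{u} (cP4) s119 0 a119_2 := x119_1
theorem n119 : Sound.{u} (cP4) s119 0 :=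
  (x119_2.fr GamS.nil AllS.nil c119_0 :)
theorem x120 : AuxS.{u} (cP4) s120 0 a120 := aux_base3 tw87 rfl b120
theorem x120_1 : AuxS.{u} (cP4) s120 0 a120_1 := x120
theorem x120_2 : AuxS.{u} (cP4) s120 0 a120_2 := x120_1
theorem n120 : Sound.{u} (cP4) s120 0 :=
  (x120_2.fr GamS.nil AllS.nil c120_0 :)
theorem x121 : AuxS.{u} (cP4) s121 0 a121 := aux_base3 tw88 rfl b121
theorem x121_1 : AuxS.{u} (cP4) s121 0 a121_1 := x121
theorem x121_2 : AuxS.{u} (cP4) s121 0 a121_2 := x121_1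
theorem n121 : Sound.{u} (cP4) s121 0 :=
  (x121_2.fr GamS.nil AllS.nil c121_0 :)
theorem x122 : AuxS.{u} (cP4) s122 0 a122 := aux_base3 tw89 rfl b122
theorem x122_1 : AuxS.{u} (cP4) s122 0 a122_1 := x122
theorem x122_2 : AuxS.{u} (cP4) s122 0 a122_2 := x122_1
theorem n122 : Sound.{u} (cP4) s122 0 :=
  (x122_2.fr GamS.nil AllS.nil c122_0 :)
theorem x123 : AuxS.{u} (cP4) s123 0 a123 := aux_base3 tw90 rfl b123
theorem x123_1 : AuxS.{u} (cP4) s123 0 a123_1 := x123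
theorem x123_2 : AuxS.{u} (cP4) s123 0 a123_2 := x123_1
theorem n123 : Sound.{u} (cP4) s123 0 :=
  (x123_2.fr GamS.nil AllS.nil c123_0 :)
theorem x91 : AuxS.{u} (cP4) s91 0 a91 := aux_base3 tw33 rfl b91
theorem x91_1 : AuxS.{u} (cP4) s91 0 a91_1 := (AuxS.up x91 c91_5 :)
theorem x91_2 : AuxS.{u} (cP4) s91 0 a91_2 := x91_1
theorem x91_3 : AuxS.{u} (cP4) s91 0 a91_3 := x91_2
theorem p91_0_1 : Phs s91 a91_3 [] [s92, s93, s94, s95, s96, s97, s98, s99, s100, s101, s102, s103, s104, s105, s106, s107, s108, s109, s110, s111, s112, s113, s114, s115, s116, s117, s118, s119, s120, s121, s122, s123] ct91_0 v91_0 5 w91_0_1 := (Phs.fin c91_0)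
theorem p91_0_3 : Phs s91 a91_3 [] [s92, s93, s94, s95, s96, s97, s98, s99, s100, s101, s102, s103, s104, s105, s106, s107, s108, s109, s110, s111, s112, s113, s114, s115, s116, s117, s118, s119, s120, s121, s122, s123] ct91_0 v91_0 4 w91_0_3 := (Phs.stp c91_1 p91_0_1)
theorem p91_0_5 : Phs s91 a91_3 [] [s92, s93, s94, s95, s96, s97, s98, s99, s100, s101, s102, s103, s104, s105, s106, s107, s108, s109, s110, s111, s112, s113, s114, s115, s116, s117, s118, s119, s120, s121, s122, s123] ct91_0 v91_0 1 w91_0_5 := (Phs.stp c91_2 p91_0_3)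
theorem n91 : Sound.{u} (cP4) s91 0 :=
  (x91_3.ext2 (fun h => absurd h (by decide)) GamS.nil (AllS.cons n92 (AllS.cons n93 (AllS.cons n94 (AllS.cons n95 (AllS.cons n96 (AllS.cons n97 (AllS.cons n98 (AllS.cons n99 (AllS.cons n100 (AllS.cons n101 (AllS.cons n102 (AllS.cons n103 (AllS.cons n104 (AllS.cons n105 (AllS.cons n106 (AllS.cons n107 (AllS.cons n108 (AllS.cons n109 (AllS.cons n110 (AllS.cons n111 (AllS.cons n112 (AllS.cons n113 (AllS.cons n114 (AllS.cons n115 (AllS.cons n116 (AllS.cons n117 (AllS.cons n118 (AllS.cons n119 (AllS.cons n120 (AllS.cons n121 (AllS.cons n122 (AllS.cons n123 AllS.nil)))))))))))))))))))))))))))))))) c91_4 (Phs.stp c91_3 p91_0_5) (Phs.fin (ct := ct91_0) rfl) :)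
theorem x59 : AuxS.{u} (cP4) s59 0 a59 := aux_base3 tw43 rfl b59
theorem x59_1 : AuxS.{u} (cP4) s59 0 a59_1 := x59
theorem x59_2 : AuxS.{u} (cP4) s59 0 a59_2 := x59_1
theorem n59 : Sound.{u} (cP4) s59 0 :=
  (x59_2.jump c59_0 c59_1 n91 :)
theorem x60 : AuxS.{u} (cP4) s60 0 a60 := aux_base3 tw43 rfl b60
theorem n60 : Sound.{u} (cP4) s60 0 :=
  (x60.k4 c60_0 :)
theorem x61 : AuxS.{u} (cP4) s61 0 a61 := aux_base3 tw43 rfl b61
theorem n61 : Sound.{u} (cP4) s61 0 :=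
  (x61.k4 c61_0 :)
theorem x62 : AuxS.{u} (cP4) s62 0 a62 := aux_base3 tw43 rfl b62
theorem n62 : Sound.{u} (cP4) s62 0 :=
  (x62.k4 c62_0 :)
theorem x63 : AuxS.{u} (cP4) s63 0 a63 := aux_base3 tw43 rfl b63
theorem n63 : Sound.{u} (cP4) s63 0 :=
  (x63.k4 c63_0 :)
theorem x64 : AuxS.{u} (cP4) s64 0 a64 := aux_base3 tw43 rfl b64
theorem n64 : Sound.{u} (cP4) s64 0 :=
  (x64.k4 c64_0 :)
theorem x65 : AuxS.{u} (cP4) s65 0 a65 := aux_base3 tw43 rfl b65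
theorem n65 : Sound.{u} (cP4) s65 0 :=
  (x65.k4 c65_0 :)
theorem x66 : AuxS.{u} (cP4) s66 0 a66 := aux_base3 tw43 rfl b66
theorem n66 : Sound.{u} (cP4) s66 0 :=
  (x66.k4 c66_0 :)
theorem x67 : AuxS.{u} (cP4) s67 0 a67 := aux_base3 tw43 rfl b67
theorem n67 : Sound.{u} (cP4) s67 0 :=
  (x67.k4 c67_0 :)
theorem x68 : AuxS.{u} (cP4) s68 0 a68 := aux_base3 tw43 rfl b68
theorem n68 : Sound.{u} (cP4) s68 0 :=
  (x68.k4 c68_0 :)
theorem x69 : AuxS.{u} (cP4) s69 0 a69 := aux_base3 tw43 rfl b69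
theorem n69 : Sound.{u} (cP4) s69 0 :=
  (x69.k4 c69_0 :)
theorem x70 : AuxS.{u} (cP4) s70 0 a70 := aux_base3 tw43 rfl b70
theorem n70 : Sound.{u} (cP4) s70 0 :=
  (x70.k4 c70_0 :)
theorem x71 : AuxS.{u} (cP4) s71 0 a71 := aux_base3 tw43 rfl b71
theorem n71 : Sound.{u} (cP4) s71 0 :=
  (x71.k4 c71_0 :)
theorem x72 : AuxS.{u} (cP4) s72 0 a72 := aux_base3 tw43 rfl b72
theorem n72 : Sound.{u} (cP4) s72 0 :=
  (x72.k4 c72_0 :)
theorem x73 : AuxS.{u} (cP4) s73 0 a73 := aux_base3 tw43 rfl b73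
theorem n73 : Sound.{u} (cP4) s73 0 :=
  (x73.k4 c73_0 :)
theorem x74 : AuxS.{u} (cP4) s74 0 a74 := aux_base3 tw43 rfl b74
theorem n74 : Sound.{u} (cP4) s74 0 :=
  (x74.k4 c74_0 :)
theorem x75 : AuxS.{u} (cP4) s75 0 a75 := aux_base3 tw43 rfl b75
theorem n75 : Sound.{u} (cP4) s75 0 :=
  (x75.k4 c75_0 :)
theorem x76 : AuxS.{u} (cP4) s76 0 a76 := aux_base3 tw43 rfl b76
theorem n76 : Sound.{u} (cP4) s76 0 :=
  (x76.k4 c76_0 :)
theorem x77 : AuxS.{u} (cP4) s77 0 a77 := aux_base3 tw43 rfl b77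
theorem n77 : Sound.{u} (cP4) s77 0 :=
  (x77.k4 c77_0 :)
theorem x78 : AuxS.{u} (cP4) s78 0 a78 := aux_base3 tw43 rfl b78
theorem n78 : Sound.{u} (cP4) s78 0 :=
  (x78.k4 c78_0 :)
theorem x79 : AuxS.{u} (cP4) s79 0 a79 := aux_base3 tw43 rfl b79
theorem n79 : Sound.{u} (cP4) s79 0 :=
  (x79.k4 c79_0 :)
theorem x80 : AuxS.{u} (cP4) s80 0 a80 := aux_base3 tw43 rfl b80
theorem n80 : Sound.{u} (cP4) s80 0 :=
  (x80.k4 c80_0 :)
theorem x81 : AuxS.{u} (cP4) s81 0 a81 := aux_base3 tw43 rfl b81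
theorem n81 : Sound.{u} (cP4) s81 0 :=
  (x81.k4 c81_0 :)
theorem x82 : AuxS.{u} (cP4) s82 0 a82 := aux_base3 tw43 rfl b82
theorem n82 : Sound.{u} (cP4) s82 0 :=
  (x82.k4 c82_0 :)
theorem x83 : AuxS.{u} (cP4) s83 0 a83 := aux_base3 tw43 rfl b83
theorem n83 : Sound.{u} (cP4) s83 0 :=
  (x83.k4 c83_0 :)
theorem x84 : AuxS.{u} (cP4) s84 0 a84 := aux_base3 tw43 rfl b84
theorem n84 : Sound.{u} (cP4) s84 0 :=
  (x84.k4 c84_0 :)
theorem x85 : AuxS.{u} (cP4) s85 0 a85 := aux_base3 tw43 rfl b85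
theorem n85 : Sound.{u} (cP4) s85 0 :=
  (x85.k4 c85_0 :)
theorem x86 : AuxS.{u} (cP4) s86 0 a86 := aux_base3 tw43 rfl b86
theorem n86 : Sound.{u} (cP4) s86 0 :=
  (x86.k4 c86_0 :)
theorem x87 : AuxS.{u} (cP4) s87 0 a87 := aux_base3 tw43 rfl b87
theorem n87 : Sound.{u} (cP4) s87 0 :=
  (x87.k4 c87_0 :)
theorem x88 : AuxS.{u} (cP4) s88 0 a88 := aux_base3 tw43 rfl b88
theorem n88 : Sound.{u} (cP4) s88 0 :=
  (x88.k4 c88_0 :)
theorem x89 : AuxS.{u} (cP4) s89 0 a89 := aux_base3 tw43 rfl b89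
theorem n89 : Sound.{u} (cP4) s89 0 :=
  (x89.k4 c89_0 :)
theorem x90 : AuxS.{u} (cP4) s90 0 a90 := aux_base3 tw43 rfl b90
theorem n90 : Sound.{u} (cP4) s90 0 :=
  (x90.k4 c90_0 :)
theorem x43 : AuxS.{u} (cP4) s43 0 a43 := aux_base3 tw43 rfl b43
theorem x43_1 : AuxS.{u} (cP4) s43 0 a43_1 := x43
theorem x43_2 : AuxS.{u} (cP4) s43 0 a43_2 := x43_1
theorem n43 : Sound.{u} (cP4) s43 0 :=
  (x43_2.fr (AuxS.gam x43_2 c43_0) (AllS.cons n59 (AllS.cons n60 (AllS.cons n61 (AllS.cons n62 (AllS.cons n63 (AllS.cons n64 (AllS.cons n65 (AllS.cons n66 (AllS.cons n67 (AllS.cons n68 (AllS.cons n69 (AllS.cons n70 (AllS.cons n71 (AllS.cons n72 (AllS.cons n73 (AllS.cons n74 (AllS.cons n75 (AllS.cons n76 (AllS.cons n77 (AllS.cons n78 (AllS.cons n79 (AllS.cons n80 (AllS.cons n81 (AllS.cons n82 (AllS.cons n83 (AllS.cons n84 (AllS.cons n85 (AllS.cons n86 (AllS.cons n87 (AllS.cons n88 (AllS.cons n89 (AllS.cons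 n90 AllS.nil)))))))))))))))))))))))))))))))) c43_1 :)
theorem x44 : AuxS.{u} (cP4) s44 0 a44 := aux_base3 tw44 rfl b44
theorem x44_1 : AuxS.{u} (cP4) s44 0 a44_1 := x44
theorem x44_2 : AuxS.{u} (cP4) s44 0 a44_2 := x44_1
theorem n44 : Sound.{u} (cP4) s44 0 :=
  (x44_2.fr GamS.nil AllS.nil c44_0 :)
theorem x45 : AuxS.{u} (cP4) s45 0 a45 := aux_base3 tw45 rfl b45
theorem x45_1 : AuxS.{u} (cP4) s45 0 a45_1 := x45
theorem x45_2 : AuxS.{u} (cP4) s45 0 a45_2 := x45_1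
theorem n45 : Sound.{u} (cP4) s45 0 :=
  (x45_2.fr GamS.nil AllS.nil c45_0 :)
theorem x46 : AuxS.{u} (cP4) s46 0 a46 := aux_base3 tw46 rfl b46
theorem x46_1 : AuxS.{u} (cP4) s46 0 a46_1 := x46
theorem x46_2 : AuxS.{u} (cP4) s46 0 a46_2 := x46_1
theorem n46 : Sound.{u} (cP4) s46 0 :=
  (x46_2.fr GamS.nil AllS.nil c46_0 :)
theorem x47 : AuxS.{u} (cP4) s47 0 a47 := aux_base3 tw47 rfl b47
theorem x47_1 : AuxS.{u} (cP4) s47 0 a47_1 := x47
theorem x47_2 : AuxS.{u} (cP4) s47 0 a47_2 := x47_1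
theorem n47 : Sound.{u} (cP4) s47 0 :=
  (x47_2.fr GamS.nil AllS.nil c47_0 :)
theorem x48 : AuxS.{u} (cP4) s48 0 a48 := aux_base3 tw48 rfl b48
theorem x48_1 : AuxS.{u} (cP4) s48 0 a48_1 := x48
theorem x48_2 : AuxS.{u} (cP4) s48 0 a48_2 := x48_1
theorem n48 : Sound.{u} (cP4) s48 0 :=
  (x48_2.fr GamS.nil AllS.nil c48_0 :)
theorem x49 : AuxS.{u} (cP4) s49 0 a49 := aux_base3 tw49 rfl b49
theorem x49_1 : AuxS.{u} (cP4) s49 0 a49_1 := x49
theorem x49_2 : AuxS.{u} (cP4) s49 0 a49_2 := x49_1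
theorem n49 : Sound.{u} (cP4) s49 0 :=
  (x49_2.fr GamS.nil AllS.nil c49_0 :)
theorem x50 : AuxS.{u} (cP4) s50 0 a50 := aux_base3 tw50 rfl b50
theorem x50_1 : AuxS.{u} (cP4) s50 0 a50_1 := x50
theorem x50_2 : AuxS.{u} (cP4) s50 0 a50_2 := x50_1
theorem n50 : Sound.{u} (cP4) s50 0 :=
  (x50_2.fr GamS.nil AllS.nil c50_0 :)
theorem x51 : AuxS.{u} (cP4) s51 0 a51 := aux_base3 tw51 rfl b51
theorem x51_1 : AuxS.{u} (cP4) s51 0 a51_1 := x51
theorem x51_2 : AuxS.{u} (cP4) s51 0 a51_2 := x51_1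
theorem n51 : Sound.{u} (cP4) s51 0 :=
  (x51_2.fr GamS.nil AllS.nil c51_0 :)
theorem x52 : AuxS.{u} (cP4) s52 0 a52 := aux_base3 tw52 rfl b52
theorem x52_1 : AuxS.{u} (cP4) s52 0 a52_1 := x52
theorem x52_2 : AuxS.{u} (cP4) s52 0 a52_2 := x52_1
theorem n52 : Sound.{u} (cP4) s52 0 :=
  (x52_2.fr GamS.nil AllS.nil c52_0 :)
theorem x53 : AuxS.{u} (cP4) s53 0 a53 := aux_base3 tw53 rfl b53
theorem x53_1 : AuxS.{u} (cP4) s53 0 a53_1 := x53
theorem x53_2 : AuxS.{u} (cP4) s53 0 a53_2 := x53_1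
theorem n53 : Sound.{u} (cP4) s53 0 :=
  (x53_2.fr GamS.nil AllS.nil c53_0 :)
theorem x54 : AuxS.{u} (cP4) s54 0 a54 := aux_base3 tw54 rfl b54
theorem x54_1 : AuxS.{u} (cP4) s54 0 a54_1 := x54
theorem x54_2 : AuxS.{u} (cP4) s54 0 a54_2 := x54_1
theorem n54 : Sound.{u} (cP4) s54 0 :=
  (x54_2.fr GamS.nil AllS.nil c54_0 :)
theorem x55 : AuxS.{u} (cP4) s55 0 a55 := aux_base3 tw55 rfl b55
theorem x55_1 : AuxS.{u} (cP4) s55 0 a55_1 := x55
theorem x55_2 : AuxS.{u} (cP4) s55 0 a55_2 := x55_1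
theorem n55 : Sound.{u} (cP4) s55 0 :=
  (x55_2.fr GamS.nil AllS.nil c55_0 :)
theorem x56 : AuxS.{u} (cP4) s56 0 a56 := aux_base3 tw56 rfl b56
theorem x56_1 : AuxS.{u} (cP4) s56 0 a56_1 := x56
theorem x56_2 : AuxS.{u} (cP4) s56 0 a56_2 := x56_1
theorem n56 : Sound.{u} (cP4) s56 0 :=
  (x56_2.fr GamS.nil AllS.nil c56_0 :)
theorem x57 : AuxS.{u} (cP4) s57 0 a57 := aux_base3 tw57 rfl b57
theorem x57_1 : AuxS.{u} (cP4) s57 0 a57_1 := x57
theorem x57_2 : AuxS.{u} (cP4) s57 0 a57_2 := x57_1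
theorem n57 : Sound.{u} (cP4) s57 0 :=
  (x57_2.fr GamS.nil AllS.nil c57_0 :)
theorem x58 : AuxS.{u} (cP4) s58 0 a58 := aux_base3 tw58 rfl b58
theorem x58_1 : AuxS.{u} (cP4) s58 0 a58_1 := x58
theorem x58_2 : AuxS.{u} (cP4) s58 0 a58_2 := x58_1
theorem n58 : Sound.{u} (cP4) s58 0 :=
  (x58_2.fr GamS.nil AllS.nil c58_0 :)
theorem x33 : AuxS.{u} (cP4) s33 0 a33 := aux_base3 tw33 rfl b33
theorem x33_1 : AuxS.{u} (cP4) s33 0 a33_1 := (AuxS.up x33 c33_7 :)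
theorem x33_2 : AuxS.{u} (cP4) s33 0 a33_2 := x33_1
theorem p33_0_1 : Phs s33 a33_2 (List.map Prod.fst g33_0) [s43, s44, s45, s46, s47, s48, s49, s50, s51, s52, s53, s54, s55, s56, s57, s58] ct33_0 v33_0 5 w33_0_1 := (Phs.fin c33_1)
theorem p33_0_3 : Phs s33 a33_2 (List.map Prod.fst g33_0) [s43, s44, s45, s46, s47, s48, s49, s50, s51, s52, s53, s54, s55, s56, s57, s58] ct33_0 v33_0 4 w33_0_3 := (Phs.stp c33_2 p33_0_1)
theorem p33_0_5 : Phs s33 a33_2 (List.map Prod.fst g33_0) [s43, s44, s45, s46, s47, s48, s49, s50, s51, s52, s53, s54, s55, s56, s57, s58] ct33_0 v33_0 3 w33_0_5 := (Phs.stp c33_3 p33_0_3)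
theorem p33_0_7 : Phs s33 a33_2 (List.map Prod.fst g33_0) [s43, s44, s45, s46, s47, s48, s49, s50, s51, s52, s53, s54, s55, s56, s57, s58] ct33_0 v33_0 1 w33_0_7 := (Phs.stp c33_4 p33_0_5)
theorem n33 : Sound.{u} (cP4) s33 0 :=
  (x33_2.ext2 (fun h => absurd h (by decide)) (AuxS.gam x33_2 c33_0) (AllS.cons n43 (AllS.cons n44 (AllS.cons n45 (AllS.cons n46 (AllS.cons n47 (AllS.cons n48 (AllS.cons n49 (AllS.cons n50 (AllS.cons n51 (AllS.cons n52 (AllS.cons n53 (AllS.cons n54 (AllS.cons n55 (AllS.cons n56 (AllS.cons n57 (AllS.cons n58 AllS.nil)))))))))))))))) c33_6 (Phs.stp c33_5 p33_0_7) (Phs.fin (ct := ct33_0) rfl) :)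
theorem x468 : AuxS.{u} (cP4) s468 0 a468 := aux_base3 tw115 rfl b468
theorem x468_1 : AuxS.{u} (cP4) s468 0 a468_1 := x468
theorem x468_2 : AuxS.{u} (cP4) s468 0 a468_2 := x468_1
theorem n468 : Sound.{u} (cP4) s468 0 :=
  (x468_2.fr GamS.nil AllS.nil c468_0 :)
theorem x469 : AuxS.{u} (cP4) s469 0 a469 := aux_base3 tw116 rfl b469
theorem x469_1 : AuxS.{u} (cP4) s469 0 a469_1 := x469
theorem x469_2 : AuxS.{u} (cP4) s469 0 a469_2 := x469_1
theorem n469 : Sound.{u} (cP4) s469 0 :=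
  (x469_2.fr GamS.nil AllS.nil c469_0 :)
theorem x470 : AuxS.{u} (cP4) s470 0 a470 := aux_base3 tw117 rfl b470
theorem x470_1 : AuxS.{u} (cP4) s470 0 a470_1 := x470
theorem x470_2 : AuxS.{u} (cP4) s470 0 a470_2 := x470_1
theorem n470 : Sound.{u} (cP4) s470 0 :=
  (x470_2.fr GamS.nil AllS.nil c470_0 :)
theorem x471 : AuxS.{u} (cP4) s471 0 a471 := aux_base3 tw118 rfl b471
theorem x471_1 : AuxS.{u} (cP4) s471 0 a471_1 := x471
theorem x471_2 : AuxS.{u} (cP4) s471 0 a471_2 := x471_1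
theorem n471 : Sound.{u} (cP4) s471 0 :=
  (x471_2.fr GamS.nil AllS.nil c471_0 :)
theorem x472 : AuxS.{u} (cP4) s472 0 a472 := aux_base3 tw119 rfl b472
theorem x472_1 : AuxS.{u} (cP4) s472 0 a472_1 := x472
theorem x472_2 : AuxS.{u} (cP4) s472 0 a472_2 := x472_1
theorem n472 : Sound.{u} (cP4) s472 0 :=
  (x472_2.fr GamS.nil AllS.nil c472_0 :)
theorem x473 : AuxS.{u} (cP4) s473 0 a473 := aux_base3 tw120 rfl b473
theorem x473_1 : AuxS.{u} (cP4) s473 0 a473_1 := x473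
theorem x473_2 : AuxS.{u} (cP4) s473 0 a473_2 := x473_1
theorem n473 : Sound.{u} (cP4) s473 0 :=
  (x473_2.fr GamS.nil AllS.nil c473_0 :)
theorem x474 : AuxS.{u} (cP4) s474 0 a474 := aux_base3 tw121 rfl b474
theorem x474_1 : AuxS.{u} (cP4) s474 0 a474_1 := x474
theorem x474_2 : AuxS.{u} (cP4) s474 0 a474_2 := x474_1
theorem n474 : Sound.{u} (cP4) s474 0 :=
  (x474_2.fr GamS.nil AllS.nil c474_0 :)
theorem x475 : AuxS.{u} (cP4) s475 0 a475 := aux_base3 tw122 rfl b475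
theorem x475_1 : AuxS.{u} (cP4) s475 0 a475_1 := x475
theorem x475_2 : AuxS.{u} (cP4) s475 0 a475_2 := x475_1
theorem n475 : Sound.{u} (cP4) s475 0 :=
  (x475_2.fr GamS.nil AllS.nil c475_0 :)
theorem x476 : AuxS.{u} (cP4) s476 0 a476 := aux_base3 tw123 rfl b476
theorem x476_1 : AuxS.{u} (cP4) s476 0 a476_1 := x476
theorem x476_2 : AuxS.{u} (cP4) s476 0 a476_2 := x476_1
theorem n476 : Sound.{u} (cP4) s476 0 :=
  (x476_2.fr GamS.nil AllS.nil c476_0 :)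
theorem x477 : AuxS.{u} (cP4) s477 0 a477 := aux_base3 tw124 rfl b477
theorem x477_1 : AuxS.{u} (cP4) s477 0 a477_1 := x477
theorem x477_2 : AuxS.{u} (cP4) s477 0 a477_2 := x477_1
theorem n477 : Sound.{u} (cP4) s477 0 :=
  (x477_2.fr GamS.nil AllS.nil c477_0 :)
theorem x478 : AuxS.{u} (cP4) s478 0 a478 := aux_base3 tw125 rfl b478
theorem x478_1 : AuxS.{u} (cP4) s478 0 a478_1 := x478
theorem x478_2 : AuxS.{u} (cP4) s478 0 a478_2 := x478_1
theorem n478 : Sound.{u} (cP4) s478 0 :=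
  (x478_2.fr GamS.nil AllS.nil c478_0 :)
theorem x479 : AuxS.{u} (cP4) s479 0 a479 := aux_base3 tw126 rfl b479
theorem x479_1 : AuxS.{u} (cP4) s479 0 a479_1 := x479
theorem x479_2 : AuxS.{u} (cP4) s479 0 a479_2 := x479_1
theorem n479 : Sound.{u} (cP4) s479 0 :=
  (x479_2.fr GamS.nil AllS.nil c479_0 :)
theorem x480 : AuxS.{u} (cP4) s480 0 a480 := aux_base3 tw127 rfl b480
theorem x480_1 : AuxS.{u} (cP4) s480 0 a480_1 := x480
theorem x480_2 : AuxS.{u} (cP4) s480 0 a480_2 := x480_1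
theorem n480 : Sound.{u} (cP4) s480 0 :=
  (x480_2.fr GamS.nil AllS.nil c480_0 :)
theorem x481 : AuxS.{u} (cP4) s481 0 a481 := aux_base3 tw128 rfl b481
theorem x481_1 : AuxS.{u} (cP4) s481 0 a481_1 := x481
theorem x481_2 : AuxS.{u} (cP4) s481 0 a481_2 := x481_1
theorem n481 : Sound.{u} (cP4) s481 0 :=
  (x481_2.fr GamS.nil AllS.nil c481_0 :)
theorem x482 : AuxS.{u} (cP4) s482 0 a482 := aux_base3 tw129 rfl b482
theorem x482_1 : AuxS.{u} (cP4) s482 0 a482_1 := x482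
theorem x482_2 : AuxS.{u} (cP4) s482 0 a482_2 := x482_1
theorem n482 : Sound.{u} (cP4) s482 0 :=
  (x482_2.fr GamS.nil AllS.nil c482_0 :)
theorem x483 : AuxS.{u} (cP4) s483 0 a483 := aux_base3 tw130 rfl b483
theorem x483_1 : AuxS.{u} (cP4) s483 0 a483_1 := x483
theorem x483_2 : AuxS.{u} (cP4) s483 0 a483_2 := x483_1
theorem n483 : Sound.{u} (cP4) s483 0 :=
  (x483_2.fr GamS.nil AllS.nil c483_0 :)
theorem x34 : AuxS.{u} (cP4) s34 0 a34 := aux_base3 tw34 rfl b34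
theorem x34_1 : AuxS.{u} (cP4) s34 0 a34_1 := (AuxS.up x34 c34_7 :)
theorem x34_2 : AuxS.{u} (cP4) s34 0 a34_2 := x34_1
theorem p34_0_1 : Phs s34 a34_2 (List.map Prod.fst g34_0) [s468, s469, s470, s471, s472, s473, s474, s475, s476, s477, s478, s479, s480, s481, s482, s483] ct34_0 v34_0 5 w34_0_1 := (Phs.fin c34_1)
theorem p34_0_3 : Phs s34 a34_2 (List.map Prod.fst g34_0) [s468, s469, s470, s471, s472, s473, s474, s475, s476, s477, s478, s479, s480, s481, s482, s483] ct34_0 v34_0 4 w34_0_3 := (Phs.stp c34_2 p34_0_1)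
theorem p34_0_5 : Phs s34 a34_2 (List.map Prod.fst g34_0) [s468, s469, s470, s471, s472, s473, s474, s475, s476, s477, s478, s479, s480, s481, s482, s483] ct34_0 v34_0 3 w34_0_5 := (Phs.stp c34_3 p34_0_3)
theorem p34_0_7 : Phs s34 a34_2 (List.map Prod.fst g34_0) [s468, s469, s470, s471, s472, s473, s474, s475, s476, s477, s478, s479, s480, s481, s482, s483] ct34_0 v34_0 1 w34_0_7 := (Phs.stp c34_4 p34_0_5)
theorem n34 : Sound.{u} (cP4) s34 0 :=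
  (x34_2.ext2 (fun h => absurd h (by decide)) (AuxS.gam x34_2 c34_0) (AllS.cons n468 (AllS.cons n469 (AllS.cons n470 (AllS.cons n471 (AllS.cons n472 (AllS.cons n473 (AllS.cons n474 (AllS.cons n475 (AllS.cons n476 (AllS.cons n477 (AllS.cons n478 (AllS.cons n479 (AllS.cons n480 (AllS.cons n481 (AllS.cons n482 (AllS.cons n483 AllS.nil)))))))))))))))) c34_6 (Phs.stp c34_5 p34_0_7) (Phs.fin (ct := ct34_0) rfl) :)
theorem x533 : AuxS.{u} (cP4) s533 0 a533 := aux_base3 tw147 rfl b533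
theorem x533_1 : AuxS.{u} (cP4) s533 0 a533_1 := x533
theorem n533 : Sound.{u} (cP4) s533 0 :=
  (x533_1.fr GamS.nil AllS.nil c533_0 :)
theorem x534 : AuxS.{u} (cP4) s534 0 a534 := aux_base3 tw148 rfl b534
theorem x534_1 : AuxS.{u} (cP4) s534 0 a534_1 := x534
theorem n534 : Sound.{u} (cP4) s534 0 :=
  (x534_1.fr GamS.nil AllS.nil c534_0 :)
theorem x535 : AuxS.{u} (cP4) s535 0 a535 := aux_base3 tw149 rfl b535
theorem x535_1 : AuxS.{u} (cP4) s535 0 a535_1 := x535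
theorem n535 : Sound.{u} (cP4) s535 0 :=
  (x535_1.fr GamS.nil AllS.nil c535_0 :)
theorem x536 : AuxS.{u} (cP4) s536 0 a536 := aux_base3 tw150 rfl b536
theorem x536_1 : AuxS.{u} (cP4) s536 0 a536_1 := x536
theorem n536 : Sound.{u} (cP4) s536 0 :=
  (x536_1.fr GamS.nil AllS.nil c536_0 :)
theorem x537 : AuxS.{u} (cP4) s537 0 a537 := aux_base3 tw151 rfl b537
theorem x537_1 : AuxS.{u} (cP4) s537 0 a537_1 := x537
theorem x537_2 : AuxS.{u} (cP4) s537 0 a537_2 := x537_1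
theorem n537 : Sound.{u} (cP4) s537 0 :=
  (x537_2.fr GamS.nil AllS.nil c537_0 :)
theorem x538 : AuxS.{u} (cP4) s538 0 a538 := aux_base3 tw152 rfl b538
theorem x538_1 : AuxS.{u} (cP4) s538 0 a538_1 := x538
theorem n538 : Sound.{u} (cP4) s538 0 :=
  (x538_1.fr GamS.nil AllS.nil c538_0 :)
theorem x539 : AuxS.{u} (cP4) s539 0 a539 := aux_base3 tw153 rfl b539
theorem x539_1 : AuxS.{u} (cP4) s539 0 a539_1 := x539
theorem n539 : Sound.{u} (cP4) s539 0 :=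
  (x539_1.fr GamS.nil AllS.nil c539_0 :)
theorem x540 : AuxS.{u} (cP4) s540 0 a540 := aux_base3 tw154 rfl b540
theorem x540_1 : AuxS.{u} (cP4) s540 0 a540_1 := x540
theorem x540_2 : AuxS.{u} (cP4) s540 0 a540_2 := x540_1
theorem n540 : Sound.{u} (cP4) s540 0 :=
  (x540_2.fr GamS.nil AllS.nil c540_0 :)
theorem x541 : AuxS.{u} (cP4) s541 0 a541 := aux_base3 tw155 rfl b541
theorem x541_1 : AuxS.{u} (cP4) s541 0 a541_1 := x541
theorem x541_2 : AuxS.{u} (cP4) s541 0 a541_2 := x541_1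
theorem n541 : Sound.{u} (cP4) s541 0 :=
  (x541_2.fr GamS.nil AllS.nil c541_0 :)
theorem x542 : AuxS.{u} (cP4) s542 0 a542 := aux_base3 tw156 rfl b542
theorem x542_1 : AuxS.{u} (cP4) s542 0 a542_1 := x542
theorem n542 : Sound.{u} (cP4) s542 0 :=
  (x542_1.fr GamS.nil AllS.nil c542_0 :)
theorem x543 : AuxS.{u} (cP4) s543 0 a543 := aux_base3 tw157 rfl b543
theorem x543_1 : AuxS.{u} (cP4) s543 0 a543_1 := x543
theorem n543 : Sound.{u} (cP4) s543 0 :=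
  (x543_1.fr GamS.nil AllS.nil c543_0 :)
theorem x544 : AuxS.{u} (cP4) s544 0 a544 := aux_base3 tw158 rfl b544
theorem x544_1 : AuxS.{u} (cP4) s544 0 a544_1 := x544
theorem n544 : Sound.{u} (cP4) s544 0 :=
  (x544_1.fr GamS.nil AllS.nil c544_0 :)
theorem x545 : AuxS.{u} (cP4) s545 0 a545 := aux_base3 tw159 rfl b545
theorem x545_1 : AuxS.{u} (cP4) s545 0 a545_1 := x545
theorem x545_2 : AuxS.{u} (cP4) s545 0 a545_2 := x545_1
theorem n545 : Sound.{u} (cP4) s545 0 :=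
  (x545_2.fr GamS.nil AllS.nil c545_0 :)
theorem x546 : AuxS.{u} (cP4) s546 0 a546 := aux_base3 tw160 rfl b546
theorem x546_1 : AuxS.{u} (cP4) s546 0 a546_1 := x546
theorem x546_2 : AuxS.{u} (cP4) s546 0 a546_2 := x546_1
theorem n546 : Sound.{u} (cP4) s546 0 :=
  (x546_2.fr GamS.nil AllS.nil c546_0 :)
theorem x547 : AuxS.{u} (cP4) s547 0 a547 := aux_base3 tw161 rfl b547
theorem x547_1 : AuxS.{u} (cP4) s547 0 a547_1 := x547
theorem n547 : Sound.{u} (cP4) s547 0 :=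
  (x547_1.fr GamS.nil AllS.nil c547_0 :)
theorem x548 : AuxS.{u} (cP4) s548 0 a548 := aux_base3 tw162 rfl b548
theorem x548_1 : AuxS.{u} (cP4) s548 0 a548_1 := x548
theorem n548 : Sound.{u} (cP4) s548 0 :=
  (x548_1.fr GamS.nil AllS.nil c548_0 :)
theorem x549 : AuxS.{u} (cP4) s549 0 a549 := aux_base3 tw163 rfl b549
theorem x549_1 : AuxS.{u} (cP4) s549 0 a549_1 := x549
theorem n549 : Sound.{u} (cP4) s549 0 :=
  (x549_1.fr GamS.nil AllS.nil c549_0 :)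
theorem x550 : AuxS.{u} (cP4) s550 0 a550 := aux_base3 tw164 rfl b550
theorem x550_1 : AuxS.{u} (cP4) s550 0 a550_1 := x550
theorem n550 : Sound.{u} (cP4) s550 0 :=
  (x550_1.fr GamS.nil AllS.nil c550_0 :)
theorem x551 : AuxS.{u} (cP4) s551 0 a551 := aux_base3 tw165 rfl b551
theorem x551_1 : AuxS.{u} (cP4) s551 0 a551_1 := x551
theorem n551 : Sound.{u} (cP4) s551 0 :=
  (x551_1.fr GamS.nil AllS.nil c551_0 :)
theorem x552 : AuxS.{u} (cP4) s552 0 a552 := aux_base3 tw166 rfl b552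
theorem x552_1 : AuxS.{u} (cP4) s552 0 a552_1 := x552
theorem n552 : Sound.{u} (cP4) s552 0 :=
  (x552_1.fr GamS.nil AllS.nil c552_0 :)
theorem x553 : AuxS.{u} (cP4) s553 0 a553 := aux_base3 tw167 rfl b553
theorem x553_1 : AuxS.{u} (cP4) s553 0 a553_1 := x553
theorem x553_2 : AuxS.{u} (cP4) s553 0 a553_2 := x553_1
theorem n553 : Sound.{u} (cP4) s553 0 :=
  (x553_2.fr GamS.nil AllS.nil c553_0 :)
theorem x554 : AuxS.{u} (cP4) s554 0 a554 := aux_base3 tw168 rfl b554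
theorem x554_1 : AuxS.{u} (cP4) s554 0 a554_1 := x554
theorem n554 : Sound.{u} (cP4) s554 0 :=
  (x554_1.fr GamS.nil AllS.nil c554_0 :)
theorem x555 : AuxS.{u} (cP4) s555 0 a555 := aux_base3 tw169 rfl b555
theorem x555_1 : AuxS.{u} (cP4) s555 0 a555_1 := x555
theorem n555 : Sound.{u} (cP4) s555 0 :=
  (x555_1.fr GamS.nil AllS.nil c555_0 :)
theorem x556 : AuxS.{u} (cP4) s556 0 a556 := aux_base3 tw170 rfl b556
theorem x556_1 : AuxS.{u} (cP4) s556 0 a556_1 := x556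
theorem x556_2 : AuxS.{u} (cP4) s556 0 a556_2 := x556_1
theorem n556 : Sound.{u} (cP4) s556 0 :=
  (x556_2.fr GamS.nil AllS.nil c556_0 :)
theorem x557 : AuxS.{u} (cP4) s557 0 a557 := aux_base3 tw171 rfl b557
theorem x557_1 : AuxS.{u} (cP4) s557 0 a557_1 := x557
theorem x557_2 : AuxS.{u} (cP4) s557 0 a557_2 := x557_1
theorem n557 : Sound.{u} (cP4) s557 0 :=
  (x557_2.fr GamS.nil AllS.nil c557_0 :)
theorem x558 : AuxS.{u} (cP4) s558 0 a558 := aux_base3 tw172 rfl b558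
theorem x558_1 : AuxS.{u} (cP4) s558 0 a558_1 := x558
theorem n558 : Sound.{u} (cP4) s558 0 :=
  (x558_1.fr GamS.nil AllS.nil c558_0 :)
theorem x559 : AuxS.{u} (cP4) s559 0 a559 := aux_base3 tw173 rfl b559
theorem x559_1 : AuxS.{u} (cP4) s559 0 a559_1 := x559
theorem n559 : Sound.{u} (cP4) s559 0 :=
  (x559_1.fr GamS.nil AllS.nil c559_0 :)
theorem x560 : AuxS.{u} (cP4) s560 0 a560 := aux_base3 tw174 rfl b560
theorem x560_1 : AuxS.{u} (cP4) s560 0 a560_1 := x560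
theorem n560 : Sound.{u} (cP4) s560 0 :=
  (x560_1.fr GamS.nil AllS.nil c560_0 :)
theorem x561 : AuxS.{u} (cP4) s561 0 a561 := aux_base3 tw175 rfl b561
theorem x561_1 : AuxS.{u} (cP4) s561 0 a561_1 := x561
theorem x561_2 : AuxS.{u} (cP4) s561 0 a561_2 := x561_1
theorem n561 : Sound.{u} (cP4) s561 0 :=
  (x561_2.fr GamS.nil AllS.nil c561_0 :)
theorem x562 : AuxS.{u} (cP4) s562 0 a562 := aux_base3 tw176 rfl b562
theorem x562_1 : AuxS.{u} (cP4) s562 0 a562_1 := x562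
theorem x562_2 : AuxS.{u} (cP4) s562 0 a562_2 := x562_1
theorem n562 : Sound.{u} (cP4) s562 0 :=
  (x562_2.fr GamS.nil AllS.nil c562_0 :)
theorem x563 : AuxS.{u} (cP4) s563 0 a563 := aux_base3 tw177 rfl b563
theorem x563_1 : AuxS.{u} (cP4) s563 0 a563_1 := x563
theorem n563 : Sound.{u} (cP4) s563 0 :=
  (x563_1.fr GamS.nil AllS.nil c563_0 :)
theorem x564 : AuxS.{u} (cP4) s564 0 a564 := aux_base3 tw178 rfl b564
theorem x564_1 : AuxS.{u} (cP4) s564 0 a564_1 := x564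
theorem n564 : Sound.{u} (cP4) s564 0 :=
  (x564_1.fr GamS.nil AllS.nil c564_0 :)
theorem x532 : AuxS.{u} (cP4) s532 0 a532 := aux_base3 tw35 rfl b532
theorem x532_1 : AuxS.{u} (cP4) s532 0 a532_1 := (AuxS.up x532 c532_5 :)
theorem p532_0_1 : Phs s532 a532_1 [] [s533, s534, s535, s536, s537, s538, s539, s540, s541, s542, s543, s544, s545, s546, s547, s548, s549, s550, s551, s552, s553, s554, s555, s556, s557, s558, s559, s560, s561, s562, s563, s564] ct532_0 v532_0 5 w532_0_1 := (Phs.fin c532_0)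
theorem p532_0_3 : Phs s532 a532_1 [] [s533, s534, s535, s536, s537, s538, s539, s540, s541, s542, s543, s544, s545, s546, s547, s548, s549, s550, s551, s552, s553, s554, s555, s556, s557, s558, s559, s560, s561, s562, s563, s564] ct532_0 v532_0 4 w532_0_3 := (Phs.stp c532_1 p532_0_1)
theorem p532_0_5 : Phs s532 a532_1 [] [s533, s534, s535, s536, s537, s538, s539, s540, s541, s542, s543, s544, s545, s546, s547, s548, s549, s550, s551, s552, s553, s554, s555, s556, s557, s558, s559, s560, s561, s562, s563, s564] ct532_0 v532_0 1 w532_0_5 := (Phs.stp c532_2 p532_0_3)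
theorem n532 : Sound.{u} (cP4) s532 0 :=
  (x532_1.ext2 (fun h => absurd h (by decide)) GamS.nil (AllS.cons n533 (AllS.cons n534 (AllS.cons n535 (AllS.cons n536 (AllS.cons n537 (AllS.cons n538 (AllS.cons n539 (AllS.cons n540 (AllS.cons n541 (AllS.cons n542 (AllS.cons n543 (AllS.cons n544 (AllS.cons n545 (AllS.cons n546 (AllS.cons n547 (AllS.cons n548 (AllS.cons n549 (AllS.cons n550 (AllS.cons n551 (AllS.cons n552 (AllS.cons n553 (AllS.cons n554 (AllS.cons n555 (AllS.cons n556 (AllS.cons n557 (AllS.cons n558 (AllS.cons n559 (AllS.cons n560 (AllS.cons n561 (AllS.cons n562 (AllS.cons n563 (AllS.cons n564 AllS.nil)))))))))))))))))))))))))))))))) c532_4 (Phs.stp c532_3 p532_0_5) (Phs.fin (ct := ct532_0) rfl) :)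
theorem x500 : AuxS.{u} (cP4) s500 0 a500 := aux_base3 tw131 rfl b500
theorem x500_1 : AuxS.{u} (cP4) s500 0 a500_1 := x500
theorem n500 : Sound.{u} (cP4) s500 0 :=
  (x500_1.jump c500_0 c500_1 n532 :)
theorem x501 : AuxS.{u} (cP4) s501 0 a501 := aux_base3 tw131 rfl b501
theorem n501 : Sound.{u} (cP4) s501 0 :=
  (x501.k4 c501_0 :)
theorem x502 : AuxS.{u} (cP4) s502 0 a502 := aux_base3 tw131 rfl b502
theorem n502 : Sound.{u} (cP4) s502 0 :=
  (x502.k4 c502_0 :)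
theorem x503 : AuxS.{u} (cP4) s503 0 a503 := aux_base3 tw131 rfl b503
theorem n503 : Sound.{u} (cP4) s503 0 :=
  (x503.k4 c503_0 :)
theorem x504 : AuxS.{u} (cP4) s504 0 a504 := aux_base3 tw131 rfl b504
theorem n504 : Sound.{u} (cP4) s504 0 :=
  (x504.k4 c504_0 :)
theorem x505 : AuxS.{u} (cP4) s505 0 a505 := aux_base3 tw131 rfl b505
theorem n505 : Sound.{u} (cP4) s505 0 :=
  (x505.k4 c505_0 :)
theorem x506 : AuxS.{u} (cP4) s506 0 a506 := aux_base3 tw131 rfl b506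
theorem n506 : Sound.{u} (cP4) s506 0 :=
  (x506.k4 c506_0 :)
theorem x507 : AuxS.{u} (cP4) s507 0 a507 := aux_base3 tw131 rfl b507
theorem n507 : Sound.{u} (cP4) s507 0 :=
  (x507.k4 c507_0 :)
theorem x508 : AuxS.{u} (cP4) s508 0 a508 := aux_base3 tw131 rfl b508
theorem n508 : Sound.{u} (cP4) s508 0 :=
  (x508.k4 c508_0 :)
theorem x509 : AuxS.{u} (cP4) s509 0 a509 := aux_base3 tw131 rfl b509
theorem n509 : Sound.{u} (cP4) s509 0 :=
  (x509.k4 c509_0 :)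
theorem x510 : AuxS.{u} (cP4) s510 0 a510 := aux_base3 tw131 rfl b510
theorem n510 : Sound.{u} (cP4) s510 0 :=
  (x510.k4 c510_0 :)
theorem x511 : AuxS.{u} (cP4) s511 0 a511 := aux_base3 tw131 rfl b511
theorem n511 : Sound.{u} (cP4) s511 0 :=
  (x511.k4 c511_0 :)
theorem x512 : AuxS.{u} (cP4) s512 0 a512 := aux_base3 tw131 rfl b512
theorem n512 : Sound.{u} (cP4) s512 0 :=
  (x512.k4 c512_0 :)
theorem x513 : AuxS.{u} (cP4) s513 0 a513 := aux_base3 tw131 rfl b513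
theorem n513 : Sound.{u} (cP4) s513 0 :=
  (x513.k4 c513_0 :)
theorem x514 : AuxS.{u} (cP4) s514 0 a514 := aux_base3 tw131 rfl b514
theorem n514 : Sound.{u} (cP4) s514 0 :=
  (x514.k4 c514_0 :)
theorem x515 : AuxS.{u} (cP4) s515 0 a515 := aux_base3 tw131 rfl b515
theorem n515 : Sound.{u} (cP4) s515 0 :=
  (x515.k4 c515_0 :)
theorem x516 : AuxS.{u} (cP4) s516 0 a516 := aux_base3 tw131 rfl b516
theorem n516 : Sound.{u} (cP4) s516 0 :=
  (x516.k4 c516_0 :)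
theorem x517 : AuxS.{u} (cP4) s517 0 a517 := aux_base3 tw131 rfl b517
theorem n517 : Sound.{u} (cP4) s517 0 :=
  (x517.k4 c517_0 :)
theorem x518 : AuxS.{u} (cP4) s518 0 a518 := aux_base3 tw131 rfl b518
theorem n518 : Sound.{u} (cP4) s518 0 :=
  (x518.k4 c518_0 :)
theorem x519 : AuxS.{u} (cP4) s519 0 a519 := aux_base3 tw131 rfl b519
theorem n519 : Sound.{u} (cP4) s519 0 :=
  (x519.k4 c519_0 :)
theorem x520 : AuxS.{u} (cP4) s520 0 a520 := aux_base3 tw131 rfl b520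
theorem n520 : Sound.{u} (cP4) s520 0 :=
  (x520.k4 c520_0 :)
theorem x521 : AuxS.{u} (cP4) s521 0 a521 := aux_base3 tw131 rfl b521
theorem n521 : Sound.{u} (cP4) s521 0 :=
  (x521.k4 c521_0 :)
theorem x522 : AuxS.{u} (cP4) s522 0 a522 := aux_base3 tw131 rfl b522
theorem n522 : Sound.{u} (cP4) s522 0 :=
  (x522.k4 c522_0 :)
theorem x523 : AuxS.{u} (cP4) s523 0 a523 := aux_base3 tw131 rfl b523
theorem n523 : Sound.{u} (cP4) s523 0 :=
  (x523.k4 c523_0 :)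
theorem x524 : AuxS.{u} (cP4) s524 0 a524 := aux_base3 tw131 rfl b524
theorem n524 : Sound.{u} (cP4) s524 0 :=
  (x524.k4 c524_0 :)
theorem x525 : AuxS.{u} (cP4) s525 0 a525 := aux_base3 tw131 rfl b525
theorem n525 : Sound.{u} (cP4) s525 0 :=
  (x525.k4 c525_0 :)
theorem x526 : AuxS.{u} (cP4) s526 0 a526 := aux_base3 tw131 rfl b526
theorem n526 : Sound.{u} (cP4) s526 0 :=
  (x526.k4 c526_0 :)
theorem x527 : AuxS.{u} (cP4) s527 0 a527 := aux_base3 tw131 rfl b527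
theorem n527 : Sound.{u} (cP4) s527 0 :=
  (x527.k4 c527_0 :)
theorem x528 : AuxS.{u} (cP4) s528 0 a528 := aux_base3 tw131 rfl b528
theorem n528 : Sound.{u} (cP4) s528 0 :=
  (x528.k4 c528_0 :)
theorem x529 : AuxS.{u} (cP4) s529 0 a529 := aux_base3 tw131 rfl b529
theorem n529 : Sound.{u} (cP4) s529 0 :=
  (x529.k4 c529_0 :)
theorem x530 : AuxS.{u} (cP4) s530 0 a530 := aux_base3 tw131 rfl b530
theorem n530 : Sound.{u} (cP4) s530 0 :=
  (x530.k4 c530_0 :)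
theorem x531 : AuxS.{u} (cP4) s531 0 a531 := aux_base3 tw131 rfl b531
theorem n531 : Sound.{u} (cP4) s531 0 :=
  (x531.k4 c531_0 :)
theorem x484 : AuxS.{u} (cP4) s484 0 a484 := aux_base3 tw131 rfl b484
theorem x484_1 : AuxS.{u} (cP4) s484 0 a484_1 := x484
theorem n484 : Sound.{u} (cP4) s484 0 :=
  (x484_1.fr (AuxS.gam x484_1 c484_0) (AllS.cons n500 (AllS.cons n501 (AllS.cons n502 (AllS.cons n503 (AllS.cons n504 (AllS.cons n505 (AllS.cons n506 (AllS.cons n507 (AllS.cons n508 (AllS.cons n509 (AllS.cons n510 (AllS.cons n511 (AllS.cons n512 (AllS.cons n513 (AllS.cons n514 (AllS.cons n515 (AllS.cons n516 (AllS.cons n517 (AllS.cons n518 (AllS.cons n519 (AllS.cons n520 (AllS.cons n521 (AllS.cons n522 (AllS.cons n523 (AllS.cons n524 (AllS.cons n525 (AllS.cons n526 (AllS.cons n527 (AllS.cons n528 (AllS.cons n529 (AllS.cons n530 (AllS.cons n531 AllS.nil)))))))))))))))))))))))))))))))) c484_1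 :)
theorem x485 : AuxS.{u} (cP4) s485 0 a485 := aux_base3 tw132 rfl b485
theorem x485_1 : AuxS.{u} (cP4) s485 0 a485_1 := x485
theorem n485 : Sound.{u} (cP4) s485 0 :=
  (x485_1.fr GamS.nil AllS.nil c485_0 :)
theorem x486 : AuxS.{u} (cP4) s486 0 a486 := aux_base3 tw133 rfl b486
theorem x486_1 : AuxS.{u} (cP4) s486 0 a486_1 := x486
theorem n486 : Sound.{u} (cP4) s486 0 :=
  (x486_1.fr GamS.nil AllS.nil c486_0 :)
theorem x487 : AuxS.{u} (cP4) s487 0 a487 := aux_base3 tw134 rfl b487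
theorem x487_1 : AuxS.{u} (cP4) s487 0 a487_1 := x487
theorem n487 : Sound.{u} (cP4) s487 0 :=
  (x487_1.fr GamS.nil AllS.nil c487_0 :)
theorem x488 : AuxS.{u} (cP4) s488 0 a488 := aux_base3 tw135 rfl b488
theorem x488_1 : AuxS.{u} (cP4) s488 0 a488_1 := x488
theorem x488_2 : AuxS.{u} (cP4) s488 0 a488_2 := x488_1
theorem n488 : Sound.{u} (cP4) s488 0 :=
  (x488_2.fr GamS.nil AllS.nil c488_0 :)
theorem x489 : AuxS.{u} (cP4) s489 0 a489 := aux_base3 tw136 rfl b489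
theorem x489_1 : AuxS.{u} (cP4) s489 0 a489_1 := x489
theorem n489 : Sound.{u} (cP4) s489 0 :=
  (x489_1.fr GamS.nil AllS.nil c489_0 :)
theorem x490 : AuxS.{u} (cP4) s490 0 a490 := aux_base3 tw137 rfl b490
theorem x490_1 : AuxS.{u} (cP4) s490 0 a490_1 := x490
theorem n490 : Sound.{u} (cP4) s490 0 :=
  (x490_1.fr GamS.nil AllS.nil c490_0 :)
theorem x491 : AuxS.{u} (cP4) s491 0 a491 := aux_base3 tw138 rfl b491
theorem x491_1 : AuxS.{u} (cP4) s491 0 a491_1 := x491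
theorem x491_2 : AuxS.{u} (cP4) s491 0 a491_2 := x491_1
theorem n491 : Sound.{u} (cP4) s491 0 :=
  (x491_2.fr GamS.nil AllS.nil c491_0 :)
theorem x492 : AuxS.{u} (cP4) s492 0 a492 := aux_base3 tw139 rfl b492
theorem x492_1 : AuxS.{u} (cP4) s492 0 a492_1 := x492
theorem x492_2 : AuxS.{u} (cP4) s492 0 a492_2 := x492_1
theorem n492 : Sound.{u} (cP4) s492 0 :=
  (x492_2.fr GamS.nil AllS.nil c492_0 :)
theorem x493 : AuxS.{u} (cP4) s493 0 a493 := aux_base3 tw140 rfl b493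
theorem x493_1 : AuxS.{u} (cP4) s493 0 a493_1 := x493
theorem n493 : Sound.{u} (cP4) s493 0 :=
  (x493_1.fr GamS.nil AllS.nil c493_0 :)
theorem x494 : AuxS.{u} (cP4) s494 0 a494 := aux_base3 tw141 rfl b494
theorem x494_1 : AuxS.{u} (cP4) s494 0 a494_1 := x494
theorem n494 : Sound.{u} (cP4) s494 0 :=
  (x494_1.fr GamS.nil AllS.nil c494_0 :)
theorem x495 : AuxS.{u} (cP4) s495 0 a495 := aux_base3 tw142 rfl b495
theorem x495_1 : AuxS.{u} (cP4) s495 0 a495_1 := x495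
theorem n495 : Sound.{u} (cP4) s495 0 :=
  (x495_1.fr GamS.nil AllS.nil c495_0 :)
theorem x496 : AuxS.{u} (cP4) s496 0 a496 := aux_base3 tw143 rfl b496
theorem x496_1 : AuxS.{u} (cP4) s496 0 a496_1 := x496
theorem x496_2 : AuxS.{u} (cP4) s496 0 a496_2 := x496_1
theorem n496 : Sound.{u} (cP4) s496 0 :=
  (x496_2.fr GamS.nil AllS.nil c496_0 :)
theorem x497 : AuxS.{u} (cP4) s497 0 a497 := aux_base3 tw144 rfl b497
theorem x497_1 : AuxS.{u} (cP4) s497 0 a497_1 := x497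
theorem x497_2 : AuxS.{u} (cP4) s497 0 a497_2 := x497_1
theorem n497 : Sound.{u} (cP4) s497 0 :=
  (x497_2.fr GamS.nil AllS.nil c497_0 :)
theorem x498 : AuxS.{u} (cP4) s498 0 a498 := aux_base3 tw145 rfl b498
theorem x498_1 : AuxS.{u} (cP4) s498 0 a498_1 := x498
theorem n498 : Sound.{u} (cP4) s498 0 :=
  (x498_1.fr GamS.nil AllS.nil c498_0 :)
theorem x499 : AuxS.{u} (cP4) s499 0 a499 := aux_base3 tw146 rfl b499
theorem x499_1 : AuxS.{u} (cP4) s499 0 a499_1 := x499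
theorem n499 : Sound.{u} (cP4) s499 0 :=
  (x499_1.fr GamS.nil AllS.nil c499_0 :)
theorem x35 : AuxS.{u} (cP4) s35 0 a35 := aux_base3 tw35 rfl b35
theorem x35_1 : AuxS.{u} (cP4) s35 0 a35_1 := (AuxS.up x35 c35_7 :)
theorem p35_0_1 : Phs s35 a35_1 (List.map Prod.fst g35_0) [s484, s485, s486, s487, s488, s489, s490, s491, s492, s493, s494, s495, s496, s497, s498, s499] ct35_0 v35_0 5 w35_0_1 := (Phs.fin c35_1)
theorem p35_0_3 : Phs s35 a35_1 (List.map Prod.fst g35_0) [s484, s485, s486, s487, s488, s489, s490, s491, s492, s493, s494, s495, s496, s497, s498, s499] ct35_0 v35_0 4 w35_0_3 := (Phs.stp c35_2 p35_0_1)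
theorem p35_0_5 : Phs s35 a35_1 (List.map Prod.fst g35_0) [s484, s485, s486, s487, s488, s489, s490, s491, s492, s493, s494, s495, s496, s497, s498, s499] ct35_0 v35_0 3 w35_0_5 := (Phs.stp c35_3 p35_0_3)
theorem p35_0_7 : Phs s35 a35_1 (List.map Prod.fst g35_0) [s484, s485, s486, s487, s488, s489, s490, s491, s492, s493, s494, s495, s496, s497, s498, s499] ct35_0 v35_0 1 w35_0_7 := (Phs.stp c35_4 p35_0_5)
theorem n35 : Sound.{u} (cP4) s35 0 :=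
  (x35_1.ext2 (fun h => absurd h (by decide)) (AuxS.gam x35_1 c35_0) (AllS.cons n484 (AllS.cons n485 (AllS.cons n486 (AllS.cons n487 (AllS.cons n488 (AllS.cons n489 (AllS.cons n490 (AllS.cons n491 (AllS.cons n492 (AllS.cons n493 (AllS.cons n494 (AllS.cons n495 (AllS.cons n496 (AllS.cons n497 (AllS.cons n498 (AllS.cons n499 AllS.nil)))))))))))))))) c35_6 (Phs.stp c35_5 p35_0_7) (Phs.fin (ct := ct35_0) rfl) :)
theorem x565 : AuxS.{u} (cP4) s565 0 a565 := aux_base3 tw179 rfl b565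
theorem x565_1 : AuxS.{u} (cP4) s565 0 a565_1 := x565
theorem n565 : Sound.{u} (cP4) s565 0 :=
  (x565_1.fr GamS.nil AllS.nil c565_0 :)
theorem x566 : AuxS.{u} (cP4) s566 0 a566 := aux_base3 tw180 rfl b566
theorem x566_1 : AuxS.{u} (cP4) s566 0 a566_1 := x566
theorem n566 : Sound.{u} (cP4) s566 0 :=
  (x566_1.fr GamS.nil AllS.nil c566_0 :)
theorem x567 : AuxS.{u} (cP4) s567 0 a567 := aux_base3 tw181 rfl b567
theorem x567_1 : AuxS.{u} (cP4) s567 0 a567_1 := x567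
theorem n567 : Sound.{u} (cP4) s567 0 :=
  (x567_1.fr GamS.nil AllS.nil c567_0 :)
theorem x568 : AuxS.{u} (cP4) s568 0 a568 := aux_base3 tw182 rfl b568
theorem x568_1 : AuxS.{u} (cP4) s568 0 a568_1 := x568
theorem n568 : Sound.{u} (cP4) s568 0 :=
  (x568_1.fr GamS.nil AllS.nil c568_0 :)
theorem x569 : AuxS.{u} (cP4) s569 0 a569 := aux_base3 tw183 rfl b569
theorem x569_1 : AuxS.{u} (cP4) s569 0 a569_1 := x569
theorem x569_2 : AuxS.{u} (cP4) s569 0 a569_2 := x569_1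
theorem n569 : Sound.{u} (cP4) s569 0 :=
  (x569_2.fr GamS.nil AllS.nil c569_0 :)
theorem x570 : AuxS.{u} (cP4) s570 0 a570 := aux_base3 tw184 rfl b570
theorem x570_1 : AuxS.{u} (cP4) s570 0 a570_1 := x570
theorem n570 : Sound.{u} (cP4) s570 0 :=
  (x570_1.fr GamS.nil AllS.nil c570_0 :)
theorem x571 : AuxS.{u} (cP4) s571 0 a571 := aux_base3 tw185 rfl b571
theorem x571_1 : AuxS.{u} (cP4) s571 0 a571_1 := x571
theorem x571_2 : AuxS.{u} (cP4) s571 0 a571_2 := x571_1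
theorem n571 : Sound.{u} (cP4) s571 0 :=
  (x571_2.fr GamS.nil AllS.nil c571_0 :)
theorem x572 : AuxS.{u} (cP4) s572 0 a572 := aux_base3 tw186 rfl b572
theorem x572_1 : AuxS.{u} (cP4) s572 0 a572_1 := x572
theorem n572 : Sound.{u} (cP4) s572 0 :=
  (x572_1.fr GamS.nil AllS.nil c572_0 :)
theorem x573 : AuxS.{u} (cP4) s573 0 a573 := aux_base3 tw187 rfl b573
theorem x573_1 : AuxS.{u} (cP4) s573 0 a573_1 := x573
theorem x573_2 : AuxS.{u} (cP4) s573 0 a573_2 := x573_1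
theorem n573 : Sound.{u} (cP4) s573 0 :=
  (x573_2.fr GamS.nil AllS.nil c573_0 :)
theorem x574 : AuxS.{u} (cP4) s574 0 a574 := aux_base3 tw188 rfl b574
theorem x574_1 : AuxS.{u} (cP4) s574 0 a574_1 := x574
theorem x574_2 : AuxS.{u} (cP4) s574 0 a574_2 := x574_1
theorem n574 : Sound.{u} (cP4) s574 0 :=
  (x574_2.fr GamS.nil AllS.nil c574_0 :)
theorem x575 : AuxS.{u} (cP4) s575 0 a575 := aux_base3 tw189 rfl b575
theorem x575_1 : AuxS.{u} (cP4) s575 0 a575_1 := x575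
theorem n575 : Sound.{u} (cP4) s575 0 :=
  (x575_1.fr GamS.nil AllS.nil c575_0 :)
theorem x576 : AuxS.{u} (cP4) s576 0 a576 := aux_base3 tw190 rfl b576
theorem x576_1 : AuxS.{u} (cP4) s576 0 a576_1 := x576
theorem n576 : Sound.{u} (cP4) s576 0 :=
  (x576_1.fr GamS.nil AllS.nil c576_0 :)
theorem x577 : AuxS.{u} (cP4) s577 0 a577 := aux_base3 tw191 rfl b577
theorem x577_1 : AuxS.{u} (cP4) s577 0 a577_1 := x577
theorem x577_2 : AuxS.{u} (cP4) s577 0 a577_2 := x577_1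
theorem n577 : Sound.{u} (cP4) s577 0 :=
  (x577_2.fr GamS.nil AllS.nil c577_0 :)
theorem x578 : AuxS.{u} (cP4) s578 0 a578 := aux_base3 tw192 rfl b578
theorem x578_1 : AuxS.{u} (cP4) s578 0 a578_1 := x578
theorem n578 : Sound.{u} (cP4) s578 0 :=
  (x578_1.fr GamS.nil AllS.nil c578_0 :)
theorem x579 : AuxS.{u} (cP4) s579 0 a579 := aux_base3 tw193 rfl b579
theorem x579_1 : AuxS.{u} (cP4) s579 0 a579_1 := x579
theorem n579 : Sound.{u} (cP4) s579 0 :=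
  (x579_1.fr GamS.nil AllS.nil c579_0 :)
theorem x580 : AuxS.{u} (cP4) s580 0 a580 := aux_base3 tw194 rfl b580
theorem x580_1 : AuxS.{u} (cP4) s580 0 a580_1 := x580
theorem n580 : Sound.{u} (cP4) s580 0 :=
  (x580_1.fr GamS.nil AllS.nil c580_0 :)
theorem x36 : AuxS.{u} (cP4) s36 0 a36 := aux_base3 tw36 rfl b36
theorem x36_1 : AuxS.{u} (cP4) s36 0 a36_1 := (AuxS.up x36 c36_7 :)
theorem p36_0_1 : Phs s36 a36_1 (List.map Prod.fst g36_0) [s565, s566, s567, s568, s569, s570, s571, s572, s573, s574, s575, s576, s577, s578, s579, s580] ct36_0 v36_0 5 w36_0_1 := (Phs.fin c36_1)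
theorem p36_0_3 : Phs s36 a36_1 (List.map Prod.fst g36_0) [s565, s566, s567, s568, s569, s570, s571, s572, s573, s574, s575, s576, s577, s578, s579, s580] ct36_0 v36_0 4 w36_0_3 := (Phs.stp c36_2 p36_0_1)
theorem p36_0_5 : Phs s36 a36_1 (List.map Prod.fst g36_0) [s565, s566, s567, s568, s569, s570, s571, s572, s573, s574, s575, s576, s577, s578, s579, s580] ct36_0 v36_0 3 w36_0_5 := (Phs.stp c36_3 p36_0_3)
theorem p36_0_7 : Phs s36 a36_1 (List.map Prod.fst g36_0) [s565, s566, s567, s568, s569, s570, s571, s572, s573, s574, s575, s576, s577, s578, s579, s580] ct36_0 v36_0 1 w36_0_7 := (Phs.stp c36_4 p36_0_5)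
theorem n36 : Sound.{u} (cP4) s36 0 :=
  (x36_1.ext2 (fun h => absurd h (by decide)) (AuxS.gam x36_1 c36_0) (AllS.cons n565 (AllS.cons n566 (AllS.cons n567 (AllS.cons n568 (AllS.cons n569 (AllS.cons n570 (AllS.cons n571 (AllS.cons n572 (AllS.cons n573 (AllS.cons n574 (AllS.cons n575 (AllS.cons n576 (AllS.cons n577 (AllS.cons n578 (AllS.cons n579 (AllS.cons n580 AllS.nil)))))))))))))))) c36_6 (Phs.stp c36_5 p36_0_7) (Phs.fin (ct := ct36_0) rfl) :)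
theorem x597 : AuxS.{u} (cP4) s597 0 a597 := aux_base3 tw195 rfl b597
theorem n597 : Sound.{u} (cP4) s597 0 :=
  (x597.k4 c597_0 :)
theorem x598 : AuxS.{u} (cP4) s598 0 a598 := aux_base3 tw195 rfl b598
theorem n598 : Sound.{u} (cP4) s598 0 :=
  (x598.k4 c598_0 :)
theorem x599 : AuxS.{u} (cP4) s599 0 a599 := aux_base3 tw195 rfl b599
theorem n599 : Sound.{u} (cP4) s599 0 :=
  (x599.k4 c599_0 :)
theorem x600 : AuxS.{u} (cP4) s600 0 a600 := aux_base3 tw195 rfl b600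
theorem n600 : Sound.{u} (cP4) s600 0 :=
  (x600.k4 c600_0 :)
theorem x601 : AuxS.{u} (cP4) s601 0 a601 := aux_base3 tw195 rfl b601
theorem n601 : Sound.{u} (cP4) s601 0 :=
  (x601.k4 c601_0 :)
theorem x630 : AuxS.{u} (cP4) s630 0 a630 := aux_base3 tw211 rfl b630
theorem x630_1 : AuxS.{u} (cP4) s630 0 a630_1 := x630
theorem x630_2 : AuxS.{u} (cP4) s630 0 a630_2 := x630_1
theorem n630 : Sound.{u} (cP4) s630 0 :=
  (x630_2.fr GamS.nil AllS.nil c630_0 :)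
theorem x631 : AuxS.{u} (cP4) s631 0 a631 := aux_base3 tw212 rfl b631
theorem x631_1 : AuxS.{u} (cP4) s631 0 a631_1 := x631
theorem x631_2 : AuxS.{u} (cP4) s631 0 a631_2 := x631_1
theorem n631 : Sound.{u} (cP4) s631 0 :=
  (x631_2.fr GamS.nil AllS.nil c631_0 :)
theorem x632 : AuxS.{u} (cP4) s632 0 a632 := aux_base3 tw213 rfl b632
theorem x632_1 : AuxS.{u} (cP4) s632 0 a632_1 := x632
theorem x632_2 : AuxS.{u} (cP4) s632 0 a632_2 := x632_1
theorem n632 : Sound.{u} (cP4) s632 0 :=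
  (x632_2.fr GamS.nil AllS.nil c632_0 :)
theorem x633 : AuxS.{u} (cP4) s633 0 a633 := aux_base3 tw214 rfl b633
theorem x633_1 : AuxS.{u} (cP4) s633 0 a633_1 := x633
theorem x633_2 : AuxS.{u} (cP4) s633 0 a633_2 := x633_1
theorem n633 : Sound.{u} (cP4) s633 0 :=
  (x633_2.fr GamS.nil AllS.nil c633_0 :)
theorem x634 : AuxS.{u} (cP4) s634 0 a634 := aux_base3 tw215 rfl b634
theorem n634 : Sound.{u} (cP4) s634 0 :=
  (x634.k4 c634_0 :)
theorem x635 : AuxS.{u} (cP4) s635 0 a635 := aux_base3 tw216 rfl b635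
theorem n635 : Sound.{u} (cP4) s635 0 :=
  (x635.k4 c635_0 :)
theorem x636 : AuxS.{u} (cP4) s636 0 a636 := aux_base3 tw217 rfl b636
theorem n636 : Sound.{u} (cP4) s636 0 :=
  (x636.k4 c636_0 :)
theorem x637 : AuxS.{u} (cP4) s637 0 a637 := aux_base3 tw218 rfl b637
theorem n637 : Sound.{u} (cP4) s637 0 :=
  (x637.k4 c637_0 :)
theorem x638 : AuxS.{u} (cP4) s638 0 a638 := aux_base3 tw219 rfl b638
theorem n638 : Sound.{u} (cP4) s638 0 :=
  (x638.k4 c638_0 :)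
theorem x639 : AuxS.{u} (cP4) s639 0 a639 := aux_base3 tw220 rfl b639
theorem n639 : Sound.{u} (cP4) s639 0 :=
  (x639.k4 c639_0 :)
theorem x640 : AuxS.{u} (cP4) s640 0 a640 := aux_base3 tw221 rfl b640
theorem n640 : Sound.{u} (cP4) s640 0 :=
  (x640.k4 c640_0 :)
theorem x641 : AuxS.{u} (cP4) s641 0 a641 := aux_base3 tw222 rfl b641
theorem n641 : Sound.{u} (cP4) s641 0 :=
  (x641.k4 c641_0 :)
theorem x642 : AuxS.{u} (cP4) s642 0 a642 := aux_base3 tw223 rfl b642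
theorem n642 : Sound.{u} (cP4) s642 0 :=
  (x642.k4 c642_0 :)
theorem x643 : AuxS.{u} (cP4) s643 0 a643 := aux_base3 tw224 rfl b643
theorem n643 : Sound.{u} (cP4) s643 0 :=
  (x643.k4 c643_0 :)
theorem x644 : AuxS.{u} (cP4) s644 0 a644 := aux_base3 tw225 rfl b644
theorem n644 : Sound.{u} (cP4) s644 0 :=
  (x644.k4 c644_0 :)
theorem x645 : AuxS.{u} (cP4) s645 0 a645 := aux_base3 tw226 rfl b645
theorem n645 : Sound.{u} (cP4) s645 0 :=
  (x645.k4 c645_0 :)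
theorem x646 : AuxS.{u} (cP4) s646 0 a646 := aux_base3 tw227 rfl b646
theorem x646_1 : AuxS.{u} (cP4) s646 0 a646_1 := x646
theorem x646_2 : AuxS.{u} (cP4) s646 0 a646_2 := x646_1
theorem n646 : Sound.{u} (cP4) s646 0 :=
  (x646_2.fr GamS.nil AllS.nil c646_0 :)
theorem x647 : AuxS.{u} (cP4) s647 0 a647 := aux_base3 tw228 rfl b647
theorem x647_1 : AuxS.{u} (cP4) s647 0 a647_1 := x647
theorem x647_2 : AuxS.{u} (cP4) s647 0 a647_2 := x647_1
theorem n647 : Sound.{u} (cP4) s647 0 :=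
  (x647_2.fr GamS.nil AllS.nil c647_0 :)
theorem x648 : AuxS.{u} (cP4) s648 0 a648 := aux_base3 tw229 rfl b648
theorem x648_1 : AuxS.{u} (cP4) s648 0 a648_1 := x648
theorem x648_2 : AuxS.{u} (cP4) s648 0 a648_2 := x648_1
theorem n648 : Sound.{u} (cP4) s648 0 :=
  (x648_2.fr GamS.nil AllS.nil c648_0 :)
theorem x649 : AuxS.{u} (cP4) s649 0 a649 := aux_base3 tw230 rfl b649
theorem x649_1 : AuxS.{u} (cP4) s649 0 a649_1 := x649
theorem x649_2 : AuxS.{u} (cP4) s649 0 a649_2 := x649_1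
theorem n649 : Sound.{u} (cP4) s649 0 :=
  (x649_2.fr GamS.nil AllS.nil c649_0 :)
theorem x650 : AuxS.{u} (cP4) s650 0 a650 := aux_base3 tw231 rfl b650
theorem n650 : Sound.{u} (cP4) s650 0 :=
  (x650.k4 c650_0 :)
theorem x651 : AuxS.{u} (cP4) s651 0 a651 := aux_base3 tw232 rfl b651
theorem n651 : Sound.{u} (cP4) s651 0 :=
  (x651.k4 c651_0 :)
theorem x652 : AuxS.{u} (cP4) s652 0 a652 := aux_base3 tw233 rfl b652
theorem n652 : Sound.{u} (cP4) s652 0 :=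
  (x652.k4 c652_0 :)
theorem x653 : AuxS.{u} (cP4) s653 0 a653 := aux_base3 tw234 rfl b653
theorem n653 : Sound.{u} (cP4) s653 0 :=
  (x653.k4 c653_0 :)
theorem x654 : AuxS.{u} (cP4) s654 0 a654 := aux_base3 tw235 rfl b654
theorem n654 : Sound.{u} (cP4) s654 0 :=
  (x654.k4 c654_0 :)
theorem x655 : AuxS.{u} (cP4) s655 0 a655 := aux_base3 tw236 rfl b655
theorem n655 : Sound.{u} (cP4) s655 0 :=
  (x655.k4 c655_0 :)
theorem x656 : AuxS.{u} (cP4) s656 0 a656 := aux_base3 tw237 rfl b656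
theorem n656 : Sound.{u} (cP4) s656 0 :=
  (x656.k4 c656_0 :)
theorem x657 : AuxS.{u} (cP4) s657 0 a657 := aux_base3 tw238 rfl b657
theorem n657 : Sound.{u} (cP4) s657 0 :=
  (x657.k4 c657_0 :)
theorem x658 : AuxS.{u} (cP4) s658 0 a658 := aux_base3 tw239 rfl b658
theorem n658 : Sound.{u} (cP4) s658 0 :=
  (x658.k4 c658_0 :)
theorem x659 : AuxS.{u} (cP4) s659 0 a659 := aux_base3 tw240 rfl b659
theorem n659 : Sound.{u} (cP4) s659 0 :=
  (x659.k4 c659_0 :)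
theorem x660 : AuxS.{u} (cP4) s660 0 a660 := aux_base3 tw241 rfl b660
theorem n660 : Sound.{u} (cP4) s660 0 :=
  (x660.k4 c660_0 :)
theorem x661 : AuxS.{u} (cP4) s661 0 a661 := aux_base3 tw242 rfl b661
theorem n661 : Sound.{u} (cP4) s661 0 :=
  (x661.k4 c661_0 :)
theorem x629 : AuxS.{u} (cP4) s629 0 a629 := aux_base3 tw37 rfl b629
theorem x629_1 : AuxS.{u} (cP4) s629 0 a629_1 := (AuxS.up x629 c629_5 :)
theorem x629_2 : AuxS.{u} (cP4) s629 0 a629_2 := x629_1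
theorem x629_3 : AuxS.{u} (cP4) s629 0 a629_3 := x629_2
theorem p629_0_1 : Phs s629 a629_3 [] [s630, s631, s632, s633, s634, s635, s636, s637, s638, s639, s640, s641, s642, s643, s644, s645, s646, s647, s648, s649, s650, s651, s652, s653, s654, s655, s656, s657, s658, s659, s660, s661] ct629_0 v629_0 5 w629_0_1 := (Phs.fin c629_0)
theorem p629_0_3 : Phs s629 a629_3 [] [s630, s631, s632, s633, s634, s635, s636, s637, s638, s639, s640, s641, s642, s643, s644, s645, s646, s647, s648, s649, s650, s651, s652, s653, s654, s655, s656, s657, s658, s659, s660, s661] ct629_0 v629_0 4 w629_0_3 := (Phs.stp c629_1 p629_0_1)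
theorem p629_0_5 : Phs s629 a629_3 [] [s630, s631, s632, s633, s634, s635, s636, s637, s638, s639, s640, s641, s642, s643, s644, s645, s646, s647, s648, s649, s650, s651, s652, s653, s654, s655, s656, s657, s658, s659, s660, s661] ct629_0 v629_0 1 w629_0_5 := (Phs.stp c629_2 p629_0_3)
theorem n629 : Sound.{u} (cP4) s629 0 :=
  (x629_3.ext2 (fun h => absurd h (by decide)) GamS.nil (AllS.cons n630 (AllS.cons n631 (AllS.cons n632 (AllS.cons n633 (AllS.cons n634 (AllS.cons n635 (AllS.cons n636 (AllS.cons n637 (AllS.cons n638 (AllS.cons n639 (AllS.cons n640 (AllS.cons n641 (AllS.cons n642 (AllS.cons n643 (AllS.cons n644 (AllS.cons n645 (AllS.cons n646 (AllS.cons n647 (AllS.cons n648 (AllS.cons n649 (AllS.cons n650 (AllS.cons n651 (AllS.cons n652 (AllS.cons n653 (AllS.cons n654 (AllS.cons n655 (AllS.cons n656 (AllS.cons n657 (AllS.cons n658 (AllS.cons n659 (AllS.cons n660 (AllS.cons n661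 AllS.nil)))))))))))))))))))))))))))))))) c629_4 (Phs.stp c629_3 p629_0_5) (Phs.fin (ct := ct629_0) rfl) :)
theorem x602 : AuxS.{u} (cP4) s602 0 a602 := aux_base3 tw195 rfl b602
theorem x602_1 : AuxS.{u} (cP4) s602 0 a602_1 := x602
theorem x602_2 : AuxS.{u} (cP4) s602 0 a602_2 := x602_1
theorem n602 : Sound.{u} (cP4) s602 0 :=
  (x602_2.jump c602_0 c602_1 n629 :)
theorem x603 : AuxS.{u} (cP4) s603 0 a603 := aux_base3 tw195 rfl b603
theorem n603 : Sound.{u} (cP4) s603 0 :=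
  (x603.k4 c603_0 :)
theorem x604 : AuxS.{u} (cP4) s604 0 a604 := aux_base3 tw195 rfl b604
theorem n604 : Sound.{u} (cP4) s604 0 :=
  (x604.k4 c604_0 :)
theorem x605 : AuxS.{u} (cP4) s605 0 a605 := aux_base3 tw195 rfl b605
theorem n605 : Sound.{u} (cP4) s605 0 :=
  (x605.k4 c605_0 :)
theorem x606 : AuxS.{u} (cP4) s606 0 a606 := aux_base3 tw195 rfl b606
theorem n606 : Sound.{u} (cP4) s606 0 :=
  (x606.k4 c606_0 :)
theorem x607 : AuxS.{u} (cP4) s607 0 a607 := aux_base3 tw195 rfl b607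
theorem n607 : Sound.{u} (cP4) s607 0 :=
  (x607.k4 c607_0 :)
theorem x608 : AuxS.{u} (cP4) s608 0 a608 := aux_base3 tw195 rfl b608
theorem n608 : Sound.{u} (cP4) s608 0 :=
  (x608.k4 c608_0 :)
theorem x609 : AuxS.{u} (cP4) s609 0 a609 := aux_base3 tw195 rfl b609
theorem n609 : Sound.{u} (cP4) s609 0 :=
  (x609.k4 c609_0 :)
theorem x610 : AuxS.{u} (cP4) s610 0 a610 := aux_base3 tw195 rfl b610
theorem n610 : Sound.{u} (cP4) s610 0 :=
  (x610.k4 c610_0 :)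
theorem x611 : AuxS.{u} (cP4) s611 0 a611 := aux_base3 tw195 rfl b611
theorem n611 : Sound.{u} (cP4) s611 0 :=
  (x611.k4 c611_0 :)
theorem x612 : AuxS.{u} (cP4) s612 0 a612 := aux_base3 tw195 rfl b612
theorem n612 : Sound.{u} (cP4) s612 0 :=
  (x612.k4 c612_0 :)
theorem x613 : AuxS.{u} (cP4) s613 0 a613 := aux_base3 tw195 rfl b613
theorem n613 : Sound.{u} (cP4) s613 0 :=
  (x613.k4 c613_0 :)
theorem x614 : AuxS.{u} (cP4) s614 0 a614 := aux_base3 tw195 rfl b614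
theorem n614 : Sound.{u} (cP4) s614 0 :=
  (x614.k4 c614_0 :)
theorem x615 : AuxS.{u} (cP4) s615 0 a615 := aux_base3 tw195 rfl b615
theorem n615 : Sound.{u} (cP4) s615 0 :=
  (x615.k4 c615_0 :)
theorem x616 : AuxS.{u} (cP4) s616 0 a616 := aux_base3 tw195 rfl b616
theorem n616 : Sound.{u} (cP4) s616 0 :=
  (x616.k4 c616_0 :)
theorem x617 : AuxS.{u} (cP4) s617 0 a617 := aux_base3 tw195 rfl b617
theorem n617 : Sound.{u} (cP4) s617 0 :=
  (x617.k4 c617_0 :)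
theorem x618 : AuxS.{u} (cP4) s618 0 a618 := aux_base3 tw195 rfl b618
theorem n618 : Sound.{u} (cP4) s618 0 :=
  (x618.k4 c618_0 :)
theorem x619 : AuxS.{u} (cP4) s619 0 a619 := aux_base3 tw195 rfl b619
theorem n619 : Sound.{u} (cP4) s619 0 :=
  (x619.k4 c619_0 :)
theorem x620 : AuxS.{u} (cP4) s620 0 a620 := aux_base3 tw195 rfl b620
theorem n620 : Sound.{u} (cP4) s620 0 :=
  (x620.k4 c620_0 :)
theorem x621 : AuxS.{u} (cP4) s621 0 a621 := aux_base3 tw195 rfl b621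
theorem n621 : Sound.{u} (cP4) s621 0 :=
  (x621.k4 c621_0 :)
theorem x622 : AuxS.{u} (cP4) s622 0 a622 := aux_base3 tw195 rfl b622
theorem n622 : Sound.{u} (cP4) s622 0 :=
  (x622.k4 c622_0 :)
theorem x623 : AuxS.{u} (cP4) s623 0 a623 := aux_base3 tw195 rfl b623
theorem n623 : Sound.{u} (cP4) s623 0 :=
  (x623.k4 c623_0 :)
theorem x624 : AuxS.{u} (cP4) s624 0 a624 := aux_base3 tw195 rfl b624
theorem n624 : Sound.{u} (cP4) s624 0 :=
  (x624.k4 c624_0 :)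
theorem x625 : AuxS.{u} (cP4) s625 0 a625 := aux_base3 tw195 rfl b625
theorem n625 : Sound.{u} (cP4) s625 0 :=
  (x625.k4 c625_0 :)
theorem x626 : AuxS.{u} (cP4) s626 0 a626 := aux_base3 tw195 rfl b626
theorem n626 : Sound.{u} (cP4) s626 0 :=
  (x626.k4 c626_0 :)
theorem x627 : AuxS.{u} (cP4) s627 0 a627 := aux_base3 tw195 rfl b627
theorem n627 : Sound.{u} (cP4) s627 0 :=
  (x627.k4 c627_0 :)
theorem x628 : AuxS.{u} (cP4) s628 0 a628 := aux_base3 tw195 rfl b628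
theorem n628 : Sound.{u} (cP4) s628 0 :=
  (x628.k4 c628_0 :)
theorem x581 : AuxS.{u} (cP4) s581 0 a581 := aux_base3 tw195 rfl b581
theorem x581_1 : AuxS.{u} (cP4) s581 0 a581_1 := x581
theorem x581_2 : AuxS.{u} (cP4) s581 0 a581_2 := x581_1
theorem n581 : Sound.{u} (cP4) s581 0 :=
  (x581_2.fr (AuxS.gam x581_2 c581_0) (AllS.cons n597 (AllS.cons n598 (AllS.cons n599 (AllS.cons n600 (AllS.cons n601 (AllS.cons n602 (AllS.cons n603 (AllS.cons n604 (AllS.cons n605 (AllS.cons n606 (AllS.cons n607 (AllS.cons n608 (AllS.cons n609 (AllS.cons n610 (AllS.cons n611 (AllS.cons n612 (AllS.cons n613 (AllS.cons n614 (AllS.cons n615 (AllS.cons n616 (AllS.cons n617 (AllS.cons n618 (AllS.cons n619 (AllS.cons n620 (AllS.cons n621 (AllS.cons n622 (AllS.cons n623 (AllS.cons n624 (AllS.cons n625 (AllS.cons n626 (AllS.cons n627 (AllS.cons n628 AllS.nil)))))))))))))))))))))))))))))))) c581_1 :)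
theorem x582 : AuxS.{u} (cP4) s582 0 a582 := aux_base3 tw196 rfl b582
theorem x582_1 : AuxS.{u} (cP4) s582 0 a582_1 := x582
theorem x582_2 : AuxS.{u} (cP4) s582 0 a582_2 := x582_1
theorem n582 : Sound.{u} (cP4) s582 0 :=
  (x582_2.fr GamS.nil AllS.nil c582_0 :)
theorem x583 : AuxS.{u} (cP4) s583 0 a583 := aux_base3 tw197 rfl b583
theorem x583_1 : AuxS.{u} (cP4) s583 0 a583_1 := x583
theorem x583_2 : AuxS.{u} (cP4) s583 0 a583_2 := x583_1
theorem n583 : Sound.{u} (cP4) s583 0 :=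
  (x583_2.fr GamS.nil AllS.nil c583_0 :)
theorem x584 : AuxS.{u} (cP4) s584 0 a584 := aux_base3 tw198 rfl b584
theorem x584_1 : AuxS.{u} (cP4) s584 0 a584_1 := x584
theorem x584_2 : AuxS.{u} (cP4) s584 0 a584_2 := x584_1
theorem n584 : Sound.{u} (cP4) s584 0 :=
  (x584_2.fr GamS.nil AllS.nil c584_0 :)
theorem x585 : AuxS.{u} (cP4) s585 0 a585 := aux_base3 tw199 rfl b585
theorem x585_1 : AuxS.{u} (cP4) s585 0 a585_1 := x585
theorem x585_2 : AuxS.{u} (cP4) s585 0 a585_2 := x585_1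
theorem n585 : Sound.{u} (cP4) s585 0 :=
  (x585_2.fr GamS.nil AllS.nil c585_0 :)
theorem x586 : AuxS.{u} (cP4) s586 0 a586 := aux_base3 tw200 rfl b586
theorem x586_1 : AuxS.{u} (cP4) s586 0 a586_1 := x586
theorem x586_2 : AuxS.{u} (cP4) s586 0 a586_2 := x586_1
theorem n586 : Sound.{u} (cP4) s586 0 :=
  (x586_2.fr GamS.nil AllS.nil c586_0 :)
theorem x587 : AuxS.{u} (cP4) s587 0 a587 := aux_base3 tw201 rfl b587
theorem x587_1 : AuxS.{u} (cP4) s587 0 a587_1 := x587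
theorem x587_2 : AuxS.{u} (cP4) s587 0 a587_2 := x587_1
theorem n587 : Sound.{u} (cP4) s587 0 :=
  (x587_2.fr GamS.nil AllS.nil c587_0 :)
theorem x588 : AuxS.{u} (cP4) s588 0 a588 := aux_base3 tw202 rfl b588
theorem x588_1 : AuxS.{u} (cP4) s588 0 a588_1 := x588
theorem x588_2 : AuxS.{u} (cP4) s588 0 a588_2 := x588_1
theorem n588 : Sound.{u} (cP4) s588 0 :=
  (x588_2.fr GamS.nil AllS.nil c588_0 :)
theorem x589 : AuxS.{u} (cP4) s589 0 a589 := aux_base3 tw203 rfl b589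
theorem x589_1 : AuxS.{u} (cP4) s589 0 a589_1 := x589
theorem x589_2 : AuxS.{u} (cP4) s589 0 a589_2 := x589_1
theorem n589 : Sound.{u} (cP4) s589 0 :=
  (x589_2.fr GamS.nil AllS.nil c589_0 :)
theorem x590 : AuxS.{u} (cP4) s590 0 a590 := aux_base3 tw204 rfl b590
theorem x590_1 : AuxS.{u} (cP4) s590 0 a590_1 := x590
theorem x590_2 : AuxS.{u} (cP4) s590 0 a590_2 := x590_1
theorem n590 : Sound.{u} (cP4) s590 0 :=
  (x590_2.fr GamS.nil AllS.nil c590_0 :)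
theorem x591 : AuxS.{u} (cP4) s591 0 a591 := aux_base3 tw205 rfl b591
theorem x591_1 : AuxS.{u} (cP4) s591 0 a591_1 := x591
theorem x591_2 : AuxS.{u} (cP4) s591 0 a591_2 := x591_1
theorem n591 : Sound.{u} (cP4) s591 0 :=
  (x591_2.fr GamS.nil AllS.nil c591_0 :)
theorem x592 : AuxS.{u} (cP4) s592 0 a592 := aux_base3 tw206 rfl b592
theorem x592_1 : AuxS.{u} (cP4) s592 0 a592_1 := x592
theorem x592_2 : AuxS.{u} (cP4) s592 0 a592_2 := x592_1
theorem n592 : Sound.{u} (cP4) s592 0 :=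
  (x592_2.fr GamS.nil AllS.nil c592_0 :)
theorem x593 : AuxS.{u} (cP4) s593 0 a593 := aux_base3 tw207 rfl b593
theorem x593_1 : AuxS.{u} (cP4) s593 0 a593_1 := x593
theorem x593_2 : AuxS.{u} (cP4) s593 0 a593_2 := x593_1
theorem n593 : Sound.{u} (cP4) s593 0 :=
  (x593_2.fr GamS.nil AllS.nil c593_0 :)
theorem x594 : AuxS.{u} (cP4) s594 0 a594 := aux_base3 tw208 rfl b594
theorem x594_1 : AuxS.{u} (cP4) s594 0 a594_1 := x594
theorem x594_2 : AuxS.{u} (cP4) s594 0 a594_2 := x594_1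
theorem n594 : Sound.{u} (cP4) s594 0 :=
  (x594_2.fr GamS.nil AllS.nil c594_0 :)
theorem x595 : AuxS.{u} (cP4) s595 0 a595 := aux_base3 tw209 rfl b595
theorem x595_1 : AuxS.{u} (cP4) s595 0 a595_1 := x595
theorem x595_2 : AuxS.{u} (cP4) s595 0 a595_2 := x595_1
theorem n595 : Sound.{u} (cP4) s595 0 :=
  (x595_2.fr GamS.nil AllS.nil c595_0 :)
theorem x596 : AuxS.{u} (cP4) s596 0 a596 := aux_base3 tw210 rfl b596
theorem x596_1 : AuxS.{u} (cP4) s596 0 a596_1 := x596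
theorem x596_2 : AuxS.{u} (cP4) s596 0 a596_2 := x596_1
theorem n596 : Sound.{u} (cP4) s596 0 :=
  (x596_2.fr GamS.nil AllS.nil c596_0 :)
theorem x37 : AuxS.{u} (cP4) s37 0 a37 := aux_base3 tw37 rfl b37
theorem x37_1 : AuxS.{u} (cP4) s37 0 a37_1 := (AuxS.up x37 c37_7 :)
theorem x37_2 : AuxS.{u} (cP4) s37 0 a37_2 := x37_1
theorem p37_0_1 : Phs s37 a37_2 (List.map Prod.fst g37_0) [s581, s582, s583, s584, s585, s586, s587, s588, s589, s590, s591, s592, s593, s594, s595, s596] ct37_0 v37_0 5 w37_0_1 := (Phs.fin c37_1)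
theorem p37_0_3 : Phs s37 a37_2 (List.map Prod.fst g37_0) [s581, s582, s583, s584, s585, s586, s587, s588, s589, s590, s591, s592, s593, s594, s595, s596] ct37_0 v37_0 4 w37_0_3 := (Phs.stp c37_2 p37_0_1)
theorem p37_0_5 : Phs s37 a37_2 (List.map Prod.fst g37_0) [s581, s582, s583, s584, s585, s586, s587, s588, s589, s590, s591, s592, s593, s594, s595, s596] ct37_0 v37_0 3 w37_0_5 := (Phs.stp c37_3 p37_0_3)
theorem p37_0_7 : Phs s37 a37_2 (List.map Prod.fst g37_0) [s581, s582, s583, s584, s585, s586, s587, s588, s589, s590, s591, s592, s593, s594, s595, s596] ct37_0 v37_0 1 w37_0_7 := (Phs.stp c37_4 p37_0_5)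
theorem n37 : Sound.{u} (cP4) s37 0 :=
  (x37_2.ext2 (fun h => absurd h (by decide)) (AuxS.gam x37_2 c37_0) (AllS.cons n581 (AllS.cons n582 (AllS.cons n583 (AllS.cons n584 (AllS.cons n585 (AllS.cons n586 (AllS.cons n587 (AllS.cons n588 (AllS.cons n589 (AllS.cons n590 (AllS.cons n591 (AllS.cons n592 (AllS.cons n593 (AllS.cons n594 (AllS.cons n595 (AllS.cons n596 AllS.nil)))))))))))))))) c37_6 (Phs.stp c37_5 p37_0_7) (Phs.fin (ct := ct37_0) rfl) :)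
theorem x662 : AuxS.{u} (cP4) s662 0 a662 := aux_base3 tw243 rfl b662
theorem x662_1 : AuxS.{u} (cP4) s662 0 a662_1 := x662
theorem x662_2 : AuxS.{u} (cP4) s662 0 a662_2 := x662_1
theorem n662 : Sound.{u} (cP4) s662 0 :=
  (x662_2.fr GamS.nil AllS.nil c662_0 :)
theorem x663 : AuxS.{u} (cP4) s663 0 a663 := aux_base3 tw244 rfl b663
theorem x663_1 : AuxS.{u} (cP4) s663 0 a663_1 := x663
theorem x663_2 : AuxS.{u} (cP4) s663 0 a663_2 := x663_1
theorem n663 : Sound.{u} (cP4) s663 0 :=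
  (x663_2.fr GamS.nil AllS.nil c663_0 :)
theorem x664 : AuxS.{u} (cP4) s664 0 a664 := aux_base3 tw245 rfl b664
theorem x664_1 : AuxS.{u} (cP4) s664 0 a664_1 := x664
theorem x664_2 : AuxS.{u} (cP4) s664 0 a664_2 := x664_1
theorem n664 : Sound.{u} (cP4) s664 0 :=
  (x664_2.fr GamS.nil AllS.nil c664_0 :)
theorem x665 : AuxS.{u} (cP4) s665 0 a665 := aux_base3 tw246 rfl b665
theorem x665_1 : AuxS.{u} (cP4) s665 0 a665_1 := x665
theorem x665_2 : AuxS.{u} (cP4) s665 0 a665_2 := x665_1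
theorem n665 : Sound.{u} (cP4) s665 0 :=
  (x665_2.fr GamS.nil AllS.nil c665_0 :)
theorem x666 : AuxS.{u} (cP4) s666 0 a666 := aux_base3 tw247 rfl b666
theorem x666_1 : AuxS.{u} (cP4) s666 0 a666_1 := x666
theorem x666_2 : AuxS.{u} (cP4) s666 0 a666_2 := x666_1
theorem n666 : Sound.{u} (cP4) s666 0 :=
  (x666_2.fr GamS.nil AllS.nil c666_0 :)
theorem x667 : AuxS.{u} (cP4) s667 0 a667 := aux_base3 tw248 rfl b667
theorem x667_1 : AuxS.{u} (cP4) s667 0 a667_1 := x667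
theorem x667_2 : AuxS.{u} (cP4) s667 0 a667_2 := x667_1
theorem n667 : Sound.{u} (cP4) s667 0 :=
  (x667_2.fr GamS.nil AllS.nil c667_0 :)
theorem x668 : AuxS.{u} (cP4) s668 0 a668 := aux_base3 tw249 rfl b668
theorem x668_1 : AuxS.{u} (cP4) s668 0 a668_1 := x668
theorem x668_2 : AuxS.{u} (cP4) s668 0 a668_2 := x668_1
theorem n668 : Sound.{u} (cP4) s668 0 :=
  (x668_2.fr GamS.nil AllS.nil c668_0 :)
theorem x669 : AuxS.{u} (cP4) s669 0 a669 := aux_base3 tw250 rfl b669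
theorem x669_1 : AuxS.{u} (cP4) s669 0 a669_1 := x669
theorem x669_2 : AuxS.{u} (cP4) s669 0 a669_2 := x669_1
theorem n669 : Sound.{u} (cP4) s669 0 :=
  (x669_2.fr GamS.nil AllS.nil c669_0 :)
theorem x670 : AuxS.{u} (cP4) s670 0 a670 := aux_base3 tw251 rfl b670
theorem x670_1 : AuxS.{u} (cP4) s670 0 a670_1 := x670
theorem x670_2 : AuxS.{u} (cP4) s670 0 a670_2 := x670_1
theorem n670 : Sound.{u} (cP4) s670 0 :=
  (x670_2.fr GamS.nil AllS.nil c670_0 :)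
theorem x671 : AuxS.{u} (cP4) s671 0 a671 := aux_base3 tw252 rfl b671
theorem x671_1 : AuxS.{u} (cP4) s671 0 a671_1 := x671
theorem x671_2 : AuxS.{u} (cP4) s671 0 a671_2 := x671_1
theorem n671 : Sound.{u} (cP4) s671 0 :=
  (x671_2.fr GamS.nil AllS.nil c671_0 :)
theorem x672 : AuxS.{u} (cP4) s672 0 a672 := aux_base3 tw253 rfl b672
theorem x672_1 : AuxS.{u} (cP4) s672 0 a672_1 := x672
theorem x672_2 : AuxS.{u} (cP4) s672 0 a672_2 := x672_1
theorem n672 : Sound.{u} (cP4) s672 0 :=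
  (x672_2.fr GamS.nil AllS.nil c672_0 :)
theorem x673 : AuxS.{u} (cP4) s673 0 a673 := aux_base3 tw254 rfl b673
theorem x673_1 : AuxS.{u} (cP4) s673 0 a673_1 := x673
theorem x673_2 : AuxS.{u} (cP4) s673 0 a673_2 := x673_1
theorem n673 : Sound.{u} (cP4) s673 0 :=
  (x673_2.fr GamS.nil AllS.nil c673_0 :)
theorem x674 : AuxS.{u} (cP4) s674 0 a674 := aux_base3 tw255 rfl b674
theorem x674_1 : AuxS.{u} (cP4) s674 0 a674_1 := x674
theorem x674_2 : AuxS.{u} (cP4) s674 0 a674_2 := x674_1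
theorem n674 : Sound.{u} (cP4) s674 0 :=
  (x674_2.fr GamS.nil AllS.nil c674_0 :)
theorem x675 : AuxS.{u} (cP4) s675 0 a675 := aux_base3 tw256 rfl b675
theorem x675_1 : AuxS.{u} (cP4) s675 0 a675_1 := x675
theorem x675_2 : AuxS.{u} (cP4) s675 0 a675_2 := x675_1
theorem n675 : Sound.{u} (cP4) s675 0 :=
  (x675_2.fr GamS.nil AllS.nil c675_0 :)
theorem x676 : AuxS.{u} (cP4) s676 0 a676 := aux_base3 tw257 rfl b676
theorem x676_1 : AuxS.{u} (cP4) s676 0 a676_1 := x676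
theorem x676_2 : AuxS.{u} (cP4) s676 0 a676_2 := x676_1
theorem n676 : Sound.{u} (cP4) s676 0 :=
  (x676_2.fr GamS.nil AllS.nil c676_0 :)
theorem x677 : AuxS.{u} (cP4) s677 0 a677 := aux_base3 tw258 rfl b677
theorem x677_1 : AuxS.{u} (cP4) s677 0 a677_1 := x677
theorem x677_2 : AuxS.{u} (cP4) s677 0 a677_2 := x677_1
theorem n677 : Sound.{u} (cP4) s677 0 :=
  (x677_2.fr GamS.nil AllS.nil c677_0 :)
theorem x38 : AuxS.{u} (cP4) s38 0 a38 := aux_base3 tw38 rfl b38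
theorem x38_1 : AuxS.{u} (cP4) s38 0 a38_1 := (AuxS.up x38 c38_7 :)
theorem x38_2 : AuxS.{u} (cP4) s38 0 a38_2 := x38_1
theorem p38_0_1 : Phs s38 a38_2 (List.map Prod.fst g38_0) [s662, s663, s664, s665, s666, s667, s668, s669, s670, s671, s672, s673, s674, s675, s676, s677] ct38_0 v38_0 5 w38_0_1 := (Phs.fin c38_1)
theorem p38_0_3 : Phs s38 a38_2 (List.map Prod.fst g38_0) [s662, s663, s664, s665, s666, s667, s668, s669, s670, s671, s672, s673, s674, s675, s676, s677] ct38_0 v38_0 4 w38_0_3 := (Phs.stp c38_2 p38_0_1)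
theorem p38_0_5 : Phs s38 a38_2 (List.map Prod.fst g38_0) [s662, s663, s664, s665, s666, s667, s668, s669, s670, s671, s672, s673, s674, s675, s676, s677] ct38_0 v38_0 3 w38_0_5 := (Phs.stp c38_3 p38_0_3)
theorem p38_0_7 : Phs s38 a38_2 (List.map Prod.fst g38_0) [s662, s663, s664, s665, s666, s667, s668, s669, s670, s671, s672, s673, s674, s675, s676, s677] ct38_0 v38_0 1 w38_0_7 := (Phs.stp c38_4 p38_0_5)
theorem n38 : Sound.{u} (cP4) s38 0 :=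
  (x38_2.ext2 (fun h => absurd h (by decide)) (AuxS.gam x38_2 c38_0) (AllS.cons n662 (AllS.cons n663 (AllS.cons n664 (AllS.cons n665 (AllS.cons n666 (AllS.cons n667 (AllS.cons n668 (AllS.cons n669 (AllS.cons n670 (AllS.cons n671 (AllS.cons n672 (AllS.cons n673 (AllS.cons n674 (AllS.cons n675 (AllS.cons n676 (AllS.cons n677 AllS.nil)))))))))))))))) c38_6 (Phs.stp c38_5 p38_0_7) (Phs.fin (ct := ct38_0) rfl) :)
theorem x694 : AuxS.{u} (cP4) s694 0 a694 := aux_base3 tw259 rfl b694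
theorem n694 : Sound.{u} (cP4) s694 0 :=
  (x694.k4 c694_0 :)
theorem x695 : AuxS.{u} (cP4) s695 0 a695 := aux_base3 tw259 rfl b695
theorem n695 : Sound.{u} (cP4) s695 0 :=
  (x695.k4 c695_0 :)
theorem x696 : AuxS.{u} (cP4) s696 0 a696 := aux_base3 tw259 rfl b696
theorem n696 : Sound.{u} (cP4) s696 0 :=
  (x696.k4 c696_0 :)
theorem x697 : AuxS.{u} (cP4) s697 0 a697 := aux_base3 tw259 rfl b697
theorem n697 : Sound.{u} (cP4) s697 0 :=
  (x697.k4 c697_0 :)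
theorem x698 : AuxS.{u} (cP4) s698 0 a698 := aux_base3 tw259 rfl b698
theorem n698 : Sound.{u} (cP4) s698 0 :=
  (x698.k4 c698_0 :)
theorem x759 : AuxS.{u} (cP4) s759 0 a759 := aux_base3 tw275 rfl b759
theorem n759 : Sound.{u} (cP4) s759 0 :=
  (x759.k4 c759_0 :)
theorem x760 : AuxS.{u} (cP4) s760 0 a760 := aux_base3 tw275 rfl b760
theorem n760 : Sound.{u} (cP4) s760 0 :=
  (x760.k4 c760_0 :)
theorem x761 : AuxS.{u} (cP4) s761 0 a761 := aux_base3 tw275 rfl b761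
theorem n761 : Sound.{u} (cP4) s761 0 :=
  (x761.k4 c761_0 :)
theorem x762 : AuxS.{u} (cP4) s762 0 a762 := aux_base3 tw275 rfl b762
theorem n762 : Sound.{u} (cP4) s762 0 :=
  (x762.k4 c762_0 :)
theorem x763 : AuxS.{u} (cP4) s763 0 a763 := aux_base3 tw275 rfl b763
theorem n763 : Sound.{u} (cP4) s763 0 :=
  (x763.k4 c763_0 :)
theorem x764 : AuxS.{u} (cP4) s764 0 a764 := aux_base3 tw275 rfl b764
theorem n764 : Sound.{u} (cP4) s764 0 :=
  (x764.k4 c764_0 :)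
theorem x765 : AuxS.{u} (cP4) s765 0 a765 := aux_base3 tw275 rfl b765
theorem n765 : Sound.{u} (cP4) s765 0 :=
  (x765.k4 c765_0 :)
theorem x766 : AuxS.{u} (cP4) s766 0 a766 := aux_base3 tw275 rfl b766
theorem n766 : Sound.{u} (cP4) s766 0 :=
  (x766.k4 c766_0 :)
theorem x767 : AuxS.{u} (cP4) s767 0 a767 := aux_base3 tw275 rfl b767
theorem n767 : Sound.{u} (cP4) s767 0 :=
  (x767.k4 c767_0 :)
theorem x768 : AuxS.{u} (cP4) s768 0 a768 := aux_base3 tw275 rfl b768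
theorem n768 : Sound.{u} (cP4) s768 0 :=
  (x768.k4 c768_0 :)
theorem x769 : AuxS.{u} (cP4) s769 0 a769 := aux_base3 tw275 rfl b769
theorem n769 : Sound.{u} (cP4) s769 0 :=
  (x769.k4 c769_0 :)
theorem x770 : AuxS.{u} (cP4) s770 0 a770 := aux_base3 tw275 rfl b770
theorem n770 : Sound.{u} (cP4) s770 0 :=
  (x770.k4 c770_0 :)
theorem x771 : AuxS.{u} (cP4) s771 0 a771 := aux_base3 tw275 rfl b771
theorem n771 : Sound.{u} (cP4) s771 0 :=
  (x771.k4 c771_0 :)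
theorem x772 : AuxS.{u} (cP4) s772 0 a772 := aux_base3 tw275 rfl b772
theorem n772 : Sound.{u} (cP4) s772 0 :=
  (x772.k4 c772_0 :)
theorem x773 : AuxS.{u} (cP4) s773 0 a773 := aux_base3 tw275 rfl b773
theorem n773 : Sound.{u} (cP4) s773 0 :=
  (x773.k4 c773_0 :)
theorem x774 : AuxS.{u} (cP4) s774 0 a774 := aux_base3 tw275 rfl b774
theorem n774 : Sound.{u} (cP4) s774 0 :=
  (x774.k4 c774_0 :)
theorem x775 : AuxS.{u} (cP4) s775 0 a775 := aux_base3 tw275 rfl b775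
theorem n775 : Sound.{u} (cP4) s775 0 :=
  (x775.k4 c775_0 :)
theorem x792 : AuxS.{u} (cP4) s792 0 a792 := aux_base3 tw275 rfl b792
theorem x792_1 : AuxS.{u} (cP4) s792 0 a792_1 := x792
theorem n792 : Sound.{u} (cP4) s792 0 :=
  (x792_1.fr GamS.nil AllS.nil c792_0 :)
theorem x793 : AuxS.{u} (cP4) s793 0 a793 := aux_base3 tw275 rfl b793
theorem n793 : Sound.{u} (cP4) s793 0 :=
  (x793.k4 c793_0 :)
theorem x791 : AuxS.{u} (cP4) s791 0 a791 := aux_base3 tw275 rfl b791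
theorem x791_1 : AuxS.{u} (cP4) s791 0 a791_1 := x791
theorem n791 : Sound.{u} (cP4) s791 0 :=
  (x791_1.fr (AuxS.gam x791_1 c791_0) (AllS.cons n792 (AllS.cons n793 AllS.nil)) c791_1 :)
theorem x776 : AuxS.{u} (cP4) s776 0 a776 := aux_base3 tw275 rfl b776
theorem x776_1 : AuxS.{u} (cP4) s776 0 a776_1 := x776
theorem n776 : Sound.{u} (cP4) s776 0 :=
  (x776_1.jump c776_0 c776_1 n791 :)
theorem x777 : AuxS.{u} (cP4) s777 0 a777 := aux_base3 tw275 rfl b777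
theorem n777 : Sound.{u} (cP4) s777 0 :=
  (x777.k4 c777_0 :)
theorem x778 : AuxS.{u} (cP4) s778 0 a778 := aux_base3 tw275 rfl b778
theorem n778 : Sound.{u} (cP4) s778 0 :=
  (x778.k4 c778_0 :)
theorem x779 : AuxS.{u} (cP4) s779 0 a779 := aux_base3 tw275 rfl b779
theorem n779 : Sound.{u} (cP4) s779 0 :=
  (x779.k4 c779_0 :)
theorem x780 : AuxS.{u} (cP4) s780 0 a780 := aux_base3 tw275 rfl b780
theorem n780 : Sound.{u} (cP4) s780 0 :=
  (x780.k4 c780_0 :)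
theorem x781 : AuxS.{u} (cP4) s781 0 a781 := aux_base3 tw275 rfl b781
theorem n781 : Sound.{u} (cP4) s781 0 :=
  (x781.k4 c781_0 :)
theorem x782 : AuxS.{u} (cP4) s782 0 a782 := aux_base3 tw275 rfl b782
theorem n782 : Sound.{u} (cP4) s782 0 :=
  (x782.k4 c782_0 :)
theorem x783 : AuxS.{u} (cP4) s783 0 a783 := aux_base3 tw275 rfl b783
theorem n783 : Sound.{u} (cP4) s783 0 :=
  (x783.k4 c783_0 :)
theorem x784 : AuxS.{u} (cP4) s784 0 a784 := aux_base3 tw275 rfl b784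
theorem n784 : Sound.{u} (cP4) s784 0 :=
  (x784.k4 c784_0 :)
theorem x785 : AuxS.{u} (cP4) s785 0 a785 := aux_base3 tw275 rfl b785
theorem n785 : Sound.{u} (cP4) s785 0 :=
  (x785.k4 c785_0 :)
theorem x786 : AuxS.{u} (cP4) s786 0 a786 := aux_base3 tw275 rfl b786
theorem n786 : Sound.{u} (cP4) s786 0 :=
  (x786.k4 c786_0 :)
theorem x787 : AuxS.{u} (cP4) s787 0 a787 := aux_base3 tw275 rfl b787
theorem n787 : Sound.{u} (cP4) s787 0 :=
  (x787.k4 c787_0 :)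
theorem x788 : AuxS.{u} (cP4) s788 0 a788 := aux_base3 tw275 rfl b788
theorem n788 : Sound.{u} (cP4) s788 0 :=
  (x788.k4 c788_0 :)
theorem x789 : AuxS.{u} (cP4) s789 0 a789 := aux_base3 tw275 rfl b789
theorem n789 : Sound.{u} (cP4) s789 0 :=
  (x789.k4 c789_0 :)
theorem x790 : AuxS.{u} (cP4) s790 0 a790 := aux_base3 tw275 rfl b790
theorem n790 : Sound.{u} (cP4) s790 0 :=
  (x790.k4 c790_0 :)
theorem x727 : AuxS.{u} (cP4) s727 0 a727 := aux_base3 tw275 rfl b727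
theorem x727_1 : AuxS.{u} (cP4) s727 0 a727_1 := x727
theorem n727 : Sound.{u} (cP4) s727 0 :=
  (x727_1.fr (AuxS.gam x727_1 c727_0) (AllS.cons n759 (AllS.cons n760 (AllS.cons n761 (AllS.cons n762 (AllS.cons n763 (AllS.cons n764 (AllS.cons n765 (AllS.cons n766 (AllS.cons n767 (AllS.cons n768 (AllS.cons n769 (AllS.cons n770 (AllS.cons n771 (AllS.cons n772 (AllS.cons n773 (AllS.cons n774 (AllS.cons n775 (AllS.cons n776 (AllS.cons n777 (AllS.cons n778 (AllS.cons n779 (AllS.cons n780 (AllS.cons n781 (AllS.cons n782 (AllS.cons n783 (AllS.cons n784 (AllS.cons n785 (AllS.cons n786 (AllS.cons n787 (AllS.cons n788 (AllS.cons n789 (AllS.cons n790 AllS.nil)))))))))))))))))))))))))))))))) c727_1 :)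
theorem x728 : AuxS.{u} (cP4) s728 0 a728 := aux_base3 tw276 rfl b728
theorem x728_1 : AuxS.{u} (cP4) s728 0 a728_1 := x728
theorem n728 : Sound.{u} (cP4) s728 0 :=
  (x728_1.fr GamS.nil AllS.nil c728_0 :)
theorem x729 : AuxS.{u} (cP4) s729 0 a729 := aux_base3 tw277 rfl b729
theorem x729_1 : AuxS.{u} (cP4) s729 0 a729_1 := x729
theorem n729 : Sound.{u} (cP4) s729 0 :=
  (x729_1.fr GamS.nil AllS.nil c729_0 :)
theorem x730 : AuxS.{u} (cP4) s730 0 a730 := aux_base3 tw278 rfl b730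
theorem x730_1 : AuxS.{u} (cP4) s730 0 a730_1 := x730
theorem n730 : Sound.{u} (cP4) s730 0 :=
  (x730_1.fr GamS.nil AllS.nil c730_0 :)
theorem x731 : AuxS.{u} (cP4) s731 0 a731 := aux_base3 tw279 rfl b731
theorem n731 : Sound.{u} (cP4) s731 0 :=
  (x731.k4 c731_0 :)
theorem x732 : AuxS.{u} (cP4) s732 0 a732 := aux_base3 tw280 rfl b732
theorem n732 : Sound.{u} (cP4) s732 0 :=
  (x732.k4 c732_0 :)
theorem x733 : AuxS.{u} (cP4) s733 0 a733 := aux_base3 tw281 rfl b733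
theorem n733 : Sound.{u} (cP4) s733 0 :=
  (x733.k4 c733_0 :)
theorem x734 : AuxS.{u} (cP4) s734 0 a734 := aux_base3 tw282 rfl b734
theorem n734 : Sound.{u} (cP4) s734 0 :=
  (x734.k4 c734_0 :)
theorem x735 : AuxS.{u} (cP4) s735 0 a735 := aux_base3 tw283 rfl b735
theorem n735 : Sound.{u} (cP4) s735 0 :=
  (x735.k4 c735_0 :)
theorem x736 : AuxS.{u} (cP4) s736 0 a736 := aux_base3 tw284 rfl b736
theorem n736 : Sound.{u} (cP4) s736 0 :=
  (x736.k4 c736_0 :)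
theorem x737 : AuxS.{u} (cP4) s737 0 a737 := aux_base3 tw285 rfl b737
theorem n737 : Sound.{u} (cP4) s737 0 :=
  (x737.k4 c737_0 :)
theorem x738 : AuxS.{u} (cP4) s738 0 a738 := aux_base3 tw286 rfl b738
theorem n738 : Sound.{u} (cP4) s738 0 :=
  (x738.k4 c738_0 :)
theorem x739 : AuxS.{u} (cP4) s739 0 a739 := aux_base3 tw287 rfl b739
theorem n739 : Sound.{u} (cP4) s739 0 :=
  (x739.k4 c739_0 :)
theorem x740 : AuxS.{u} (cP4) s740 0 a740 := aux_base3 tw288 rfl b740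
theorem n740 : Sound.{u} (cP4) s740 0 :=
  (x740.k4 c740_0 :)
theorem x741 : AuxS.{u} (cP4) s741 0 a741 := aux_base3 tw289 rfl b741
theorem n741 : Sound.{u} (cP4) s741 0 :=
  (x741.k4 c741_0 :)
theorem x742 : AuxS.{u} (cP4) s742 0 a742 := aux_base3 tw290 rfl b742
theorem n742 : Sound.{u} (cP4) s742 0 :=
  (x742.k4 c742_0 :)
theorem x794 : AuxS.{u} (cP4) s794 0 a794 := aux_base3 tw291 rfl b794
theorem n794 : Sound.{u} (cP4) s794 0 :=
  (x794.k4 c794_0 :)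
theorem x795 : AuxS.{u} (cP4) s795 0 a795 := aux_base3 tw291 rfl b795
theorem n795 : Sound.{u} (cP4) s795 0 :=
  (x795.k4 c795_0 :)
theorem x796 : AuxS.{u} (cP4) s796 0 a796 := aux_base3 tw291 rfl b796
theorem n796 : Sound.{u} (cP4) s796 0 :=
  (x796.k4 c796_0 :)
theorem x797 : AuxS.{u} (cP4) s797 0 a797 := aux_base3 tw291 rfl b797
theorem n797 : Sound.{u} (cP4) s797 0 :=
  (x797.k4 c797_0 :)
theorem x798 : AuxS.{u} (cP4) s798 0 a798 := aux_base3 tw291 rfl b798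
theorem n798 : Sound.{u} (cP4) s798 0 :=
  (x798.k4 c798_0 :)
theorem x799 : AuxS.{u} (cP4) s799 0 a799 := aux_base3 tw291 rfl b799
theorem n799 : Sound.{u} (cP4) s799 0 :=
  (x799.k4 c799_0 :)
theorem x800 : AuxS.{u} (cP4) s800 0 a800 := aux_base3 tw291 rfl b800
theorem n800 : Sound.{u} (cP4) s800 0 :=
  (x800.k4 c800_0 :)
theorem x801 : AuxS.{u} (cP4) s801 0 a801 := aux_base3 tw291 rfl b801
theorem n801 : Sound.{u} (cP4) s801 0 :=
  (x801.k4 c801_0 :)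
theorem x802 : AuxS.{u} (cP4) s802 0 a802 := aux_base3 tw291 rfl b802
theorem n802 : Sound.{u} (cP4) s802 0 :=
  (x802.k4 c802_0 :)
theorem x803 : AuxS.{u} (cP4) s803 0 a803 := aux_base3 tw291 rfl b803
theorem n803 : Sound.{u} (cP4) s803 0 :=
  (x803.k4 c803_0 :)
theorem x804 : AuxS.{u} (cP4) s804 0 a804 := aux_base3 tw291 rfl b804
theorem n804 : Sound.{u} (cP4) s804 0 :=
  (x804.k4 c804_0 :)
theorem x805 : AuxS.{u} (cP4) s805 0 a805 := aux_base3 tw291 rfl b805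
theorem n805 : Sound.{u} (cP4) s805 0 :=
  (x805.k4 c805_0 :)
theorem x806 : AuxS.{u} (cP4) s806 0 a806 := aux_base3 tw291 rfl b806
theorem n806 : Sound.{u} (cP4) s806 0 :=
  (x806.k4 c806_0 :)
theorem x807 : AuxS.{u} (cP4) s807 0 a807 := aux_base3 tw291 rfl b807
theorem n807 : Sound.{u} (cP4) s807 0 :=
  (x807.k4 c807_0 :)
theorem x827 : AuxS.{u} (cP4) s827 0 a827 := aux_base3 tw291 rfl b827
theorem x827_1 : AuxS.{u} (cP4) s827 0 a827_1 := x827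
theorem n827 : Sound.{u} (cP4) s827 0 :=
  (x827_1.fr GamS.nil AllS.nil c827_0 :)
theorem x828 : AuxS.{u} (cP4) s828 0 a828 := aux_base3 tw291 rfl b828
theorem n828 : Sound.{u} (cP4) s828 0 :=
  (x828.k4 c828_0 :)
theorem x826 : AuxS.{u} (cP4) s826 0 a826 := aux_base3 tw291 rfl b826
theorem x826_1 : AuxS.{u} (cP4) s826 0 a826_1 := x826
theorem n826 : Sound.{u} (cP4) s826 0 :=
  (x826_1.fr (AuxS.gam x826_1 c826_0) (AllS.cons n827 (AllS.cons n828 AllS.nil)) c826_1 :)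
theorem x808 : AuxS.{u} (cP4) s808 0 a808 := aux_base3 tw291 rfl b808
theorem x808_1 : AuxS.{u} (cP4) s808 0 a808_1 := x808
theorem n808 : Sound.{u} (cP4) s808 0 :=
  (x808_1.jump c808_0 c808_1 n826 :)
theorem x809 : AuxS.{u} (cP4) s809 0 a809 := aux_base3 tw291 rfl b809
theorem n809 : Sound.{u} (cP4) s809 0 :=
  (x809.k4 c809_0 :)
theorem x810 : AuxS.{u} (cP4) s810 0 a810 := aux_base3 tw291 rfl b810
theorem n810 : Sound.{u} (cP4) s810 0 :=
  (x810.k4 c810_0 :)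
theorem x811 : AuxS.{u} (cP4) s811 0 a811 := aux_base3 tw291 rfl b811
theorem n811 : Sound.{u} (cP4) s811 0 :=
  (x811.k4 c811_0 :)
theorem x812 : AuxS.{u} (cP4) s812 0 a812 := aux_base3 tw291 rfl b812
theorem n812 : Sound.{u} (cP4) s812 0 :=
  (x812.k4 c812_0 :)
theorem x813 : AuxS.{u} (cP4) s813 0 a813 := aux_base3 tw291 rfl b813
theorem n813 : Sound.{u} (cP4) s813 0 :=
  (x813.k4 c813_0 :)
theorem x814 : AuxS.{u} (cP4) s814 0 a814 := aux_base3 tw291 rfl b814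
theorem n814 : Sound.{u} (cP4) s814 0 :=
  (x814.k4 c814_0 :)
theorem x815 : AuxS.{u} (cP4) s815 0 a815 := aux_base3 tw291 rfl b815
theorem n815 : Sound.{u} (cP4) s815 0 :=
  (x815.k4 c815_0 :)
theorem x816 : AuxS.{u} (cP4) s816 0 a816 := aux_base3 tw291 rfl b816
theorem n816 : Sound.{u} (cP4) s816 0 :=
  (x816.k4 c816_0 :)
theorem x817 : AuxS.{u} (cP4) s817 0 a817 := aux_base3 tw291 rfl b817
theorem n817 : Sound.{u} (cP4) s817 0 :=
  (x817.k4 c817_0 :)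
theorem x818 : AuxS.{u} (cP4) s818 0 a818 := aux_base3 tw291 rfl b818
theorem n818 : Sound.{u} (cP4) s818 0 :=
  (x818.k4 c818_0 :)
theorem x819 : AuxS.{u} (cP4) s819 0 a819 := aux_base3 tw291 rfl b819
theorem n819 : Sound.{u} (cP4) s819 0 :=
  (x819.k4 c819_0 :)
theorem x820 : AuxS.{u} (cP4) s820 0 a820 := aux_base3 tw291 rfl b820
theorem n820 : Sound.{u} (cP4) s820 0 :=
  (x820.k4 c820_0 :)
theorem x821 : AuxS.{u} (cP4) s821 0 a821 := aux_base3 tw291 rfl b821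
theorem n821 : Sound.{u} (cP4) s821 0 :=
  (x821.k4 c821_0 :)
theorem x822 : AuxS.{u} (cP4) s822 0 a822 := aux_base3 tw291 rfl b822
theorem n822 : Sound.{u} (cP4) s822 0 :=
  (x822.k4 c822_0 :)
theorem x823 : AuxS.{u} (cP4) s823 0 a823 := aux_base3 tw291 rfl b823
theorem n823 : Sound.{u} (cP4) s823 0 :=
  (x823.k4 c823_0 :)
theorem x824 : AuxS.{u} (cP4) s824 0 a824 := aux_base3 tw291 rfl b824
theorem n824 : Sound.{u} (cP4) s824 0 :=
  (x824.k4 c824_0 :)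
theorem x825 : AuxS.{u} (cP4) s825 0 a825 := aux_base3 tw291 rfl b825
theorem n825 : Sound.{u} (cP4) s825 0 :=
  (x825.k4 c825_0 :)
theorem x743 : AuxS.{u} (cP4) s743 0 a743 := aux_base3 tw291 rfl b743
theorem x743_1 : AuxS.{u} (cP4) s743 0 a743_1 := x743
theorem n743 : Sound.{u} (cP4) s743 0 :=
  (x743_1.fr (AuxS.gam x743_1 c743_0) (AllS.cons n794 (AllS.cons n795 (AllS.cons n796 (AllS.cons n797 (AllS.cons n798 (AllS.cons n799 (AllS.cons n800 (AllS.cons n801 (AllS.cons n802 (AllS.cons n803 (AllS.cons n804 (AllS.cons n805 (AllS.cons n806 (AllS.cons n807 (AllS.cons n808 (AllS.cons n809 (AllS.cons n810 (AllS.cons n811 (AllS.cons n812 (AllS.cons n813 (AllS.cons n814 (AllS.cons n815 (AllS.cons n816 (AllS.cons n817 (AllS.cons n818 (AllS.cons n819 (AllS.cons n820 (AllS.cons n821 (AllS.cons n822 (AllS.cons n823 (AllS.cons n824 (AllS.cons n825 AllS.nil)))))))))))))))))))))))))))))))) c743_1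 :)
theorem x744 : AuxS.{u} (cP4) s744 0 a744 := aux_base3 tw292 rfl b744
theorem x744_1 : AuxS.{u} (cP4) s744 0 a744_1 := x744
theorem n744 : Sound.{u} (cP4) s744 0 :=
  (x744_1.fr GamS.nil AllS.nil c744_0 :)
theorem x745 : AuxS.{u} (cP4) s745 0 a745 := aux_base3 tw293 rfl b745
theorem x745_1 : AuxS.{u} (cP4) s745 0 a745_1 := x745
theorem n745 : Sound.{u} (cP4) s745 0 :=
  (x745_1.fr GamS.nil AllS.nil c745_0 :)
theorem x746 : AuxS.{u} (cP4) s746 0 a746 := aux_base3 tw294 rfl b746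
theorem x746_1 : AuxS.{u} (cP4) s746 0 a746_1 := x746
theorem n746 : Sound.{u} (cP4) s746 0 :=
  (x746_1.fr GamS.nil AllS.nil c746_0 :)
theorem x747 : AuxS.{u} (cP4) s747 0 a747 := aux_base3 tw295 rfl b747
theorem n747 : Sound.{u} (cP4) s747 0 :=
  (x747.k4 c747_0 :)
theorem x748 : AuxS.{u} (cP4) s748 0 a748 := aux_base3 tw296 rfl b748
theorem n748 : Sound.{u} (cP4) s748 0 :=
  (x748.k4 c748_0 :)
theorem x749 : AuxS.{u} (cP4) s749 0 a749 := aux_base3 tw297 rfl b749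
theorem n749 : Sound.{u} (cP4) s749 0 :=
  (x749.k4 c749_0 :)
theorem x750 : AuxS.{u} (cP4) s750 0 a750 := aux_base3 tw298 rfl b750
theorem n750 : Sound.{u} (cP4) s750 0 :=
  (x750.k4 c750_0 :)
theorem x751 : AuxS.{u} (cP4) s751 0 a751 := aux_base3 tw299 rfl b751
theorem n751 : Sound.{u} (cP4) s751 0 :=
  (x751.k4 c751_0 :)
theorem x752 : AuxS.{u} (cP4) s752 0 a752 := aux_base3 tw300 rfl b752
theorem n752 : Sound.{u} (cP4) s752 0 :=
  (x752.k4 c752_0 :)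
theorem x753 : AuxS.{u} (cP4) s753 0 a753 := aux_base3 tw301 rfl b753
theorem n753 : Sound.{u} (cP4) s753 0 :=
  (x753.k4 c753_0 :)
theorem x754 : AuxS.{u} (cP4) s754 0 a754 := aux_base3 tw302 rfl b754
theorem n754 : Sound.{u} (cP4) s754 0 :=
  (x754.k4 c754_0 :)
theorem x755 : AuxS.{u} (cP4) s755 0 a755 := aux_base3 tw303 rfl b755
theorem n755 : Sound.{u} (cP4) s755 0 :=
  (x755.k4 c755_0 :)
theorem x756 : AuxS.{u} (cP4) s756 0 a756 := aux_base3 tw304 rfl b756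
theorem n756 : Sound.{u} (cP4) s756 0 :=
  (x756.k4 c756_0 :)
theorem x757 : AuxS.{u} (cP4) s757 0 a757 := aux_base3 tw305 rfl b757
theorem n757 : Sound.{u} (cP4) s757 0 :=
  (x757.k4 c757_0 :)
theorem x758 : AuxS.{u} (cP4) s758 0 a758 := aux_base3 tw306 rfl b758
theorem n758 : Sound.{u} (cP4) s758 0 :=
  (x758.k4 c758_0 :)
theorem x726 : AuxS.{u} (cP4) s726 0 a726 := aux_base3 tw39 rfl b726
theorem x726_1 : AuxS.{u} (cP4) s726 0 a726_1 := (AuxS.up x726 c726_5 :)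
theorem p726_0_1 : Phs s726 a726_1 [] [s727, s728, s729, s730, s731, s732, s733, s734, s735, s736, s737, s738, s739, s740, s741, s742, s743, s744, s745, s746, s747, s748, s749, s750, s751, s752, s753, s754, s755, s756, s757, s758] ct726_0 v726_0 5 w726_0_1 := (Phs.fin c726_0)
theorem p726_0_3 : Phs s726 a726_1 [] [s727, s728, s729, s730, s731, s732, s733, s734, s735, s736, s737, s738, s739, s740, s741, s742, s743, s744, s745, s746, s747, s748, s749, s750, s751, s752, s753, s754, s755, s756, s757, s758] ct726_0 v726_0 4 w726_0_3 := (Phs.stp c726_1 p726_0_1)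
theorem p726_0_5 : Phs s726 a726_1 [] [s727, s728, s729, s730, s731, s732, s733, s734, s735, s736, s737, s738, s739, s740, s741, s742, s743, s744, s745, s746, s747, s748, s749, s750, s751, s752, s753, s754, s755, s756, s757, s758] ct726_0 v726_0 1 w726_0_5 := (Phs.stp c726_2 p726_0_3)
theorem n726 : Sound.{u} (cP4) s726 0 :=
  (x726_1.ext2 (fun h => absurd h (by decide)) GamS.nil (AllS.cons n727 (AllS.cons n728 (AllS.cons n729 (AllS.cons n730 (AllS.cons n731 (AllS.cons n732 (AllS.cons n733 (AllS.cons n734 (AllS.cons n735 (AllS.cons n736 (AllS.cons n737 (AllS.cons n738 (AllS.cons n739 (AllS.cons n740 (AllS.cons n741 (AllS.cons n742 (AllS.cons n743 (AllS.cons n744 (AllS.cons n745 (AllS.cons n746 (AllS.cons n747 (AllS.cons n748 (AllS.cons n749 (AllS.cons n750 (AllS.cons n751 (AllS.cons n752 (AllS.cons n753 (AllS.cons n754 (AllS.cons n755 (AllS.cons n756 (AllS.cons n757 (AllS.cons n758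 AllS.nil)))))))))))))))))))))))))))))))) c726_4 (Phs.stp c726_3 p726_0_5) (Phs.fin (ct := ct726_0) rfl) :)
theorem x699 : AuxS.{u} (cP4) s699 0 a699 := aux_base3 tw259 rfl b699
theorem x699_1 : AuxS.{u} (cP4) s699 0 a699_1 := x699
theorem n699 : Sound.{u} (cP4) s699 0 :=
  (x699_1.jump c699_0 c699_1 n726 :)
theorem x700 : AuxS.{u} (cP4) s700 0 a700 := aux_base3 tw259 rfl b700
theorem n700 : Sound.{u} (cP4) s700 0 :=
  (x700.k4 c700_0 :)
theorem x701 : AuxS.{u} (cP4) s701 0 a701 := aux_base3 tw259 rfl b701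
theorem n701 : Sound.{u} (cP4) s701 0 :=
  (x701.k4 c701_0 :)
theorem x702 : AuxS.{u} (cP4) s702 0 a702 := aux_base3 tw259 rfl b702
theorem n702 : Sound.{u} (cP4) s702 0 :=
  (x702.k4 c702_0 :)
theorem x703 : AuxS.{u} (cP4) s703 0 a703 := aux_base3 tw259 rfl b703
theorem n703 : Sound.{u} (cP4) s703 0 :=
  (x703.k4 c703_0 :)
theorem x704 : AuxS.{u} (cP4) s704 0 a704 := aux_base3 tw259 rfl b704
theorem n704 : Sound.{u} (cP4) s704 0 :=
  (x704.k4 c704_0 :)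
theorem x705 : AuxS.{u} (cP4) s705 0 a705 := aux_base3 tw259 rfl b705
theorem n705 : Sound.{u} (cP4) s705 0 :=
  (x705.k4 c705_0 :)
theorem x706 : AuxS.{u} (cP4) s706 0 a706 := aux_base3 tw259 rfl b706
theorem n706 : Sound.{u} (cP4) s706 0 :=
  (x706.k4 c706_0 :)
theorem x707 : AuxS.{u} (cP4) s707 0 a707 := aux_base3 tw259 rfl b707
theorem n707 : Sound.{u} (cP4) s707 0 :=
  (x707.k4 c707_0 :)
theorem x708 : AuxS.{u} (cP4) s708 0 a708 := aux_base3 tw259 rfl b708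
theorem n708 : Sound.{u} (cP4) s708 0 :=
  (x708.k4 c708_0 :)
theorem x709 : AuxS.{u} (cP4) s709 0 a709 := aux_base3 tw259 rfl b709
theorem n709 : Sound.{u} (cP4) s709 0 :=
  (x709.k4 c709_0 :)
theorem x710 : AuxS.{u} (cP4) s710 0 a710 := aux_base3 tw259 rfl b710
theorem n710 : Sound.{u} (cP4) s710 0 :=
  (x710.k4 c710_0 :)
theorem x711 : AuxS.{u} (cP4) s711 0 a711 := aux_base3 tw259 rfl b711
theorem n711 : Sound.{u} (cP4) s711 0 :=
  (x711.k4 c711_0 :)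
theorem x712 : AuxS.{u} (cP4) s712 0 a712 := aux_base3 tw259 rfl b712
theorem n712 : Sound.{u} (cP4) s712 0 :=
  (x712.k4 c712_0 :)
theorem x713 : AuxS.{u} (cP4) s713 0 a713 := aux_base3 tw259 rfl b713
theorem n713 : Sound.{u} (cP4) s713 0 :=
  (x713.k4 c713_0 :)
theorem x714 : AuxS.{u} (cP4) s714 0 a714 := aux_base3 tw259 rfl b714
theorem n714 : Sound.{u} (cP4) s714 0 :=
  (x714.k4 c714_0 :)
theorem x715 : AuxS.{u} (cP4) s715 0 a715 := aux_base3 tw259 rfl b715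
theorem n715 : Sound.{u} (cP4) s715 0 :=
  (x715.k4 c715_0 :)
theorem x716 : AuxS.{u} (cP4) s716 0 a716 := aux_base3 tw259 rfl b716
theorem n716 : Sound.{u} (cP4) s716 0 :=
  (x716.k4 c716_0 :)
theorem x717 : AuxS.{u} (cP4) s717 0 a717 := aux_base3 tw259 rfl b717
theorem n717 : Sound.{u} (cP4) s717 0 :=
  (x717.k4 c717_0 :)
theorem x718 : AuxS.{u} (cP4) s718 0 a718 := aux_base3 tw259 rfl b718
theorem n718 : Sound.{u} (cP4) s718 0 :=
  (x718.k4 c718_0 :)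
theorem x719 : AuxS.{u} (cP4) s719 0 a719 := aux_base3 tw259 rfl b719
theorem n719 : Sound.{u} (cP4) s719 0 :=
  (x719.k4 c719_0 :)
theorem x720 : AuxS.{u} (cP4) s720 0 a720 := aux_base3 tw259 rfl b720
theorem n720 : Sound.{u} (cP4) s720 0 :=
  (x720.k4 c720_0 :)
theorem x721 : AuxS.{u} (cP4) s721 0 a721 := aux_base3 tw259 rfl b721
theorem n721 : Sound.{u} (cP4) s721 0 :=
  (x721.k4 c721_0 :)
theorem x722 : AuxS.{u} (cP4) s722 0 a722 := aux_base3 tw259 rfl b722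
theorem n722 : Sound.{u} (cP4) s722 0 :=
  (x722.k4 c722_0 :)
theorem x723 : AuxS.{u} (cP4) s723 0 a723 := aux_base3 tw259 rfl b723
theorem n723 : Sound.{u} (cP4) s723 0 :=
  (x723.k4 c723_0 :)
theorem x724 : AuxS.{u} (cP4) s724 0 a724 := aux_base3 tw259 rfl b724
theorem n724 : Sound.{u} (cP4) s724 0 :=
  (x724.k4 c724_0 :)
theorem x725 : AuxS.{u} (cP4) s725 0 a725 := aux_base3 tw259 rfl b725
theorem n725 : Sound.{u} (cP4) s725 0 :=
  (x725.k4 c725_0 :)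
theorem x678 : AuxS.{u} (cP4) s678 0 a678 := aux_base3 tw259 rfl b678
theorem x678_1 : AuxS.{u} (cP4) s678 0 a678_1 := x678
theorem n678 : Sound.{u} (cP4) s678 0 :=
  (x678_1.fr (AuxS.gam x678_1 c678_0) (AllS.cons n694 (AllS.cons n695 (AllS.cons n696 (AllS.cons n697 (AllS.cons n698 (AllS.cons n699 (AllS.cons n700 (AllS.cons n701 (AllS.cons n702 (AllS.cons n703 (AllS.cons n704 (AllS.cons n705 (AllS.cons n706 (AllS.cons n707 (AllS.cons n708 (AllS.cons n709 (AllS.cons n710 (AllS.cons n711 (AllS.cons n712 (AllS.cons n713 (AllS.cons n714 (AllS.cons n715 (AllS.cons n716 (AllS.cons n717 (AllS.cons n718 (AllS.cons n719 (AllS.cons n720 (AllS.cons n721 (AllS.cons n722 (AllS.cons n723 (AllS.cons n724 (AllS.cons n725 AllS.nil)))))))))))))))))))))))))))))))) c678_1 :)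
theorem x679 : AuxS.{u} (cP4) s679 0 a679 := aux_base3 tw260 rfl b679
theorem x679_1 : AuxS.{u} (cP4) s679 0 a679_1 := x679
theorem n679 : Sound.{u} (cP4) s679 0 :=
  (x679_1.fr GamS.nil AllS.nil c679_0 :)
theorem x680 : AuxS.{u} (cP4) s680 0 a680 := aux_base3 tw261 rfl b680
theorem x680_1 : AuxS.{u} (cP4) s680 0 a680_1 := x680
theorem n680 : Sound.{u} (cP4) s680 0 :=
  (x680_1.fr GamS.nil AllS.nil c680_0 :)
theorem x681 : AuxS.{u} (cP4) s681 0 a681 := aux_base3 tw262 rfl b681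
theorem x681_1 : AuxS.{u} (cP4) s681 0 a681_1 := x681
theorem n681 : Sound.{u} (cP4) s681 0 :=
  (x681_1.fr GamS.nil AllS.nil c681_0 :)
theorem x682 : AuxS.{u} (cP4) s682 0 a682 := aux_base3 tw263 rfl b682
theorem x682_1 : AuxS.{u} (cP4) s682 0 a682_1 := x682
theorem n682 : Sound.{u} (cP4) s682 0 :=
  (x682_1.fr GamS.nil AllS.nil c682_0 :)
theorem x683 : AuxS.{u} (cP4) s683 0 a683 := aux_base3 tw264 rfl b683
theorem x683_1 : AuxS.{u} (cP4) s683 0 a683_1 := x683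
theorem n683 : Sound.{u} (cP4) s683 0 :=
  (x683_1.fr GamS.nil AllS.nil c683_0 :)
theorem x684 : AuxS.{u} (cP4) s684 0 a684 := aux_base3 tw265 rfl b684
theorem x684_1 : AuxS.{u} (cP4) s684 0 a684_1 := x684
theorem n684 : Sound.{u} (cP4) s684 0 :=
  (x684_1.fr GamS.nil AllS.nil c684_0 :)
theorem x685 : AuxS.{u} (cP4) s685 0 a685 := aux_base3 tw266 rfl b685
theorem x685_1 : AuxS.{u} (cP4) s685 0 a685_1 := x685
theorem n685 : Sound.{u} (cP4) s685 0 :=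
  (x685_1.fr GamS.nil AllS.nil c685_0 :)
theorem x686 : AuxS.{u} (cP4) s686 0 a686 := aux_base3 tw267 rfl b686
theorem x686_1 : AuxS.{u} (cP4) s686 0 a686_1 := x686
theorem x686_2 : AuxS.{u} (cP4) s686 0 a686_2 := x686_1
theorem n686 : Sound.{u} (cP4) s686 0 :=
  (x686_2.fr GamS.nil AllS.nil c686_0 :)
theorem x687 : AuxS.{u} (cP4) s687 0 a687 := aux_base3 tw268 rfl b687
theorem x687_1 : AuxS.{u} (cP4) s687 0 a687_1 := x687
theorem n687 : Sound.{u} (cP4) s687 0 :=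
  (x687_1.fr GamS.nil AllS.nil c687_0 :)
theorem x688 : AuxS.{u} (cP4) s688 0 a688 := aux_base3 tw269 rfl b688
theorem x688_1 : AuxS.{u} (cP4) s688 0 a688_1 := x688
theorem x688_2 : AuxS.{u} (cP4) s688 0 a688_2 := x688_1
theorem n688 : Sound.{u} (cP4) s688 0 :=
  (x688_2.fr GamS.nil AllS.nil c688_0 :)
theorem x689 : AuxS.{u} (cP4) s689 0 a689 := aux_base3 tw270 rfl b689
theorem x689_1 : AuxS.{u} (cP4) s689 0 a689_1 := x689
theorem n689 : Sound.{u} (cP4) s689 0 :=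
  (x689_1.fr GamS.nil AllS.nil c689_0 :)
theorem x690 : AuxS.{u} (cP4) s690 0 a690 := aux_base3 tw271 rfl b690
theorem x690_1 : AuxS.{u} (cP4) s690 0 a690_1 := x690
theorem x690_2 : AuxS.{u} (cP4) s690 0 a690_2 := x690_1
theorem n690 : Sound.{u} (cP4) s690 0 :=
  (x690_2.fr GamS.nil AllS.nil c690_0 :)
theorem x691 : AuxS.{u} (cP4) s691 0 a691 := aux_base3 tw272 rfl b691
theorem x691_1 : AuxS.{u} (cP4) s691 0 a691_1 := x691
theorem n691 : Sound.{u} (cP4) s691 0 :=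
  (x691_1.fr GamS.nil AllS.nil c691_0 :)
theorem x692 : AuxS.{u} (cP4) s692 0 a692 := aux_base3 tw273 rfl b692
theorem x692_1 : AuxS.{u} (cP4) s692 0 a692_1 := x692
theorem n692 : Sound.{u} (cP4) s692 0 :=
  (x692_1.fr GamS.nil AllS.nil c692_0 :)
theorem x693 : AuxS.{u} (cP4) s693 0 a693 := aux_base3 tw274 rfl b693
theorem x693_1 : AuxS.{u} (cP4) s693 0 a693_1 := x693
theorem x693_2 : AuxS.{u} (cP4) s693 0 a693_2 := x693_1
theorem n693 : Sound.{u} (cP4) s693 0 :=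
  (x693_2.fr GamS.nil AllS.nil c693_0 :)
theorem x39 : AuxS.{u} (cP4) s39 0 a39 := aux_base3 tw39 rfl b39
theorem x39_1 : AuxS.{u} (cP4) s39 0 a39_1 := (AuxS.up x39 c39_7 :)
theorem p39_0_1 : Phs s39 a39_1 (List.map Prod.fst g39_0) [s678, s679, s680, s681, s682, s683, s684, s685, s686, s687, s688, s689, s690, s691, s692, s693] ct39_0 v39_0 5 w39_0_1 := (Phs.fin c39_1)
theorem p39_0_3 : Phs s39 a39_1 (List.map Prod.fst g39_0) [s678, s679, s680, s681, s682, s683, s684, s685, s686, s687, s688, s689, s690, s691, s692, s693] ct39_0 v39_0 4 w39_0_3 := (Phs.stp c39_2 p39_0_1)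
theorem p39_0_5 : Phs s39 a39_1 (List.map Prod.fst g39_0) [s678, s679, s680, s681, s682, s683, s684, s685, s686, s687, s688, s689, s690, s691, s692, s693] ct39_0 v39_0 3 w39_0_5 := (Phs.stp c39_3 p39_0_3)
theorem p39_0_7 : Phs s39 a39_1 (List.map Prod.fst g39_0) [s678, s679, s680, s681, s682, s683, s684, s685, s686, s687, s688, s689, s690, s691, s692, s693] ct39_0 v39_0 1 w39_0_7 := (Phs.stp c39_4 p39_0_5)
theorem n39 : Sound.{u} (cP4) s39 0 :=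
  (x39_1.ext2 (fun h => absurd h (by decide)) (AuxS.gam x39_1 c39_0) (AllS.cons n678 (AllS.cons n679 (AllS.cons n680 (AllS.cons n681 (AllS.cons n682 (AllS.cons n683 (AllS.cons n684 (AllS.cons n685 (AllS.cons n686 (AllS.cons n687 (AllS.cons n688 (AllS.cons n689 (AllS.cons n690 (AllS.cons n691 (AllS.cons n692 (AllS.cons n693 AllS.nil)))))))))))))))) c39_6 (Phs.stp c39_5 p39_0_7) (Phs.fin (ct := ct39_0) rfl) :)
theorem x829 : AuxS.{u} (cP4) s829 0 a829 := aux_base3 tw307 rfl b829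
theorem x829_1 : AuxS.{u} (cP4) s829 0 a829_1 := x829
theorem x829_2 : AuxS.{u} (cP4) s829 0 a829_2 := x829_1
theorem n829 : Sound.{u} (cP4) s829 0 :=
  (x829_2.fr GamS.nil AllS.nil c829_0 :)
theorem x830 : AuxS.{u} (cP4) s830 0 a830 := aux_base3 tw308 rfl b830
theorem x830_1 : AuxS.{u} (cP4) s830 0 a830_1 := x830
theorem x830_2 : AuxS.{u} (cP4) s830 0 a830_2 := x830_1
theorem n830 : Sound.{u} (cP4) s830 0 :=
  (x830_2.fr GamS.nil AllS.nil c830_0 :)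
theorem x831 : AuxS.{u} (cP4) s831 0 a831 := aux_base3 tw309 rfl b831
theorem x831_1 : AuxS.{u} (cP4) s831 0 a831_1 := x831
theorem x831_2 : AuxS.{u} (cP4) s831 0 a831_2 := x831_1
theorem n831 : Sound.{u} (cP4) s831 0 :=
  (x831_2.fr GamS.nil AllS.nil c831_0 :)
theorem x832 : AuxS.{u} (cP4) s832 0 a832 := aux_base3 tw310 rfl b832
theorem x832_1 : AuxS.{u} (cP4) s832 0 a832_1 := x832
theorem x832_2 : AuxS.{u} (cP4) s832 0 a832_2 := x832_1
theorem n832 : Sound.{u} (cP4) s832 0 :=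
  (x832_2.fr GamS.nil AllS.nil c832_0 :)
theorem x833 : AuxS.{u} (cP4) s833 0 a833 := aux_base3 tw311 rfl b833
theorem x833_1 : AuxS.{u} (cP4) s833 0 a833_1 := x833
theorem x833_2 : AuxS.{u} (cP4) s833 0 a833_2 := x833_1
theorem n833 : Sound.{u} (cP4) s833 0 :=
  (x833_2.fr GamS.nil AllS.nil c833_0 :)
theorem x834 : AuxS.{u} (cP4) s834 0 a834 := aux_base3 tw312 rfl b834
theorem x834_1 : AuxS.{u} (cP4) s834 0 a834_1 := x834
theorem x834_2 : AuxS.{u} (cP4) s834 0 a834_2 := x834_1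
theorem n834 : Sound.{u} (cP4) s834 0 :=
  (x834_2.fr GamS.nil AllS.nil c834_0 :)
theorem x835 : AuxS.{u} (cP4) s835 0 a835 := aux_base3 tw313 rfl b835
theorem x835_1 : AuxS.{u} (cP4) s835 0 a835_1 := x835
theorem x835_2 : AuxS.{u} (cP4) s835 0 a835_2 := x835_1
theorem n835 : Sound.{u} (cP4) s835 0 :=
  (x835_2.fr GamS.nil AllS.nil c835_0 :)
theorem x836 : AuxS.{u} (cP4) s836 0 a836 := aux_base3 tw314 rfl b836
theorem x836_1 : AuxS.{u} (cP4) s836 0 a836_1 := x836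
theorem x836_2 : AuxS.{u} (cP4) s836 0 a836_2 := x836_1
theorem n836 : Sound.{u} (cP4) s836 0 :=
  (x836_2.fr GamS.nil AllS.nil c836_0 :)
theorem x837 : AuxS.{u} (cP4) s837 0 a837 := aux_base3 tw315 rfl b837
theorem x837_1 : AuxS.{u} (cP4) s837 0 a837_1 := x837
theorem x837_2 : AuxS.{u} (cP4) s837 0 a837_2 := x837_1
theorem n837 : Sound.{u} (cP4) s837 0 :=
  (x837_2.fr GamS.nil AllS.nil c837_0 :)
theorem x838 : AuxS.{u} (cP4) s838 0 a838 := aux_base3 tw316 rfl b838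
theorem x838_1 : AuxS.{u} (cP4) s838 0 a838_1 := x838
theorem x838_2 : AuxS.{u} (cP4) s838 0 a838_2 := x838_1
theorem n838 : Sound.{u} (cP4) s838 0 :=
  (x838_2.fr GamS.nil AllS.nil c838_0 :)
theorem x839 : AuxS.{u} (cP4) s839 0 a839 := aux_base3 tw317 rfl b839
theorem x839_1 : AuxS.{u} (cP4) s839 0 a839_1 := x839
theorem x839_2 : AuxS.{u} (cP4) s839 0 a839_2 := x839_1
theorem n839 : Sound.{u} (cP4) s839 0 :=
  (x839_2.fr GamS.nil AllS.nil c839_0 :)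
theorem x840 : AuxS.{u} (cP4) s840 0 a840 := aux_base3 tw318 rfl b840
theorem x840_1 : AuxS.{u} (cP4) s840 0 a840_1 := x840
theorem x840_2 : AuxS.{u} (cP4) s840 0 a840_2 := x840_1
theorem n840 : Sound.{u} (cP4) s840 0 :=
  (x840_2.fr GamS.nil AllS.nil c840_0 :)
theorem x841 : AuxS.{u} (cP4) s841 0 a841 := aux_base3 tw319 rfl b841
theorem x841_1 : AuxS.{u} (cP4) s841 0 a841_1 := x841
theorem x841_2 : AuxS.{u} (cP4) s841 0 a841_2 := x841_1
theorem n841 : Sound.{u} (cP4) s841 0 :=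
  (x841_2.fr GamS.nil AllS.nil c841_0 :)
theorem x842 : AuxS.{u} (cP4) s842 0 a842 := aux_base3 tw320 rfl b842
theorem x842_1 : AuxS.{u} (cP4) s842 0 a842_1 := x842
theorem x842_2 : AuxS.{u} (cP4) s842 0 a842_2 := x842_1
theorem n842 : Sound.{u} (cP4) s842 0 :=
  (x842_2.fr GamS.nil AllS.nil c842_0 :)
theorem x843 : AuxS.{u} (cP4) s843 0 a843 := aux_base3 tw321 rfl b843
theorem x843_1 : AuxS.{u} (cP4) s843 0 a843_1 := x843
theorem x843_2 : AuxS.{u} (cP4) s843 0 a843_2 := x843_1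
theorem n843 : Sound.{u} (cP4) s843 0 :=
  (x843_2.fr GamS.nil AllS.nil c843_0 :)
theorem x844 : AuxS.{u} (cP4) s844 0 a844 := aux_base3 tw322 rfl b844
theorem x844_1 : AuxS.{u} (cP4) s844 0 a844_1 := x844
theorem x844_2 : AuxS.{u} (cP4) s844 0 a844_2 := x844_1
theorem n844 : Sound.{u} (cP4) s844 0 :=
  (x844_2.fr GamS.nil AllS.nil c844_0 :)
theorem x40 : AuxS.{u} (cP4) s40 0 a40 := aux_base3 tw40 rfl b40
theorem x40_1 : AuxS.{u} (cP4) s40 0 a40_1 := (AuxS.up x40 c40_7 :)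
theorem x40_2 : AuxS.{u} (cP4) s40 0 a40_2 := x40_1
theorem p40_0_1 : Phs s40 a40_2 (List.map Prod.fst g40_0) [s829, s830, s831, s832, s833, s834, s835, s836, s837, s838, s839, s840, s841, s842, s843, s844] ct40_0 v40_0 5 w40_0_1 := (Phs.fin c40_1)
theorem p40_0_3 : Phs s40 a40_2 (List.map Prod.fst g40_0) [s829, s830, s831, s832, s833, s834, s835, s836, s837, s838, s839, s840, s841, s842, s843, s844] ct40_0 v40_0 4 w40_0_3 := (Phs.stp c40_2 p40_0_1)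
theorem p40_0_5 : Phs s40 a40_2 (List.map Prod.fst g40_0) [s829, s830, s831, s832, s833, s834, s835, s836, s837, s838, s839, s840, s841, s842, s843, s844] ct40_0 v40_0 3 w40_0_5 := (Phs.stp c40_3 p40_0_3)
theorem p40_0_7 : Phs s40 a40_2 (List.map Prod.fst g40_0) [s829, s830, s831, s832, s833, s834, s835, s836, s837, s838, s839, s840, s841, s842, s843, s844] ct40_0 v40_0 1 w40_0_7 := (Phs.stp c40_4 p40_0_5)
theorem n40 : Sound.{u} (cP4) s40 0 :=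
  (x40_2.ext2 (fun h => absurd h (by decide)) (AuxS.gam x40_2 c40_0) (AllS.cons n829 (AllS.cons n830 (AllS.cons n831 (AllS.cons n832 (AllS.cons n833 (AllS.cons n834 (AllS.cons n835 (AllS.cons n836 (AllS.cons n837 (AllS.cons n838 (AllS.cons n839 (AllS.cons n840 (AllS.cons n841 (AllS.cons n842 (AllS.cons n843 (AllS.cons n844 AllS.nil)))))))))))))))) c40_6 (Phs.stp c40_5 p40_0_7) (Phs.fin (ct := ct40_0) rfl) :)
theorem x41 : AuxS.{u} (cP4) s41 0 a41 := aux_base3 tw41 rfl b41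
theorem n41 : Sound.{u} (cP4) s41 0 :=
  (x41.k3 c41_0 :)
theorem x42 : AuxS.{u} (cP4) s42 0 a42 := aux_base3 tw42 rfl b42
theorem n42 : Sound.{u} (cP4) s42 0 :=
  (x42.k3 c42_0 :)
theorem x1 : AuxS.{u} (cP4) s1 0 a1 := aux_base3 tw1 rfl b1
theorem x1_1 : AuxS.{u} (cP4) s1 0 a1_1 := (AuxS.up x1 c1_4 :)
theorem p1_0_1 : Phs s1 a1_1 [] [s33, s34, s35, s36, s37, s38, s39, s40, s41, s42] ct1_0 v1_0 4 w1_0_1 := (Phs.fin c1_0)
theorem p1_0_3 : Phs s1 a1_1 [] [s33, s34, s35, s36, s37, s38, s39, s40, s41, s42] ct1_0 v1_0 1 w1_0_3 := (Phs.stp c1_1 p1_0_1)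
theorem n1 : Sound.{u} (cP4) s1 0 :=
  (x1_1.ext2 (fun h => absurd h (by decide)) GamS.nil (AllS.cons n33 (AllS.cons n34 (AllS.cons n35 (AllS.cons n36 (AllS.cons n37 (AllS.cons n38 (AllS.cons n39 (AllS.cons n40 (AllS.cons n41 (AllS.cons n42 AllS.nil)))))))))) c1_3 (Phs.stp c1_2 p1_0_3) (Phs.fin (ct := ct1_0) rfl) :)
theorem x2 : AuxS.{u} (cP4) s2 0 a2 := aux_base3 tw2 rfl b2
theorem x2_1 : AuxS.{u} (cP4) s2 0 a2_1 := (AuxS.up x2 c2_1 :)
theorem n2 : Sound.{u} (cP4) s2 0 :=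
  (x2_1.k7 c2_0 :)
theorem x3 : AuxS.{u} (cP4) s3 0 a3 := aux_base3 tw3 rfl b3
theorem x3_1 : AuxS.{u} (cP4) s3 0 a3_1 := (AuxS.up x3 c3_1 :)
theorem n3 : Sound.{u} (cP4) s3 0 :=
  (x3_1.k7 c3_0 :)
theorem x845 : AuxS.{u} (cP4) s845 0 a845 := aux_base3 tw323 rfl b845
theorem x845_1 : AuxS.{u} (cP4) s845 0 a845_1 := (AuxS.up x845 c845_1 :)
theorem n845 : Sound.{u} (cP4) s845 0 :=
  (x845_1.k7 c845_0 :)
theorem x846 : AuxS.{u} (cP4) s846 0 a846 := aux_base3 tw324 rfl b846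
theorem x846_1 : AuxS.{u} (cP4) s846 0 a846_1 := (AuxS.up x846 c846_5 :)
theorem x846_2 : AuxS.{u} (cP4) s846 0 a846_2 := (AuxS.up2 x846_1 c846_6 :)
theorem p846_0_1 : Phs s846 a846_2 [] [] ct846_0 v846_0 4 w846_0_1 := (Phs.fin c846_0)
theorem p846_0_3 : Phs s846 a846_2 [] [] ct846_0 v846_0 3 w846_0_3 := (Phs.stp c846_1 p846_0_1)
theorem p846_0_5 : Phs s846 a846_2 [] [] ct846_0 v846_0 1 w846_0_5 := (Phs.stp c846_2 p846_0_3)
theorem n846 : Sound.{u} (cP4) s846 0 :=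
  (x846_2.ext2 (fun h => absurd h (by decide)) GamS.nil AllS.nil c846_4 (Phs.stp c846_3 p846_0_5) (Phs.fin (ct := ct846_0) rfl) :)
theorem x857 : AuxS.{u} (cP4) s857 0 a857 := aux_base3 tw332 rfl b857
theorem x857_1 : AuxS.{u} (cP4) s857 0 a857_1 := x857
theorem x857_2 : AuxS.{u} (cP4) s857 0 a857_2 := x857_1
theorem n857 : Sound.{u} (cP4) s857 0 :=
  (x857_2.fr GamS.nil AllS.nil c857_0 :)
theorem x858 : AuxS.{u} (cP4) s858 0 a858 := aux_base3 tw333 rfl b858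
theorem x858_1 : AuxS.{u} (cP4) s858 0 a858_1 := x858
theorem n858 : Sound.{u} (cP4) s858 0 :=
  (x858_1.fr GamS.nil AllS.nil c858_0 :)
theorem x859 : AuxS.{u} (cP4) s859 0 a859 := aux_base3 tw334 rfl b859
theorem x859_1 : AuxS.{u} (cP4) s859 0 a859_1 := x859
theorem x859_2 : AuxS.{u} (cP4) s859 0 a859_2 := x859_1
theorem n859 : Sound.{u} (cP4) s859 0 :=
  (x859_2.fr GamS.nil AllS.nil c859_0 :)
theorem x860 : AuxS.{u} (cP4) s860 0 a860 := aux_base3 tw335 rfl b860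
theorem x860_1 : AuxS.{u} (cP4) s860 0 a860_1 := x860
theorem n860 : Sound.{u} (cP4) s860 0 :=
  (x860_1.fr GamS.nil AllS.nil c860_0 :)
theorem x861 : AuxS.{u} (cP4) s861 0 a861 := aux_base3 tw336 rfl b861
theorem x861_1 : AuxS.{u} (cP4) s861 0 a861_1 := x861
theorem n861 : Sound.{u} (cP4) s861 0 :=
  (x861_1.fr GamS.nil AllS.nil c861_0 :)
theorem x862 : AuxS.{u} (cP4) s862 0 a862 := aux_base3 tw337 rfl b862
theorem x862_1 : AuxS.{u} (cP4) s862 0 a862_1 := x862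
theorem n862 : Sound.{u} (cP4) s862 0 :=
  (x862_1.fr GamS.nil AllS.nil c862_0 :)
theorem x863 : AuxS.{u} (cP4) s863 0 a863 := aux_base3 tw338 rfl b863
theorem x863_1 : AuxS.{u} (cP4) s863 0 a863_1 := x863
theorem n863 : Sound.{u} (cP4) s863 0 :=
  (x863_1.fr GamS.nil AllS.nil c863_0 :)
theorem x873 : AuxS.{u} (cP4) s873 0 a873 := aux_base3 tw339 rfl b873
theorem n873 : Sound.{u} (cP4) s873 0 :=
  (x873.k4 c873_0 :)
theorem x874 : AuxS.{u} (cP4) s874 0 a874 := aux_base3 tw339 rfl b874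
theorem n874 : Sound.{u} (cP4) s874 0 :=
  (x874.k4 c874_0 :)
theorem x875 : AuxS.{u} (cP4) s875 0 a875 := aux_base3 tw339 rfl b875
theorem n875 : Sound.{u} (cP4) s875 0 :=
  (x875.k4 c875_0 :)
theorem x876 : AuxS.{u} (cP4) s876 0 a876 := aux_base3 tw339 rfl b876
theorem n876 : Sound.{u} (cP4) s876 0 :=
  (x876.k4 c876_0 :)
theorem x937 : AuxS.{u} (cP4) s937 0 a937 := aux_base3 tw348 rfl b937
theorem x937_1 : AuxS.{u} (cP4) s937 0 a937_1 := (AuxS.up x937 c937_1 :)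
theorem n937 : Sound.{u} (cP4) s937 0 :=
  (x937_1.k7 c937_0 :)
theorem x938 : AuxS.{u} (cP4) s938 0 a938 := aux_base3 tw349 rfl b938
theorem x938_1 : AuxS.{u} (cP4) s938 0 a938_1 := (AuxS.up x938 c938_1 :)
theorem n938 : Sound.{u} (cP4) s938 0 :=
  (x938_1.k7 c938_0 :)
theorem x958 : AuxS.{u} (cP4) s958 0 a958 := aux_base3 tw365 rfl b958
theorem x958_1 : AuxS.{u} (cP4) s958 0 a958_1 := x958
theorem n958 : Sound.{u} (cP4) s958 0 :=
  (x958_1.fr GamS.nil AllS.nil c958_0 :)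
theorem x959 : AuxS.{u} (cP4) s959 0 a959 := aux_base3 tw366 rfl b959
theorem x959_1 : AuxS.{u} (cP4) s959 0 a959_1 := x959
theorem n959 : Sound.{u} (cP4) s959 0 :=
  (x959_1.fr GamS.nil AllS.nil c959_0 :)
theorem x960 : AuxS.{u} (cP4) s960 0 a960 := aux_base3 tw367 rfl b960
theorem n960 : Sound.{u} (cP4) s960 0 :=
  (x960.k4 c960_0 :)
theorem x961 : AuxS.{u} (cP4) s961 0 a961 := aux_base3 tw368 rfl b961
theorem n961 : Sound.{u} (cP4) s961 0 :=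
  (x961.k4 c961_0 :)
theorem x966 : AuxS.{u} (cP4) s966 0 a966 := aux_base3 tw369 rfl b966
theorem x966_1 : AuxS.{u} (cP4) s966 0 a966_1 := (AuxS.up x966 c966_4 :)
theorem n966 : Sound.{u} (cP4) s966 0 :=
  (x966_1.spl c966_0 (AllM.cons ((x966_1.lam 0).tp c966_1 :) (AllM.cons ((x966_1.lam 1153).recog c966_2 :) AllM.nil)) ((x966_1.weaken 1).ext2 (fun _ => rfl) GamS.nil AllS.nil c966_3 (Phs.fin (ct := ct966_3) rfl) (Phs.fin (ct := ct966_3) rfl)) :)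
theorem x967 : AuxS.{u} (cP4) s967 0 a967 := aux_base3 tw369 rfl b967
theorem n967 : Sound.{u} (cP4) s967 0 :=
  (x967.k4 c967_0 :)
theorem x968 : AuxS.{u} (cP4) s968 0 a968 := aux_base3 tw369 rfl b968
theorem n968 : Sound.{u} (cP4) s968 0 :=
  (x968.k4 c968_0 :)
theorem x969 : AuxS.{u} (cP4) s969 0 a969 := aux_base3 tw369 rfl b969
theorem n969 : Sound.{u} (cP4) s969 0 :=
  (x969.k4 c969_0 :)
theorem x970 : AuxS.{u} (cP4) s970 0 a970 := aux_base3 tw369 rfl b970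
theorem n970 : Sound.{u} (cP4) s970 0 :=
  (x970.k4 c970_0 :)
theorem x971 : AuxS.{u} (cP4) s971 0 a971 := aux_base3 tw369 rfl b971
theorem n971 : Sound.{u} (cP4) s971 0 :=
  (x971.k4 c971_0 :)
theorem x972 : AuxS.{u} (cP4) s972 0 a972 := aux_base3 tw369 rfl b972
theorem n972 : Sound.{u} (cP4) s972 0 :=
  (x972.k4 c972_0 :)
theorem x973 : AuxS.{u} (cP4) s973 0 a973 := aux_base3 tw369 rfl b973
theorem n973 : Sound.{u} (cP4) s973 0 :=
  (x973.k4 c973_0 :)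
theorem x974 : AuxS.{u} (cP4) s974 0 a974 := aux_base3 tw369 rfl b974
theorem n974 : Sound.{u} (cP4) s974 0 :=
  (x974.k4 c974_0 :)
theorem x975 : AuxS.{u} (cP4) s975 0 a975 := aux_base3 tw369 rfl b975
theorem n975 : Sound.{u} (cP4) s975 0 :=
  (x975.k4 c975_0 :)
theorem x976 : AuxS.{u} (cP4) s976 0 a976 := aux_base3 tw369 rfl b976
theorem n976 : Sound.{u} (cP4) s976 0 :=
  (x976.k4 c976_0 :)
theorem x977 : AuxS.{u} (cP4) s977 0 a977 := aux_base3 tw369 rfl b977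
theorem n977 : Sound.{u} (cP4) s977 0 :=
  (x977.k4 c977_0 :)
theorem x978 : AuxS.{u} (cP4) s978 0 a978 := aux_base3 tw369 rfl b978
theorem x978_1 : AuxS.{u} (cP4) s978 0 a978_1 := (AuxS.up x978 c978_4 :)
theorem n978 : Sound.{u} (cP4) s978 0 :=
  (x978_1.spl c978_0 (AllM.cons ((x978_1.lam 0).tp c978_1 :) (AllM.cons ((x978_1.lam 1153).recog c978_2 :) AllM.nil)) ((x978_1.weaken 1).ext2 (fun _ => rfl) GamS.nil AllS.nil c978_3 (Phs.fin (ct := ct978_3) rfl) (Phs.fin (ct := ct978_3) rfl)) :)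
theorem x979 : AuxS.{u} (cP4) s979 0 a979 := aux_base3 tw369 rfl b979
theorem n979 : Sound.{u} (cP4) s979 0 :=
  (x979.k4 c979_0 :)
theorem x980 : AuxS.{u} (cP4) s980 0 a980 := aux_base3 tw369 rfl b980
theorem n980 : Sound.{u} (cP4) s980 0 :=
  (x980.k4 c980_0 :)
theorem x981 : AuxS.{u} (cP4) s981 0 a981 := aux_base3 tw369 rfl b981
theorem n981 : Sound.{u} (cP4) s981 0 :=
  (x981.k4 c981_0 :)
theorem x982 : AuxS.{u} (cP4) s982 0 a982 := aux_base3 tw369 rfl b982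
theorem n982 : Sound.{u} (cP4) s982 0 :=
  (x982.k4 c982_0 :)
theorem x983 : AuxS.{u} (cP4) s983 0 a983 := aux_base3 tw369 rfl b983
theorem n983 : Sound.{u} (cP4) s983 0 :=
  (x983.k4 c983_0 :)
theorem x984 : AuxS.{u} (cP4) s984 0 a984 := aux_base3 tw369 rfl b984
theorem n984 : Sound.{u} (cP4) s984 0 :=
  (x984.k4 c984_0 :)
theorem x985 : AuxS.{u} (cP4) s985 0 a985 := aux_base3 tw369 rfl b985
theorem n985 : Sound.{u} (cP4) s985 0 :=
  (x985.k4 c985_0 :)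
theorem x986 : AuxS.{u} (cP4) s986 0 a986 := aux_base3 tw369 rfl b986
theorem n986 : Sound.{u} (cP4) s986 0 :=
  (x986.k4 c986_0 :)
theorem x987 : AuxS.{u} (cP4) s987 0 a987 := aux_base3 tw369 rfl b987
theorem n987 : Sound.{u} (cP4) s987 0 :=
  (x987.k4 c987_0 :)
theorem x988 : AuxS.{u} (cP4) s988 0 a988 := aux_base3 tw369 rfl b988
theorem n988 : Sound.{u} (cP4) s988 0 :=
  (x988.k4 c988_0 :)
theorem x989 : AuxS.{u} (cP4) s989 0 a989 := aux_base3 tw369 rfl b989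
theorem n989 : Sound.{u} (cP4) s989 0 :=
  (x989.k4 c989_0 :)
theorem x990 : AuxS.{u} (cP4) s990 0 a990 := aux_base3 tw369 rfl b990
theorem n990 : Sound.{u} (cP4) s990 0 :=
  (x990.k4 c990_0 :)
theorem x991 : AuxS.{u} (cP4) s991 0 a991 := aux_base3 tw369 rfl b991
theorem n991 : Sound.{u} (cP4) s991 0 :=
  (x991.k4 c991_0 :)
theorem x992 : AuxS.{u} (cP4) s992 0 a992 := aux_base3 tw369 rfl b992
theorem n992 : Sound.{u} (cP4) s992 0 :=
  (x992.k4 c992_0 :)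
theorem x993 : AuxS.{u} (cP4) s993 0 a993 := aux_base3 tw369 rfl b993
theorem n993 : Sound.{u} (cP4) s993 0 :=
  (x993.k4 c993_0 :)
theorem x994 : AuxS.{u} (cP4) s994 0 a994 := aux_base3 tw369 rfl b994
theorem n994 : Sound.{u} (cP4) s994 0 :=
  (x994.k4 c994_0 :)
theorem x995 : AuxS.{u} (cP4) s995 0 a995 := aux_base3 tw369 rfl b995
theorem n995 : Sound.{u} (cP4) s995 0 :=
  (x995.k4 c995_0 :)
theorem x996 : AuxS.{u} (cP4) s996 0 a996 := aux_base3 tw369 rfl b996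
theorem n996 : Sound.{u} (cP4) s996 0 :=
  (x996.k4 c996_0 :)
theorem x997 : AuxS.{u} (cP4) s997 0 a997 := aux_base3 tw369 rfl b997
theorem n997 : Sound.{u} (cP4) s997 0 :=
  (x997.k4 c997_0 :)
theorem x962 : AuxS.{u} (cP4) s962 0 a962 := aux_base3 tw369 rfl b962
theorem x962_1 : AuxS.{u} (cP4) s962 0 a962_1 := x962
theorem n962 : Sound.{u} (cP4) s962 0 :=
  (x962_1.fr (AuxS.gam x962_1 c962_0) (AllS.cons n966 (AllS.cons n967 (AllS.cons n968 (AllS.cons n969 (AllS.cons n970 (AllS.cons n971 (AllS.cons n972 (AllS.cons n973 (AllS.cons n974 (AllS.cons n975 (AllS.cons n976 (AllS.cons n977 (AllS.cons n978 (AllS.cons n979 (AllS.cons n980 (AllS.cons n981 (AllS.cons n982 (AllS.cons n983 (AllS.cons n984 (AllS.cons n985 (AllS.cons n986 (AllS.cons n987 (AllS.cons n988 (AllS.cons n989 (AllS.cons n990 (AllS.cons n991 (AllS.cons n992 (AllS.cons n993 (AllS.cons n994 (AllS.cons n995 (AllS.cons n996 (AllS.cons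 n997 AllS.nil)))))))))))))))))))))))))))))))) c962_1 :)
theorem x963 : AuxS.{u} (cP4) s963 0 a963 := aux_base3 tw370 rfl b963
theorem x963_1 : AuxS.{u} (cP4) s963 0 a963_1 := x963
theorem n963 : Sound.{u} (cP4) s963 0 :=
  (x963_1.fr GamS.nil AllS.nil c963_0 :)
theorem x964 : AuxS.{u} (cP4) s964 0 a964 := aux_base3 tw371 rfl b964
theorem n964 : Sound.{u} (cP4) s964 0 :=
  (x964.k4 c964_0 :)
theorem x965 : AuxS.{u} (cP4) s965 0 a965 := aux_base3 tw372 rfl b965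
theorem n965 : Sound.{u} (cP4) s965 0 :=
  (x965.k4 c965_0 :)
theorem x956 : AuxS.{u} (cP4) s956 0 a956 := aux_base3 tw364 rfl b956
theorem x956_1 : AuxS.{u} (cP4) s956 0 a956_1 := (AuxS.up x956 c956_6 :)
theorem p956_1_1 : Phs s956 a956_1 [] [s958, s959, s960, s961, s962, s963, s964, s965] ct956_1 v956_1 5 w956_1_1 := (Phs.fin c956_1)
theorem p956_1_3 : Phs s956 a956_1 [] [s958, s959, s960, s961, s962, s963, s964, s965] ct956_1 v956_1 4 w956_1_3 := (Phs.stp c956_2 p956_1_1)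
theorem p956_1_5 : Phs s956 a956_1 [] [s958, s959, s960, s961, s962, s963, s964, s965] ct956_1 v956_1 1 w956_1_5 := (Phs.stp c956_3 p956_1_3)
theorem n956 : Sound.{u} (cP4) s956 0 :=
  (x956_1.par c956_0 ((x956_1.weaken 1).ext2 (fun _ => rfl) GamS.nil (AllS.cons n958 (AllS.cons n959 (AllS.cons n960 (AllS.cons n961 (AllS.cons n962 (AllS.cons n963 (AllS.cons n964 (AllS.cons n965 AllS.nil)))))))) c956_5 (Phs.stp c956_4 p956_1_5) (Phs.fin (ct := ct956_1) rfl)) :)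
theorem x957 : AuxS.{u} (cP4) s957 0 a957 := aux_base3 tw364 rfl b957
theorem n957 : Sound.{u} (cP4) s957 0 :=
  (x957.k4 c957_0 :)
theorem x954 : AuxS.{u} (cP4) s954 0 a954 := aux_base3 tw364 rfl b954
theorem x954_1 : AuxS.{u} (cP4) s954 0 a954_1 := x954
theorem n954 : Sound.{u} (cP4) s954 0 :=
  (x954_1.fr GamS.nil (AllS.cons n956 (AllS.cons n957 AllS.nil)) c954_0 :)
theorem x955 : AuxS.{u} (cP4) s955 0 a955 := aux_base3 tw364 rfl b955
theorem n955 : Sound.{u} (cP4) s955 0 :=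
  (x955.k4 c955_0 :)
theorem x953 : AuxS.{u} (cP4) s953 0 a953 := aux_base3 tw364 rfl b953
theorem x953_1 : AuxS.{u} (cP4) s953 0 a953_1 := x953
theorem n953 : Sound.{u} (cP4) s953 0 :=
  (x953_1.fr GamS.nil (AllS.cons n954 (AllS.cons n955 AllS.nil)) c953_0 :)
theorem x939 : AuxS.{u} (cP4) s939 0 a939 := aux_base3 tw350 rfl b939
theorem x939_1 : AuxS.{u} (cP4) s939 0 a939_1 := x939
theorem n939 : Sound.{u} (cP4) s939 0 :=
  (x939_1.fr2 (AuxS.gam x939_1 c939_0) (AllS.cons n953 AllS.nil) c939_1 :)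
theorem x940 : AuxS.{u} (cP4) s940 0 a940 := aux_base3 tw351 rfl b940
theorem x940_1 : AuxS.{u} (cP4) s940 0 a940_1 := x940
theorem n940 : Sound.{u} (cP4) s940 0 :=
  (x940_1.fr2 GamS.nil AllS.nil c940_0 :)
theorem x941 : AuxS.{u} (cP4) s941 0 a941 := aux_base3 tw352 rfl b941
theorem n941 : Sound.{u} (cP4) s941 0 :=
  (x941.k4 c941_0 :)
theorem x942 : AuxS.{u} (cP4) s942 0 a942 := aux_base3 tw353 rfl b942
theorem n942 : Sound.{u} (cP4) s942 0 :=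
  (x942.k4 c942_0 :)
theorem x943 : AuxS.{u} (cP4) s943 0 a943 := aux_base3 tw354 rfl b943
theorem n943 : Sound.{u} (cP4) s943 0 :=
  (x943.k4 c943_0 :)
theorem x944 : AuxS.{u} (cP4) s944 0 a944 := aux_base3 tw355 rfl b944
theorem n944 : Sound.{u} (cP4) s944 0 :=
  (x944.k4 c944_0 :)
theorem x945 : AuxS.{u} (cP4) s945 0 a945 := aux_base3 tw356 rfl b945
theorem n945 : Sound.{u} (cP4) s945 0 :=
  (x945.k4 c945_0 :)
theorem x946 : AuxS.{u} (cP4) s946 0 a946 := aux_base3 tw357 rfl b946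
theorem n946 : Sound.{u} (cP4) s946 0 :=
  (x946.k4 c946_0 :)
theorem x947 : AuxS.{u} (cP4) s947 0 a947 := aux_base3 tw358 rfl b947
theorem n947 : Sound.{u} (cP4) s947 0 :=
  (x947.k4 c947_0 :)
theorem x948 : AuxS.{u} (cP4) s948 0 a948 := aux_base3 tw359 rfl b948
theorem n948 : Sound.{u} (cP4) s948 0 :=
  (x948.k4 c948_0 :)
theorem x949 : AuxS.{u} (cP4) s949 0 a949 := aux_base3 tw360 rfl b949
theorem x949_1 : AuxS.{u} (cP4) s949 0 a949_1 := x949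
theorem x949_2 : AuxS.{u} (cP4) s949 0 a949_2 := x949_1
theorem n949 : Sound.{u} (cP4) s949 0 :=
  (x949_2.fr2 GamS.nil AllS.nil c949_0 :)
theorem x950 : AuxS.{u} (cP4) s950 0 a950 := aux_base3 tw361 rfl b950
theorem x950_1 : AuxS.{u} (cP4) s950 0 a950_1 := x950
theorem n950 : Sound.{u} (cP4) s950 0 :=
  (x950_1.fr2 GamS.nil AllS.nil c950_0 :)
theorem x951 : AuxS.{u} (cP4) s951 0 a951 := aux_base3 tw362 rfl b951
theorem x951_1 : AuxS.{u} (cP4) s951 0 a951_1 := (AuxS.up x951 c951_1 :)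
theorem n951 : Sound.{u} (cP4) s951 0 :=
  (x951_1.k7 c951_0 :)
theorem x952 : AuxS.{u} (cP4) s952 0 a952 := aux_base3 tw363 rfl b952
theorem x952_1 : AuxS.{u} (cP4) s952 0 a952_1 := (AuxS.up x952 c952_1 :)
theorem n952 : Sound.{u} (cP4) s952 0 :=
  (x952_1.k7 c952_0 :)
theorem x877 : AuxS.{u} (cP4) s877 0 a877 := aux_base3 tw339 rfl b877
theorem x877_1 : AuxS.{u} (cP4) s877 0 a877_1 := x877
theorem n877 : Sound.{u} (cP4) s877 0 :=
  (x877_1.fr2 GamS.nil (AllS.cons n937 (AllS.cons n938 (AllS.cons n939 (AllS.cons n940 (AllS.cons n941 (AllS.cons n942 (AllS.cons n943 (AllS.cons n944 (AllS.cons n945 (AllS.cons n946 (AllS.cons n947 (AllS.cons n948 (AllS.cons n949 (AllS.cons n950 (AllS.cons n951 (AllS.cons n952 AllS.nil)))))))))))))))) c877_0 :)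
theorem x878 : AuxS.{u} (cP4) s878 0 a878 := aux_base3 tw339 rfl b878
theorem n878 : Sound.{u} (cP4) s878 0 :=
  (x878.k4 c878_0 :)
theorem x879 : AuxS.{u} (cP4) s879 0 a879 := aux_base3 tw339 rfl b879
theorem n879 : Sound.{u} (cP4) s879 0 :=
  (x879.k4 c879_0 :)
theorem x880 : AuxS.{u} (cP4) s880 0 a880 := aux_base3 tw339 rfl b880
theorem n880 : Sound.{u} (cP4) s880 0 :=
  (x880.k4 c880_0 :)
theorem x881 : AuxS.{u} (cP4) s881 0 a881 := aux_base3 tw339 rfl b881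
theorem n881 : Sound.{u} (cP4) s881 0 :=
  (x881.k4 c881_0 :)
theorem x882 : AuxS.{u} (cP4) s882 0 a882 := aux_base3 tw339 rfl b882
theorem n882 : Sound.{u} (cP4) s882 0 :=
  (x882.k4 c882_0 :)
theorem x883 : AuxS.{u} (cP4) s883 0 a883 := aux_base3 tw339 rfl b883
theorem n883 : Sound.{u} (cP4) s883 0 :=
  (x883.k4 c883_0 :)
theorem x884 : AuxS.{u} (cP4) s884 0 a884 := aux_base3 tw339 rfl b884
theorem n884 : Sound.{u} (cP4) s884 0 :=
  (x884.k4 c884_0 :)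
theorem x885 : AuxS.{u} (cP4) s885 0 a885 := aux_base3 tw339 rfl b885
theorem n885 : Sound.{u} (cP4) s885 0 :=
  (x885.k4 c885_0 :)
theorem x886 : AuxS.{u} (cP4) s886 0 a886 := aux_base3 tw339 rfl b886
theorem n886 : Sound.{u} (cP4) s886 0 :=
  (x886.k4 c886_0 :)
theorem x887 : AuxS.{u} (cP4) s887 0 a887 := aux_base3 tw339 rfl b887
theorem n887 : Sound.{u} (cP4) s887 0 :=
  (x887.k4 c887_0 :)
theorem x888 : AuxS.{u} (cP4) s888 0 a888 := aux_base3 tw339 rfl b888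
theorem n888 : Sound.{u} (cP4) s888 0 :=
  (x888.k4 c888_0 :)
theorem x889 : AuxS.{u} (cP4) s889 0 a889 := aux_base3 tw339 rfl b889
theorem n889 : Sound.{u} (cP4) s889 0 :=
  (x889.k4 c889_0 :)
theorem x890 : AuxS.{u} (cP4) s890 0 a890 := aux_base3 tw339 rfl b890
theorem n890 : Sound.{u} (cP4) s890 0 :=
  (x890.k4 c890_0 :)
theorem x891 : AuxS.{u} (cP4) s891 0 a891 := aux_base3 tw339 rfl b891
theorem n891 : Sound.{u} (cP4) s891 0 :=
  (x891.k4 c891_0 :)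
theorem x892 : AuxS.{u} (cP4) s892 0 a892 := aux_base3 tw339 rfl b892
theorem n892 : Sound.{u} (cP4) s892 0 :=
  (x892.k4 c892_0 :)
theorem x893 : AuxS.{u} (cP4) s893 0 a893 := aux_base3 tw339 rfl b893
theorem n893 : Sound.{u} (cP4) s893 0 :=
  (x893.k4 c893_0 :)
theorem x894 : AuxS.{u} (cP4) s894 0 a894 := aux_base3 tw339 rfl b894
theorem n894 : Sound.{u} (cP4) s894 0 :=
  (x894.k4 c894_0 :)
theorem x895 : AuxS.{u} (cP4) s895 0 a895 := aux_base3 tw339 rfl b895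
theorem n895 : Sound.{u} (cP4) s895 0 :=
  (x895.k4 c895_0 :)
theorem x896 : AuxS.{u} (cP4) s896 0 a896 := aux_base3 tw339 rfl b896
theorem n896 : Sound.{u} (cP4) s896 0 :=
  (x896.k4 c896_0 :)
theorem x897 : AuxS.{u} (cP4) s897 0 a897 := aux_base3 tw339 rfl b897
theorem n897 : Sound.{u} (cP4) s897 0 :=
  (x897.k4 c897_0 :)
theorem x898 : AuxS.{u} (cP4) s898 0 a898 := aux_base3 tw339 rfl b898
theorem n898 : Sound.{u} (cP4) s898 0 :=
  (x898.k4 c898_0 :)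
theorem x899 : AuxS.{u} (cP4) s899 0 a899 := aux_base3 tw339 rfl b899
theorem n899 : Sound.{u} (cP4) s899 0 :=
  (x899.k4 c899_0 :)
theorem x900 : AuxS.{u} (cP4) s900 0 a900 := aux_base3 tw339 rfl b900
theorem n900 : Sound.{u} (cP4) s900 0 :=
  (x900.k4 c900_0 :)
theorem x901 : AuxS.{u} (cP4) s901 0 a901 := aux_base3 tw339 rfl b901
theorem n901 : Sound.{u} (cP4) s901 0 :=
  (x901.k4 c901_0 :)
theorem x902 : AuxS.{u} (cP4) s902 0 a902 := aux_base3 tw339 rfl b902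
theorem n902 : Sound.{u} (cP4) s902 0 :=
  (x902.k4 c902_0 :)
theorem x903 : AuxS.{u} (cP4) s903 0 a903 := aux_base3 tw339 rfl b903
theorem n903 : Sound.{u} (cP4) s903 0 :=
  (x903.k4 c903_0 :)
theorem x904 : AuxS.{u} (cP4) s904 0 a904 := aux_base3 tw339 rfl b904
theorem n904 : Sound.{u} (cP4) s904 0 :=
  (x904.k4 c904_0 :)
theorem x905 : AuxS.{u} (cP4) s905 0 a905 := aux_base3 tw339 rfl b905
theorem n905 : Sound.{u} (cP4) s905 0 :=
  (x905.k4 c905_0 :)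
theorem x906 : AuxS.{u} (cP4) s906 0 a906 := aux_base3 tw339 rfl b906
theorem n906 : Sound.{u} (cP4) s906 0 :=
  (x906.k4 c906_0 :)
theorem x907 : AuxS.{u} (cP4) s907 0 a907 := aux_base3 tw339 rfl b907
theorem n907 : Sound.{u} (cP4) s907 0 :=
  (x907.k4 c907_0 :)
theorem x908 : AuxS.{u} (cP4) s908 0 a908 := aux_base3 tw339 rfl b908
theorem n908 : Sound.{u} (cP4) s908 0 :=
  (x908.k4 c908_0 :)
theorem x909 : AuxS.{u} (cP4) s909 0 a909 := aux_base3 tw339 rfl b909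
theorem n909 : Sound.{u} (cP4) s909 0 :=
  (x909.k4 c909_0 :)
theorem x910 : AuxS.{u} (cP4) s910 0 a910 := aux_base3 tw339 rfl b910
theorem n910 : Sound.{u} (cP4) s910 0 :=
  (x910.k4 c910_0 :)
theorem x911 : AuxS.{u} (cP4) s911 0 a911 := aux_base3 tw339 rfl b911
theorem n911 : Sound.{u} (cP4) s911 0 :=
  (x911.k4 c911_0 :)
theorem x912 : AuxS.{u} (cP4) s912 0 a912 := aux_base3 tw339 rfl b912
theorem n912 : Sound.{u} (cP4) s912 0 :=
  (x912.k4 c912_0 :)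
theorem x913 : AuxS.{u} (cP4) s913 0 a913 := aux_base3 tw339 rfl b913
theorem n913 : Sound.{u} (cP4) s913 0 :=
  (x913.k4 c913_0 :)
theorem x914 : AuxS.{u} (cP4) s914 0 a914 := aux_base3 tw339 rfl b914
theorem n914 : Sound.{u} (cP4) s914 0 :=
  (x914.k4 c914_0 :)
theorem x915 : AuxS.{u} (cP4) s915 0 a915 := aux_base3 tw339 rfl b915
theorem n915 : Sound.{u} (cP4) s915 0 :=
  (x915.k4 c915_0 :)
theorem x916 : AuxS.{u} (cP4) s916 0 a916 := aux_base3 tw339 rfl b916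
theorem n916 : Sound.{u} (cP4) s916 0 :=
  (x916.k4 c916_0 :)
theorem x998 : AuxS.{u} (cP4) s998 0 a998 := aux_base3 tw373 rfl b998
theorem n998 : Sound.{u} (cP4) s998 0 :=
  (x998.k4 c998_0 :)
theorem x999 : AuxS.{u} (cP4) s999 0 a999 := aux_base3 tw374 rfl b999
theorem n999 : Sound.{u} (cP4) s999 0 :=
  (x999.k4 c999_0 :)
theorem x1000 : AuxS.{u} (cP4) s1000 0 a1000 := aux_base3 tw375 rfl b1000
theorem n1000 : Sound.{u} (cP4) s1000 0 :=
  (x1000.k4 c1000_0 :)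
theorem x1001 : AuxS.{u} (cP4) s1001 0 a1001 := aux_base3 tw376 rfl b1001
theorem n1001 : Sound.{u} (cP4) s1001 0 :=
  (x1001.k4 c1001_0 :)
theorem x1002 : AuxS.{u} (cP4) s1002 0 a1002 := aux_base3 tw377 rfl b1002
theorem x1002_1 : AuxS.{u} (cP4) s1002 0 a1002_1 := (AuxS.up x1002 c1002_1 :)
theorem n1002 : Sound.{u} (cP4) s1002 0 :=
  (x1002_1.k7 c1002_0 :)
theorem x1003 : AuxS.{u} (cP4) s1003 0 a1003 := aux_base3 tw378 rfl b1003
theorem x1003_1 : AuxS.{u} (cP4) s1003 0 a1003_1 := (AuxS.up x1003 c1003_1 :)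
theorem n1003 : Sound.{u} (cP4) s1003 0 :=
  (x1003_1.k7 c1003_0 :)
theorem x1004 : AuxS.{u} (cP4) s1004 0 a1004 := aux_base3 tw379 rfl b1004
theorem x1004_1 : AuxS.{u} (cP4) s1004 0 a1004_1 := x1004
theorem n1004 : Sound.{u} (cP4) s1004 0 :=
  (x1004_1.fr2 GamS.nil AllS.nil c1004_0 :)
theorem x1005 : AuxS.{u} (cP4) s1005 0 a1005 := aux_base3 tw380 rfl b1005
theorem x1005_1 : AuxS.{u} (cP4) s1005 0 a1005_1 := x1005
theorem n1005 : Sound.{u} (cP4) s1005 0 :=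
  (x1005_1.fr2 GamS.nil AllS.nil c1005_0 :)
theorem x1019 : AuxS.{u} (cP4) s1019 0 a1019 := aux_base3 tw390 rfl b1019
theorem n1019 : Sound.{u} (cP4) s1019 0 :=
  (x1019.k4 c1019_0 :)
theorem x1020 : AuxS.{u} (cP4) s1020 0 a1020 := aux_base3 tw391 rfl b1020
theorem n1020 : Sound.{u} (cP4) s1020 0 :=
  (x1020.k4 c1020_0 :)
theorem x1021 : AuxS.{u} (cP4) s1021 0 a1021 := aux_base3 tw392 rfl b1021
theorem x1021_1 : AuxS.{u} (cP4) s1021 0 a1021_1 := x1021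
theorem n1021 : Sound.{u} (cP4) s1021 0 :=
  (x1021_1.fr GamS.nil AllS.nil c1021_0 :)
theorem x1027 : AuxS.{u} (cP4) s1027 0 a1027 := aux_base3 tw393 rfl b1027
theorem n1027 : Sound.{u} (cP4) s1027 0 :=
  (x1027.k4 c1027_0 :)
theorem x1028 : AuxS.{u} (cP4) s1028 0 a1028 := aux_base3 tw393 rfl b1028
theorem n1028 : Sound.{u} (cP4) s1028 0 :=
  (x1028.k4 c1028_0 :)
theorem x1029 : AuxS.{u} (cP4) s1029 0 a1029 := aux_base3 tw393 rfl b1029
theorem n1029 : Sound.{u} (cP4) s1029 0 :=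
  (x1029.k4 c1029_0 :)
theorem x1030 : AuxS.{u} (cP4) s1030 0 a1030 := aux_base3 tw393 rfl b1030
theorem n1030 : Sound.{u} (cP4) s1030 0 :=
  (x1030.k4 c1030_0 :)
theorem x1031 : AuxS.{u} (cP4) s1031 0 a1031 := aux_base3 tw393 rfl b1031
theorem n1031 : Sound.{u} (cP4) s1031 0 :=
  (x1031.k4 c1031_0 :)
theorem x1032 : AuxS.{u} (cP4) s1032 0 a1032 := aux_base3 tw393 rfl b1032
theorem n1032 : Sound.{u} (cP4) s1032 0 :=
  (x1032.k4 c1032_0 :)
theorem x1033 : AuxS.{u} (cP4) s1033 0 a1033 := aux_base3 tw393 rfl b1033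
theorem n1033 : Sound.{u} (cP4) s1033 0 :=
  (x1033.k4 c1033_0 :)
theorem x1034 : AuxS.{u} (cP4) s1034 0 a1034 := aux_base3 tw393 rfl b1034
theorem n1034 : Sound.{u} (cP4) s1034 0 :=
  (x1034.k4 c1034_0 :)
theorem x1035 : AuxS.{u} (cP4) s1035 0 a1035 := aux_base3 tw393 rfl b1035
theorem n1035 : Sound.{u} (cP4) s1035 0 :=
  (x1035.k4 c1035_0 :)
theorem x1036 : AuxS.{u} (cP4) s1036 0 a1036 := aux_base3 tw393 rfl b1036
theorem n1036 : Sound.{u} (cP4) s1036 0 :=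
  (x1036.k4 c1036_0 :)
theorem x1037 : AuxS.{u} (cP4) s1037 0 a1037 := aux_base3 tw393 rfl b1037
theorem n1037 : Sound.{u} (cP4) s1037 0 :=
  (x1037.k4 c1037_0 :)
theorem x1038 : AuxS.{u} (cP4) s1038 0 a1038 := aux_base3 tw393 rfl b1038
theorem n1038 : Sound.{u} (cP4) s1038 0 :=
  (x1038.k4 c1038_0 :)
theorem x1039 : AuxS.{u} (cP4) s1039 0 a1039 := aux_base3 tw393 rfl b1039
theorem n1039 : Sound.{u} (cP4) s1039 0 :=
  (x1039.k4 c1039_0 :)
theorem x1040 : AuxS.{u} (cP4) s1040 0 a1040 := aux_base3 tw393 rfl b1040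
theorem n1040 : Sound.{u} (cP4) s1040 0 :=
  (x1040.k4 c1040_0 :)
theorem x1041 : AuxS.{u} (cP4) s1041 0 a1041 := aux_base3 tw393 rfl b1041
theorem n1041 : Sound.{u} (cP4) s1041 0 :=
  (x1041.k4 c1041_0 :)
theorem x1042 : AuxS.{u} (cP4) s1042 0 a1042 := aux_base3 tw393 rfl b1042
theorem n1042 : Sound.{u} (cP4) s1042 0 :=
  (x1042.k4 c1042_0 :)
theorem x1043 : AuxS.{u} (cP4) s1043 0 a1043 := aux_base3 tw393 rfl b1043
theorem n1043 : Sound.{u} (cP4) s1043 0 :=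
  (x1043.k4 c1043_0 :)
theorem x1044 : AuxS.{u} (cP4) s1044 0 a1044 := aux_base3 tw393 rfl b1044
theorem n1044 : Sound.{u} (cP4) s1044 0 :=
  (x1044.k4 c1044_0 :)
theorem x1045 : AuxS.{u} (cP4) s1045 0 a1045 := aux_base3 tw393 rfl b1045
theorem n1045 : Sound.{u} (cP4) s1045 0 :=
  (x1045.k4 c1045_0 :)
theorem x1046 : AuxS.{u} (cP4) s1046 0 a1046 := aux_base3 tw393 rfl b1046
theorem n1046 : Sound.{u} (cP4) s1046 0 :=
  (x1046.k4 c1046_0 :)
theorem x1047 : AuxS.{u} (cP4) s1047 0 a1047 := aux_base3 tw393 rfl b1047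
theorem n1047 : Sound.{u} (cP4) s1047 0 :=
  (x1047.k4 c1047_0 :)
theorem x1048 : AuxS.{u} (cP4) s1048 0 a1048 := aux_base3 tw393 rfl b1048
theorem n1048 : Sound.{u} (cP4) s1048 0 :=
  (x1048.k4 c1048_0 :)
theorem x1049 : AuxS.{u} (cP4) s1049 0 a1049 := aux_base3 tw393 rfl b1049
theorem x1049_1 : AuxS.{u} (cP4) s1049 0 a1049_1 := (AuxS.up x1049 c1049_4 :)
theorem n1049 : Sound.{u} (cP4) s1049 0 :=
  (x1049_1.spl c1049_0 (AllM.cons ((x1049_1.lam 0).tp c1049_1 :) (AllM.cons ((x1049_1.lam 129).recog c1049_2 :) AllM.nil)) ((x1049_1.weaken 1).ext2 (fun _ => rfl) GamS.nil AllS.nil c1049_3 (Phs.fin (ct := ct1049_3) rfl) (Phs.fin (ct := ct1049_3) rfl)) :)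
theorem x1050 : AuxS.{u} (cP4) s1050 0 a1050 := aux_base3 tw393 rfl b1050
theorem n1050 : Sound.{u} (cP4) s1050 0 :=
  (x1050.k4 c1050_0 :)
theorem x1051 : AuxS.{u} (cP4) s1051 0 a1051 := aux_base3 tw393 rfl b1051
theorem n1051 : Sound.{u} (cP4) s1051 0 :=
  (x1051.k4 c1051_0 :)
theorem x1052 : AuxS.{u} (cP4) s1052 0 a1052 := aux_base3 tw393 rfl b1052
theorem n1052 : Sound.{u} (cP4) s1052 0 :=
  (x1052.k4 c1052_0 :)
theorem x1053 : AuxS.{u} (cP4) s1053 0 a1053 := aux_base3 tw393 rfl b1053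
theorem x1053_1 : AuxS.{u} (cP4) s1053 0 a1053_1 := (AuxS.up x1053 c1053_4 :)
theorem n1053 : Sound.{u} (cP4) s1053 0 :=
  (x1053_1.spl c1053_0 (AllM.cons ((x1053_1.lam 0).tp c1053_1 :) (AllM.cons ((x1053_1.lam 129).recog c1053_2 :) AllM.nil)) ((x1053_1.weaken 1).ext2 (fun _ => rfl) GamS.nil AllS.nil c1053_3 (Phs.fin (ct := ct1053_3) rfl) (Phs.fin (ct := ct1053_3) rfl)) :)
theorem x1054 : AuxS.{u} (cP4) s1054 0 a1054 := aux_base3 tw393 rfl b1054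
theorem n1054 : Sound.{u} (cP4) s1054 0 :=
  (x1054.k4 c1054_0 :)
theorem x1055 : AuxS.{u} (cP4) s1055 0 a1055 := aux_base3 tw393 rfl b1055
theorem n1055 : Sound.{u} (cP4) s1055 0 :=
  (x1055.k4 c1055_0 :)
theorem x1056 : AuxS.{u} (cP4) s1056 0 a1056 := aux_base3 tw393 rfl b1056
theorem n1056 : Sound.{u} (cP4) s1056 0 :=
  (x1056.k4 c1056_0 :)
theorem x1057 : AuxS.{u} (cP4) s1057 0 a1057 := aux_base3 tw393 rfl b1057
theorem n1057 : Sound.{u} (cP4) s1057 0 :=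
  (x1057.k4 c1057_0 :)
theorem x1058 : AuxS.{u} (cP4) s1058 0 a1058 := aux_base3 tw393 rfl b1058
theorem n1058 : Sound.{u} (cP4) s1058 0 :=
  (x1058.k4 c1058_0 :)
theorem x1022 : AuxS.{u} (cP4) s1022 0 a1022 := aux_base3 tw393 rfl b1022
theorem x1022_1 : AuxS.{u} (cP4) s1022 0 a1022_1 := x1022
theorem n1022 : Sound.{u} (cP4) s1022 0 :=
  (x1022_1.fr (AuxS.gam x1022_1 c1022_0) (AllS.cons n1027 (AllS.cons n1028 (AllS.cons n1029 (AllS.cons n1030 (AllS.cons n1031 (AllS.cons n1032 (AllS.cons n1033 (AllS.cons n1034 (AllS.cons n1035 (AllS.cons n1036 (AllS.cons n1037 (AllS.cons n1038 (AllS.cons n1039 (AllS.cons n1040 (AllS.cons n1041 (AllS.cons n1042 (AllS.cons n1043 (AllS.cons n1044 (AllS.cons n1045 (AllS.cons n1046 (AllS.cons n1047 (AllS.cons n1048 (AllS.cons n1049 (AllS.cons n1050 (AllS.cons n1051 (AllS.cons n1052 (AllS.cons n1053 (AllS.cons n1054 (AllS.cons n1055 (AllS.cons n1056 (AllS.cons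 n1057 (AllS.cons n1058 AllS.nil)))))))))))))))))))))))))))))))) c1022_1 :)
theorem x1023 : AuxS.{u} (cP4) s1023 0 a1023 := aux_base3 tw394 rfl b1023
theorem n1023 : Sound.{u} (cP4) s1023 0 :=
  (x1023.k4 c1023_0 :)
theorem x1024 : AuxS.{u} (cP4) s1024 0 a1024 := aux_base3 tw395 rfl b1024
theorem n1024 : Sound.{u} (cP4) s1024 0 :=
  (x1024.k4 c1024_0 :)
theorem x1025 : AuxS.{u} (cP4) s1025 0 a1025 := aux_base3 tw396 rfl b1025
theorem x1025_1 : AuxS.{u} (cP4) s1025 0 a1025_1 := x1025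
theorem n1025 : Sound.{u} (cP4) s1025 0 :=
  (x1025_1.fr GamS.nil AllS.nil c1025_0 :)
theorem x1026 : AuxS.{u} (cP4) s1026 0 a1026 := aux_base3 tw397 rfl b1026
theorem x1026_1 : AuxS.{u} (cP4) s1026 0 a1026_1 := x1026
theorem n1026 : Sound.{u} (cP4) s1026 0 :=
  (x1026_1.fr GamS.nil AllS.nil c1026_0 :)
theorem x1017 : AuxS.{u} (cP4) s1017 0 a1017 := aux_base3 tw389 rfl b1017
theorem x1017_1 : AuxS.{u} (cP4) s1017 0 a1017_1 := (AuxS.up x1017 c1017_6 :)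
theorem p1017_1_1 : Phs s1017 a1017_1 [] [s1019, s1020, s1021, s1022, s1023, s1024, s1025, s1026] ct1017_1 v1017_1 5 w1017_1_1 := (Phs.fin c1017_1)
theorem p1017_1_3 : Phs s1017 a1017_1 [] [s1019, s1020, s1021, s1022, s1023, s1024, s1025, s1026] ct1017_1 v1017_1 4 w1017_1_3 := (Phs.stp c1017_2 p1017_1_1)
theorem p1017_1_5 : Phs s1017 a1017_1 [] [s1019, s1020, s1021, s1022, s1023, s1024, s1025, s1026] ct1017_1 v1017_1 1 w1017_1_5 := (Phs.stp c1017_3 p1017_1_3)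
theorem n1017 : Sound.{u} (cP4) s1017 0 :=
  (x1017_1.par c1017_0 ((x1017_1.weaken 1).ext2 (fun _ => rfl) GamS.nil (AllS.cons n1019 (AllS.cons n1020 (AllS.cons n1021 (AllS.cons n1022 (AllS.cons n1023 (AllS.cons n1024 (AllS.cons n1025 (AllS.cons n1026 AllS.nil)))))))) c1017_5 (Phs.stp c1017_4 p1017_1_5) (Phs.fin (ct := ct1017_1) rfl)) :)
theorem x1018 : AuxS.{u} (cP4) s1018 0 a1018 := aux_base3 tw389 rfl b1018
theorem n1018 : Sound.{u} (cP4) s1018 0 :=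
  (x1018.k4 c1018_0 :)
theorem x1015 : AuxS.{u} (cP4) s1015 0 a1015 := aux_base3 tw389 rfl b1015
theorem x1015_1 : AuxS.{u} (cP4) s1015 0 a1015_1 := x1015
theorem n1015 : Sound.{u} (cP4) s1015 0 :=
  (x1015_1.fr GamS.nil (AllS.cons n1017 (AllS.cons n1018 AllS.nil)) c1015_0 :)
theorem x1016 : AuxS.{u} (cP4) s1016 0 a1016 := aux_base3 tw389 rfl b1016
theorem n1016 : Sound.{u} (cP4) s1016 0 :=
  (x1016.k4 c1016_0 :)
theorem x1014 : AuxS.{u} (cP4) s1014 0 a1014 := aux_base3 tw389 rfl b1014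
theorem x1014_1 : AuxS.{u} (cP4) s1014 0 a1014_1 := x1014
theorem n1014 : Sound.{u} (cP4) s1014 0 :=
  (x1014_1.fr GamS.nil (AllS.cons n1015 (AllS.cons n1016 AllS.nil)) c1014_0 :)
theorem x1006 : AuxS.{u} (cP4) s1006 0 a1006 := aux_base3 tw381 rfl b1006
theorem x1006_1 : AuxS.{u} (cP4) s1006 0 a1006_1 := x1006
theorem x1006_2 : AuxS.{u} (cP4) s1006 0 a1006_2 := x1006_1
theorem n1006 : Sound.{u} (cP4) s1006 0 :=
  (x1006_2.fr2 (AuxS.gam x1006_2 c1006_0) (AllS.cons n1014 AllS.nil) c1006_1 :)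
theorem x1007 : AuxS.{u} (cP4) s1007 0 a1007 := aux_base3 tw382 rfl b1007
theorem x1007_1 : AuxS.{u} (cP4) s1007 0 a1007_1 := x1007
theorem n1007 : Sound.{u} (cP4) s1007 0 :=
  (x1007_1.fr2 GamS.nil AllS.nil c1007_0 :)
theorem x1008 : AuxS.{u} (cP4) s1008 0 a1008 := aux_base3 tw383 rfl b1008
theorem x1008_1 : AuxS.{u} (cP4) s1008 0 a1008_1 := (AuxS.up x1008 c1008_1 :)
theorem n1008 : Sound.{u} (cP4) s1008 0 :=
  (x1008_1.k7 c1008_0 :)
theorem x1009 : AuxS.{u} (cP4) s1009 0 a1009 := aux_base3 tw384 rfl b1009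
theorem x1009_1 : AuxS.{u} (cP4) s1009 0 a1009_1 := (AuxS.up x1009 c1009_1 :)
theorem n1009 : Sound.{u} (cP4) s1009 0 :=
  (x1009_1.k7 c1009_0 :)
theorem x1010 : AuxS.{u} (cP4) s1010 0 a1010 := aux_base3 tw385 rfl b1010
theorem n1010 : Sound.{u} (cP4) s1010 0 :=
  (x1010.k4 c1010_0 :)
theorem x1011 : AuxS.{u} (cP4) s1011 0 a1011 := aux_base3 tw386 rfl b1011
theorem n1011 : Sound.{u} (cP4) s1011 0 :=
  (x1011.k4 c1011_0 :)
theorem x1012 : AuxS.{u} (cP4) s1012 0 a1012 := aux_base3 tw387 rfl b1012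
theorem n1012 : Sound.{u} (cP4) s1012 0 :=
  (x1012.k4 c1012_0 :)
theorem x1013 : AuxS.{u} (cP4) s1013 0 a1013 := aux_base3 tw388 rfl b1013
theorem n1013 : Sound.{u} (cP4) s1013 0 :=
  (x1013.k4 c1013_0 :)
theorem x917 : AuxS.{u} (cP4) s917 0 a917 := aux_base3 tw339 rfl b917
theorem x917_1 : AuxS.{u} (cP4) s917 0 a917_1 := x917
theorem n917 : Sound.{u} (cP4) s917 0 :=
  (x917_1.fr2 GamS.nil (AllS.cons n998 (AllS.cons n999 (AllS.cons n1000 (AllS.cons n1001 (AllS.cons n1002 (AllS.cons n1003 (AllS.cons n1004 (AllS.cons n1005 (AllS.cons n1006 (AllS.cons n1007 (AllS.cons n1008 (AllS.cons n1009 (AllS.cons n1010 (AllS.cons n1011 (AllS.cons n1012 (AllS.cons n1013 AllS.nil)))))))))))))))) c917_0 :)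
theorem x918 : AuxS.{u} (cP4) s918 0 a918 := aux_base3 tw339 rfl b918
theorem n918 : Sound.{u} (cP4) s918 0 :=
  (x918.k4 c918_0 :)
theorem x919 : AuxS.{u} (cP4) s919 0 a919 := aux_base3 tw339 rfl b919
theorem n919 : Sound.{u} (cP4) s919 0 :=
  (x919.k4 c919_0 :)
theorem x920 : AuxS.{u} (cP4) s920 0 a920 := aux_base3 tw339 rfl b920
theorem n920 : Sound.{u} (cP4) s920 0 :=
  (x920.k4 c920_0 :)
theorem x921 : AuxS.{u} (cP4) s921 0 a921 := aux_base3 tw339 rfl b921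
theorem n921 : Sound.{u} (cP4) s921 0 :=
  (x921.k4 c921_0 :)
theorem x922 : AuxS.{u} (cP4) s922 0 a922 := aux_base3 tw339 rfl b922
theorem n922 : Sound.{u} (cP4) s922 0 :=
  (x922.k4 c922_0 :)
theorem x923 : AuxS.{u} (cP4) s923 0 a923 := aux_base3 tw339 rfl b923
theorem n923 : Sound.{u} (cP4) s923 0 :=
  (x923.k4 c923_0 :)
theorem x924 : AuxS.{u} (cP4) s924 0 a924 := aux_base3 tw339 rfl b924
theorem n924 : Sound.{u} (cP4) s924 0 :=
  (x924.k4 c924_0 :)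
theorem x925 : AuxS.{u} (cP4) s925 0 a925 := aux_base3 tw339 rfl b925
theorem n925 : Sound.{u} (cP4) s925 0 :=
  (x925.k4 c925_0 :)
theorem x926 : AuxS.{u} (cP4) s926 0 a926 := aux_base3 tw339 rfl b926
theorem n926 : Sound.{u} (cP4) s926 0 :=
  (x926.k4 c926_0 :)
theorem x927 : AuxS.{u} (cP4) s927 0 a927 := aux_base3 tw339 rfl b927
theorem n927 : Sound.{u} (cP4) s927 0 :=
  (x927.k4 c927_0 :)
theorem x928 : AuxS.{u} (cP4) s928 0 a928 := aux_base3 tw339 rfl b928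
theorem n928 : Sound.{u} (cP4) s928 0 :=
  (x928.k4 c928_0 :)
theorem x929 : AuxS.{u} (cP4) s929 0 a929 := aux_base3 tw339 rfl b929
theorem n929 : Sound.{u} (cP4) s929 0 :=
  (x929.k4 c929_0 :)
theorem x930 : AuxS.{u} (cP4) s930 0 a930 := aux_base3 tw339 rfl b930
theorem n930 : Sound.{u} (cP4) s930 0 :=
  (x930.k4 c930_0 :)
theorem x931 : AuxS.{u} (cP4) s931 0 a931 := aux_base3 tw339 rfl b931
theorem n931 : Sound.{u} (cP4) s931 0 :=
  (x931.k4 c931_0 :)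
theorem x932 : AuxS.{u} (cP4) s932 0 a932 := aux_base3 tw339 rfl b932
theorem n932 : Sound.{u} (cP4) s932 0 :=
  (x932.k4 c932_0 :)
theorem x933 : AuxS.{u} (cP4) s933 0 a933 := aux_base3 tw339 rfl b933
theorem n933 : Sound.{u} (cP4) s933 0 :=
  (x933.k4 c933_0 :)
theorem x934 : AuxS.{u} (cP4) s934 0 a934 := aux_base3 tw339 rfl b934
theorem n934 : Sound.{u} (cP4) s934 0 :=
  (x934.k4 c934_0 :)
theorem x935 : AuxS.{u} (cP4) s935 0 a935 := aux_base3 tw339 rfl b935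
theorem n935 : Sound.{u} (cP4) s935 0 :=
  (x935.k4 c935_0 :)
theorem x936 : AuxS.{u} (cP4) s936 0 a936 := aux_base3 tw339 rfl b936
theorem n936 : Sound.{u} (cP4) s936 0 :=
  (x936.k4 c936_0 :)
theorem x864 : AuxS.{u} (cP4) s864 0 a864 := aux_base3 tw339 rfl b864
theorem x864_1 : AuxS.{u} (cP4) s864 0 a864_1 := x864
theorem n864 : Sound.{u} (cP4) s864 0 :=
  (x864_1.fr (AuxS.gam x864_1 c864_0) (AllS.cons n873 (AllS.cons n874 (AllS.cons n875 (AllS.cons n876 (AllS.cons n877 (AllS.cons n878 (AllS.cons n879 (AllS.cons n880 (AllS.cons n881 (AllS.cons n882 (AllS.cons n883 (AllS.cons n884 (AllS.cons n885 (AllS.cons n886 (AllS.cons n887 (AllS.cons n888 (AllS.cons n889 (AllS.cons n890 (AllS.cons n891 (AllS.cons n892 (AllS.cons n893 (AllS.cons n894 (AllS.cons n895 (AllS.cons n896 (AllS.cons n897 (AllS.cons n898 (AllS.cons n899 (AllS.cons n900 (AllS.cons n901 (AllS.cons n902 (AllS.cons n903 (AllS.cons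 n904 (AllS.cons n905 (AllS.cons n906 (AllS.cons n907 (AllS.cons n908 (AllS.cons n909 (AllS.cons n910 (AllS.cons n911 (AllS.cons n912 (AllS.cons n913 (AllS.cons n914 (AllS.cons n915 (AllS.cons n916 (AllS.cons n917 (AllS.cons n918 (AllS.cons n919 (AllS.cons n920 (AllS.cons n921 (AllS.cons n922 (AllS.cons n923 (AllS.cons n924 (AllS.cons n925 (AllS.cons n926 (AllS.cons n927 (AllS.cons n928 (AllS.cons n929 (AllS.cons n930 (AllS.cons n931 (AllS.cons n932 (AllS.cons n933 (AllS.cons n934 (AllS.cons n935 (AllS.cons n936 AllS.nil)))))))))))))))))))))))))))))))))))))))))))))))))))))))))))))))) c864_1 :)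
theorem x865 : AuxS.{u} (cP4) s865 0 a865 := aux_base3 tw340 rfl b865
theorem x865_1 : AuxS.{u} (cP4) s865 0 a865_1 := x865
theorem x865_2 : AuxS.{u} (cP4) s865 0 a865_2 := x865_1
theorem n865 : Sound.{u} (cP4) s865 0 :=
  (x865_2.fr GamS.nil AllS.nil c865_0 :)
theorem x866 : AuxS.{u} (cP4) s866 0 a866 := aux_base3 tw341 rfl b866
theorem x866_1 : AuxS.{u} (cP4) s866 0 a866_1 := x866
theorem n866 : Sound.{u} (cP4) s866 0 :=
  (x866_1.fr GamS.nil AllS.nil c866_0 :)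
theorem x867 : AuxS.{u} (cP4) s867 0 a867 := aux_base3 tw342 rfl b867
theorem x867_1 : AuxS.{u} (cP4) s867 0 a867_1 := x867
theorem n867 : Sound.{u} (cP4) s867 0 :=
  (x867_1.fr GamS.nil AllS.nil c867_0 :)
theorem x868 : AuxS.{u} (cP4) s868 0 a868 := aux_base3 tw343 rfl b868
theorem x868_1 : AuxS.{u} (cP4) s868 0 a868_1 := x868
theorem n868 : Sound.{u} (cP4) s868 0 :=
  (x868_1.fr GamS.nil AllS.nil c868_0 :)
theorem x869 : AuxS.{u} (cP4) s869 0 a869 := aux_base3 tw344 rfl b869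
theorem x869_1 : AuxS.{u} (cP4) s869 0 a869_1 := x869
theorem n869 : Sound.{u} (cP4) s869 0 :=
  (x869_1.fr GamS.nil AllS.nil c869_0 :)
theorem x870 : AuxS.{u} (cP4) s870 0 a870 := aux_base3 tw345 rfl b870
theorem x870_1 : AuxS.{u} (cP4) s870 0 a870_1 := x870
theorem n870 : Sound.{u} (cP4) s870 0 :=
  (x870_1.fr GamS.nil AllS.nil c870_0 :)
theorem x871 : AuxS.{u} (cP4) s871 0 a871 := aux_base3 tw346 rfl b871
theorem x871_1 : AuxS.{u} (cP4) s871 0 a871_1 := x871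
theorem n871 : Sound.{u} (cP4) s871 0 :=
  (x871_1.fr GamS.nil AllS.nil c871_0 :)
theorem x872 : AuxS.{u} (cP4) s872 0 a872 := aux_base3 tw347 rfl b872
theorem x872_1 : AuxS.{u} (cP4) s872 0 a872_1 := x872
theorem n872 : Sound.{u} (cP4) s872 0 :=
  (x872_1.fr GamS.nil AllS.nil c872_0 :)
theorem x856 : AuxS.{u} (cP4) s856 0 a856 := aux_base3 tw325 rfl b856
theorem x856_1 : AuxS.{u} (cP4) s856 0 a856_1 := (AuxS.up x856 c856_6 :)
theorem x856_2 : AuxS.{u} (cP4) s856 0 a856_2 := x856_1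
theorem p856_0_1 : Phs s856 a856_2 (List.map Prod.fst g856_0) [s857, s858, s859, s860, s861, s862, s863, s864, s865, s866, s867, s868, s869, s870, s871, s872] ct856_0 v856_0 5 w856_0_1 := (Phs.fin c856_1)
theorem p856_0_3 : Phs s856 a856_2 (List.map Prod.fst g856_0) [s857, s858, s859, s860, s861, s862, s863, s864, s865, s866, s867, s868, s869, s870, s871, s872] ct856_0 v856_0 4 w856_0_3 := (Phs.stp c856_2 p856_0_1)
theorem p856_0_5 : Phs s856 a856_2 (List.map Prod.fst g856_0) [s857, s858, s859, s860, s861, s862, s863, s864, s865, s866, s867, s868, s869, s870, s871, s872] ct856_0 v856_0 1 w856_0_5 := (Phs.stp c856_3 p856_0_3)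
theorem n856 : Sound.{u} (cP4) s856 0 :=
  (x856_2.ext2 (fun h => absurd h (by decide)) (AuxS.gam x856_2 c856_0) (AllS.cons n857 (AllS.cons n858 (AllS.cons n859 (AllS.cons n860 (AllS.cons n861 (AllS.cons n862 (AllS.cons n863 (AllS.cons n864 (AllS.cons n865 (AllS.cons n866 (AllS.cons n867 (AllS.cons n868 (AllS.cons n869 (AllS.cons n870 (AllS.cons n871 (AllS.cons n872 AllS.nil)))))))))))))))) c856_5 (Phs.stp c856_4 p856_0_5) (Phs.fin (ct := ct856_0) rfl) :)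
theorem x854 : AuxS.{u} (cP4) s854 0 a854 := aux_base3 tw331 rfl b854
theorem x854_1 : AuxS.{u} (cP4) s854 0 a854_1 := x854
theorem x854_2 : AuxS.{u} (cP4) s854 0 a854_2 := x854_1
theorem n854 : Sound.{u} (cP4) s854 0 :=
  (x854_2.jump c854_0 c854_1 n856 :)
theorem x855 : AuxS.{u} (cP4) s855 0 a855 := aux_base3 tw331 rfl b855
theorem n855 : Sound.{u} (cP4) s855 0 :=
  (x855.k4 c855_0 :)
theorem x853 : AuxS.{u} (cP4) s853 0 a853 := aux_base3 tw331 rfl b853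
theorem x853_1 : AuxS.{u} (cP4) s853 0 a853_1 := x853
theorem x853_2 : AuxS.{u} (cP4) s853 0 a853_2 := x853_1
theorem n853 : Sound.{u} (cP4) s853 0 :=
  (x853_2.fr GamS.nil (AllS.cons n854 (AllS.cons n855 AllS.nil)) c853_0 :)
theorem x847 : AuxS.{u} (cP4) s847 0 a847 := aux_base3 tw325 rfl b847
theorem x847_1 : AuxS.{u} (cP4) s847 0 a847_1 := (AuxS.up x847 c847_7 :)
theorem x847_2 : AuxS.{u} (cP4) s847 0 a847_2 := x847_1
theorem p847_0_1 : Phs s847 a847_2 (List.map Prod.fst g847_0) [s853] ct847_0 v847_0 5 w847_0_1 := (Phs.fin c847_1)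
theorem p847_0_3 : Phs s847 a847_2 (List.map Prod.fst g847_0) [s853] ct847_0 v847_0 4 w847_0_3 := (Phs.stp c847_2 p847_0_1)
theorem p847_0_5 : Phs s847 a847_2 (List.map Prod.fst g847_0) [s853] ct847_0 v847_0 3 w847_0_5 := (Phs.stp c847_3 p847_0_3)
theorem p847_0_7 : Phs s847 a847_2 (List.map Prod.fst g847_0) [s853] ct847_0 v847_0 1 w847_0_7 := (Phs.stp c847_4 p847_0_5)
theorem n847 : Sound.{u} (cP4) s847 0 :=
  (x847_2.ext2 (fun h => absurd h (by decide)) (AuxS.gam x847_2 c847_0) (AllS.cons n853 AllS.nil) c847_6 (Phs.stp c847_5 p847_0_7) (Phs.fin (ct := ct847_0) rfl) :)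
theorem x848 : AuxS.{u} (cP4) s848 0 a848 := aux_base3 tw326 rfl b848
theorem x848_1 : AuxS.{u} (cP4) s848 0 a848_1 := (AuxS.up x848 c848_1 :)
theorem n848 : Sound.{u} (cP4) s848 0 :=
  (x848_1.k7 c848_0 :)
theorem x849 : AuxS.{u} (cP4) s849 0 a849 := aux_base3 tw327 rfl b849
theorem x849_1 : AuxS.{u} (cP4) s849 0 a849_1 := (AuxS.up x849 c849_5 :)
theorem x849_2 : AuxS.{u} (cP4) s849 0 a849_2 := x849_1
theorem p849_0_1 : Phs s849 a849_2 [] [] ct849_0 v849_0 4 w849_0_1 := (Phs.fin c849_0)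
theorem p849_0_3 : Phs s849 a849_2 [] [] ct849_0 v849_0 3 w849_0_3 := (Phs.stp c849_1 p849_0_1)
theorem p849_0_5 : Phs s849 a849_2 [] [] ct849_0 v849_0 1 w849_0_5 := (Phs.stp c849_2 p849_0_3)
theorem n849 : Sound.{u} (cP4) s849 0 :=
  (x849_2.ext2 (fun h => absurd h (by decide)) GamS.nil AllS.nil c849_4 (Phs.stp c849_3 p849_0_5) (Phs.fin (ct := ct849_0) rfl) :)
theorem x850 : AuxS.{u} (cP4) s850 0 a850 := aux_base3 tw328 rfl b850
theorem x850_1 : AuxS.{u} (cP4) s850 0 a850_1 := (AuxS.up x850 c850_1 :)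
theorem n850 : Sound.{u} (cP4) s850 0 :=
  (x850_1.k7 c850_0 :)
theorem x851 : AuxS.{u} (cP4) s851 0 a851 := aux_base3 tw329 rfl b851
theorem x851_1 : AuxS.{u} (cP4) s851 0 a851_1 := (AuxS.up x851 c851_1 :)
theorem n851 : Sound.{u} (cP4) s851 0 :=
  (x851_1.k7 c851_0 :)
theorem x852 : AuxS.{u} (cP4) s852 0 a852 := aux_base3 tw330 rfl b852
theorem x852_1 : AuxS.{u} (cP4) s852 0 a852_1 := (AuxS.up x852 c852_1 :)
theorem x852_2 : AuxS.{u} (cP4) s852 0 a852_2 := (AuxS.up2 x852_1 c852_2 :)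
theorem n852 : Sound.{u} (cP4) s852 0 :=
  (x852_2.k7 c852_0 :)
theorem x4 : AuxS.{u} (cP4) s4 0 a4 := aux_base3 tw4 rfl b4
theorem x4_1 : AuxS.{u} (cP4) s4 0 a4_1 := (AuxS.up x4 c4_4 :)
theorem p4_0_1 : Phs s4 a4_1 [] [s845, s846, s847, s848, s849, s850, s851, s852] ct4_0 v4_0 4 w4_0_1 := (Phs.fin c4_0)
theorem p4_0_3 : Phs s4 a4_1 [] [s845, s846, s847, s848, s849, s850, s851, s852] ct4_0 v4_0 1 w4_0_3 := (Phs.stp c4_1 p4_0_1)
theorem n4 : Sound.{u} (cP4) s4 0 :=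
  (x4_1.ext2 (fun h => absurd h (by decide)) GamS.nil (AllS.cons n845 (AllS.cons n846 (AllS.cons n847 (AllS.cons n848 (AllS.cons n849 (AllS.cons n850 (AllS.cons n851 (AllS.cons n852 AllS.nil)))))))) c4_3 (Phs.stp c4_2 p4_0_3) (Phs.fin (ct := ct4_0) rfl) :)
theorem x5 : AuxS.{u} (cP4) s5 0 a5 := aux_base3 tw5 rfl b5
theorem x5_1 : AuxS.{u} (cP4) s5 0 a5_1 := (AuxS.up x5 c5_1 :)
theorem n5 : Sound.{u} (cP4) s5 0 :=
  (x5_1.k7 c5_0 :)
theorem x1059 : AuxS.{u} (cP4) s1059 0 a1059 := aux_base3 tw398 rfl b1059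
theorem x1059_1 : AuxS.{u} (cP4) s1059 0 a1059_1 := (AuxS.up x1059 c1059_1 :)
theorem x1059_2 : AuxS.{u} (cP4) s1059 0 a1059_2 := (AuxS.up2 x1059_1 c1059_2 :)
theorem n1059 : Sound.{u} (cP4) s1059 0 :=
  (x1059_2.k7 c1059_0 :)
theorem x1060 : AuxS.{u} (cP4) s1060 0 a1060 := aux_base3 tw399 rfl b1060
theorem x1060_1 : AuxS.{u} (cP4) s1060 0 a1060_1 := (AuxS.up x1060 c1060_1 :)
theorem n1060 : Sound.{u} (cP4) s1060 0 :=
  (x1060_1.k7 c1060_0 :)
theorem x1067 : AuxS.{u} (cP4) s1067 0 a1067 := aux_base3 tw406 rfl b1067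
theorem x1067_1 : AuxS.{u} (cP4) s1067 0 a1067_1 := x1067
theorem x1067_2 : AuxS.{u} (cP4) s1067 0 a1067_2 := x1067_1
theorem n1067 : Sound.{u} (cP4) s1067 0 :=
  (x1067_2.fr GamS.nil AllS.nil c1067_0 :)
theorem x1068 : AuxS.{u} (cP4) s1068 0 a1068 := aux_base3 tw407 rfl b1068
theorem x1068_1 : AuxS.{u} (cP4) s1068 0 a1068_1 := x1068
theorem x1068_2 : AuxS.{u} (cP4) s1068 0 a1068_2 := x1068_1
theorem n1068 : Sound.{u} (cP4) s1068 0 :=
  (x1068_2.fr GamS.nil AllS.nil c1068_0 :)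
theorem x1115 : AuxS.{u} (cP4) s1115 0 a1115 := aux_base3 tw400 rfl b1115
theorem x1115_1 : AuxS.{u} (cP4) s1115 0 a1115_1 := (AuxS.up x1115 c1115_4 :)
theorem x1115_2 : AuxS.{u} (cP4) s1115 0 a1115_2 := (AuxS.up2 x1115_1 c1115_5 :)
theorem x1115_3 : AuxS.{u} (cP4) s1115 0 a1115_3 := x1115_2
theorem p1115_0_1 : Phs s1115 a1115_3 [] [] ct1115_0 v1115_0 4 w1115_0_1 := (Phs.fin c1115_0)
theorem p1115_0_3 : Phs s1115 a1115_3 [] [] ct1115_0 v1115_0 1 w1115_0_3 := (Phs.stp c1115_1 p1115_0_1)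
theorem n1115 : Sound.{u} (cP4) s1115 0 :=
  (x1115_3.ext2 (fun h => absurd h (by decide)) GamS.nil AllS.nil c1115_3 (Phs.stp c1115_2 p1115_0_3) (Phs.fin (ct := ct1115_0) rfl) :)
theorem x1083 : AuxS.{u} (cP4) s1083 0 a1083 := aux_base3 tw408 rfl b1083
theorem x1083_1 : AuxS.{u} (cP4) s1083 0 a1083_1 := x1083
theorem x1083_2 : AuxS.{u} (cP4) s1083 0 a1083_2 := x1083_1
theorem x1083_3 : AuxS.{u} (cP4) s1083 0 a1083_3 := x1083_2
theorem n1083 : Sound.{u} (cP4) s1083 0 :=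
  (x1083_3.jump c1083_0 c1083_1 n1115 :)
theorem x1084 : AuxS.{u} (cP4) s1084 0 a1084 := aux_base3 tw408 rfl b1084
theorem n1084 : Sound.{u} (cP4) s1084 0 :=
  (x1084.k4 c1084_0 :)
theorem x1085 : AuxS.{u} (cP4) s1085 0 a1085 := aux_base3 tw408 rfl b1085
theorem n1085 : Sound.{u} (cP4) s1085 0 :=
  (x1085.k4 c1085_0 :)
theorem x1086 : AuxS.{u} (cP4) s1086 0 a1086 := aux_base3 tw408 rfl b1086
theorem n1086 : Sound.{u} (cP4) s1086 0 :=
  (x1086.k4 c1086_0 :)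
theorem x1087 : AuxS.{u} (cP4) s1087 0 a1087 := aux_base3 tw408 rfl b1087
theorem n1087 : Sound.{u} (cP4) s1087 0 :=
  (x1087.k4 c1087_0 :)
theorem x1088 : AuxS.{u} (cP4) s1088 0 a1088 := aux_base3 tw408 rfl b1088
theorem n1088 : Sound.{u} (cP4) s1088 0 :=
  (x1088.k4 c1088_0 :)
theorem x1089 : AuxS.{u} (cP4) s1089 0 a1089 := aux_base3 tw408 rfl b1089
theorem n1089 : Sound.{u} (cP4) s1089 0 :=
  (x1089.k4 c1089_0 :)
theorem x1090 : AuxS.{u} (cP4) s1090 0 a1090 := aux_base3 tw408 rfl b1090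
theorem n1090 : Sound.{u} (cP4) s1090 0 :=
  (x1090.k4 c1090_0 :)
theorem x1091 : AuxS.{u} (cP4) s1091 0 a1091 := aux_base3 tw408 rfl b1091
theorem n1091 : Sound.{u} (cP4) s1091 0 :=
  (x1091.k4 c1091_0 :)
theorem x1092 : AuxS.{u} (cP4) s1092 0 a1092 := aux_base3 tw408 rfl b1092
theorem n1092 : Sound.{u} (cP4) s1092 0 :=
  (x1092.k4 c1092_0 :)
theorem x1093 : AuxS.{u} (cP4) s1093 0 a1093 := aux_base3 tw408 rfl b1093
theorem n1093 : Sound.{u} (cP4) s1093 0 :=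
  (x1093.k4 c1093_0 :)
theorem x1094 : AuxS.{u} (cP4) s1094 0 a1094 := aux_base3 tw408 rfl b1094
theorem n1094 : Sound.{u} (cP4) s1094 0 :=
  (x1094.k4 c1094_0 :)
theorem x1095 : AuxS.{u} (cP4) s1095 0 a1095 := aux_base3 tw408 rfl b1095
theorem n1095 : Sound.{u} (cP4) s1095 0 :=
  (x1095.k4 c1095_0 :)
theorem x1096 : AuxS.{u} (cP4) s1096 0 a1096 := aux_base3 tw408 rfl b1096
theorem n1096 : Sound.{u} (cP4) s1096 0 :=
  (x1096.k4 c1096_0 :)
theorem x1097 : AuxS.{u} (cP4) s1097 0 a1097 := aux_base3 tw408 rfl b1097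
theorem n1097 : Sound.{u} (cP4) s1097 0 :=
  (x1097.k4 c1097_0 :)
theorem x1098 : AuxS.{u} (cP4) s1098 0 a1098 := aux_base3 tw408 rfl b1098
theorem n1098 : Sound.{u} (cP4) s1098 0 :=
  (x1098.k4 c1098_0 :)
theorem x1099 : AuxS.{u} (cP4) s1099 0 a1099 := aux_base3 tw408 rfl b1099
theorem n1099 : Sound.{u} (cP4) s1099 0 :=
  (x1099.k4 c1099_0 :)
theorem x1100 : AuxS.{u} (cP4) s1100 0 a1100 := aux_base3 tw408 rfl b1100
theorem n1100 : Sound.{u} (cP4) s1100 0 :=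
  (x1100.k4 c1100_0 :)
theorem x1101 : AuxS.{u} (cP4) s1101 0 a1101 := aux_base3 tw408 rfl b1101
theorem n1101 : Sound.{u} (cP4) s1101 0 :=
  (x1101.k4 c1101_0 :)
theorem x1102 : AuxS.{u} (cP4) s1102 0 a1102 := aux_base3 tw408 rfl b1102
theorem n1102 : Sound.{u} (cP4) s1102 0 :=
  (x1102.k4 c1102_0 :)
theorem x1103 : AuxS.{u} (cP4) s1103 0 a1103 := aux_base3 tw408 rfl b1103
theorem n1103 : Sound.{u} (cP4) s1103 0 :=
  (x1103.k4 c1103_0 :)
theorem x1104 : AuxS.{u} (cP4) s1104 0 a1104 := aux_base3 tw408 rfl b1104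
theorem n1104 : Sound.{u} (cP4) s1104 0 :=
  (x1104.k4 c1104_0 :)
theorem x1105 : AuxS.{u} (cP4) s1105 0 a1105 := aux_base3 tw408 rfl b1105
theorem n1105 : Sound.{u} (cP4) s1105 0 :=
  (x1105.k4 c1105_0 :)
theorem x1106 : AuxS.{u} (cP4) s1106 0 a1106 := aux_base3 tw408 rfl b1106
theorem n1106 : Sound.{u} (cP4) s1106 0 :=
  (x1106.k4 c1106_0 :)
theorem x1107 : AuxS.{u} (cP4) s1107 0 a1107 := aux_base3 tw408 rfl b1107
theorem n1107 : Sound.{u} (cP4) s1107 0 :=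
  (x1107.k4 c1107_0 :)
theorem x1108 : AuxS.{u} (cP4) s1108 0 a1108 := aux_base3 tw408 rfl b1108
theorem n1108 : Sound.{u} (cP4) s1108 0 :=
  (x1108.k4 c1108_0 :)
theorem x1109 : AuxS.{u} (cP4) s1109 0 a1109 := aux_base3 tw408 rfl b1109
theorem n1109 : Sound.{u} (cP4) s1109 0 :=
  (x1109.k4 c1109_0 :)
theorem x1110 : AuxS.{u} (cP4) s1110 0 a1110 := aux_base3 tw408 rfl b1110
theorem n1110 : Sound.{u} (cP4) s1110 0 :=
  (x1110.k4 c1110_0 :)
theorem x1111 : AuxS.{u} (cP4) s1111 0 a1111 := aux_base3 tw408 rfl b1111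
theorem n1111 : Sound.{u} (cP4) s1111 0 :=
  (x1111.k4 c1111_0 :)
theorem x1112 : AuxS.{u} (cP4) s1112 0 a1112 := aux_base3 tw408 rfl b1112
theorem n1112 : Sound.{u} (cP4) s1112 0 :=
  (x1112.k4 c1112_0 :)
theorem x1113 : AuxS.{u} (cP4) s1113 0 a1113 := aux_base3 tw408 rfl b1113
theorem n1113 : Sound.{u} (cP4) s1113 0 :=
  (x1113.k4 c1113_0 :)
theorem x1114 : AuxS.{u} (cP4) s1114 0 a1114 := aux_base3 tw408 rfl b1114
theorem n1114 : Sound.{u} (cP4) s1114 0 :=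
  (x1114.k4 c1114_0 :)
theorem x1069 : AuxS.{u} (cP4) s1069 0 a1069 := aux_base3 tw408 rfl b1069
theorem x1069_1 : AuxS.{u} (cP4) s1069 0 a1069_1 := x1069
theorem x1069_2 : AuxS.{u} (cP4) s1069 0 a1069_2 := x1069_1
theorem n1069 : Sound.{u} (cP4) s1069 0 :=
  (x1069_2.fr (AuxS.gam x1069_2 c1069_0) (AllS.cons n1083 (AllS.cons n1084 (AllS.cons n1085 (AllS.cons n1086 (AllS.cons n1087 (AllS.cons n1088 (AllS.cons n1089 (AllS.cons n1090 (AllS.cons n1091 (AllS.cons n1092 (AllS.cons n1093 (AllS.cons n1094 (AllS.cons n1095 (AllS.cons n1096 (AllS.cons n1097 (AllS.cons n1098 (AllS.cons n1099 (AllS.cons n1100 (AllS.cons n1101 (AllS.cons n1102 (AllS.cons n1103 (AllS.cons n1104 (AllS.cons n1105 (AllS.cons n1106 (AllS.cons n1107 (AllS.cons n1108 (AllS.cons n1109 (AllS.cons n1110 (AllS.cons n1111 (AllS.cons n1112 (AllS.cons n1113 (AllS.cons n1114 AllS.nil)))))))))))))))))))))))))))))))) c1069_1 :)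
theorem x1070 : AuxS.{u} (cP4) s1070 0 a1070 := aux_base3 tw409 rfl b1070
theorem x1070_1 : AuxS.{u} (cP4) s1070 0 a1070_1 := x1070
theorem x1070_2 : AuxS.{u} (cP4) s1070 0 a1070_2 := x1070_1
theorem n1070 : Sound.{u} (cP4) s1070 0 :=
  (x1070_2.fr GamS.nil AllS.nil c1070_0 :)
theorem x1071 : AuxS.{u} (cP4) s1071 0 a1071 := aux_base3 tw410 rfl b1071
theorem x1071_1 : AuxS.{u} (cP4) s1071 0 a1071_1 := x1071
theorem x1071_2 : AuxS.{u} (cP4) s1071 0 a1071_2 := x1071_1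
theorem n1071 : Sound.{u} (cP4) s1071 0 :=
  (x1071_2.fr GamS.nil AllS.nil c1071_0 :)
theorem x1072 : AuxS.{u} (cP4) s1072 0 a1072 := aux_base3 tw411 rfl b1072
theorem x1072_1 : AuxS.{u} (cP4) s1072 0 a1072_1 := x1072
theorem x1072_2 : AuxS.{u} (cP4) s1072 0 a1072_2 := x1072_1
theorem n1072 : Sound.{u} (cP4) s1072 0 :=
  (x1072_2.fr GamS.nil AllS.nil c1072_0 :)
theorem x1073 : AuxS.{u} (cP4) s1073 0 a1073 := aux_base3 tw412 rfl b1073
theorem x1073_1 : AuxS.{u} (cP4) s1073 0 a1073_1 := x1073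
theorem x1073_2 : AuxS.{u} (cP4) s1073 0 a1073_2 := x1073_1
theorem n1073 : Sound.{u} (cP4) s1073 0 :=
  (x1073_2.fr GamS.nil AllS.nil c1073_0 :)
theorem x1074 : AuxS.{u} (cP4) s1074 0 a1074 := aux_base3 tw413 rfl b1074
theorem x1074_1 : AuxS.{u} (cP4) s1074 0 a1074_1 := x1074
theorem x1074_2 : AuxS.{u} (cP4) s1074 0 a1074_2 := x1074_1
theorem n1074 : Sound.{u} (cP4) s1074 0 :=
  (x1074_2.fr GamS.nil AllS.nil c1074_0 :)
theorem x1075 : AuxS.{u} (cP4) s1075 0 a1075 := aux_base3 tw414 rfl b1075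
theorem x1075_1 : AuxS.{u} (cP4) s1075 0 a1075_1 := x1075
theorem x1075_2 : AuxS.{u} (cP4) s1075 0 a1075_2 := x1075_1
theorem n1075 : Sound.{u} (cP4) s1075 0 :=
  (x1075_2.fr GamS.nil AllS.nil c1075_0 :)
theorem x1076 : AuxS.{u} (cP4) s1076 0 a1076 := aux_base3 tw415 rfl b1076
theorem x1076_1 : AuxS.{u} (cP4) s1076 0 a1076_1 := x1076
theorem x1076_2 : AuxS.{u} (cP4) s1076 0 a1076_2 := x1076_1
theorem n1076 : Sound.{u} (cP4) s1076 0 :=
  (x1076_2.fr GamS.nil AllS.nil c1076_0 :)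
theorem x1077 : AuxS.{u} (cP4) s1077 0 a1077 := aux_base3 tw416 rfl b1077
theorem x1077_1 : AuxS.{u} (cP4) s1077 0 a1077_1 := x1077
theorem x1077_2 : AuxS.{u} (cP4) s1077 0 a1077_2 := x1077_1
theorem n1077 : Sound.{u} (cP4) s1077 0 :=
  (x1077_2.fr GamS.nil AllS.nil c1077_0 :)
theorem x1078 : AuxS.{u} (cP4) s1078 0 a1078 := aux_base3 tw417 rfl b1078
theorem x1078_1 : AuxS.{u} (cP4) s1078 0 a1078_1 := x1078
theorem x1078_2 : AuxS.{u} (cP4) s1078 0 a1078_2 := x1078_1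
theorem n1078 : Sound.{u} (cP4) s1078 0 :=
  (x1078_2.fr GamS.nil AllS.nil c1078_0 :)
theorem x1079 : AuxS.{u} (cP4) s1079 0 a1079 := aux_base3 tw418 rfl b1079
theorem x1079_1 : AuxS.{u} (cP4) s1079 0 a1079_1 := x1079
theorem x1079_2 : AuxS.{u} (cP4) s1079 0 a1079_2 := x1079_1
theorem n1079 : Sound.{u} (cP4) s1079 0 :=
  (x1079_2.fr GamS.nil AllS.nil c1079_0 :)
theorem x1080 : AuxS.{u} (cP4) s1080 0 a1080 := aux_base3 tw419 rfl b1080
theorem x1080_1 : AuxS.{u} (cP4) s1080 0 a1080_1 := x1080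
theorem x1080_2 : AuxS.{u} (cP4) s1080 0 a1080_2 := x1080_1
theorem n1080 : Sound.{u} (cP4) s1080 0 :=
  (x1080_2.fr GamS.nil AllS.nil c1080_0 :)
theorem x1081 : AuxS.{u} (cP4) s1081 0 a1081 := aux_base3 tw420 rfl b1081
theorem x1081_1 : AuxS.{u} (cP4) s1081 0 a1081_1 := x1081
theorem x1081_2 : AuxS.{u} (cP4) s1081 0 a1081_2 := x1081_1
theorem n1081 : Sound.{u} (cP4) s1081 0 :=
  (x1081_2.fr GamS.nil AllS.nil c1081_0 :)
theorem x1082 : AuxS.{u} (cP4) s1082 0 a1082 := aux_base3 tw421 rfl b1082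
theorem x1082_1 : AuxS.{u} (cP4) s1082 0 a1082_1 := x1082
theorem x1082_2 : AuxS.{u} (cP4) s1082 0 a1082_2 := x1082_1
theorem n1082 : Sound.{u} (cP4) s1082 0 :=
  (x1082_2.fr GamS.nil AllS.nil c1082_0 :)
theorem x1061 : AuxS.{u} (cP4) s1061 0 a1061 := aux_base3 tw400 rfl b1061
theorem x1061_1 : AuxS.{u} (cP4) s1061 0 a1061_1 := (AuxS.up x1061 c1061_7 :)
theorem x1061_2 : AuxS.{u} (cP4) s1061 0 a1061_2 := x1061_1
theorem p1061_0_1 : Phs s1061 a1061_2 (List.map Prod.fst g1061_0) [s1067, s1068, s1069, s1070, s1071, s1072, s1073, s1074, s1075, s1076, s1077, s1078, s1079, s1080, s1081, s1082] ct1061_0 v1061_0 5 w1061_0_1 := (Phs.fin c1061_1)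
theorem p1061_0_3 : Phs s1061 a1061_2 (List.map Prod.fst g1061_0) [s1067, s1068, s1069, s1070, s1071, s1072, s1073, s1074, s1075, s1076, s1077, s1078, s1079, s1080, s1081, s1082] ct1061_0 v1061_0 4 w1061_0_3 := (Phs.stp c1061_2 p1061_0_1)
theorem p1061_0_5 : Phs s1061 a1061_2 (List.map Prod.fst g1061_0) [s1067, s1068, s1069, s1070, s1071, s1072, s1073, s1074, s1075, s1076, s1077, s1078, s1079, s1080, s1081, s1082] ct1061_0 v1061_0 3 w1061_0_5 := (Phs.stp c1061_3 p1061_0_3)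
theorem p1061_0_7 : Phs s1061 a1061_2 (List.map Prod.fst g1061_0) [s1067, s1068, s1069, s1070, s1071, s1072, s1073, s1074, s1075, s1076, s1077, s1078, s1079, s1080, s1081, s1082] ct1061_0 v1061_0 1 w1061_0_7 := (Phs.stp c1061_4 p1061_0_5)
theorem n1061 : Sound.{u} (cP4) s1061 0 :=
  (x1061_2.ext2 (fun h => absurd h (by decide)) (AuxS.gam x1061_2 c1061_0) (AllS.cons n1067 (AllS.cons n1068 (AllS.cons n1069 (AllS.cons n1070 (AllS.cons n1071 (AllS.cons n1072 (AllS.cons n1073 (AllS.cons n1074 (AllS.cons n1075 (AllS.cons n1076 (AllS.cons n1077 (AllS.cons n1078 (AllS.cons n1079 (AllS.cons n1080 (AllS.cons n1081 (AllS.cons n1082 AllS.nil)))))))))))))))) c1061_6 (Phs.stp c1061_5 p1061_0_7) (Phs.fin (ct := ct1061_0) rfl) :)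
theorem x1062 : AuxS.{u} (cP4) s1062 0 a1062 := aux_base3 tw401 rfl b1062
theorem x1062_1 : AuxS.{u} (cP4) s1062 0 a1062_1 := (AuxS.up x1062 c1062_1 :)
theorem n1062 : Sound.{u} (cP4) s1062 0 :=
  (x1062_1.k7 c1062_0 :)
theorem x1116 : AuxS.{u} (cP4) s1116 0 a1116 := aux_base3 tw422 rfl b1116
theorem x1116_1 : AuxS.{u} (cP4) s1116 0 a1116_1 := x1116
theorem n1116 : Sound.{u} (cP4) s1116 0 :=
  (x1116_1.fr GamS.nil AllS.nil c1116_0 :)
theorem x1117 : AuxS.{u} (cP4) s1117 0 a1117 := aux_base3 tw423 rfl b1117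
theorem x1117_1 : AuxS.{u} (cP4) s1117 0 a1117_1 := x1117
theorem n1117 : Sound.{u} (cP4) s1117 0 :=
  (x1117_1.fr GamS.nil AllS.nil c1117_0 :)
theorem x1132 : AuxS.{u} (cP4) s1132 0 a1132 := aux_base3 tw424 rfl b1132
theorem n1132 : Sound.{u} (cP4) s1132 0 :=
  (x1132.k4 c1132_0 :)
theorem x1133 : AuxS.{u} (cP4) s1133 0 a1133 := aux_base3 tw424 rfl b1133
theorem n1133 : Sound.{u} (cP4) s1133 0 :=
  (x1133.k4 c1133_0 :)
theorem x1134 : AuxS.{u} (cP4) s1134 0 a1134 := aux_base3 tw424 rfl b1134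
theorem n1134 : Sound.{u} (cP4) s1134 0 :=
  (x1134.k4 c1134_0 :)
theorem x1135 : AuxS.{u} (cP4) s1135 0 a1135 := aux_base3 tw424 rfl b1135
theorem n1135 : Sound.{u} (cP4) s1135 0 :=
  (x1135.k4 c1135_0 :)
theorem x1136 : AuxS.{u} (cP4) s1136 0 a1136 := aux_base3 tw424 rfl b1136
theorem n1136 : Sound.{u} (cP4) s1136 0 :=
  (x1136.k4 c1136_0 :)
theorem x1166 : AuxS.{u} (cP4) s1166 0 a1166 := aux_base3 tw438 rfl b1166
theorem n1166 : Sound.{u} (cP4) s1166 0 :=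
  (x1166.k4 c1166_0 :)
theorem x1174 : AuxS.{u} (cP4) s1174 0 a1174 := aux_base3 tw441 rfl b1174
theorem x1174_1 : AuxS.{u} (cP4) s1174 0 a1174_1 := x1174
theorem n1174 : Sound.{u} (cP4) s1174 0 :=
  (x1174_1.fr GamS.nil AllS.nil c1174_0 :)
theorem x1175 : AuxS.{u} (cP4) s1175 0 a1175 := aux_base3 tw441 rfl b1175
theorem n1175 : Sound.{u} (cP4) s1175 0 :=
  (x1175.k4 c1175_0 :)
theorem x1170 : AuxS.{u} (cP4) s1170 0 a1170 := aux_base3 tw441 rfl b1170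
theorem x1170_1 : AuxS.{u} (cP4) s1170 0 a1170_1 := x1170
theorem n1170 : Sound.{u} (cP4) s1170 0 :=
  (x1170_1.fr GamS.nil (AllS.cons n1174 (AllS.cons n1175 AllS.nil)) c1170_0 :)
theorem x1178 : AuxS.{u} (cP4) s1178 0 a1178 := aux_base3 tw442 rfl b1178
theorem n1178 : Sound.{u} (cP4) s1178 0 :=
  (x1178.k4 c1178_0 :)
theorem x1179 : AuxS.{u} (cP4) s1179 0 a1179 := aux_base3 tw442 rfl b1179
theorem n1179 : Sound.{u} (cP4) s1179 0 :=
  (x1179.k4 c1179_0 :)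
theorem x1180 : AuxS.{u} (cP4) s1180 0 a1180 := aux_base3 tw442 rfl b1180
theorem n1180 : Sound.{u} (cP4) s1180 0 :=
  (x1180.k4 c1180_0 :)
theorem x1181 : AuxS.{u} (cP4) s1181 0 a1181 := aux_base3 tw442 rfl b1181
theorem n1181 : Sound.{u} (cP4) s1181 0 :=
  (x1181.k4 c1181_0 :)
theorem x1182 : AuxS.{u} (cP4) s1182 0 a1182 := aux_base3 tw442 rfl b1182
theorem n1182 : Sound.{u} (cP4) s1182 0 :=
  (x1182.k4 c1182_0 :)
theorem x1242 : AuxS.{u} (cP4) s1242 0 a1242 := aux_base3 tw445 rfl b1242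
theorem x1242_1 : AuxS.{u} (cP4) s1242 0 a1242_1 := x1242
theorem n1242 : Sound.{u} (cP4) s1242 0 :=
  (x1242_1.fr GamS.nil AllS.nil c1242_0 :)
theorem x1250 : AuxS.{u} (cP4) s1250 0 a1250 := aux_base3 tw446 rfl b1250
theorem x1250_1 : AuxS.{u} (cP4) s1250 0 a1250_1 := (AuxS.up x1250 c1250_4 :)
theorem n1250 : Sound.{u} (cP4) s1250 0 :=
  (x1250_1.spl c1250_0 (AllM.cons ((x1250_1.lam 0).tp c1250_1 :) (AllM.cons ((x1250_1.lam 1185).recog c1250_2 :) AllM.nil)) ((x1250_1.weaken 1).ext2 (fun _ => rfl) GamS.nil AllS.nil c1250_3 (Phs.fin (ct := ct1250_3) rfl) (Phs.fin (ct := ct1250_3) rfl)) :)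
theorem x1251 : AuxS.{u} (cP4) s1251 0 a1251 := aux_base3 tw446 rfl b1251
theorem n1251 : Sound.{u} (cP4) s1251 0 :=
  (x1251.k4 c1251_0 :)
theorem x1252 : AuxS.{u} (cP4) s1252 0 a1252 := aux_base3 tw446 rfl b1252
theorem n1252 : Sound.{u} (cP4) s1252 0 :=
  (x1252.k4 c1252_0 :)
theorem x1253 : AuxS.{u} (cP4) s1253 0 a1253 := aux_base3 tw446 rfl b1253
theorem n1253 : Sound.{u} (cP4) s1253 0 :=
  (x1253.k4 c1253_0 :)
theorem x1254 : AuxS.{u} (cP4) s1254 0 a1254 := aux_base3 tw446 rfl b1254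
theorem n1254 : Sound.{u} (cP4) s1254 0 :=
  (x1254.k4 c1254_0 :)
theorem x1255 : AuxS.{u} (cP4) s1255 0 a1255 := aux_base3 tw446 rfl b1255
theorem n1255 : Sound.{u} (cP4) s1255 0 :=
  (x1255.k4 c1255_0 :)
theorem x1256 : AuxS.{u} (cP4) s1256 0 a1256 := aux_base3 tw446 rfl b1256
theorem n1256 : Sound.{u} (cP4) s1256 0 :=
  (x1256.k4 c1256_0 :)
theorem x1257 : AuxS.{u} (cP4) s1257 0 a1257 := aux_base3 tw446 rfl b1257
theorem n1257 : Sound.{u} (cP4) s1257 0 :=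
  (x1257.k4 c1257_0 :)
theorem x1258 : AuxS.{u} (cP4) s1258 0 a1258 := aux_base3 tw446 rfl b1258
theorem n1258 : Sound.{u} (cP4) s1258 0 :=
  (x1258.k4 c1258_0 :)
theorem x1259 : AuxS.{u} (cP4) s1259 0 a1259 := aux_base3 tw446 rfl b1259
theorem n1259 : Sound.{u} (cP4) s1259 0 :=
  (x1259.k4 c1259_0 :)
theorem x1260 : AuxS.{u} (cP4) s1260 0 a1260 := aux_base3 tw446 rfl b1260
theorem n1260 : Sound.{u} (cP4) s1260 0 :=
  (x1260.k4 c1260_0 :)
theorem x1261 : AuxS.{u} (cP4) s1261 0 a1261 := aux_base3 tw446 rfl b1261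
theorem n1261 : Sound.{u} (cP4) s1261 0 :=
  (x1261.k4 c1261_0 :)
theorem x1262 : AuxS.{u} (cP4) s1262 0 a1262 := aux_base3 tw446 rfl b1262
theorem n1262 : Sound.{u} (cP4) s1262 0 :=
  (x1262.k4 c1262_0 :)
theorem x1263 : AuxS.{u} (cP4) s1263 0 a1263 := aux_base3 tw446 rfl b1263
theorem x1263_1 : AuxS.{u} (cP4) s1263 0 a1263_1 := (AuxS.up x1263 c1263_4 :)
theorem n1263 : Sound.{u} (cP4) s1263 0 :=
  (x1263_1.spl c1263_0 (AllM.cons ((x1263_1.lam 0).tp c1263_1 :) (AllM.cons ((x1263_1.lam 1185).recog c1263_2 :) AllM.nil)) ((x1263_1.weaken 1).ext2 (fun _ => rfl) GamS.nil AllS.nil c1263_3 (Phs.fin (ct := ct1263_3) rfl) (Phs.fin (ct := ct1263_3) rfl)) :)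
theorem x1264 : AuxS.{u} (cP4) s1264 0 a1264 := aux_base3 tw446 rfl b1264
theorem n1264 : Sound.{u} (cP4) s1264 0 :=
  (x1264.k4 c1264_0 :)
theorem x1265 : AuxS.{u} (cP4) s1265 0 a1265 := aux_base3 tw446 rfl b1265
theorem n1265 : Sound.{u} (cP4) s1265 0 :=
  (x1265.k4 c1265_0 :)
theorem x1266 : AuxS.{u} (cP4) s1266 0 a1266 := aux_base3 tw446 rfl b1266
theorem n1266 : Sound.{u} (cP4) s1266 0 :=
  (x1266.k4 c1266_0 :)
theorem x1267 : AuxS.{u} (cP4) s1267 0 a1267 := aux_base3 tw446 rfl b1267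
theorem n1267 : Sound.{u} (cP4) s1267 0 :=
  (x1267.k4 c1267_0 :)
theorem x1268 : AuxS.{u} (cP4) s1268 0 a1268 := aux_base3 tw446 rfl b1268
theorem n1268 : Sound.{u} (cP4) s1268 0 :=
  (x1268.k4 c1268_0 :)
theorem x1269 : AuxS.{u} (cP4) s1269 0 a1269 := aux_base3 tw446 rfl b1269
theorem n1269 : Sound.{u} (cP4) s1269 0 :=
  (x1269.k4 c1269_0 :)
theorem x1270 : AuxS.{u} (cP4) s1270 0 a1270 := aux_base3 tw446 rfl b1270
theorem n1270 : Sound.{u} (cP4) s1270 0 :=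
  (x1270.k4 c1270_0 :)
theorem x1271 : AuxS.{u} (cP4) s1271 0 a1271 := aux_base3 tw446 rfl b1271
theorem n1271 : Sound.{u} (cP4) s1271 0 :=
  (x1271.k4 c1271_0 :)
theorem x1272 : AuxS.{u} (cP4) s1272 0 a1272 := aux_base3 tw446 rfl b1272
theorem n1272 : Sound.{u} (cP4) s1272 0 :=
  (x1272.k4 c1272_0 :)
theorem x1273 : AuxS.{u} (cP4) s1273 0 a1273 := aux_base3 tw446 rfl b1273
theorem n1273 : Sound.{u} (cP4) s1273 0 :=
  (x1273.k4 c1273_0 :)
theorem x1274 : AuxS.{u} (cP4) s1274 0 a1274 := aux_base3 tw446 rfl b1274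
theorem n1274 : Sound.{u} (cP4) s1274 0 :=
  (x1274.k4 c1274_0 :)
theorem x1275 : AuxS.{u} (cP4) s1275 0 a1275 := aux_base3 tw446 rfl b1275
theorem n1275 : Sound.{u} (cP4) s1275 0 :=
  (x1275.k4 c1275_0 :)
theorem x1276 : AuxS.{u} (cP4) s1276 0 a1276 := aux_base3 tw446 rfl b1276
theorem n1276 : Sound.{u} (cP4) s1276 0 :=
  (x1276.k4 c1276_0 :)
theorem x1277 : AuxS.{u} (cP4) s1277 0 a1277 := aux_base3 tw446 rfl b1277
theorem n1277 : Sound.{u} (cP4) s1277 0 :=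
  (x1277.k4 c1277_0 :)
theorem x1278 : AuxS.{u} (cP4) s1278 0 a1278 := aux_base3 tw446 rfl b1278
theorem n1278 : Sound.{u} (cP4) s1278 0 :=
  (x1278.k4 c1278_0 :)
theorem x1279 : AuxS.{u} (cP4) s1279 0 a1279 := aux_base3 tw446 rfl b1279
theorem n1279 : Sound.{u} (cP4) s1279 0 :=
  (x1279.k4 c1279_0 :)
theorem x1280 : AuxS.{u} (cP4) s1280 0 a1280 := aux_base3 tw446 rfl b1280
theorem n1280 : Sound.{u} (cP4) s1280 0 :=
  (x1280.k4 c1280_0 :)
theorem x1281 : AuxS.{u} (cP4) s1281 0 a1281 := aux_base3 tw446 rfl b1281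
theorem n1281 : Sound.{u} (cP4) s1281 0 :=
  (x1281.k4 c1281_0 :)
theorem x1243 : AuxS.{u} (cP4) s1243 0 a1243 := aux_base3 tw446 rfl b1243
theorem x1243_1 : AuxS.{u} (cP4) s1243 0 a1243_1 := x1243
theorem n1243 : Sound.{u} (cP4) s1243 0 :=
  (x1243_1.fr (AuxS.gam x1243_1 c1243_0) (AllS.cons n1250 (AllS.cons n1251 (AllS.cons n1252 (AllS.cons n1253 (AllS.cons n1254 (AllS.cons n1255 (AllS.cons n1256 (AllS.cons n1257 (AllS.cons n1258 (AllS.cons n1259 (AllS.cons n1260 (AllS.cons n1261 (AllS.cons n1262 (AllS.cons n1263 (AllS.cons n1264 (AllS.cons n1265 (AllS.cons n1266 (AllS.cons n1267 (AllS.cons n1268 (AllS.cons n1269 (AllS.cons n1270 (AllS.cons n1271 (AllS.cons n1272 (AllS.cons n1273 (AllS.cons n1274 (AllS.cons n1275 (AllS.cons n1276 (AllS.cons n1277 (AllS.cons n1278 (AllS.cons n1279 (AllS.cons n1280 (AllS.cons n1281 AllS.nil)))))))))))))))))))))))))))))))) c1243_1 :)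
theorem x1244 : AuxS.{u} (cP4) s1244 0 a1244 := aux_base3 tw447 rfl b1244
theorem n1244 : Sound.{u} (cP4) s1244 0 :=
  (x1244.k4 c1244_0 :)
theorem x1245 : AuxS.{u} (cP4) s1245 0 a1245 := aux_base3 tw448 rfl b1245
theorem n1245 : Sound.{u} (cP4) s1245 0 :=
  (x1245.k4 c1245_0 :)
theorem x1246 : AuxS.{u} (cP4) s1246 0 a1246 := aux_base3 tw449 rfl b1246
theorem x1246_1 : AuxS.{u} (cP4) s1246 0 a1246_1 := x1246
theorem n1246 : Sound.{u} (cP4) s1246 0 :=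
  (x1246_1.fr GamS.nil AllS.nil c1246_0 :)
theorem x1247 : AuxS.{u} (cP4) s1247 0 a1247 := aux_base3 tw450 rfl b1247
theorem x1247_1 : AuxS.{u} (cP4) s1247 0 a1247_1 := x1247
theorem n1247 : Sound.{u} (cP4) s1247 0 :=
  (x1247_1.fr GamS.nil AllS.nil c1247_0 :)
theorem x1248 : AuxS.{u} (cP4) s1248 0 a1248 := aux_base3 tw451 rfl b1248
theorem n1248 : Sound.{u} (cP4) s1248 0 :=
  (x1248.k4 c1248_0 :)
theorem x1249 : AuxS.{u} (cP4) s1249 0 a1249 := aux_base3 tw452 rfl b1249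
theorem n1249 : Sound.{u} (cP4) s1249 0 :=
  (x1249.k4 c1249_0 :)
theorem x1183 : AuxS.{u} (cP4) s1183 0 a1183 := aux_base3 tw442 rfl b1183
theorem x1183_1 : AuxS.{u} (cP4) s1183 0 a1183_1 := (AuxS.up x1183 c1183_7 :)
theorem p1183_1_1 : Phs s1183 a1183_1 [] [s1242, s1243, s1244, s1245, s1246, s1247, s1248, s1249] ct1183_1 v1183_1 7 w1183_1_1 := (Phs.fin c1183_1)
theorem p1183_1_3 : Phs s1183 a1183_1 [] [s1242, s1243, s1244, s1245, s1246, s1247, s1248, s1249] ct1183_1 v1183_1 5 w1183_1_3 := (Phs.stp c1183_2 p1183_1_1)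
theorem p1183_1_5 : Phs s1183 a1183_1 [] [s1242, s1243, s1244, s1245, s1246, s1247, s1248, s1249] ct1183_1 v1183_1 4 w1183_1_5 := (Phs.stp c1183_3 p1183_1_3)
theorem p1183_1_7 : Phs s1183 a1183_1 [] [s1242, s1243, s1244, s1245, s1246, s1247, s1248, s1249] ct1183_1 v1183_1 1 w1183_1_7 := (Phs.stp c1183_4 p1183_1_5)
theorem n1183 : Sound.{u} (cP4) s1183 0 :=
  (x1183_1.par c1183_0 ((x1183_1.weaken 1).ext2 (fun _ => rfl) GamS.nil (AllS.cons n1242 (AllS.cons n1243 (AllS.cons n1244 (AllS.cons n1245 (AllS.cons n1246 (AllS.cons n1247 (AllS.cons n1248 (AllS.cons n1249 AllS.nil)))))))) c1183_6 (Phs.stp c1183_5 p1183_1_7) (Phs.fin (ct := ct1183_1) rfl)) :)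
theorem x1184 : AuxS.{u} (cP4) s1184 0 a1184 := aux_base3 tw442 rfl b1184
theorem n1184 : Sound.{u} (cP4) s1184 0 :=
  (x1184.k4 c1184_0 :)
theorem x1185 : AuxS.{u} (cP4) s1185 0 a1185 := aux_base3 tw442 rfl b1185
theorem n1185 : Sound.{u} (cP4) s1185 0 :=
  (x1185.k4 c1185_0 :)
theorem x1186 : AuxS.{u} (cP4) s1186 0 a1186 := aux_base3 tw442 rfl b1186
theorem n1186 : Sound.{u} (cP4) s1186 0 :=
  (x1186.k4 c1186_0 :)
theorem x1187 : AuxS.{u} (cP4) s1187 0 a1187 := aux_base3 tw442 rfl b1187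
theorem n1187 : Sound.{u} (cP4) s1187 0 :=
  (x1187.k4 c1187_0 :)
theorem x1188 : AuxS.{u} (cP4) s1188 0 a1188 := aux_base3 tw442 rfl b1188
theorem n1188 : Sound.{u} (cP4) s1188 0 :=
  (x1188.k4 c1188_0 :)
theorem x1189 : AuxS.{u} (cP4) s1189 0 a1189 := aux_base3 tw442 rfl b1189
theorem n1189 : Sound.{u} (cP4) s1189 0 :=
  (x1189.k4 c1189_0 :)
theorem x1190 : AuxS.{u} (cP4) s1190 0 a1190 := aux_base3 tw442 rfl b1190
theorem n1190 : Sound.{u} (cP4) s1190 0 :=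
  (x1190.k4 c1190_0 :)
theorem x1191 : AuxS.{u} (cP4) s1191 0 a1191 := aux_base3 tw442 rfl b1191
theorem n1191 : Sound.{u} (cP4) s1191 0 :=
  (x1191.k4 c1191_0 :)
theorem x1192 : AuxS.{u} (cP4) s1192 0 a1192 := aux_base3 tw442 rfl b1192
theorem n1192 : Sound.{u} (cP4) s1192 0 :=
  (x1192.k4 c1192_0 :)
theorem x1193 : AuxS.{u} (cP4) s1193 0 a1193 := aux_base3 tw442 rfl b1193
theorem n1193 : Sound.{u} (cP4) s1193 0 :=
  (x1193.k4 c1193_0 :)
theorem x1194 : AuxS.{u} (cP4) s1194 0 a1194 := aux_base3 tw442 rfl b1194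
theorem n1194 : Sound.{u} (cP4) s1194 0 :=
  (x1194.k4 c1194_0 :)
theorem x1195 : AuxS.{u} (cP4) s1195 0 a1195 := aux_base3 tw442 rfl b1195
theorem n1195 : Sound.{u} (cP4) s1195 0 :=
  (x1195.k4 c1195_0 :)
theorem x1196 : AuxS.{u} (cP4) s1196 0 a1196 := aux_base3 tw442 rfl b1196
theorem n1196 : Sound.{u} (cP4) s1196 0 :=
  (x1196.k4 c1196_0 :)
theorem x1197 : AuxS.{u} (cP4) s1197 0 a1197 := aux_base3 tw442 rfl b1197
theorem n1197 : Sound.{u} (cP4) s1197 0 :=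
  (x1197.k4 c1197_0 :)
theorem x1198 : AuxS.{u} (cP4) s1198 0 a1198 := aux_base3 tw442 rfl b1198
theorem n1198 : Sound.{u} (cP4) s1198 0 :=
  (x1198.k4 c1198_0 :)
theorem x1199 : AuxS.{u} (cP4) s1199 0 a1199 := aux_base3 tw442 rfl b1199
theorem n1199 : Sound.{u} (cP4) s1199 0 :=
  (x1199.k4 c1199_0 :)
theorem x1200 : AuxS.{u} (cP4) s1200 0 a1200 := aux_base3 tw442 rfl b1200
theorem n1200 : Sound.{u} (cP4) s1200 0 :=
  (x1200.k4 c1200_0 :)
theorem x1201 : AuxS.{u} (cP4) s1201 0 a1201 := aux_base3 tw442 rfl b1201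
theorem n1201 : Sound.{u} (cP4) s1201 0 :=
  (x1201.k4 c1201_0 :)
theorem x1202 : AuxS.{u} (cP4) s1202 0 a1202 := aux_base3 tw442 rfl b1202
theorem n1202 : Sound.{u} (cP4) s1202 0 :=
  (x1202.k4 c1202_0 :)
theorem x1203 : AuxS.{u} (cP4) s1203 0 a1203 := aux_base3 tw442 rfl b1203
theorem n1203 : Sound.{u} (cP4) s1203 0 :=
  (x1203.k4 c1203_0 :)
theorem x1204 : AuxS.{u} (cP4) s1204 0 a1204 := aux_base3 tw442 rfl b1204
theorem n1204 : Sound.{u} (cP4) s1204 0 :=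
  (x1204.k4 c1204_0 :)
theorem x1205 : AuxS.{u} (cP4) s1205 0 a1205 := aux_base3 tw442 rfl b1205
theorem n1205 : Sound.{u} (cP4) s1205 0 :=
  (x1205.k4 c1205_0 :)
theorem x1206 : AuxS.{u} (cP4) s1206 0 a1206 := aux_base3 tw442 rfl b1206
theorem n1206 : Sound.{u} (cP4) s1206 0 :=
  (x1206.k4 c1206_0 :)
theorem x1207 : AuxS.{u} (cP4) s1207 0 a1207 := aux_base3 tw442 rfl b1207
theorem n1207 : Sound.{u} (cP4) s1207 0 :=
  (x1207.k4 c1207_0 :)
theorem x1208 : AuxS.{u} (cP4) s1208 0 a1208 := aux_base3 tw442 rfl b1208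
theorem n1208 : Sound.{u} (cP4) s1208 0 :=
  (x1208.k4 c1208_0 :)
theorem x1209 : AuxS.{u} (cP4) s1209 0 a1209 := aux_base3 tw442 rfl b1209
theorem n1209 : Sound.{u} (cP4) s1209 0 :=
  (x1209.k4 c1209_0 :)
theorem x1210 : AuxS.{u} (cP4) s1210 0 a1210 := aux_base3 tw442 rfl b1210
theorem n1210 : Sound.{u} (cP4) s1210 0 :=
  (x1210.k4 c1210_0 :)
theorem x1211 : AuxS.{u} (cP4) s1211 0 a1211 := aux_base3 tw442 rfl b1211
theorem n1211 : Sound.{u} (cP4) s1211 0 :=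
  (x1211.k4 c1211_0 :)
theorem x1212 : AuxS.{u} (cP4) s1212 0 a1212 := aux_base3 tw442 rfl b1212
theorem n1212 : Sound.{u} (cP4) s1212 0 :=
  (x1212.k4 c1212_0 :)
theorem x1213 : AuxS.{u} (cP4) s1213 0 a1213 := aux_base3 tw442 rfl b1213
theorem n1213 : Sound.{u} (cP4) s1213 0 :=
  (x1213.k4 c1213_0 :)
theorem x1214 : AuxS.{u} (cP4) s1214 0 a1214 := aux_base3 tw442 rfl b1214
theorem n1214 : Sound.{u} (cP4) s1214 0 :=
  (x1214.k4 c1214_0 :)
theorem x1215 : AuxS.{u} (cP4) s1215 0 a1215 := aux_base3 tw442 rfl b1215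
theorem n1215 : Sound.{u} (cP4) s1215 0 :=
  (x1215.k4 c1215_0 :)
theorem x1216 : AuxS.{u} (cP4) s1216 0 a1216 := aux_base3 tw442 rfl b1216
theorem n1216 : Sound.{u} (cP4) s1216 0 :=
  (x1216.k4 c1216_0 :)
theorem x1217 : AuxS.{u} (cP4) s1217 0 a1217 := aux_base3 tw442 rfl b1217
theorem n1217 : Sound.{u} (cP4) s1217 0 :=
  (x1217.k4 c1217_0 :)
theorem x1218 : AuxS.{u} (cP4) s1218 0 a1218 := aux_base3 tw442 rfl b1218
theorem n1218 : Sound.{u} (cP4) s1218 0 :=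
  (x1218.k4 c1218_0 :)
theorem x1219 : AuxS.{u} (cP4) s1219 0 a1219 := aux_base3 tw442 rfl b1219
theorem n1219 : Sound.{u} (cP4) s1219 0 :=
  (x1219.k4 c1219_0 :)
theorem x1220 : AuxS.{u} (cP4) s1220 0 a1220 := aux_base3 tw442 rfl b1220
theorem n1220 : Sound.{u} (cP4) s1220 0 :=
  (x1220.k4 c1220_0 :)
theorem x1221 : AuxS.{u} (cP4) s1221 0 a1221 := aux_base3 tw442 rfl b1221
theorem n1221 : Sound.{u} (cP4) s1221 0 :=
  (x1221.k4 c1221_0 :)
theorem x1222 : AuxS.{u} (cP4) s1222 0 a1222 := aux_base3 tw442 rfl b1222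
theorem n1222 : Sound.{u} (cP4) s1222 0 :=
  (x1222.k4 c1222_0 :)
theorem x1223 : AuxS.{u} (cP4) s1223 0 a1223 := aux_base3 tw442 rfl b1223
theorem n1223 : Sound.{u} (cP4) s1223 0 :=
  (x1223.k4 c1223_0 :)
theorem x1224 : AuxS.{u} (cP4) s1224 0 a1224 := aux_base3 tw442 rfl b1224
theorem n1224 : Sound.{u} (cP4) s1224 0 :=
  (x1224.k4 c1224_0 :)
theorem x1225 : AuxS.{u} (cP4) s1225 0 a1225 := aux_base3 tw442 rfl b1225
theorem n1225 : Sound.{u} (cP4) s1225 0 :=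
  (x1225.k4 c1225_0 :)
theorem x1226 : AuxS.{u} (cP4) s1226 0 a1226 := aux_base3 tw442 rfl b1226
theorem n1226 : Sound.{u} (cP4) s1226 0 :=
  (x1226.k4 c1226_0 :)
theorem x1227 : AuxS.{u} (cP4) s1227 0 a1227 := aux_base3 tw442 rfl b1227
theorem n1227 : Sound.{u} (cP4) s1227 0 :=
  (x1227.k4 c1227_0 :)
theorem x1228 : AuxS.{u} (cP4) s1228 0 a1228 := aux_base3 tw442 rfl b1228
theorem n1228 : Sound.{u} (cP4) s1228 0 :=
  (x1228.k4 c1228_0 :)
theorem x1229 : AuxS.{u} (cP4) s1229 0 a1229 := aux_base3 tw442 rfl b1229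
theorem n1229 : Sound.{u} (cP4) s1229 0 :=
  (x1229.k4 c1229_0 :)
theorem x1230 : AuxS.{u} (cP4) s1230 0 a1230 := aux_base3 tw442 rfl b1230
theorem n1230 : Sound.{u} (cP4) s1230 0 :=
  (x1230.k4 c1230_0 :)
theorem x1231 : AuxS.{u} (cP4) s1231 0 a1231 := aux_base3 tw442 rfl b1231
theorem n1231 : Sound.{u} (cP4) s1231 0 :=
  (x1231.k4 c1231_0 :)
theorem x1232 : AuxS.{u} (cP4) s1232 0 a1232 := aux_base3 tw442 rfl b1232
theorem n1232 : Sound.{u} (cP4) s1232 0 :=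
  (x1232.k4 c1232_0 :)
theorem x1233 : AuxS.{u} (cP4) s1233 0 a1233 := aux_base3 tw442 rfl b1233
theorem n1233 : Sound.{u} (cP4) s1233 0 :=
  (x1233.k4 c1233_0 :)
theorem x1234 : AuxS.{u} (cP4) s1234 0 a1234 := aux_base3 tw442 rfl b1234
theorem n1234 : Sound.{u} (cP4) s1234 0 :=
  (x1234.k4 c1234_0 :)
theorem x1235 : AuxS.{u} (cP4) s1235 0 a1235 := aux_base3 tw442 rfl b1235
theorem n1235 : Sound.{u} (cP4) s1235 0 :=
  (x1235.k4 c1235_0 :)
theorem x1236 : AuxS.{u} (cP4) s1236 0 a1236 := aux_base3 tw442 rfl b1236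
theorem n1236 : Sound.{u} (cP4) s1236 0 :=
  (x1236.k4 c1236_0 :)
theorem x1237 : AuxS.{u} (cP4) s1237 0 a1237 := aux_base3 tw442 rfl b1237
theorem n1237 : Sound.{u} (cP4) s1237 0 :=
  (x1237.k4 c1237_0 :)
theorem x1238 : AuxS.{u} (cP4) s1238 0 a1238 := aux_base3 tw442 rfl b1238
theorem n1238 : Sound.{u} (cP4) s1238 0 :=
  (x1238.k4 c1238_0 :)
theorem x1239 : AuxS.{u} (cP4) s1239 0 a1239 := aux_base3 tw442 rfl b1239
theorem n1239 : Sound.{u} (cP4) s1239 0 :=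
  (x1239.k4 c1239_0 :)
theorem x1240 : AuxS.{u} (cP4) s1240 0 a1240 := aux_base3 tw442 rfl b1240
theorem n1240 : Sound.{u} (cP4) s1240 0 :=
  (x1240.k4 c1240_0 :)
theorem x1241 : AuxS.{u} (cP4) s1241 0 a1241 := aux_base3 tw442 rfl b1241
theorem n1241 : Sound.{u} (cP4) s1241 0 :=
  (x1241.k4 c1241_0 :)
theorem x1176 : AuxS.{u} (cP4) s1176 0 a1176 := aux_base3 tw442 rfl b1176
theorem x1176_1 : AuxS.{u} (cP4) s1176 0 a1176_1 := x1176
theorem n1176 : Sound.{u} (cP4) s1176 0 :=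
  (x1176_1.fr (AuxS.gam x1176_1 c1176_0) (AllS.cons n1178 (AllS.cons n1179 (AllS.cons n1180 (AllS.cons n1181 (AllS.cons n1182 (AllS.cons n1183 (AllS.cons n1184 (AllS.cons n1185 (AllS.cons n1186 (AllS.cons n1187 (AllS.cons n1188 (AllS.cons n1189 (AllS.cons n1190 (AllS.cons n1191 (AllS.cons n1192 (AllS.cons n1193 (AllS.cons n1194 (AllS.cons n1195 (AllS.cons n1196 (AllS.cons n1197 (AllS.cons n1198 (AllS.cons n1199 (AllS.cons n1200 (AllS.cons n1201 (AllS.cons n1202 (AllS.cons n1203 (AllS.cons n1204 (AllS.cons n1205 (AllS.cons n1206 (AllS.cons n1207 (AllS.cons n1208 (AllS.cons n1209 (AllS.cons n1210 (AllS.cons n1211 (AllS.cons n1212 (AllS.cons n1213 (AllS.cons n1214 (AllS.cons n1215 (AllS.cons n1216 (AllS.cons n1217 (AllS.cons n1218 (AllS.cons n1219 (AllS.cons n1220 (AllS.cons n1221 (AllS.cons n1222 (AllS.cons n1223 (AllS.cons n1224 (AllS.cons n1225 (AllS.cons n1226 (AllS.cons n1227 (AllS.cons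 n1228 (AllS.cons n1229 (AllS.cons n1230 (AllS.cons n1231 (AllS.cons n1232 (AllS.cons n1233 (AllS.cons n1234 (AllS.cons n1235 (AllS.cons n1236 (AllS.cons n1237 (AllS.cons n1238 (AllS.cons n1239 (AllS.cons n1240 (AllS.cons n1241 AllS.nil)))))))))))))))))))))))))))))))))))))))))))))))))))))))))))))))) c1176_1 :)
theorem x1177 : AuxS.{u} (cP4) s1177 0 a1177 := aux_base3 tw442 rfl b1177
theorem n1177 : Sound.{u} (cP4) s1177 0 :=
  (x1177.k4 c1177_0 :)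
theorem x1171 : AuxS.{u} (cP4) s1171 0 a1171 := aux_base3 tw442 rfl b1171
theorem x1171_1 : AuxS.{u} (cP4) s1171 0 a1171_1 := x1171
theorem n1171 : Sound.{u} (cP4) s1171 0 :=
  (x1171_1.fr GamS.nil (AllS.cons n1176 (AllS.cons n1177 AllS.nil)) c1171_0 :)
theorem x1282 : AuxS.{u} (cP4) s1282 0 a1282 := aux_base3 tw443 rfl b1282
theorem x1282_1 : AuxS.{u} (cP4) s1282 0 a1282_1 := x1282
theorem n1282 : Sound.{u} (cP4) s1282 0 :=
  (x1282_1.fr GamS.nil AllS.nil c1282_0 :)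
theorem x1283 : AuxS.{u} (cP4) s1283 0 a1283 := aux_base3 tw443 rfl b1283
theorem n1283 : Sound.{u} (cP4) s1283 0 :=
  (x1283.k4 c1283_0 :)
theorem x1172 : AuxS.{u} (cP4) s1172 0 a1172 := aux_base3 tw443 rfl b1172
theorem x1172_1 : AuxS.{u} (cP4) s1172 0 a1172_1 := x1172
theorem n1172 : Sound.{u} (cP4) s1172 0 :=
  (x1172_1.fr GamS.nil (AllS.cons n1282 (AllS.cons n1283 AllS.nil)) c1172_0 :)
theorem x1284 : AuxS.{u} (cP4) s1284 0 a1284 := aux_base3 tw444 rfl b1284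
theorem x1284_1 : AuxS.{u} (cP4) s1284 0 a1284_1 := x1284
theorem n1284 : Sound.{u} (cP4) s1284 0 :=
  (x1284_1.fr GamS.nil AllS.nil c1284_0 :)
theorem x1285 : AuxS.{u} (cP4) s1285 0 a1285 := aux_base3 tw444 rfl b1285
theorem n1285 : Sound.{u} (cP4) s1285 0 :=
  (x1285.k4 c1285_0 :)
theorem x1173 : AuxS.{u} (cP4) s1173 0 a1173 := aux_base3 tw444 rfl b1173
theorem x1173_1 : AuxS.{u} (cP4) s1173 0 a1173_1 := x1173
theorem n1173 : Sound.{u} (cP4) s1173 0 :=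
  (x1173_1.fr GamS.nil (AllS.cons n1284 (AllS.cons n1285 AllS.nil)) c1173_0 :)
theorem x1168 : AuxS.{u} (cP4) s1168 0 a1168 := aux_base3 tw439 rfl b1168
theorem x1168_1 : AuxS.{u} (cP4) s1168 0 a1168_1 := x1168
theorem x1168_2 : AuxS.{u} (cP4) s1168 0 a1168_2 := x1168_1
theorem n1168 : Sound.{u} (cP4) s1168 0 :=
  (x1168_2.fr2 GamS.nil (AllS.cons n1170 (AllS.cons n1171 (AllS.cons n1172 (AllS.cons n1173 AllS.nil)))) c1168_0 :)
theorem x1290 : AuxS.{u} (cP4) s1290 0 a1290 := aux_base3 tw453 rfl b1290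
theorem x1290_1 : AuxS.{u} (cP4) s1290 0 a1290_1 := x1290
theorem n1290 : Sound.{u} (cP4) s1290 0 :=
  (x1290_1.fr GamS.nil AllS.nil c1290_0 :)
theorem x1291 : AuxS.{u} (cP4) s1291 0 a1291 := aux_base3 tw453 rfl b1291
theorem n1291 : Sound.{u} (cP4) s1291 0 :=
  (x1291.k4 c1291_0 :)
theorem x1286 : AuxS.{u} (cP4) s1286 0 a1286 := aux_base3 tw453 rfl b1286
theorem x1286_1 : AuxS.{u} (cP4) s1286 0 a1286_1 := x1286
theorem n1286 : Sound.{u} (cP4) s1286 0 :=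
  (x1286_1.fr GamS.nil (AllS.cons n1290 (AllS.cons n1291 AllS.nil)) c1286_0 :)
theorem x1292 : AuxS.{u} (cP4) s1292 0 a1292 := aux_base3 tw454 rfl b1292
theorem x1292_1 : AuxS.{u} (cP4) s1292 0 a1292_1 := x1292
theorem n1292 : Sound.{u} (cP4) s1292 0 :=
  (x1292_1.fr GamS.nil AllS.nil c1292_0 :)
theorem x1293 : AuxS.{u} (cP4) s1293 0 a1293 := aux_base3 tw454 rfl b1293
theorem n1293 : Sound.{u} (cP4) s1293 0 :=
  (x1293.k4 c1293_0 :)
theorem x1287 : AuxS.{u} (cP4) s1287 0 a1287 := aux_base3 tw454 rfl b1287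
theorem x1287_1 : AuxS.{u} (cP4) s1287 0 a1287_1 := x1287
theorem n1287 : Sound.{u} (cP4) s1287 0 :=
  (x1287_1.fr GamS.nil (AllS.cons n1292 (AllS.cons n1293 AllS.nil)) c1287_0 :)
theorem x1294 : AuxS.{u} (cP4) s1294 0 a1294 := aux_base3 tw455 rfl b1294
theorem x1294_1 : AuxS.{u} (cP4) s1294 0 a1294_1 := x1294
theorem n1294 : Sound.{u} (cP4) s1294 0 :=
  (x1294_1.fr GamS.nil AllS.nil c1294_0 :)
theorem x1295 : AuxS.{u} (cP4) s1295 0 a1295 := aux_base3 tw455 rfl b1295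
theorem n1295 : Sound.{u} (cP4) s1295 0 :=
  (x1295.k4 c1295_0 :)
theorem x1288 : AuxS.{u} (cP4) s1288 0 a1288 := aux_base3 tw455 rfl b1288
theorem x1288_1 : AuxS.{u} (cP4) s1288 0 a1288_1 := x1288
theorem n1288 : Sound.{u} (cP4) s1288 0 :=
  (x1288_1.fr GamS.nil (AllS.cons n1294 (AllS.cons n1295 AllS.nil)) c1288_0 :)
theorem x1298 : AuxS.{u} (cP4) s1298 0 a1298 := aux_base3 tw456 rfl b1298
theorem n1298 : Sound.{u} (cP4) s1298 0 :=
  (x1298.k4 c1298_0 :)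
theorem x1299 : AuxS.{u} (cP4) s1299 0 a1299 := aux_base3 tw456 rfl b1299
theorem n1299 : Sound.{u} (cP4) s1299 0 :=
  (x1299.k4 c1299_0 :)
theorem x1300 : AuxS.{u} (cP4) s1300 0 a1300 := aux_base3 tw456 rfl b1300
theorem n1300 : Sound.{u} (cP4) s1300 0 :=
  (x1300.k4 c1300_0 :)
theorem x1301 : AuxS.{u} (cP4) s1301 0 a1301 := aux_base3 tw456 rfl b1301
theorem n1301 : Sound.{u} (cP4) s1301 0 :=
  (x1301.k4 c1301_0 :)
theorem x1302 : AuxS.{u} (cP4) s1302 0 a1302 := aux_base3 tw456 rfl b1302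
theorem n1302 : Sound.{u} (cP4) s1302 0 :=
  (x1302.k4 c1302_0 :)
theorem x1303 : AuxS.{u} (cP4) s1303 0 a1303 := aux_base3 tw456 rfl b1303
theorem n1303 : Sound.{u} (cP4) s1303 0 :=
  (x1303.k4 c1303_0 :)
theorem x1304 : AuxS.{u} (cP4) s1304 0 a1304 := aux_base3 tw456 rfl b1304
theorem n1304 : Sound.{u} (cP4) s1304 0 :=
  (x1304.k4 c1304_0 :)
theorem x1305 : AuxS.{u} (cP4) s1305 0 a1305 := aux_base3 tw456 rfl b1305
theorem n1305 : Sound.{u} (cP4) s1305 0 :=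
  (x1305.k4 c1305_0 :)
theorem x1306 : AuxS.{u} (cP4) s1306 0 a1306 := aux_base3 tw456 rfl b1306
theorem n1306 : Sound.{u} (cP4) s1306 0 :=
  (x1306.k4 c1306_0 :)
theorem x1307 : AuxS.{u} (cP4) s1307 0 a1307 := aux_base3 tw456 rfl b1307
theorem n1307 : Sound.{u} (cP4) s1307 0 :=
  (x1307.k4 c1307_0 :)
theorem x1308 : AuxS.{u} (cP4) s1308 0 a1308 := aux_base3 tw456 rfl b1308
theorem n1308 : Sound.{u} (cP4) s1308 0 :=
  (x1308.k4 c1308_0 :)
theorem x1309 : AuxS.{u} (cP4) s1309 0 a1309 := aux_base3 tw456 rfl b1309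
theorem n1309 : Sound.{u} (cP4) s1309 0 :=
  (x1309.k4 c1309_0 :)
theorem x1310 : AuxS.{u} (cP4) s1310 0 a1310 := aux_base3 tw456 rfl b1310
theorem n1310 : Sound.{u} (cP4) s1310 0 :=
  (x1310.k4 c1310_0 :)
theorem x1311 : AuxS.{u} (cP4) s1311 0 a1311 := aux_base3 tw456 rfl b1311
theorem n1311 : Sound.{u} (cP4) s1311 0 :=
  (x1311.k4 c1311_0 :)
theorem x1312 : AuxS.{u} (cP4) s1312 0 a1312 := aux_base3 tw456 rfl b1312
theorem n1312 : Sound.{u} (cP4) s1312 0 :=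
  (x1312.k4 c1312_0 :)
theorem x1313 : AuxS.{u} (cP4) s1313 0 a1313 := aux_base3 tw456 rfl b1313
theorem n1313 : Sound.{u} (cP4) s1313 0 :=
  (x1313.k4 c1313_0 :)
theorem x1314 : AuxS.{u} (cP4) s1314 0 a1314 := aux_base3 tw456 rfl b1314
theorem n1314 : Sound.{u} (cP4) s1314 0 :=
  (x1314.k4 c1314_0 :)
theorem x1315 : AuxS.{u} (cP4) s1315 0 a1315 := aux_base3 tw456 rfl b1315
theorem n1315 : Sound.{u} (cP4) s1315 0 :=
  (x1315.k4 c1315_0 :)
theorem x1316 : AuxS.{u} (cP4) s1316 0 a1316 := aux_base3 tw456 rfl b1316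
theorem n1316 : Sound.{u} (cP4) s1316 0 :=
  (x1316.k4 c1316_0 :)
theorem x1317 : AuxS.{u} (cP4) s1317 0 a1317 := aux_base3 tw456 rfl b1317
theorem n1317 : Sound.{u} (cP4) s1317 0 :=
  (x1317.k4 c1317_0 :)
theorem x1318 : AuxS.{u} (cP4) s1318 0 a1318 := aux_base3 tw456 rfl b1318
theorem n1318 : Sound.{u} (cP4) s1318 0 :=
  (x1318.k4 c1318_0 :)
theorem x1319 : AuxS.{u} (cP4) s1319 0 a1319 := aux_base3 tw456 rfl b1319
theorem n1319 : Sound.{u} (cP4) s1319 0 :=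
  (x1319.k4 c1319_0 :)
theorem x1320 : AuxS.{u} (cP4) s1320 0 a1320 := aux_base3 tw456 rfl b1320
theorem n1320 : Sound.{u} (cP4) s1320 0 :=
  (x1320.k4 c1320_0 :)
theorem x1321 : AuxS.{u} (cP4) s1321 0 a1321 := aux_base3 tw456 rfl b1321
theorem n1321 : Sound.{u} (cP4) s1321 0 :=
  (x1321.k4 c1321_0 :)
theorem x1322 : AuxS.{u} (cP4) s1322 0 a1322 := aux_base3 tw456 rfl b1322
theorem n1322 : Sound.{u} (cP4) s1322 0 :=
  (x1322.k4 c1322_0 :)
theorem x1323 : AuxS.{u} (cP4) s1323 0 a1323 := aux_base3 tw456 rfl b1323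
theorem n1323 : Sound.{u} (cP4) s1323 0 :=
  (x1323.k4 c1323_0 :)
theorem x1324 : AuxS.{u} (cP4) s1324 0 a1324 := aux_base3 tw456 rfl b1324
theorem n1324 : Sound.{u} (cP4) s1324 0 :=
  (x1324.k4 c1324_0 :)
theorem x1325 : AuxS.{u} (cP4) s1325 0 a1325 := aux_base3 tw456 rfl b1325
theorem n1325 : Sound.{u} (cP4) s1325 0 :=
  (x1325.k4 c1325_0 :)
theorem x1326 : AuxS.{u} (cP4) s1326 0 a1326 := aux_base3 tw456 rfl b1326
theorem n1326 : Sound.{u} (cP4) s1326 0 :=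
  (x1326.k4 c1326_0 :)
theorem x1327 : AuxS.{u} (cP4) s1327 0 a1327 := aux_base3 tw456 rfl b1327
theorem n1327 : Sound.{u} (cP4) s1327 0 :=
  (x1327.k4 c1327_0 :)
theorem x1328 : AuxS.{u} (cP4) s1328 0 a1328 := aux_base3 tw456 rfl b1328
theorem n1328 : Sound.{u} (cP4) s1328 0 :=
  (x1328.k4 c1328_0 :)
theorem x1329 : AuxS.{u} (cP4) s1329 0 a1329 := aux_base3 tw456 rfl b1329
theorem n1329 : Sound.{u} (cP4) s1329 0 :=
  (x1329.k4 c1329_0 :)
theorem x1330 : AuxS.{u} (cP4) s1330 0 a1330 := aux_base3 tw456 rfl b1330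
theorem n1330 : Sound.{u} (cP4) s1330 0 :=
  (x1330.k4 c1330_0 :)
theorem x1331 : AuxS.{u} (cP4) s1331 0 a1331 := aux_base3 tw456 rfl b1331
theorem n1331 : Sound.{u} (cP4) s1331 0 :=
  (x1331.k4 c1331_0 :)
theorem x1332 : AuxS.{u} (cP4) s1332 0 a1332 := aux_base3 tw456 rfl b1332
theorem n1332 : Sound.{u} (cP4) s1332 0 :=
  (x1332.k4 c1332_0 :)
theorem x1333 : AuxS.{u} (cP4) s1333 0 a1333 := aux_base3 tw456 rfl b1333
theorem n1333 : Sound.{u} (cP4) s1333 0 :=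
  (x1333.k4 c1333_0 :)
theorem x1334 : AuxS.{u} (cP4) s1334 0 a1334 := aux_base3 tw456 rfl b1334
theorem n1334 : Sound.{u} (cP4) s1334 0 :=
  (x1334.k4 c1334_0 :)
theorem x1335 : AuxS.{u} (cP4) s1335 0 a1335 := aux_base3 tw456 rfl b1335
theorem n1335 : Sound.{u} (cP4) s1335 0 :=
  (x1335.k4 c1335_0 :)
theorem x1336 : AuxS.{u} (cP4) s1336 0 a1336 := aux_base3 tw456 rfl b1336
theorem n1336 : Sound.{u} (cP4) s1336 0 :=
  (x1336.k4 c1336_0 :)
theorem x1337 : AuxS.{u} (cP4) s1337 0 a1337 := aux_base3 tw456 rfl b1337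
theorem n1337 : Sound.{u} (cP4) s1337 0 :=
  (x1337.k4 c1337_0 :)
theorem x1338 : AuxS.{u} (cP4) s1338 0 a1338 := aux_base3 tw456 rfl b1338
theorem n1338 : Sound.{u} (cP4) s1338 0 :=
  (x1338.k4 c1338_0 :)
theorem x1339 : AuxS.{u} (cP4) s1339 0 a1339 := aux_base3 tw456 rfl b1339
theorem n1339 : Sound.{u} (cP4) s1339 0 :=
  (x1339.k4 c1339_0 :)
theorem x1340 : AuxS.{u} (cP4) s1340 0 a1340 := aux_base3 tw456 rfl b1340
theorem n1340 : Sound.{u} (cP4) s1340 0 :=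
  (x1340.k4 c1340_0 :)
theorem x1341 : AuxS.{u} (cP4) s1341 0 a1341 := aux_base3 tw456 rfl b1341
theorem n1341 : Sound.{u} (cP4) s1341 0 :=
  (x1341.k4 c1341_0 :)
theorem x1342 : AuxS.{u} (cP4) s1342 0 a1342 := aux_base3 tw456 rfl b1342
theorem n1342 : Sound.{u} (cP4) s1342 0 :=
  (x1342.k4 c1342_0 :)
theorem x1362 : AuxS.{u} (cP4) s1362 0 a1362 := aux_base3 tw457 rfl b1362
theorem x1362_1 : AuxS.{u} (cP4) s1362 0 a1362_1 := x1362
theorem n1362 : Sound.{u} (cP4) s1362 0 :=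
  (x1362_1.fr GamS.nil AllS.nil c1362_0 :)
theorem x1363 : AuxS.{u} (cP4) s1363 0 a1363 := aux_base3 tw458 rfl b1363
theorem x1363_1 : AuxS.{u} (cP4) s1363 0 a1363_1 := x1363
theorem n1363 : Sound.{u} (cP4) s1363 0 :=
  (x1363_1.fr GamS.nil AllS.nil c1363_0 :)
theorem x1364 : AuxS.{u} (cP4) s1364 0 a1364 := aux_base3 tw459 rfl b1364
theorem n1364 : Sound.{u} (cP4) s1364 0 :=
  (x1364.k4 c1364_0 :)
theorem x1365 : AuxS.{u} (cP4) s1365 0 a1365 := aux_base3 tw460 rfl b1365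
theorem n1365 : Sound.{u} (cP4) s1365 0 :=
  (x1365.k4 c1365_0 :)
theorem x1370 : AuxS.{u} (cP4) s1370 0 a1370 := aux_base3 tw461 rfl b1370
theorem n1370 : Sound.{u} (cP4) s1370 0 :=
  (x1370.k4 c1370_0 :)
theorem x1371 : AuxS.{u} (cP4) s1371 0 a1371 := aux_base3 tw461 rfl b1371
theorem n1371 : Sound.{u} (cP4) s1371 0 :=
  (x1371.k4 c1371_0 :)
theorem x1372 : AuxS.{u} (cP4) s1372 0 a1372 := aux_base3 tw461 rfl b1372
theorem n1372 : Sound.{u} (cP4) s1372 0 :=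
  (x1372.k4 c1372_0 :)
theorem x1373 : AuxS.{u} (cP4) s1373 0 a1373 := aux_base3 tw461 rfl b1373
theorem n1373 : Sound.{u} (cP4) s1373 0 :=
  (x1373.k4 c1373_0 :)
theorem x1374 : AuxS.{u} (cP4) s1374 0 a1374 := aux_base3 tw461 rfl b1374
theorem n1374 : Sound.{u} (cP4) s1374 0 :=
  (x1374.k4 c1374_0 :)
theorem x1375 : AuxS.{u} (cP4) s1375 0 a1375 := aux_base3 tw461 rfl b1375
theorem n1375 : Sound.{u} (cP4) s1375 0 :=
  (x1375.k4 c1375_0 :)
theorem x1376 : AuxS.{u} (cP4) s1376 0 a1376 := aux_base3 tw461 rfl b1376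
theorem n1376 : Sound.{u} (cP4) s1376 0 :=
  (x1376.k4 c1376_0 :)
theorem x1377 : AuxS.{u} (cP4) s1377 0 a1377 := aux_base3 tw461 rfl b1377
theorem n1377 : Sound.{u} (cP4) s1377 0 :=
  (x1377.k4 c1377_0 :)
theorem x1378 : AuxS.{u} (cP4) s1378 0 a1378 := aux_base3 tw461 rfl b1378
theorem n1378 : Sound.{u} (cP4) s1378 0 :=
  (x1378.k4 c1378_0 :)
theorem x1379 : AuxS.{u} (cP4) s1379 0 a1379 := aux_base3 tw461 rfl b1379
theorem n1379 : Sound.{u} (cP4) s1379 0 :=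
  (x1379.k4 c1379_0 :)
theorem x1380 : AuxS.{u} (cP4) s1380 0 a1380 := aux_base3 tw461 rfl b1380
theorem n1380 : Sound.{u} (cP4) s1380 0 :=
  (x1380.k4 c1380_0 :)
theorem x1381 : AuxS.{u} (cP4) s1381 0 a1381 := aux_base3 tw461 rfl b1381
theorem n1381 : Sound.{u} (cP4) s1381 0 :=
  (x1381.k4 c1381_0 :)
theorem x1382 : AuxS.{u} (cP4) s1382 0 a1382 := aux_base3 tw461 rfl b1382
theorem n1382 : Sound.{u} (cP4) s1382 0 :=
  (x1382.k4 c1382_0 :)
theorem x1383 : AuxS.{u} (cP4) s1383 0 a1383 := aux_base3 tw461 rfl b1383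
theorem n1383 : Sound.{u} (cP4) s1383 0 :=
  (x1383.k4 c1383_0 :)
theorem x1384 : AuxS.{u} (cP4) s1384 0 a1384 := aux_base3 tw461 rfl b1384
theorem n1384 : Sound.{u} (cP4) s1384 0 :=
  (x1384.k4 c1384_0 :)
theorem x1385 : AuxS.{u} (cP4) s1385 0 a1385 := aux_base3 tw461 rfl b1385
theorem n1385 : Sound.{u} (cP4) s1385 0 :=
  (x1385.k4 c1385_0 :)
theorem x1386 : AuxS.{u} (cP4) s1386 0 a1386 := aux_base3 tw461 rfl b1386
theorem n1386 : Sound.{u} (cP4) s1386 0 :=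
  (x1386.k4 c1386_0 :)
theorem x1387 : AuxS.{u} (cP4) s1387 0 a1387 := aux_base3 tw461 rfl b1387
theorem n1387 : Sound.{u} (cP4) s1387 0 :=
  (x1387.k4 c1387_0 :)
theorem x1388 : AuxS.{u} (cP4) s1388 0 a1388 := aux_base3 tw461 rfl b1388
theorem n1388 : Sound.{u} (cP4) s1388 0 :=
  (x1388.k4 c1388_0 :)
theorem x1389 : AuxS.{u} (cP4) s1389 0 a1389 := aux_base3 tw461 rfl b1389
theorem x1389_1 : AuxS.{u} (cP4) s1389 0 a1389_1 := (AuxS.up x1389 c1389_4 :)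
theorem n1389 : Sound.{u} (cP4) s1389 0 :=
  (x1389_1.spl c1389_0 (AllM.cons ((x1389_1.lam 0).tp c1389_1 :) (AllM.cons ((x1389_1.lam 161).recog c1389_2 :) AllM.nil)) ((x1389_1.weaken 1).ext2 (fun _ => rfl) GamS.nil AllS.nil c1389_3 (Phs.fin (ct := ct1389_3) rfl) (Phs.fin (ct := ct1389_3) rfl)) :)
theorem x1390 : AuxS.{u} (cP4) s1390 0 a1390 := aux_base3 tw461 rfl b1390
theorem n1390 : Sound.{u} (cP4) s1390 0 :=
  (x1390.k4 c1390_0 :)
theorem x1391 : AuxS.{u} (cP4) s1391 0 a1391 := aux_base3 tw461 rfl b1391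
theorem n1391 : Sound.{u} (cP4) s1391 0 :=
  (x1391.k4 c1391_0 :)
theorem x1392 : AuxS.{u} (cP4) s1392 0 a1392 := aux_base3 tw461 rfl b1392
theorem n1392 : Sound.{u} (cP4) s1392 0 :=
  (x1392.k4 c1392_0 :)
theorem x1393 : AuxS.{u} (cP4) s1393 0 a1393 := aux_base3 tw461 rfl b1393
theorem n1393 : Sound.{u} (cP4) s1393 0 :=
  (x1393.k4 c1393_0 :)
theorem x1394 : AuxS.{u} (cP4) s1394 0 a1394 := aux_base3 tw461 rfl b1394
theorem n1394 : Sound.{u} (cP4) s1394 0 :=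
  (x1394.k4 c1394_0 :)
theorem x1395 : AuxS.{u} (cP4) s1395 0 a1395 := aux_base3 tw461 rfl b1395
theorem n1395 : Sound.{u} (cP4) s1395 0 :=
  (x1395.k4 c1395_0 :)
theorem x1396 : AuxS.{u} (cP4) s1396 0 a1396 := aux_base3 tw461 rfl b1396
theorem n1396 : Sound.{u} (cP4) s1396 0 :=
  (x1396.k4 c1396_0 :)
theorem x1397 : AuxS.{u} (cP4) s1397 0 a1397 := aux_base3 tw461 rfl b1397
theorem n1397 : Sound.{u} (cP4) s1397 0 :=
  (x1397.k4 c1397_0 :)
theorem x1398 : AuxS.{u} (cP4) s1398 0 a1398 := aux_base3 tw461 rfl b1398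
theorem n1398 : Sound.{u} (cP4) s1398 0 :=
  (x1398.k4 c1398_0 :)
theorem x1399 : AuxS.{u} (cP4) s1399 0 a1399 := aux_base3 tw461 rfl b1399
theorem n1399 : Sound.{u} (cP4) s1399 0 :=
  (x1399.k4 c1399_0 :)
theorem x1400 : AuxS.{u} (cP4) s1400 0 a1400 := aux_base3 tw461 rfl b1400
theorem x1400_1 : AuxS.{u} (cP4) s1400 0 a1400_1 := (AuxS.up x1400 c1400_4 :)
theorem n1400 : Sound.{u} (cP4) s1400 0 :=
  (x1400_1.spl c1400_0 (AllM.cons ((x1400_1.lam 0).tp c1400_1 :) (AllM.cons ((x1400_1.lam 161).recog c1400_2 :) AllM.nil)) ((x1400_1.weaken 1).ext2 (fun _ => rfl) GamS.nil AllS.nil c1400_3 (Phs.fin (ct := ct1400_3) rfl) (Phs.fin (ct := ct1400_3) rfl)) :)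
theorem x1401 : AuxS.{u} (cP4) s1401 0 a1401 := aux_base3 tw461 rfl b1401
theorem n1401 : Sound.{u} (cP4) s1401 0 :=
  (x1401.k4 c1401_0 :)
theorem x1366 : AuxS.{u} (cP4) s1366 0 a1366 := aux_base3 tw461 rfl b1366
theorem x1366_1 : AuxS.{u} (cP4) s1366 0 a1366_1 := x1366
theorem n1366 : Sound.{u} (cP4) s1366 0 :=
  (x1366_1.fr (AuxS.gam x1366_1 c1366_0) (AllS.cons n1370 (AllS.cons n1371 (AllS.cons n1372 (AllS.cons n1373 (AllS.cons n1374 (AllS.cons n1375 (AllS.cons n1376 (AllS.cons n1377 (AllS.cons n1378 (AllS.cons n1379 (AllS.cons n1380 (AllS.cons n1381 (AllS.cons n1382 (AllS.cons n1383 (AllS.cons n1384 (AllS.cons n1385 (AllS.cons n1386 (AllS.cons n1387 (AllS.cons n1388 (AllS.cons n1389 (AllS.cons n1390 (AllS.cons n1391 (AllS.cons n1392 (AllS.cons n1393 (AllS.cons n1394 (AllS.cons n1395 (AllS.cons n1396 (AllS.cons n1397 (AllS.cons n1398 (AllS.cons n1399 (AllS.cons n1400 (AllS.cons n1401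 AllS.nil)))))))))))))))))))))))))))))))) c1366_1 :)
theorem x1367 : AuxS.{u} (cP4) s1367 0 a1367 := aux_base3 tw462 rfl b1367
theorem x1367_1 : AuxS.{u} (cP4) s1367 0 a1367_1 := x1367
theorem n1367 : Sound.{u} (cP4) s1367 0 :=
  (x1367_1.fr GamS.nil AllS.nil c1367_0 :)
theorem x1368 : AuxS.{u} (cP4) s1368 0 a1368 := aux_base3 tw463 rfl b1368
theorem n1368 : Sound.{u} (cP4) s1368 0 :=
  (x1368.k4 c1368_0 :)
theorem x1369 : AuxS.{u} (cP4) s1369 0 a1369 := aux_base3 tw464 rfl b1369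
theorem n1369 : Sound.{u} (cP4) s1369 0 :=
  (x1369.k4 c1369_0 :)
theorem x1343 : AuxS.{u} (cP4) s1343 0 a1343 := aux_base3 tw456 rfl b1343
theorem x1343_1 : AuxS.{u} (cP4) s1343 0 a1343_1 := (AuxS.up x1343 c1343_7 :)
theorem p1343_1_1 : Phs s1343 a1343_1 [] [s1362, s1363, s1364, s1365, s1366, s1367, s1368, s1369] ct1343_1 v1343_1 7 w1343_1_1 := (Phs.fin c1343_1)
theorem p1343_1_3 : Phs s1343 a1343_1 [] [s1362, s1363, s1364, s1365, s1366, s1367, s1368, s1369] ct1343_1 v1343_1 5 w1343_1_3 := (Phs.stp c1343_2 p1343_1_1)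
theorem p1343_1_5 : Phs s1343 a1343_1 [] [s1362, s1363, s1364, s1365, s1366, s1367, s1368, s1369] ct1343_1 v1343_1 4 w1343_1_5 := (Phs.stp c1343_3 p1343_1_3)
theorem p1343_1_7 : Phs s1343 a1343_1 [] [s1362, s1363, s1364, s1365, s1366, s1367, s1368, s1369] ct1343_1 v1343_1 1 w1343_1_7 := (Phs.stp c1343_4 p1343_1_5)
theorem n1343 : Sound.{u} (cP4) s1343 0 :=
  (x1343_1.par c1343_0 ((x1343_1.weaken 1).ext2 (fun _ => rfl) GamS.nil (AllS.cons n1362 (AllS.cons n1363 (AllS.cons n1364 (AllS.cons n1365 (AllS.cons n1366 (AllS.cons n1367 (AllS.cons n1368 (AllS.cons n1369 AllS.nil)))))))) c1343_6 (Phs.stp c1343_5 p1343_1_7) (Phs.fin (ct := ct1343_1) rfl)) :)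
theorem x1344 : AuxS.{u} (cP4) s1344 0 a1344 := aux_base3 tw456 rfl b1344
theorem n1344 : Sound.{u} (cP4) s1344 0 :=
  (x1344.k4 c1344_0 :)
theorem x1345 : AuxS.{u} (cP4) s1345 0 a1345 := aux_base3 tw456 rfl b1345
theorem n1345 : Sound.{u} (cP4) s1345 0 :=
  (x1345.k4 c1345_0 :)
theorem x1346 : AuxS.{u} (cP4) s1346 0 a1346 := aux_base3 tw456 rfl b1346
theorem n1346 : Sound.{u} (cP4) s1346 0 :=
  (x1346.k4 c1346_0 :)
theorem x1347 : AuxS.{u} (cP4) s1347 0 a1347 := aux_base3 tw456 rfl b1347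
theorem n1347 : Sound.{u} (cP4) s1347 0 :=
  (x1347.k4 c1347_0 :)
theorem x1348 : AuxS.{u} (cP4) s1348 0 a1348 := aux_base3 tw456 rfl b1348
theorem n1348 : Sound.{u} (cP4) s1348 0 :=
  (x1348.k4 c1348_0 :)
theorem x1349 : AuxS.{u} (cP4) s1349 0 a1349 := aux_base3 tw456 rfl b1349
theorem n1349 : Sound.{u} (cP4) s1349 0 :=
  (x1349.k4 c1349_0 :)
theorem x1350 : AuxS.{u} (cP4) s1350 0 a1350 := aux_base3 tw456 rfl b1350
theorem n1350 : Sound.{u} (cP4) s1350 0 :=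
  (x1350.k4 c1350_0 :)
theorem x1351 : AuxS.{u} (cP4) s1351 0 a1351 := aux_base3 tw456 rfl b1351
theorem n1351 : Sound.{u} (cP4) s1351 0 :=
  (x1351.k4 c1351_0 :)
theorem x1352 : AuxS.{u} (cP4) s1352 0 a1352 := aux_base3 tw456 rfl b1352
theorem n1352 : Sound.{u} (cP4) s1352 0 :=
  (x1352.k4 c1352_0 :)
theorem x1353 : AuxS.{u} (cP4) s1353 0 a1353 := aux_base3 tw456 rfl b1353
theorem n1353 : Sound.{u} (cP4) s1353 0 :=
  (x1353.k4 c1353_0 :)
theorem x1354 : AuxS.{u} (cP4) s1354 0 a1354 := aux_base3 tw456 rfl b1354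
theorem n1354 : Sound.{u} (cP4) s1354 0 :=
  (x1354.k4 c1354_0 :)
theorem x1355 : AuxS.{u} (cP4) s1355 0 a1355 := aux_base3 tw456 rfl b1355
theorem n1355 : Sound.{u} (cP4) s1355 0 :=
  (x1355.k4 c1355_0 :)
theorem x1356 : AuxS.{u} (cP4) s1356 0 a1356 := aux_base3 tw456 rfl b1356
theorem n1356 : Sound.{u} (cP4) s1356 0 :=
  (x1356.k4 c1356_0 :)
theorem x1357 : AuxS.{u} (cP4) s1357 0 a1357 := aux_base3 tw456 rfl b1357
theorem n1357 : Sound.{u} (cP4) s1357 0 :=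
  (x1357.k4 c1357_0 :)
theorem x1358 : AuxS.{u} (cP4) s1358 0 a1358 := aux_base3 tw456 rfl b1358
theorem n1358 : Sound.{u} (cP4) s1358 0 :=
  (x1358.k4 c1358_0 :)
theorem x1359 : AuxS.{u} (cP4) s1359 0 a1359 := aux_base3 tw456 rfl b1359
theorem n1359 : Sound.{u} (cP4) s1359 0 :=
  (x1359.k4 c1359_0 :)
theorem x1360 : AuxS.{u} (cP4) s1360 0 a1360 := aux_base3 tw456 rfl b1360
theorem n1360 : Sound.{u} (cP4) s1360 0 :=
  (x1360.k4 c1360_0 :)
theorem x1361 : AuxS.{u} (cP4) s1361 0 a1361 := aux_base3 tw456 rfl b1361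
theorem n1361 : Sound.{u} (cP4) s1361 0 :=
  (x1361.k4 c1361_0 :)
theorem x1296 : AuxS.{u} (cP4) s1296 0 a1296 := aux_base3 tw456 rfl b1296
theorem x1296_1 : AuxS.{u} (cP4) s1296 0 a1296_1 := x1296
theorem n1296 : Sound.{u} (cP4) s1296 0 :=
  (x1296_1.fr (AuxS.gam x1296_1 c1296_0) (AllS.cons n1298 (AllS.cons n1299 (AllS.cons n1300 (AllS.cons n1301 (AllS.cons n1302 (AllS.cons n1303 (AllS.cons n1304 (AllS.cons n1305 (AllS.cons n1306 (AllS.cons n1307 (AllS.cons n1308 (AllS.cons n1309 (AllS.cons n1310 (AllS.cons n1311 (AllS.cons n1312 (AllS.cons n1313 (AllS.cons n1314 (AllS.cons n1315 (AllS.cons n1316 (AllS.cons n1317 (AllS.cons n1318 (AllS.cons n1319 (AllS.cons n1320 (AllS.cons n1321 (AllS.cons n1322 (AllS.cons n1323 (AllS.cons n1324 (AllS.cons n1325 (AllS.cons n1326 (AllS.cons n1327 (AllS.cons n1328 (AllS.cons n1329 (AllS.cons n1330 (AllS.cons n1331 (AllS.cons n1332 (AllS.cons n1333 (AllS.cons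 n1334 (AllS.cons n1335 (AllS.cons n1336 (AllS.cons n1337 (AllS.cons n1338 (AllS.cons n1339 (AllS.cons n1340 (AllS.cons n1341 (AllS.cons n1342 (AllS.cons n1343 (AllS.cons n1344 (AllS.cons n1345 (AllS.cons n1346 (AllS.cons n1347 (AllS.cons n1348 (AllS.cons n1349 (AllS.cons n1350 (AllS.cons n1351 (AllS.cons n1352 (AllS.cons n1353 (AllS.cons n1354 (AllS.cons n1355 (AllS.cons n1356 (AllS.cons n1357 (AllS.cons n1358 (AllS.cons n1359 (AllS.cons n1360 (AllS.cons n1361 AllS.nil)))))))))))))))))))))))))))))))))))))))))))))))))))))))))))))))) c1296_1 :)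
theorem x1297 : AuxS.{u} (cP4) s1297 0 a1297 := aux_base3 tw456 rfl b1297
theorem n1297 : Sound.{u} (cP4) s1297 0 :=
  (x1297.k4 c1297_0 :)
theorem x1289 : AuxS.{u} (cP4) s1289 0 a1289 := aux_base3 tw456 rfl b1289
theorem x1289_1 : AuxS.{u} (cP4) s1289 0 a1289_1 := x1289
theorem n1289 : Sound.{u} (cP4) s1289 0 :=
  (x1289_1.fr GamS.nil (AllS.cons n1296 (AllS.cons n1297 AllS.nil)) c1289_0 :)
theorem x1169 : AuxS.{u} (cP4) s1169 0 a1169 := aux_base3 tw440 rfl b1169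
theorem x1169_1 : AuxS.{u} (cP4) s1169 0 a1169_1 := x1169
theorem n1169 : Sound.{u} (cP4) s1169 0 :=
  (x1169_1.fr2 GamS.nil (AllS.cons n1286 (AllS.cons n1287 (AllS.cons n1288 (AllS.cons n1289 AllS.nil)))) c1169_0 :)
theorem x1167 : AuxS.{u} (cP4) s1167 0 a1167 := aux_base3 tw438 rfl b1167
theorem x1167_1 : AuxS.{u} (cP4) s1167 0 a1167_1 := x1167
theorem x1167_2 : AuxS.{u} (cP4) s1167 0 a1167_2 := x1167_1
theorem n1167 : Sound.{u} (cP4) s1167 0 :=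
  (x1167_2.fr2 GamS.nil (AllS.cons n1168 (AllS.cons n1169 AllS.nil)) c1167_0 :)
theorem x1165 : AuxS.{u} (cP4) s1165 0 a1165 := aux_base3 tw438 rfl b1165
theorem x1165_1 : AuxS.{u} (cP4) s1165 0 a1165_1 := x1165
theorem x1165_2 : AuxS.{u} (cP4) s1165 0 a1165_2 := x1165_1
theorem n1165 : Sound.{u} (cP4) s1165 0 :=
  (x1165_2.fr GamS.nil (AllS.cons n1166 (AllS.cons n1167 AllS.nil)) c1165_0 :)
theorem x1164 : AuxS.{u} (cP4) s1164 0 a1164 := aux_base3 tw402 rfl b1164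
theorem x1164_1 : AuxS.{u} (cP4) s1164 0 a1164_1 := (AuxS.up x1164 c1164_6 :)
theorem x1164_2 : AuxS.{u} (cP4) s1164 0 a1164_2 := x1164_1
theorem p1164_0_1 : Phs s1164 a1164_2 (List.map Prod.fst g1164_0) [s1165] ct1164_0 v1164_0 5 w1164_0_1 := (Phs.fin c1164_1)
theorem p1164_0_3 : Phs s1164 a1164_2 (List.map Prod.fst g1164_0) [s1165] ct1164_0 v1164_0 4 w1164_0_3 := (Phs.stp c1164_2 p1164_0_1)
theorem p1164_0_5 : Phs s1164 a1164_2 (List.map Prod.fst g1164_0) [s1165] ct1164_0 v1164_0 1 w1164_0_5 := (Phs.stp c1164_3 p1164_0_3)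
theorem n1164 : Sound.{u} (cP4) s1164 0 :=
  (x1164_2.ext2 (fun h => absurd h (by decide)) (AuxS.gam x1164_2 c1164_0) (AllS.cons n1165 AllS.nil) c1164_5 (Phs.stp c1164_4 p1164_0_5) (Phs.fin (ct := ct1164_0) rfl) :)
theorem x1137 : AuxS.{u} (cP4) s1137 0 a1137 := aux_base3 tw424 rfl b1137
theorem x1137_1 : AuxS.{u} (cP4) s1137 0 a1137_1 := x1137
theorem n1137 : Sound.{u} (cP4) s1137 0 :=
  (x1137_1.jump c1137_0 c1137_1 n1164 :)
theorem x1138 : AuxS.{u} (cP4) s1138 0 a1138 := aux_base3 tw424 rfl b1138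
theorem n1138 : Sound.{u} (cP4) s1138 0 :=
  (x1138.k4 c1138_0 :)
theorem x1139 : AuxS.{u} (cP4) s1139 0 a1139 := aux_base3 tw424 rfl b1139
theorem n1139 : Sound.{u} (cP4) s1139 0 :=
  (x1139.k4 c1139_0 :)
theorem x1140 : AuxS.{u} (cP4) s1140 0 a1140 := aux_base3 tw424 rfl b1140
theorem n1140 : Sound.{u} (cP4) s1140 0 :=
  (x1140.k4 c1140_0 :)
theorem x1141 : AuxS.{u} (cP4) s1141 0 a1141 := aux_base3 tw424 rfl b1141
theorem n1141 : Sound.{u} (cP4) s1141 0 :=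
  (x1141.k4 c1141_0 :)
theorem x1142 : AuxS.{u} (cP4) s1142 0 a1142 := aux_base3 tw424 rfl b1142
theorem n1142 : Sound.{u} (cP4) s1142 0 :=
  (x1142.k4 c1142_0 :)
theorem x1143 : AuxS.{u} (cP4) s1143 0 a1143 := aux_base3 tw424 rfl b1143
theorem n1143 : Sound.{u} (cP4) s1143 0 :=
  (x1143.k4 c1143_0 :)
theorem x1144 : AuxS.{u} (cP4) s1144 0 a1144 := aux_base3 tw424 rfl b1144
theorem n1144 : Sound.{u} (cP4) s1144 0 :=
  (x1144.k4 c1144_0 :)
theorem x1145 : AuxS.{u} (cP4) s1145 0 a1145 := aux_base3 tw424 rfl b1145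
theorem n1145 : Sound.{u} (cP4) s1145 0 :=
  (x1145.k4 c1145_0 :)
theorem x1146 : AuxS.{u} (cP4) s1146 0 a1146 := aux_base3 tw424 rfl b1146
theorem n1146 : Sound.{u} (cP4) s1146 0 :=
  (x1146.k4 c1146_0 :)
theorem x1147 : AuxS.{u} (cP4) s1147 0 a1147 := aux_base3 tw424 rfl b1147
theorem n1147 : Sound.{u} (cP4) s1147 0 :=
  (x1147.k4 c1147_0 :)
theorem x1148 : AuxS.{u} (cP4) s1148 0 a1148 := aux_base3 tw424 rfl b1148
theorem n1148 : Sound.{u} (cP4) s1148 0 :=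
  (x1148.k4 c1148_0 :)
theorem x1149 : AuxS.{u} (cP4) s1149 0 a1149 := aux_base3 tw424 rfl b1149
theorem n1149 : Sound.{u} (cP4) s1149 0 :=
  (x1149.k4 c1149_0 :)
theorem x1150 : AuxS.{u} (cP4) s1150 0 a1150 := aux_base3 tw424 rfl b1150
theorem n1150 : Sound.{u} (cP4) s1150 0 :=
  (x1150.k4 c1150_0 :)
theorem x1151 : AuxS.{u} (cP4) s1151 0 a1151 := aux_base3 tw424 rfl b1151
theorem n1151 : Sound.{u} (cP4) s1151 0 :=
  (x1151.k4 c1151_0 :)
theorem x1152 : AuxS.{u} (cP4) s1152 0 a1152 := aux_base3 tw424 rfl b1152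
theorem n1152 : Sound.{u} (cP4) s1152 0 :=
  (x1152.k4 c1152_0 :)
theorem x1153 : AuxS.{u} (cP4) s1153 0 a1153 := aux_base3 tw424 rfl b1153
theorem n1153 : Sound.{u} (cP4) s1153 0 :=
  (x1153.k4 c1153_0 :)
theorem x1154 : AuxS.{u} (cP4) s1154 0 a1154 := aux_base3 tw424 rfl b1154
theorem n1154 : Sound.{u} (cP4) s1154 0 :=
  (x1154.k4 c1154_0 :)
theorem x1155 : AuxS.{u} (cP4) s1155 0 a1155 := aux_base3 tw424 rfl b1155
theorem n1155 : Sound.{u} (cP4) s1155 0 :=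
  (x1155.k4 c1155_0 :)
theorem x1156 : AuxS.{u} (cP4) s1156 0 a1156 := aux_base3 tw424 rfl b1156
theorem n1156 : Sound.{u} (cP4) s1156 0 :=
  (x1156.k4 c1156_0 :)
theorem x1157 : AuxS.{u} (cP4) s1157 0 a1157 := aux_base3 tw424 rfl b1157
theorem n1157 : Sound.{u} (cP4) s1157 0 :=
  (x1157.k4 c1157_0 :)
theorem x1158 : AuxS.{u} (cP4) s1158 0 a1158 := aux_base3 tw424 rfl b1158
theorem n1158 : Sound.{u} (cP4) s1158 0 :=
  (x1158.k4 c1158_0 :)
theorem x1159 : AuxS.{u} (cP4) s1159 0 a1159 := aux_base3 tw424 rfl b1159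
theorem n1159 : Sound.{u} (cP4) s1159 0 :=
  (x1159.k4 c1159_0 :)
theorem x1160 : AuxS.{u} (cP4) s1160 0 a1160 := aux_base3 tw424 rfl b1160
theorem n1160 : Sound.{u} (cP4) s1160 0 :=
  (x1160.k4 c1160_0 :)
theorem x1161 : AuxS.{u} (cP4) s1161 0 a1161 := aux_base3 tw424 rfl b1161
theorem n1161 : Sound.{u} (cP4) s1161 0 :=
  (x1161.k4 c1161_0 :)
theorem x1162 : AuxS.{u} (cP4) s1162 0 a1162 := aux_base3 tw424 rfl b1162
theorem n1162 : Sound.{u} (cP4) s1162 0 :=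
  (x1162.k4 c1162_0 :)
theorem x1163 : AuxS.{u} (cP4) s1163 0 a1163 := aux_base3 tw424 rfl b1163
theorem n1163 : Sound.{u} (cP4) s1163 0 :=
  (x1163.k4 c1163_0 :)
theorem x1118 : AuxS.{u} (cP4) s1118 0 a1118 := aux_base3 tw424 rfl b1118
theorem x1118_1 : AuxS.{u} (cP4) s1118 0 a1118_1 := x1118
theorem n1118 : Sound.{u} (cP4) s1118 0 :=
  (x1118_1.fr (AuxS.gam x1118_1 c1118_0) (AllS.cons n1132 (AllS.cons n1133 (AllS.cons n1134 (AllS.cons n1135 (AllS.cons n1136 (AllS.cons n1137 (AllS.cons n1138 (AllS.cons n1139 (AllS.cons n1140 (AllS.cons n1141 (AllS.cons n1142 (AllS.cons n1143 (AllS.cons n1144 (AllS.cons n1145 (AllS.cons n1146 (AllS.cons n1147 (AllS.cons n1148 (AllS.cons n1149 (AllS.cons n1150 (AllS.cons n1151 (AllS.cons n1152 (AllS.cons n1153 (AllS.cons n1154 (AllS.cons n1155 (AllS.cons n1156 (AllS.cons n1157 (AllS.cons n1158 (AllS.cons n1159 (AllS.cons n1160 (AllS.cons n1161 (AllS.cons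 n1162 (AllS.cons n1163 AllS.nil)))))))))))))))))))))))))))))))) c1118_1 :)
theorem x1119 : AuxS.{u} (cP4) s1119 0 a1119 := aux_base3 tw425 rfl b1119
theorem x1119_1 : AuxS.{u} (cP4) s1119 0 a1119_1 := x1119
theorem n1119 : Sound.{u} (cP4) s1119 0 :=
  (x1119_1.fr GamS.nil AllS.nil c1119_0 :)
theorem x1120 : AuxS.{u} (cP4) s1120 0 a1120 := aux_base3 tw426 rfl b1120
theorem x1120_1 : AuxS.{u} (cP4) s1120 0 a1120_1 := x1120
theorem x1120_2 : AuxS.{u} (cP4) s1120 0 a1120_2 := x1120_1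
theorem n1120 : Sound.{u} (cP4) s1120 0 :=
  (x1120_2.fr GamS.nil AllS.nil c1120_0 :)
theorem x1121 : AuxS.{u} (cP4) s1121 0 a1121 := aux_base3 tw427 rfl b1121
theorem x1121_1 : AuxS.{u} (cP4) s1121 0 a1121_1 := x1121
theorem n1121 : Sound.{u} (cP4) s1121 0 :=
  (x1121_1.fr GamS.nil AllS.nil c1121_0 :)
theorem x1122 : AuxS.{u} (cP4) s1122 0 a1122 := aux_base3 tw428 rfl b1122
theorem x1122_1 : AuxS.{u} (cP4) s1122 0 a1122_1 := x1122
theorem n1122 : Sound.{u} (cP4) s1122 0 :=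
  (x1122_1.fr GamS.nil AllS.nil c1122_0 :)
theorem x1123 : AuxS.{u} (cP4) s1123 0 a1123 := aux_base3 tw429 rfl b1123
theorem x1123_1 : AuxS.{u} (cP4) s1123 0 a1123_1 := x1123
theorem x1123_2 : AuxS.{u} (cP4) s1123 0 a1123_2 := x1123_1
theorem n1123 : Sound.{u} (cP4) s1123 0 :=
  (x1123_2.fr GamS.nil AllS.nil c1123_0 :)
theorem x1124 : AuxS.{u} (cP4) s1124 0 a1124 := aux_base3 tw430 rfl b1124
theorem x1124_1 : AuxS.{u} (cP4) s1124 0 a1124_1 := x1124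
theorem x1124_2 : AuxS.{u} (cP4) s1124 0 a1124_2 := x1124_1
theorem n1124 : Sound.{u} (cP4) s1124 0 :=
  (x1124_2.fr GamS.nil AllS.nil c1124_0 :)
theorem x1125 : AuxS.{u} (cP4) s1125 0 a1125 := aux_base3 tw431 rfl b1125
theorem x1125_1 : AuxS.{u} (cP4) s1125 0 a1125_1 := x1125
theorem n1125 : Sound.{u} (cP4) s1125 0 :=
  (x1125_1.fr GamS.nil AllS.nil c1125_0 :)
theorem x1126 : AuxS.{u} (cP4) s1126 0 a1126 := aux_base3 tw432 rfl b1126
theorem x1126_1 : AuxS.{u} (cP4) s1126 0 a1126_1 := x1126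
theorem n1126 : Sound.{u} (cP4) s1126 0 :=
  (x1126_1.fr GamS.nil AllS.nil c1126_0 :)
theorem x1127 : AuxS.{u} (cP4) s1127 0 a1127 := aux_base3 tw433 rfl b1127
theorem x1127_1 : AuxS.{u} (cP4) s1127 0 a1127_1 := x1127
theorem n1127 : Sound.{u} (cP4) s1127 0 :=
  (x1127_1.fr GamS.nil AllS.nil c1127_0 :)
theorem x1128 : AuxS.{u} (cP4) s1128 0 a1128 := aux_base3 tw434 rfl b1128
theorem x1128_1 : AuxS.{u} (cP4) s1128 0 a1128_1 := x1128
theorem n1128 : Sound.{u} (cP4) s1128 0 :=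
  (x1128_1.fr GamS.nil AllS.nil c1128_0 :)
theorem x1129 : AuxS.{u} (cP4) s1129 0 a1129 := aux_base3 tw435 rfl b1129
theorem x1129_1 : AuxS.{u} (cP4) s1129 0 a1129_1 := x1129
theorem n1129 : Sound.{u} (cP4) s1129 0 :=
  (x1129_1.fr GamS.nil AllS.nil c1129_0 :)
theorem x1130 : AuxS.{u} (cP4) s1130 0 a1130 := aux_base3 tw436 rfl b1130
theorem x1130_1 : AuxS.{u} (cP4) s1130 0 a1130_1 := x1130
theorem n1130 : Sound.{u} (cP4) s1130 0 :=
  (x1130_1.fr GamS.nil AllS.nil c1130_0 :)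
theorem x1131 : AuxS.{u} (cP4) s1131 0 a1131 := aux_base3 tw437 rfl b1131
theorem x1131_1 : AuxS.{u} (cP4) s1131 0 a1131_1 := x1131
theorem n1131 : Sound.{u} (cP4) s1131 0 :=
  (x1131_1.fr GamS.nil AllS.nil c1131_0 :)
theorem x1063 : AuxS.{u} (cP4) s1063 0 a1063 := aux_base3 tw402 rfl b1063
theorem x1063_1 : AuxS.{u} (cP4) s1063 0 a1063_1 := (AuxS.up x1063 c1063_7 :)
theorem x1063_2 : AuxS.{u} (cP4) s1063 0 a1063_2 := x1063_1
theorem p1063_0_1 : Phs s1063 a1063_2 (List.map Prod.fst g1063_0) [s1116, s1117, s1118, s1119, s1120, s1121, s1122, s1123, s1124, s1125, s1126, s1127, s1128, s1129, s1130, s1131] ct1063_0 v1063_0 5 w1063_0_1 := (Phs.fin c1063_1)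
theorem p1063_0_3 : Phs s1063 a1063_2 (List.map Prod.fst g1063_0) [s1116, s1117, s1118, s1119, s1120, s1121, s1122, s1123, s1124, s1125, s1126, s1127, s1128, s1129, s1130, s1131] ct1063_0 v1063_0 4 w1063_0_3 := (Phs.stp c1063_2 p1063_0_1)
theorem p1063_0_5 : Phs s1063 a1063_2 (List.map Prod.fst g1063_0) [s1116, s1117, s1118, s1119, s1120, s1121, s1122, s1123, s1124, s1125, s1126, s1127, s1128, s1129, s1130, s1131] ct1063_0 v1063_0 3 w1063_0_5 := (Phs.stp c1063_3 p1063_0_3)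
theorem p1063_0_7 : Phs s1063 a1063_2 (List.map Prod.fst g1063_0) [s1116, s1117, s1118, s1119, s1120, s1121, s1122, s1123, s1124, s1125, s1126, s1127, s1128, s1129, s1130, s1131] ct1063_0 v1063_0 1 w1063_0_7 := (Phs.stp c1063_4 p1063_0_5)
theorem n1063 : Sound.{u} (cP4) s1063 0 :=
  (x1063_2.ext2 (fun h => absurd h (by decide)) (AuxS.gam x1063_2 c1063_0) (AllS.cons n1116 (AllS.cons n1117 (AllS.cons n1118 (AllS.cons n1119 (AllS.cons n1120 (AllS.cons n1121 (AllS.cons n1122 (AllS.cons n1123 (AllS.cons n1124 (AllS.cons n1125 (AllS.cons n1126 (AllS.cons n1127 (AllS.cons n1128 (AllS.cons n1129 (AllS.cons n1130 (AllS.cons n1131 AllS.nil)))))))))))))))) c1063_6 (Phs.stp c1063_5 p1063_0_7) (Phs.fin (ct := ct1063_0) rfl) :)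
theorem x1064 : AuxS.{u} (cP4) s1064 0 a1064 := aux_base3 tw403 rfl b1064
theorem x1064_1 : AuxS.{u} (cP4) s1064 0 a1064_1 := (AuxS.up x1064 c1064_1 :)
theorem n1064 : Sound.{u} (cP4) s1064 0 :=
  (x1064_1.k7 c1064_0 :)
theorem x1402 : AuxS.{u} (cP4) s1402 0 a1402 := aux_base3 tw465 rfl b1402
theorem x1402_1 : AuxS.{u} (cP4) s1402 0 a1402_1 := x1402
theorem x1402_2 : AuxS.{u} (cP4) s1402 0 a1402_2 := x1402_1
theorem n1402 : Sound.{u} (cP4) s1402 0 :=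
  (x1402_2.fr GamS.nil AllS.nil c1402_0 :)
theorem x1403 : AuxS.{u} (cP4) s1403 0 a1403 := aux_base3 tw466 rfl b1403
theorem x1403_1 : AuxS.{u} (cP4) s1403 0 a1403_1 := x1403
theorem x1403_2 : AuxS.{u} (cP4) s1403 0 a1403_2 := x1403_1
theorem n1403 : Sound.{u} (cP4) s1403 0 :=
  (x1403_2.fr GamS.nil AllS.nil c1403_0 :)
theorem x1418 : AuxS.{u} (cP4) s1418 0 a1418 := aux_base3 tw467 rfl b1418
theorem n1418 : Sound.{u} (cP4) s1418 0 :=
  (x1418.k4 c1418_0 :)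
theorem x1419 : AuxS.{u} (cP4) s1419 0 a1419 := aux_base3 tw467 rfl b1419
theorem n1419 : Sound.{u} (cP4) s1419 0 :=
  (x1419.k4 c1419_0 :)
theorem x1420 : AuxS.{u} (cP4) s1420 0 a1420 := aux_base3 tw467 rfl b1420
theorem n1420 : Sound.{u} (cP4) s1420 0 :=
  (x1420.k4 c1420_0 :)
theorem x1421 : AuxS.{u} (cP4) s1421 0 a1421 := aux_base3 tw467 rfl b1421
theorem n1421 : Sound.{u} (cP4) s1421 0 :=
  (x1421.k4 c1421_0 :)
theorem x1422 : AuxS.{u} (cP4) s1422 0 a1422 := aux_base3 tw467 rfl b1422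
theorem n1422 : Sound.{u} (cP4) s1422 0 :=
  (x1422.k4 c1422_0 :)
theorem x1450 : AuxS.{u} (cP4) s1450 0 a1450 := aux_base3 tw404 rfl b1450
theorem x1450_1 : AuxS.{u} (cP4) s1450 0 a1450_1 := (AuxS.up x1450 c1450_4 :)
theorem x1450_2 : AuxS.{u} (cP4) s1450 0 a1450_2 := (AuxS.up2 x1450_1 c1450_5 :)
theorem x1450_3 : AuxS.{u} (cP4) s1450 0 a1450_3 := x1450_2
theorem p1450_0_1 : Phs s1450 a1450_3 [] [] ct1450_0 v1450_0 4 w1450_0_1 := (Phs.fin c1450_0)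
theorem p1450_0_3 : Phs s1450 a1450_3 [] [] ct1450_0 v1450_0 1 w1450_0_3 := (Phs.stp c1450_1 p1450_0_1)
theorem n1450 : Sound.{u} (cP4) s1450 0 :=
  (x1450_3.ext2 (fun h => absurd h (by decide)) GamS.nil AllS.nil c1450_3 (Phs.stp c1450_2 p1450_0_3) (Phs.fin (ct := ct1450_0) rfl) :)
theorem x1423 : AuxS.{u} (cP4) s1423 0 a1423 := aux_base3 tw467 rfl b1423
theorem x1423_1 : AuxS.{u} (cP4) s1423 0 a1423_1 := x1423
theorem x1423_2 : AuxS.{u} (cP4) s1423 0 a1423_2 := x1423_1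
theorem n1423 : Sound.{u} (cP4) s1423 0 :=
  (x1423_2.jump c1423_0 c1423_1 n1450 :)
theorem x1424 : AuxS.{u} (cP4) s1424 0 a1424 := aux_base3 tw467 rfl b1424
theorem n1424 : Sound.{u} (cP4) s1424 0 :=
  (x1424.k4 c1424_0 :)
theorem x1425 : AuxS.{u} (cP4) s1425 0 a1425 := aux_base3 tw467 rfl b1425
theorem n1425 : Sound.{u} (cP4) s1425 0 :=
  (x1425.k4 c1425_0 :)
theorem x1426 : AuxS.{u} (cP4) s1426 0 a1426 := aux_base3 tw467 rfl b1426
theorem n1426 : Sound.{u} (cP4) s1426 0 :=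
  (x1426.k4 c1426_0 :)
theorem x1427 : AuxS.{u} (cP4) s1427 0 a1427 := aux_base3 tw467 rfl b1427
theorem n1427 : Sound.{u} (cP4) s1427 0 :=
  (x1427.k4 c1427_0 :)
theorem x1428 : AuxS.{u} (cP4) s1428 0 a1428 := aux_base3 tw467 rfl b1428
theorem n1428 : Sound.{u} (cP4) s1428 0 :=
  (x1428.k4 c1428_0 :)
theorem x1429 : AuxS.{u} (cP4) s1429 0 a1429 := aux_base3 tw467 rfl b1429
theorem n1429 : Sound.{u} (cP4) s1429 0 :=
  (x1429.k4 c1429_0 :)
theorem x1430 : AuxS.{u} (cP4) s1430 0 a1430 := aux_base3 tw467 rfl b1430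
theorem n1430 : Sound.{u} (cP4) s1430 0 :=
  (x1430.k4 c1430_0 :)
theorem x1431 : AuxS.{u} (cP4) s1431 0 a1431 := aux_base3 tw467 rfl b1431
theorem n1431 : Sound.{u} (cP4) s1431 0 :=
  (x1431.k4 c1431_0 :)
theorem x1432 : AuxS.{u} (cP4) s1432 0 a1432 := aux_base3 tw467 rfl b1432
theorem n1432 : Sound.{u} (cP4) s1432 0 :=
  (x1432.k4 c1432_0 :)
theorem x1433 : AuxS.{u} (cP4) s1433 0 a1433 := aux_base3 tw467 rfl b1433
theorem n1433 : Sound.{u} (cP4) s1433 0 :=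
  (x1433.k4 c1433_0 :)
theorem x1434 : AuxS.{u} (cP4) s1434 0 a1434 := aux_base3 tw467 rfl b1434
theorem n1434 : Sound.{u} (cP4) s1434 0 :=
  (x1434.k4 c1434_0 :)
theorem x1435 : AuxS.{u} (cP4) s1435 0 a1435 := aux_base3 tw467 rfl b1435
theorem n1435 : Sound.{u} (cP4) s1435 0 :=
  (x1435.k4 c1435_0 :)
theorem x1436 : AuxS.{u} (cP4) s1436 0 a1436 := aux_base3 tw467 rfl b1436
theorem n1436 : Sound.{u} (cP4) s1436 0 :=
  (x1436.k4 c1436_0 :)
theorem x1437 : AuxS.{u} (cP4) s1437 0 a1437 := aux_base3 tw467 rfl b1437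
theorem n1437 : Sound.{u} (cP4) s1437 0 :=
  (x1437.k4 c1437_0 :)
theorem x1438 : AuxS.{u} (cP4) s1438 0 a1438 := aux_base3 tw467 rfl b1438
theorem n1438 : Sound.{u} (cP4) s1438 0 :=
  (x1438.k4 c1438_0 :)
theorem x1439 : AuxS.{u} (cP4) s1439 0 a1439 := aux_base3 tw467 rfl b1439
theorem n1439 : Sound.{u} (cP4) s1439 0 :=
  (x1439.k4 c1439_0 :)
theorem x1440 : AuxS.{u} (cP4) s1440 0 a1440 := aux_base3 tw467 rfl b1440
theorem n1440 : Sound.{u} (cP4) s1440 0 :=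
  (x1440.k4 c1440_0 :)
theorem x1441 : AuxS.{u} (cP4) s1441 0 a1441 := aux_base3 tw467 rfl b1441
theorem n1441 : Sound.{u} (cP4) s1441 0 :=
  (x1441.k4 c1441_0 :)
theorem x1442 : AuxS.{u} (cP4) s1442 0 a1442 := aux_base3 tw467 rfl b1442
theorem n1442 : Sound.{u} (cP4) s1442 0 :=
  (x1442.k4 c1442_0 :)
theorem x1443 : AuxS.{u} (cP4) s1443 0 a1443 := aux_base3 tw467 rfl b1443
theorem n1443 : Sound.{u} (cP4) s1443 0 :=
  (x1443.k4 c1443_0 :)
theorem x1444 : AuxS.{u} (cP4) s1444 0 a1444 := aux_base3 tw467 rfl b1444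
theorem n1444 : Sound.{u} (cP4) s1444 0 :=
  (x1444.k4 c1444_0 :)
theorem x1445 : AuxS.{u} (cP4) s1445 0 a1445 := aux_base3 tw467 rfl b1445
theorem n1445 : Sound.{u} (cP4) s1445 0 :=
  (x1445.k4 c1445_0 :)
theorem x1446 : AuxS.{u} (cP4) s1446 0 a1446 := aux_base3 tw467 rfl b1446
theorem n1446 : Sound.{u} (cP4) s1446 0 :=
  (x1446.k4 c1446_0 :)
theorem x1447 : AuxS.{u} (cP4) s1447 0 a1447 := aux_base3 tw467 rfl b1447
theorem n1447 : Sound.{u} (cP4) s1447 0 :=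
  (x1447.k4 c1447_0 :)
theorem x1448 : AuxS.{u} (cP4) s1448 0 a1448 := aux_base3 tw467 rfl b1448
theorem n1448 : Sound.{u} (cP4) s1448 0 :=
  (x1448.k4 c1448_0 :)
theorem x1449 : AuxS.{u} (cP4) s1449 0 a1449 := aux_base3 tw467 rfl b1449
theorem n1449 : Sound.{u} (cP4) s1449 0 :=
  (x1449.k4 c1449_0 :)
theorem x1404 : AuxS.{u} (cP4) s1404 0 a1404 := aux_base3 tw467 rfl b1404
theorem x1404_1 : AuxS.{u} (cP4) s1404 0 a1404_1 := x1404
theorem x1404_2 : AuxS.{u} (cP4) s1404 0 a1404_2 := x1404_1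
theorem n1404 : Sound.{u} (cP4) s1404 0 :=
  (x1404_2.fr (AuxS.gam x1404_2 c1404_0) (AllS.cons n1418 (AllS.cons n1419 (AllS.cons n1420 (AllS.cons n1421 (AllS.cons n1422 (AllS.cons n1423 (AllS.cons n1424 (AllS.cons n1425 (AllS.cons n1426 (AllS.cons n1427 (AllS.cons n1428 (AllS.cons n1429 (AllS.cons n1430 (AllS.cons n1431 (AllS.cons n1432 (AllS.cons n1433 (AllS.cons n1434 (AllS.cons n1435 (AllS.cons n1436 (AllS.cons n1437 (AllS.cons n1438 (AllS.cons n1439 (AllS.cons n1440 (AllS.cons n1441 (AllS.cons n1442 (AllS.cons n1443 (AllS.cons n1444 (AllS.cons n1445 (AllS.cons n1446 (AllS.cons n1447 (AllS.cons n1448 (AllS.cons n1449 AllS.nil)))))))))))))))))))))))))))))))) c1404_1 :)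
theorem x1405 : AuxS.{u} (cP4) s1405 0 a1405 := aux_base3 tw468 rfl b1405
theorem x1405_1 : AuxS.{u} (cP4) s1405 0 a1405_1 := x1405
theorem x1405_2 : AuxS.{u} (cP4) s1405 0 a1405_2 := x1405_1
theorem n1405 : Sound.{u} (cP4) s1405 0 :=
  (x1405_2.fr GamS.nil AllS.nil c1405_0 :)
theorem x1406 : AuxS.{u} (cP4) s1406 0 a1406 := aux_base3 tw469 rfl b1406
theorem x1406_1 : AuxS.{u} (cP4) s1406 0 a1406_1 := x1406
theorem x1406_2 : AuxS.{u} (cP4) s1406 0 a1406_2 := x1406_1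
theorem n1406 : Sound.{u} (cP4) s1406 0 :=
  (x1406_2.fr GamS.nil AllS.nil c1406_0 :)
theorem x1407 : AuxS.{u} (cP4) s1407 0 a1407 := aux_base3 tw470 rfl b1407
theorem x1407_1 : AuxS.{u} (cP4) s1407 0 a1407_1 := x1407
theorem x1407_2 : AuxS.{u} (cP4) s1407 0 a1407_2 := x1407_1
theorem n1407 : Sound.{u} (cP4) s1407 0 :=
  (x1407_2.fr GamS.nil AllS.nil c1407_0 :)
theorem x1408 : AuxS.{u} (cP4) s1408 0 a1408 := aux_base3 tw471 rfl b1408
theorem x1408_1 : AuxS.{u} (cP4) s1408 0 a1408_1 := x1408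
theorem x1408_2 : AuxS.{u} (cP4) s1408 0 a1408_2 := x1408_1
theorem n1408 : Sound.{u} (cP4) s1408 0 :=
  (x1408_2.fr GamS.nil AllS.nil c1408_0 :)
theorem x1409 : AuxS.{u} (cP4) s1409 0 a1409 := aux_base3 tw472 rfl b1409
theorem x1409_1 : AuxS.{u} (cP4) s1409 0 a1409_1 := x1409
theorem x1409_2 : AuxS.{u} (cP4) s1409 0 a1409_2 := x1409_1
theorem n1409 : Sound.{u} (cP4) s1409 0 :=
  (x1409_2.fr GamS.nil AllS.nil c1409_0 :)
theorem x1410 : AuxS.{u} (cP4) s1410 0 a1410 := aux_base3 tw473 rfl b1410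
theorem x1410_1 : AuxS.{u} (cP4) s1410 0 a1410_1 := x1410
theorem x1410_2 : AuxS.{u} (cP4) s1410 0 a1410_2 := x1410_1
theorem n1410 : Sound.{u} (cP4) s1410 0 :=
  (x1410_2.fr GamS.nil AllS.nil c1410_0 :)
theorem x1411 : AuxS.{u} (cP4) s1411 0 a1411 := aux_base3 tw474 rfl b1411
theorem x1411_1 : AuxS.{u} (cP4) s1411 0 a1411_1 := x1411
theorem x1411_2 : AuxS.{u} (cP4) s1411 0 a1411_2 := x1411_1
theorem n1411 : Sound.{u} (cP4) s1411 0 :=
  (x1411_2.fr GamS.nil AllS.nil c1411_0 :)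
theorem x1412 : AuxS.{u} (cP4) s1412 0 a1412 := aux_base3 tw475 rfl b1412
theorem x1412_1 : AuxS.{u} (cP4) s1412 0 a1412_1 := x1412
theorem x1412_2 : AuxS.{u} (cP4) s1412 0 a1412_2 := x1412_1
theorem n1412 : Sound.{u} (cP4) s1412 0 :=
  (x1412_2.fr GamS.nil AllS.nil c1412_0 :)
theorem x1413 : AuxS.{u} (cP4) s1413 0 a1413 := aux_base3 tw476 rfl b1413
theorem x1413_1 : AuxS.{u} (cP4) s1413 0 a1413_1 := x1413
theorem x1413_2 : AuxS.{u} (cP4) s1413 0 a1413_2 := x1413_1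
theorem n1413 : Sound.{u} (cP4) s1413 0 :=
  (x1413_2.fr GamS.nil AllS.nil c1413_0 :)
theorem x1414 : AuxS.{u} (cP4) s1414 0 a1414 := aux_base3 tw477 rfl b1414
theorem x1414_1 : AuxS.{u} (cP4) s1414 0 a1414_1 := x1414
theorem x1414_2 : AuxS.{u} (cP4) s1414 0 a1414_2 := x1414_1
theorem n1414 : Sound.{u} (cP4) s1414 0 :=
  (x1414_2.fr GamS.nil AllS.nil c1414_0 :)
theorem x1415 : AuxS.{u} (cP4) s1415 0 a1415 := aux_base3 tw478 rfl b1415
theorem x1415_1 : AuxS.{u} (cP4) s1415 0 a1415_1 := x1415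
theorem x1415_2 : AuxS.{u} (cP4) s1415 0 a1415_2 := x1415_1
theorem n1415 : Sound.{u} (cP4) s1415 0 :=
  (x1415_2.fr GamS.nil AllS.nil c1415_0 :)
theorem x1416 : AuxS.{u} (cP4) s1416 0 a1416 := aux_base3 tw479 rfl b1416
theorem x1416_1 : AuxS.{u} (cP4) s1416 0 a1416_1 := x1416
theorem x1416_2 : AuxS.{u} (cP4) s1416 0 a1416_2 := x1416_1
theorem n1416 : Sound.{u} (cP4) s1416 0 :=
  (x1416_2.fr GamS.nil AllS.nil c1416_0 :)
theorem x1417 : AuxS.{u} (cP4) s1417 0 a1417 := aux_base3 tw480 rfl b1417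
theorem x1417_1 : AuxS.{u} (cP4) s1417 0 a1417_1 := x1417
theorem x1417_2 : AuxS.{u} (cP4) s1417 0 a1417_2 := x1417_1
theorem n1417 : Sound.{u} (cP4) s1417 0 :=
  (x1417_2.fr GamS.nil AllS.nil c1417_0 :)
theorem x1065 : AuxS.{u} (cP4) s1065 0 a1065 := aux_base3 tw404 rfl b1065
theorem x1065_1 : AuxS.{u} (cP4) s1065 0 a1065_1 := (AuxS.up x1065 c1065_7 :)
theorem x1065_2 : AuxS.{u} (cP4) s1065 0 a1065_2 := (AuxS.up2 x1065_1 c1065_8 :)
theorem p1065_0_1 : Phs s1065 a1065_2 (List.map Prod.fst g1065_0) [s1402, s1403, s1404, s1405, s1406, s1407, s1408, s1409, s1410, s1411, s1412, s1413, s1414, s1415, s1416, s1417] ct1065_0 v1065_0 5 w1065_0_1 := (Phs.fin c1065_1)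
theorem p1065_0_3 : Phs s1065 a1065_2 (List.map Prod.fst g1065_0) [s1402, s1403, s1404, s1405, s1406, s1407, s1408, s1409, s1410, s1411, s1412, s1413, s1414, s1415, s1416, s1417] ct1065_0 v1065_0 4 w1065_0_3 := (Phs.stp c1065_2 p1065_0_1)
theorem p1065_0_5 : Phs s1065 a1065_2 (List.map Prod.fst g1065_0) [s1402, s1403, s1404, s1405, s1406, s1407, s1408, s1409, s1410, s1411, s1412, s1413, s1414, s1415, s1416, s1417] ct1065_0 v1065_0 3 w1065_0_5 := (Phs.stp c1065_3 p1065_0_3)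
theorem p1065_0_7 : Phs s1065 a1065_2 (List.map Prod.fst g1065_0) [s1402, s1403, s1404, s1405, s1406, s1407, s1408, s1409, s1410, s1411, s1412, s1413, s1414, s1415, s1416, s1417] ct1065_0 v1065_0 1 w1065_0_7 := (Phs.stp c1065_4 p1065_0_5)
theorem n1065 : Sound.{u} (cP4) s1065 0 :=
  (x1065_2.ext2 (fun h => absurd h (by decide)) (AuxS.gam x1065_2 c1065_0) (AllS.cons n1402 (AllS.cons n1403 (AllS.cons n1404 (AllS.cons n1405 (AllS.cons n1406 (AllS.cons n1407 (AllS.cons n1408 (AllS.cons n1409 (AllS.cons n1410 (AllS.cons n1411 (AllS.cons n1412 (AllS.cons n1413 (AllS.cons n1414 (AllS.cons n1415 (AllS.cons n1416 (AllS.cons n1417 AllS.nil)))))))))))))))) c1065_6 (Phs.stp c1065_5 p1065_0_7) (Phs.fin (ct := ct1065_0) rfl) :)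
theorem x1066 : AuxS.{u} (cP4) s1066 0 a1066 := aux_base3 tw405 rfl b1066
theorem x1066_1 : AuxS.{u} (cP4) s1066 0 a1066_1 := (AuxS.up x1066 c1066_1 :)
theorem n1066 : Sound.{u} (cP4) s1066 0 :=
  (x1066_1.k7 c1066_0 :)
theorem x6 : AuxS.{u} (cP4) s6 0 a6 := aux_base3 tw6 rfl b6
theorem x6_1 : AuxS.{u} (cP4) s6 0 a6_1 := (AuxS.up x6 c6_4 :)
theorem p6_0_1 : Phs s6 a6_1 [] [s1059, s1060, s1061, s1062, s1063, s1064, s1065, s1066] ct6_0 v6_0 4 w6_0_1 := (Phs.fin c6_0)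
theorem p6_0_3 : Phs s6 a6_1 [] [s1059, s1060, s1061, s1062, s1063, s1064, s1065, s1066] ct6_0 v6_0 1 w6_0_3 := (Phs.stp c6_1 p6_0_1)
theorem n6 : Sound.{u} (cP4) s6 0 :=
  (x6_1.ext2 (fun h => absurd h (by decide)) GamS.nil (AllS.cons n1059 (AllS.cons n1060 (AllS.cons n1061 (AllS.cons n1062 (AllS.cons n1063 (AllS.cons n1064 (AllS.cons n1065 (AllS.cons n1066 AllS.nil)))))))) c6_3 (Phs.stp c6_2 p6_0_3) (Phs.fin (ct := ct6_0) rfl) :)
theorem x1451 : AuxS.{u} (cP4) s1451 0 a1451 := aux_base3 tw481 rfl b1451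
theorem x1451_1 : AuxS.{u} (cP4) s1451 0 a1451_1 := (AuxS.up x1451 c1451_1 :)
theorem x1451_2 : AuxS.{u} (cP4) s1451 0 a1451_2 := (AuxS.up2 x1451_1 c1451_2 :)
theorem n1451 : Sound.{u} (cP4) s1451 0 :=
  (x1451_2.k7 c1451_0 :)
theorem x1452 : AuxS.{u} (cP4) s1452 0 a1452 := aux_base3 tw482 rfl b1452
theorem x1452_1 : AuxS.{u} (cP4) s1452 0 a1452_1 := (AuxS.up x1452 c1452_1 :)
theorem n1452 : Sound.{u} (cP4) s1452 0 :=
  (x1452_1.k7 c1452_0 :)
theorem x1453 : AuxS.{u} (cP4) s1453 0 a1453 := aux_base3 tw483 rfl b1453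
theorem x1453_1 : AuxS.{u} (cP4) s1453 0 a1453_1 := (AuxS.up x1453 c1453_1 :)
theorem n1453 : Sound.{u} (cP4) s1453 0 :=
  (x1453_1.k7 c1453_0 :)
theorem x1454 : AuxS.{u} (cP4) s1454 0 a1454 := aux_base3 tw484 rfl b1454
theorem x1454_1 : AuxS.{u} (cP4) s1454 0 a1454_1 := (AuxS.up x1454 c1454_1 :)
theorem n1454 : Sound.{u} (cP4) s1454 0 :=
  (x1454_1.k7 c1454_0 :)
theorem x1455 : AuxS.{u} (cP4) s1455 0 a1455 := aux_base3 tw485 rfl b1455
theorem x1455_1 : AuxS.{u} (cP4) s1455 0 a1455_1 := (AuxS.up x1455 c1455_1 :)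
theorem n1455 : Sound.{u} (cP4) s1455 0 :=
  (x1455_1.k7 c1455_0 :)
theorem x1456 : AuxS.{u} (cP4) s1456 0 a1456 := aux_base3 tw486 rfl b1456
theorem x1456_1 : AuxS.{u} (cP4) s1456 0 a1456_1 := (AuxS.up x1456 c1456_1 :)
theorem n1456 : Sound.{u} (cP4) s1456 0 :=
  (x1456_1.k7 c1456_0 :)
theorem x1457 : AuxS.{u} (cP4) s1457 0 a1457 := aux_base3 tw487 rfl b1457
theorem x1457_1 : AuxS.{u} (cP4) s1457 0 a1457_1 := (AuxS.up x1457 c1457_1 :)
theorem x1457_2 : AuxS.{u} (cP4) s1457 0 a1457_2 := (AuxS.up2 x1457_1 c1457_2 :)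
theorem n1457 : Sound.{u} (cP4) s1457 0 :=
  (x1457_2.k7 c1457_0 :)
theorem x1458 : AuxS.{u} (cP4) s1458 0 a1458 := aux_base3 tw488 rfl b1458
theorem x1458_1 : AuxS.{u} (cP4) s1458 0 a1458_1 := (AuxS.up x1458 c1458_1 :)
theorem n1458 : Sound.{u} (cP4) s1458 0 :=
  (x1458_1.k7 c1458_0 :)
theorem x7 : AuxS.{u} (cP4) s7 0 a7 := aux_base3 tw7 rfl b7
theorem x7_1 : AuxS.{u} (cP4) s7 0 a7_1 := (AuxS.up x7 c7_4 :)
theorem p7_0_1 : Phs s7 a7_1 [] [s1451, s1452, s1453, s1454, s1455, s1456, s1457, s1458] ct7_0 v7_0 4 w7_0_1 := (Phs.fin c7_0)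
theorem p7_0_3 : Phs s7 a7_1 [] [s1451, s1452, s1453, s1454, s1455, s1456, s1457, s1458] ct7_0 v7_0 1 w7_0_3 := (Phs.stp c7_1 p7_0_1)
theorem n7 : Sound.{u} (cP4) s7 0 :=
  (x7_1.ext2 (fun h => absurd h (by decide)) GamS.nil (AllS.cons n1451 (AllS.cons n1452 (AllS.cons n1453 (AllS.cons n1454 (AllS.cons n1455 (AllS.cons n1456 (AllS.cons n1457 (AllS.cons n1458 AllS.nil)))))))) c7_3 (Phs.stp c7_2 p7_0_3) (Phs.fin (ct := ct7_0) rfl) :)
theorem x1459 : AuxS.{u} (cP4) s1459 0 a1459 := aux_base3 tw489 rfl b1459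
theorem x1459_1 : AuxS.{u} (cP4) s1459 0 a1459_1 := (AuxS.up x1459 c1459_1 :)
theorem n1459 : Sound.{u} (cP4) s1459 0 :=
  (x1459_1.k7 c1459_0 :)
theorem x1460 : AuxS.{u} (cP4) s1460 0 a1460 := aux_base3 tw490 rfl b1460
theorem x1460_1 : AuxS.{u} (cP4) s1460 0 a1460_1 := (AuxS.up x1460 c1460_1 :)
theorem n1460 : Sound.{u} (cP4) s1460 0 :=
  (x1460_1.k7 c1460_0 :)
theorem x1471 : AuxS.{u} (cP4) s1471 0 a1471 := aux_base3 tw498 rfl b1471
theorem n1471 : Sound.{u} (cP4) s1471 0 :=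
  (x1471.k4 c1471_0 :)
theorem x1482 : AuxS.{u} (cP4) s1482 0 a1482 := aux_base3 tw499 rfl b1482
theorem x1482_1 : AuxS.{u} (cP4) s1482 0 a1482_1 := (AuxS.up x1482 c1482_8 :)
theorem x1482_2 : AuxS.{u} (cP4) s1482 0 a1482_2 := (AuxS.up x1482_1 c1482_9 :)
theorem p1482_3_1 : Phs s1482 a1482_2 [] [] ct1482_3 v1482_3 5 w1482_3_1 := (Phs.fin c1482_3)
theorem p1482_3_3 : Phs s1482 a1482_2 [] [] ct1482_3 v1482_3 4 w1482_3_3 := (Phs.stp c1482_4 p1482_3_1)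
theorem p1482_3_5 : Phs s1482 a1482_2 [] [] ct1482_3 v1482_3 1 w1482_3_5 := (Phs.stp c1482_5 p1482_3_3)
theorem n1482 : Sound.{u} (cP4) s1482 0 :=
  (x1482_2.spl c1482_0 (AllM.cons ((x1482_2.lam 0).tp c1482_1 :) (AllM.cons ((x1482_2.lam 225).e8 c1482_2 :) AllM.nil)) ((x1482_2.weaken 1).ext2 (fun _ => rfl) GamS.nil AllS.nil c1482_7 (Phs.stp c1482_6 p1482_3_5) (Phs.fin (ct := ct1482_3) rfl)) :)
theorem x1483 : AuxS.{u} (cP4) s1483 0 a1483 := aux_base3 tw499 rfl b1483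
theorem n1483 : Sound.{u} (cP4) s1483 0 :=
  (x1483.k4 c1483_0 :)
theorem x1478 : AuxS.{u} (cP4) s1478 0 a1478 := aux_base3 tw499 rfl b1478
theorem x1478_1 : AuxS.{u} (cP4) s1478 0 a1478_1 := x1478
theorem x1478_2 : AuxS.{u} (cP4) s1478 0 a1478_2 := x1478_1
theorem n1478 : Sound.{u} (cP4) s1478 0 :=
  (x1478_2.fr GamS.nil (AllS.cons n1482 (AllS.cons n1483 AllS.nil)) c1478_0 :)
theorem x1479 : AuxS.{u} (cP4) s1479 0 a1479 := aux_base3 tw499 rfl b1479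
theorem n1479 : Sound.{u} (cP4) s1479 0 :=
  (x1479.k4 c1479_0 :)
theorem x1480 : AuxS.{u} (cP4) s1480 0 a1480 := aux_base3 tw499 rfl b1480
theorem n1480 : Sound.{u} (cP4) s1480 0 :=
  (x1480.k4 c1480_0 :)
theorem x1484 : AuxS.{u} (cP4) s1484 0 a1484 := aux_base3 tw499 rfl b1484
theorem x1484_1 : AuxS.{u} (cP4) s1484 0 a1484_1 := (AuxS.up x1484 c1484_8 :)
theorem x1484_2 : AuxS.{u} (cP4) s1484 0 a1484_2 := (AuxS.up x1484_1 c1484_9 :)
theorem p1484_3_1 : Phs s1484 a1484_2 [] [] ct1484_3 v1484_3 5 w1484_3_1 := (Phs.fin c1484_3)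
theorem p1484_3_3 : Phs s1484 a1484_2 [] [] ct1484_3 v1484_3 4 w1484_3_3 := (Phs.stp c1484_4 p1484_3_1)
theorem p1484_3_5 : Phs s1484 a1484_2 [] [] ct1484_3 v1484_3 1 w1484_3_5 := (Phs.stp c1484_5 p1484_3_3)
theorem n1484 : Sound.{u} (cP4) s1484 0 :=
  (x1484_2.spl c1484_0 (AllM.cons ((x1484_2.lam 0).tp c1484_1 :) (AllM.cons ((x1484_2.lam 225).e8 c1484_2 :) AllM.nil)) ((x1484_2.weaken 1).ext2 (fun _ => rfl) GamS.nil AllS.nil c1484_7 (Phs.stp c1484_6 p1484_3_5) (Phs.fin (ct := ct1484_3) rfl)) :)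
theorem x1485 : AuxS.{u} (cP4) s1485 0 a1485 := aux_base3 tw499 rfl b1485
theorem n1485 : Sound.{u} (cP4) s1485 0 :=
  (x1485.k4 c1485_0 :)
theorem x1481 : AuxS.{u} (cP4) s1481 0 a1481 := aux_base3 tw499 rfl b1481
theorem x1481_1 : AuxS.{u} (cP4) s1481 0 a1481_1 := x1481
theorem x1481_2 : AuxS.{u} (cP4) s1481 0 a1481_2 := x1481_1
theorem n1481 : Sound.{u} (cP4) s1481 0 :=
  (x1481_2.fr GamS.nil (AllS.cons n1484 (AllS.cons n1485 AllS.nil)) c1481_0 :)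
theorem x1477 : AuxS.{u} (cP4) s1477 0 a1477 := aux_base3 tw499 rfl b1477
theorem x1477_1 : AuxS.{u} (cP4) s1477 0 a1477_1 := x1477
theorem x1477_2 : AuxS.{u} (cP4) s1477 0 a1477_2 := x1477_1
theorem n1477 : Sound.{u} (cP4) s1477 0 :=
  (x1477_2.fr GamS.nil (AllS.cons n1478 (AllS.cons n1479 (AllS.cons n1480 (AllS.cons n1481 AllS.nil)))) c1477_0 :)
theorem x1475 : AuxS.{u} (cP4) s1475 0 a1475 := aux_base3 tw499 rfl b1475
theorem x1475_1 : AuxS.{u} (cP4) s1475 0 a1475_1 := x1475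
theorem x1475_2 : AuxS.{u} (cP4) s1475 0 a1475_2 := x1475_1
theorem n1475 : Sound.{u} (cP4) s1475 0 :=
  (x1475_2.jump c1475_0 c1475_1 n1477 :)
theorem x1476 : AuxS.{u} (cP4) s1476 0 a1476 := aux_base3 tw499 rfl b1476
theorem n1476 : Sound.{u} (cP4) s1476 0 :=
  (x1476.k4 c1476_0 :)
theorem x1472 : AuxS.{u} (cP4) s1472 0 a1472 := aux_base3 tw499 rfl b1472
theorem x1472_1 : AuxS.{u} (cP4) s1472 0 a1472_1 := x1472
theorem x1472_2 : AuxS.{u} (cP4) s1472 0 a1472_2 := x1472_1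
theorem n1472 : Sound.{u} (cP4) s1472 0 :=
  (x1472_2.fr GamS.nil (AllS.cons n1475 (AllS.cons n1476 AllS.nil)) c1472_0 :)
theorem x1493 : AuxS.{u} (cP4) s1493 0 a1493 := aux_base3 tw500 rfl b1493
theorem n1493 : Sound.{u} (cP4) s1493 0 :=
  (x1493.k4 c1493_0 :)
theorem x1494 : AuxS.{u} (cP4) s1494 0 a1494 := aux_base3 tw500 rfl b1494
theorem x1494_1 : AuxS.{u} (cP4) s1494 0 a1494_1 := (AuxS.up x1494 c1494_7 :)
theorem x1494_2 : AuxS.{u} (cP4) s1494 0 a1494_2 := (AuxS.up x1494_1 c1494_8 :)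
theorem p1494_2_1 : Phs s1494 a1494_2 [] [] ct1494_2 v1494_2 5 w1494_2_1 := (Phs.fin c1494_2)
theorem p1494_2_3 : Phs s1494 a1494_2 [] [] ct1494_2 v1494_2 4 w1494_2_3 := (Phs.stp c1494_3 p1494_2_1)
theorem p1494_2_5 : Phs s1494 a1494_2 [] [] ct1494_2 v1494_2 1 w1494_2_5 := (Phs.stp c1494_4 p1494_2_3)
theorem n1494 : Sound.{u} (cP4) s1494 0 :=
  (x1494_2.spl c1494_0 (AllM.cons ((x1494_2.lam 0).tp c1494_1 :) AllM.nil) ((x1494_2.weaken 1).ext2 (fun _ => rfl) GamS.nil AllS.nil c1494_6 (Phs.stp c1494_5 p1494_2_5) (Phs.fin (ct := ct1494_2) rfl)) :)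
theorem x1489 : AuxS.{u} (cP4) s1489 0 a1489 := aux_base3 tw500 rfl b1489
theorem x1489_1 : AuxS.{u} (cP4) s1489 0 a1489_1 := x1489
theorem x1489_2 : AuxS.{u} (cP4) s1489 0 a1489_2 := x1489_1
theorem n1489 : Sound.{u} (cP4) s1489 0 :=
  (x1489_2.fr GamS.nil (AllS.cons n1493 (AllS.cons n1494 AllS.nil)) c1489_0 :)
theorem x1490 : AuxS.{u} (cP4) s1490 0 a1490 := aux_base3 tw500 rfl b1490
theorem n1490 : Sound.{u} (cP4) s1490 0 :=
  (x1490.k4 c1490_0 :)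
theorem x1491 : AuxS.{u} (cP4) s1491 0 a1491 := aux_base3 tw500 rfl b1491
theorem n1491 : Sound.{u} (cP4) s1491 0 :=
  (x1491.k4 c1491_0 :)
theorem x1495 : AuxS.{u} (cP4) s1495 0 a1495 := aux_base3 tw500 rfl b1495
theorem n1495 : Sound.{u} (cP4) s1495 0 :=
  (x1495.k4 c1495_0 :)
theorem x1496 : AuxS.{u} (cP4) s1496 0 a1496 := aux_base3 tw500 rfl b1496
theorem x1496_1 : AuxS.{u} (cP4) s1496 0 a1496_1 := (AuxS.up x1496 c1496_7 :)
theorem x1496_2 : AuxS.{u} (cP4) s1496 0 a1496_2 := (AuxS.up x1496_1 c1496_8 :)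
theorem p1496_2_1 : Phs s1496 a1496_2 [] [] ct1496_2 v1496_2 5 w1496_2_1 := (Phs.fin c1496_2)
theorem p1496_2_3 : Phs s1496 a1496_2 [] [] ct1496_2 v1496_2 4 w1496_2_3 := (Phs.stp c1496_3 p1496_2_1)
theorem p1496_2_5 : Phs s1496 a1496_2 [] [] ct1496_2 v1496_2 1 w1496_2_5 := (Phs.stp c1496_4 p1496_2_3)
theorem n1496 : Sound.{u} (cP4) s1496 0 :=
  (x1496_2.spl c1496_0 (AllM.cons ((x1496_2.lam 0).tp c1496_1 :) AllM.nil) ((x1496_2.weaken 1).ext2 (fun _ => rfl) GamS.nil AllS.nil c1496_6 (Phs.stp c1496_5 p1496_2_5) (Phs.fin (ct := ct1496_2) rfl)) :)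
theorem x1492 : AuxS.{u} (cP4) s1492 0 a1492 := aux_base3 tw500 rfl b1492
theorem x1492_1 : AuxS.{u} (cP4) s1492 0 a1492_1 := x1492
theorem x1492_2 : AuxS.{u} (cP4) s1492 0 a1492_2 := x1492_1
theorem n1492 : Sound.{u} (cP4) s1492 0 :=
  (x1492_2.fr GamS.nil (AllS.cons n1495 (AllS.cons n1496 AllS.nil)) c1492_0 :)
theorem x1488 : AuxS.{u} (cP4) s1488 0 a1488 := aux_base3 tw500 rfl b1488
theorem x1488_1 : AuxS.{u} (cP4) s1488 0 a1488_1 := x1488
theorem x1488_2 : AuxS.{u} (cP4) s1488 0 a1488_2 := x1488_1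
theorem n1488 : Sound.{u} (cP4) s1488 0 :=
  (x1488_2.fr GamS.nil (AllS.cons n1489 (AllS.cons n1490 (AllS.cons n1491 (AllS.cons n1492 AllS.nil)))) c1488_0 :)
theorem x1486 : AuxS.{u} (cP4) s1486 0 a1486 := aux_base3 tw500 rfl b1486
theorem x1486_1 : AuxS.{u} (cP4) s1486 0 a1486_1 := x1486
theorem x1486_2 : AuxS.{u} (cP4) s1486 0 a1486_2 := x1486_1
theorem n1486 : Sound.{u} (cP4) s1486 0 :=
  (x1486_2.jump c1486_0 c1486_1 n1488 :)
theorem x1487 : AuxS.{u} (cP4) s1487 0 a1487 := aux_base3 tw500 rfl b1487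
theorem n1487 : Sound.{u} (cP4) s1487 0 :=
  (x1487.k4 c1487_0 :)
theorem x1473 : AuxS.{u} (cP4) s1473 0 a1473 := aux_base3 tw500 rfl b1473
theorem x1473_1 : AuxS.{u} (cP4) s1473 0 a1473_1 := x1473
theorem x1473_2 : AuxS.{u} (cP4) s1473 0 a1473_2 := x1473_1
theorem n1473 : Sound.{u} (cP4) s1473 0 :=
  (x1473_2.fr GamS.nil (AllS.cons n1486 (AllS.cons n1487 AllS.nil)) c1473_0 :)
theorem x1474 : AuxS.{u} (cP4) s1474 0 a1474 := aux_base3 tw501 rfl b1474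
theorem n1474 : Sound.{u} (cP4) s1474 0 :=
  (x1474.k4 c1474_0 :)
theorem x1470 : AuxS.{u} (cP4) s1470 0 a1470 := aux_base3 tw491 rfl b1470
theorem x1470_1 : AuxS.{u} (cP4) s1470 0 a1470_1 := (AuxS.up x1470 c1470_5 :)
theorem x1470_2 : AuxS.{u} (cP4) s1470 0 a1470_2 := x1470_1
theorem p1470_0_1 : Phs s1470 a1470_2 [] [s1471, s1472, s1473, s1474] ct1470_0 v1470_0 5 w1470_0_1 := (Phs.fin c1470_0)
theorem p1470_0_3 : Phs s1470 a1470_2 [] [s1471, s1472, s1473, s1474] ct1470_0 v1470_0 4 w1470_0_3 := (Phs.stp c1470_1 p1470_0_1)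
theorem p1470_0_5 : Phs s1470 a1470_2 [] [s1471, s1472, s1473, s1474] ct1470_0 v1470_0 1 w1470_0_5 := (Phs.stp c1470_2 p1470_0_3)
theorem n1470 : Sound.{u} (cP4) s1470 0 :=
  (x1470_2.ext2 (fun h => absurd h (by decide)) GamS.nil (AllS.cons n1471 (AllS.cons n1472 (AllS.cons n1473 (AllS.cons n1474 AllS.nil)))) c1470_4 (Phs.stp c1470_3 p1470_0_5) (Phs.fin (ct := ct1470_0) rfl) :)
theorem x1468 : AuxS.{u} (cP4) s1468 0 a1468 := aux_base3 tw497 rfl b1468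
theorem x1468_1 : AuxS.{u} (cP4) s1468 0 a1468_1 := x1468
theorem x1468_2 : AuxS.{u} (cP4) s1468 0 a1468_2 := x1468_1
theorem n1468 : Sound.{u} (cP4) s1468 0 :=
  (x1468_2.jump c1468_0 c1468_1 n1470 :)
theorem x1469 : AuxS.{u} (cP4) s1469 0 a1469 := aux_base3 tw497 rfl b1469
theorem n1469 : Sound.{u} (cP4) s1469 0 :=
  (x1469.k4 c1469_0 :)
theorem x1467 : AuxS.{u} (cP4) s1467 0 a1467 := aux_base3 tw497 rfl b1467
theorem x1467_1 : AuxS.{u} (cP4) s1467 0 a1467_1 := x1467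
theorem x1467_2 : AuxS.{u} (cP4) s1467 0 a1467_2 := x1467_1
theorem n1467 : Sound.{u} (cP4) s1467 0 :=
  (x1467_2.fr GamS.nil (AllS.cons n1468 (AllS.cons n1469 AllS.nil)) c1467_0 :)
theorem x1461 : AuxS.{u} (cP4) s1461 0 a1461 := aux_base3 tw491 rfl b1461
theorem x1461_1 : AuxS.{u} (cP4) s1461 0 a1461_1 := (AuxS.up x1461 c1461_7 :)
theorem x1461_2 : AuxS.{u} (cP4) s1461 0 a1461_2 := x1461_1
theorem p1461_0_1 : Phs s1461 a1461_2 (List.map Prod.fst g1461_0) [s1467] ct1461_0 v1461_0 5 w1461_0_1 := (Phs.fin c1461_1)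
theorem p1461_0_3 : Phs s1461 a1461_2 (List.map Prod.fst g1461_0) [s1467] ct1461_0 v1461_0 4 w1461_0_3 := (Phs.stp c1461_2 p1461_0_1)
theorem p1461_0_5 : Phs s1461 a1461_2 (List.map Prod.fst g1461_0) [s1467] ct1461_0 v1461_0 3 w1461_0_5 := (Phs.stp c1461_3 p1461_0_3)
theorem p1461_0_7 : Phs s1461 a1461_2 (List.map Prod.fst g1461_0) [s1467] ct1461_0 v1461_0 1 w1461_0_7 := (Phs.stp c1461_4 p1461_0_5)
theorem n1461 : Sound.{u} (cP4) s1461 0 :=
  (x1461_2.ext2 (fun h => absurd h (by decide)) (AuxS.gam x1461_2 c1461_0) (AllS.cons n1467 AllS.nil) c1461_6 (Phs.stp c1461_5 p1461_0_7) (Phs.fin (ct := ct1461_0) rfl) :)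
theorem x1462 : AuxS.{u} (cP4) s1462 0 a1462 := aux_base3 tw492 rfl b1462
theorem x1462_1 : AuxS.{u} (cP4) s1462 0 a1462_1 := (AuxS.up x1462 c1462_1 :)
theorem n1462 : Sound.{u} (cP4) s1462 0 :=
  (x1462_1.k7 c1462_0 :)
theorem x1463 : AuxS.{u} (cP4) s1463 0 a1463 := aux_base3 tw493 rfl b1463
theorem x1463_1 : AuxS.{u} (cP4) s1463 0 a1463_1 := (AuxS.up x1463 c1463_5 :)
theorem x1463_2 : AuxS.{u} (cP4) s1463 0 a1463_2 := x1463_1
theorem x1463_3 : AuxS.{u} (cP4) s1463 0 a1463_3 := x1463_2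
theorem p1463_0_1 : Phs s1463 a1463_3 [] [] ct1463_0 v1463_0 4 w1463_0_1 := (Phs.fin c1463_0)
theorem p1463_0_3 : Phs s1463 a1463_3 [] [] ct1463_0 v1463_0 3 w1463_0_3 := (Phs.stp c1463_1 p1463_0_1)
theorem p1463_0_5 : Phs s1463 a1463_3 [] [] ct1463_0 v1463_0 1 w1463_0_5 := (Phs.stp c1463_2 p1463_0_3)
theorem n1463 : Sound.{u} (cP4) s1463 0 :=
  (x1463_3.ext2 (fun h => absurd h (by decide)) GamS.nil AllS.nil c1463_4 (Phs.stp c1463_3 p1463_0_5) (Phs.fin (ct := ct1463_0) rfl) :)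
theorem x1464 : AuxS.{u} (cP4) s1464 0 a1464 := aux_base3 tw494 rfl b1464
theorem x1464_1 : AuxS.{u} (cP4) s1464 0 a1464_1 := (AuxS.up x1464 c1464_1 :)
theorem n1464 : Sound.{u} (cP4) s1464 0 :=
  (x1464_1.k7 c1464_0 :)
theorem x1465 : AuxS.{u} (cP4) s1465 0 a1465 := aux_base3 tw495 rfl b1465
theorem x1465_1 : AuxS.{u} (cP4) s1465 0 a1465_1 := (AuxS.up x1465 c1465_1 :)
theorem n1465 : Sound.{u} (cP4) s1465 0 :=
  (x1465_1.k7 c1465_0 :)
theorem x1466 : AuxS.{u} (cP4) s1466 0 a1466 := aux_base3 tw496 rfl b1466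
theorem x1466_1 : AuxS.{u} (cP4) s1466 0 a1466_1 := (AuxS.up x1466 c1466_1 :)
theorem n1466 : Sound.{u} (cP4) s1466 0 :=
  (x1466_1.k7 c1466_0 :)
theorem x8 : AuxS.{u} (cP4) s8 0 a8 := aux_base3 tw8 rfl b8
theorem x8_1 : AuxS.{u} (cP4) s8 0 a8_1 := (AuxS.up x8 c8_4 :)
theorem p8_0_1 : Phs s8 a8_1 [] [s1459, s1460, s1461, s1462, s1463, s1464, s1465, s1466] ct8_0 v8_0 4 w8_0_1 := (Phs.fin c8_0)
theorem p8_0_3 : Phs s8 a8_1 [] [s1459, s1460, s1461, s1462, s1463, s1464, s1465, s1466] ct8_0 v8_0 1 w8_0_3 := (Phs.stp c8_1 p8_0_1)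
theorem n8 : Sound.{u} (cP4) s8 0 :=
  (x8_1.ext2 (fun h => absurd h (by decide)) GamS.nil (AllS.cons n1459 (AllS.cons n1460 (AllS.cons n1461 (AllS.cons n1462 (AllS.cons n1463 (AllS.cons n1464 (AllS.cons n1465 (AllS.cons n1466 AllS.nil)))))))) c8_3 (Phs.stp c8_2 p8_0_3) (Phs.fin (ct := ct8_0) rfl) :)
theorem x9 : AuxS.{u} (cP4) s9 0 a9 := aux_base3 tw9 rfl b9
theorem x9_1 : AuxS.{u} (cP4) s9 0 a9_1 := (AuxS.up x9 c9_1 :)
theorem n9 : Sound.{u} (cP4) s9 0 :=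
  (x9_1.k1 c9_0 :)
theorem x10 : AuxS.{u} (cP4) s10 0 a10 := aux_base3 tw10 rfl b10
theorem x10_1 : AuxS.{u} (cP4) s10 0 a10_1 := (AuxS.up x10 c10_1 :)
theorem n10 : Sound.{u} (cP4) s10 0 :=
  (x10_1.k1 c10_0 :)
theorem x11 : AuxS.{u} (cP4) s11 0 a11 := aux_base3 tw11 rfl b11
theorem n11 : Sound.{u} (cP4) s11 0 :=
  (x11.k3 c11_0 :)
theorem x12 : AuxS.{u} (cP4) s12 0 a12 := aux_base3 tw12 rfl b12
theorem n12 : Sound.{u} (cP4) s12 0 :=
  (x12.k3 c12_0 :)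
theorem x13 : AuxS.{u} (cP4) s13 0 a13 := aux_base3 tw13 rfl b13
theorem n13 : Sound.{u} (cP4) s13 0 :=
  (x13.k3 c13_0 :)
theorem x14 : AuxS.{u} (cP4) s14 0 a14 := aux_base3 tw14 rfl b14
theorem n14 : Sound.{u} (cP4) s14 0 :=
  (x14.k3 c14_0 :)
theorem x15 : AuxS.{u} (cP4) s15 0 a15 := aux_base3 tw15 rfl b15
theorem n15 : Sound.{u} (cP4) s15 0 :=
  (x15.k3 c15_0 :)
theorem x16 : AuxS.{u} (cP4) s16 0 a16 := aux_base3 tw16 rfl b16
theorem n16 : Sound.{u} (cP4) s16 0 :=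
  (x16.k3 c16_0 :)
theorem x1626 : AuxS.{u} (cP4) s1626 0 a1626 := aux_base3 tw566 rfl b1626
theorem x1626_1 : AuxS.{u} (cP4) s1626 0 a1626_1 := x1626
theorem n1626 : Sound.{u} (cP4) s1626 0 :=
  (x1626_1.jump c1626_0 c1626_1 n156 :)
theorem x1627 : AuxS.{u} (cP4) s1627 0 a1627 := aux_base3 tw567 rfl b1627
theorem x1627_1 : AuxS.{u} (cP4) s1627 0 a1627_1 := x1627
theorem n1627 : Sound.{u} (cP4) s1627 0 :=
  (x1627_1.jump c1627_0 c1627_1 n157 :)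
theorem x1628 : AuxS.{u} (cP4) s1628 0 a1628 := aux_base3 tw568 rfl b1628
theorem x1628_1 : AuxS.{u} (cP4) s1628 0 a1628_1 := x1628
theorem n1628 : Sound.{u} (cP4) s1628 0 :=
  (x1628_1.jump c1628_0 c1628_1 n158 :)
theorem x1629 : AuxS.{u} (cP4) s1629 0 a1629 := aux_base3 tw569 rfl b1629
theorem x1629_1 : AuxS.{u} (cP4) s1629 0 a1629_1 := x1629
theorem n1629 : Sound.{u} (cP4) s1629 0 :=
  (x1629_1.jump c1629_0 c1629_1 n159 :)
theorem x1630 : AuxS.{u} (cP4) s1630 0 a1630 := aux_base3 tw570 rfl b1630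
theorem x1630_1 : AuxS.{u} (cP4) s1630 0 a1630_1 := x1630
theorem n1630 : Sound.{u} (cP4) s1630 0 :=
  (x1630_1.jump c1630_0 c1630_1 n160 :)
theorem x1631 : AuxS.{u} (cP4) s1631 0 a1631 := aux_base3 tw571 rfl b1631
theorem x1631_1 : AuxS.{u} (cP4) s1631 0 a1631_1 := x1631
theorem n1631 : Sound.{u} (cP4) s1631 0 :=
  (x1631_1.jump c1631_0 c1631_1 n161 :)
theorem x1632 : AuxS.{u} (cP4) s1632 0 a1632 := aux_base3 tw572 rfl b1632
theorem x1632_1 : AuxS.{u} (cP4) s1632 0 a1632_1 := x1632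
theorem n1632 : Sound.{u} (cP4) s1632 0 :=
  (x1632_1.jump c1632_0 c1632_1 n162 :)
theorem x1633 : AuxS.{u} (cP4) s1633 0 a1633 := aux_base3 tw573 rfl b1633
theorem x1633_1 : AuxS.{u} (cP4) s1633 0 a1633_1 := x1633
theorem n1633 : Sound.{u} (cP4) s1633 0 :=
  (x1633_1.jump c1633_0 c1633_1 n163 :)
theorem x1634 : AuxS.{u} (cP4) s1634 0 a1634 := aux_base3 tw574 rfl b1634
theorem x1634_1 : AuxS.{u} (cP4) s1634 0 a1634_1 := x1634
theorem n1634 : Sound.{u} (cP4) s1634 0 :=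
  (x1634_1.jump c1634_0 c1634_1 n164 :)
theorem x1635 : AuxS.{u} (cP4) s1635 0 a1635 := aux_base3 tw575 rfl b1635
theorem x1635_1 : AuxS.{u} (cP4) s1635 0 a1635_1 := x1635
theorem n1635 : Sound.{u} (cP4) s1635 0 :=
  (x1635_1.jump c1635_0 c1635_1 n165 :)
theorem x1636 : AuxS.{u} (cP4) s1636 0 a1636 := aux_base3 tw576 rfl b1636
theorem x1636_1 : AuxS.{u} (cP4) s1636 0 a1636_1 := x1636
theorem x1636_2 : AuxS.{u} (cP4) s1636 0 a1636_2 := x1636_1
theorem n1636 : Sound.{u} (cP4) s1636 0 :=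
  (x1636_2.jump c1636_0 c1636_1 n166 :)
theorem x1637 : AuxS.{u} (cP4) s1637 0 a1637 := aux_base3 tw577 rfl b1637
theorem x1637_1 : AuxS.{u} (cP4) s1637 0 a1637_1 := x1637
theorem n1637 : Sound.{u} (cP4) s1637 0 :=
  (x1637_1.jump c1637_0 c1637_1 n167 :)
theorem x1638 : AuxS.{u} (cP4) s1638 0 a1638 := aux_base3 tw578 rfl b1638
theorem x1638_1 : AuxS.{u} (cP4) s1638 0 a1638_1 := x1638
theorem n1638 : Sound.{u} (cP4) s1638 0 :=
  (x1638_1.jump c1638_0 c1638_1 n168 :)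
theorem x1639 : AuxS.{u} (cP4) s1639 0 a1639 := aux_base3 tw579 rfl b1639
theorem x1639_1 : AuxS.{u} (cP4) s1639 0 a1639_1 := x1639
theorem n1639 : Sound.{u} (cP4) s1639 0 :=
  (x1639_1.jump c1639_0 c1639_1 n169 :)
theorem x1640 : AuxS.{u} (cP4) s1640 0 a1640 := aux_base3 tw580 rfl b1640
theorem x1640_1 : AuxS.{u} (cP4) s1640 0 a1640_1 := x1640
theorem n1640 : Sound.{u} (cP4) s1640 0 :=
  (x1640_1.jump c1640_0 c1640_1 n170 :)
theorem x1641 : AuxS.{u} (cP4) s1641 0 a1641 := aux_base3 tw581 rfl b1641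
theorem x1641_1 : AuxS.{u} (cP4) s1641 0 a1641_1 := x1641
theorem x1641_2 : AuxS.{u} (cP4) s1641 0 a1641_2 := x1641_1
theorem n1641 : Sound.{u} (cP4) s1641 0 :=
  (x1641_2.jump c1641_0 c1641_1 n171 :)
theorem x1594 : AuxS.{u} (cP4) s1594 0 a1594 := aux_base3 tw534 rfl b1594
theorem x1594_1 : AuxS.{u} (cP4) s1594 0 a1594_1 := x1594
theorem x1594_2 : AuxS.{u} (cP4) s1594 0 a1594_2 := x1594_1
theorem n1594 : Sound.{u} (cP4) s1594 0 :=
  (x1594_2.fr2 GamS.nil (AllS.cons n1626 (AllS.cons n1627 (AllS.cons n1628 (AllS.cons n1629 (AllS.cons n1630 (AllS.cons n1631 (AllS.cons n1632 (AllS.cons n1633 (AllS.cons n1634 (AllS.cons n1635 (AllS.cons n1636 (AllS.cons n1637 (AllS.cons n1638 (AllS.cons n1639 (AllS.cons n1640 (AllS.cons n1641 AllS.nil)))))))))))))))) c1594_0 :)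
theorem x1595 : AuxS.{u} (cP4) s1595 0 a1595 := aux_base3 tw534 rfl b1595
theorem n1595 : Sound.{u} (cP4) s1595 0 :=
  (x1595.k4 c1595_0 :)
theorem x1596 : AuxS.{u} (cP4) s1596 0 a1596 := aux_base3 tw534 rfl b1596
theorem n1596 : Sound.{u} (cP4) s1596 0 :=
  (x1596.k4 c1596_0 :)
theorem x1597 : AuxS.{u} (cP4) s1597 0 a1597 := aux_base3 tw534 rfl b1597
theorem n1597 : Sound.{u} (cP4) s1597 0 :=
  (x1597.k4 c1597_0 :)
theorem x1598 : AuxS.{u} (cP4) s1598 0 a1598 := aux_base3 tw534 rfl b1598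
theorem n1598 : Sound.{u} (cP4) s1598 0 :=
  (x1598.k4 c1598_0 :)
theorem x1599 : AuxS.{u} (cP4) s1599 0 a1599 := aux_base3 tw534 rfl b1599
theorem n1599 : Sound.{u} (cP4) s1599 0 :=
  (x1599.k4 c1599_0 :)
theorem x1600 : AuxS.{u} (cP4) s1600 0 a1600 := aux_base3 tw534 rfl b1600
theorem n1600 : Sound.{u} (cP4) s1600 0 :=
  (x1600.k4 c1600_0 :)
theorem x1601 : AuxS.{u} (cP4) s1601 0 a1601 := aux_base3 tw534 rfl b1601
theorem n1601 : Sound.{u} (cP4) s1601 0 :=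
  (x1601.k4 c1601_0 :)
theorem x1602 : AuxS.{u} (cP4) s1602 0 a1602 := aux_base3 tw534 rfl b1602
theorem n1602 : Sound.{u} (cP4) s1602 0 :=
  (x1602.k4 c1602_0 :)
theorem x1603 : AuxS.{u} (cP4) s1603 0 a1603 := aux_base3 tw534 rfl b1603
theorem n1603 : Sound.{u} (cP4) s1603 0 :=
  (x1603.k4 c1603_0 :)
theorem x1604 : AuxS.{u} (cP4) s1604 0 a1604 := aux_base3 tw534 rfl b1604
theorem n1604 : Sound.{u} (cP4) s1604 0 :=
  (x1604.k4 c1604_0 :)
theorem x1605 : AuxS.{u} (cP4) s1605 0 a1605 := aux_base3 tw534 rfl b1605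
theorem n1605 : Sound.{u} (cP4) s1605 0 :=
  (x1605.k4 c1605_0 :)
theorem x1606 : AuxS.{u} (cP4) s1606 0 a1606 := aux_base3 tw534 rfl b1606
theorem n1606 : Sound.{u} (cP4) s1606 0 :=
  (x1606.k4 c1606_0 :)
theorem x1607 : AuxS.{u} (cP4) s1607 0 a1607 := aux_base3 tw534 rfl b1607
theorem n1607 : Sound.{u} (cP4) s1607 0 :=
  (x1607.k4 c1607_0 :)
theorem x1608 : AuxS.{u} (cP4) s1608 0 a1608 := aux_base3 tw534 rfl b1608
theorem n1608 : Sound.{u} (cP4) s1608 0 :=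
  (x1608.k4 c1608_0 :)
theorem x1609 : AuxS.{u} (cP4) s1609 0 a1609 := aux_base3 tw534 rfl b1609
theorem n1609 : Sound.{u} (cP4) s1609 0 :=
  (x1609.k4 c1609_0 :)
theorem x1610 : AuxS.{u} (cP4) s1610 0 a1610 := aux_base3 tw534 rfl b1610
theorem n1610 : Sound.{u} (cP4) s1610 0 :=
  (x1610.k4 c1610_0 :)
theorem x1611 : AuxS.{u} (cP4) s1611 0 a1611 := aux_base3 tw534 rfl b1611
theorem n1611 : Sound.{u} (cP4) s1611 0 :=
  (x1611.k4 c1611_0 :)
theorem x1612 : AuxS.{u} (cP4) s1612 0 a1612 := aux_base3 tw534 rfl b1612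
theorem n1612 : Sound.{u} (cP4) s1612 0 :=
  (x1612.k4 c1612_0 :)
theorem x1613 : AuxS.{u} (cP4) s1613 0 a1613 := aux_base3 tw534 rfl b1613
theorem n1613 : Sound.{u} (cP4) s1613 0 :=
  (x1613.k4 c1613_0 :)
theorem x1614 : AuxS.{u} (cP4) s1614 0 a1614 := aux_base3 tw534 rfl b1614
theorem n1614 : Sound.{u} (cP4) s1614 0 :=
  (x1614.k4 c1614_0 :)
theorem x1615 : AuxS.{u} (cP4) s1615 0 a1615 := aux_base3 tw534 rfl b1615
theorem n1615 : Sound.{u} (cP4) s1615 0 :=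
  (x1615.k4 c1615_0 :)
theorem x1616 : AuxS.{u} (cP4) s1616 0 a1616 := aux_base3 tw534 rfl b1616
theorem n1616 : Sound.{u} (cP4) s1616 0 :=
  (x1616.k4 c1616_0 :)
theorem x1617 : AuxS.{u} (cP4) s1617 0 a1617 := aux_base3 tw534 rfl b1617
theorem n1617 : Sound.{u} (cP4) s1617 0 :=
  (x1617.k4 c1617_0 :)
theorem x1618 : AuxS.{u} (cP4) s1618 0 a1618 := aux_base3 tw534 rfl b1618
theorem n1618 : Sound.{u} (cP4) s1618 0 :=
  (x1618.k4 c1618_0 :)
theorem x1619 : AuxS.{u} (cP4) s1619 0 a1619 := aux_base3 tw534 rfl b1619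
theorem n1619 : Sound.{u} (cP4) s1619 0 :=
  (x1619.k4 c1619_0 :)
theorem x1620 : AuxS.{u} (cP4) s1620 0 a1620 := aux_base3 tw534 rfl b1620
theorem n1620 : Sound.{u} (cP4) s1620 0 :=
  (x1620.k4 c1620_0 :)
theorem x1621 : AuxS.{u} (cP4) s1621 0 a1621 := aux_base3 tw534 rfl b1621
theorem n1621 : Sound.{u} (cP4) s1621 0 :=
  (x1621.k4 c1621_0 :)
theorem x1622 : AuxS.{u} (cP4) s1622 0 a1622 := aux_base3 tw534 rfl b1622
theorem n1622 : Sound.{u} (cP4) s1622 0 :=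
  (x1622.k4 c1622_0 :)
theorem x1623 : AuxS.{u} (cP4) s1623 0 a1623 := aux_base3 tw534 rfl b1623
theorem n1623 : Sound.{u} (cP4) s1623 0 :=
  (x1623.k4 c1623_0 :)
theorem x1624 : AuxS.{u} (cP4) s1624 0 a1624 := aux_base3 tw534 rfl b1624
theorem n1624 : Sound.{u} (cP4) s1624 0 :=
  (x1624.k4 c1624_0 :)
theorem x1625 : AuxS.{u} (cP4) s1625 0 a1625 := aux_base3 tw534 rfl b1625
theorem n1625 : Sound.{u} (cP4) s1625 0 :=
  (x1625.k4 c1625_0 :)
theorem x1562 : AuxS.{u} (cP4) s1562 0 a1562 := aux_base3 tw534 rfl b1562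
theorem x1562_1 : AuxS.{u} (cP4) s1562 0 a1562_1 := x1562
theorem x1562_2 : AuxS.{u} (cP4) s1562 0 a1562_2 := x1562_1
theorem n1562 : Sound.{u} (cP4) s1562 0 :=
  (x1562_2.fr (AuxS.gam x1562_2 c1562_0) (AllS.cons n1594 (AllS.cons n1595 (AllS.cons n1596 (AllS.cons n1597 (AllS.cons n1598 (AllS.cons n1599 (AllS.cons n1600 (AllS.cons n1601 (AllS.cons n1602 (AllS.cons n1603 (AllS.cons n1604 (AllS.cons n1605 (AllS.cons n1606 (AllS.cons n1607 (AllS.cons n1608 (AllS.cons n1609 (AllS.cons n1610 (AllS.cons n1611 (AllS.cons n1612 (AllS.cons n1613 (AllS.cons n1614 (AllS.cons n1615 (AllS.cons n1616 (AllS.cons n1617 (AllS.cons n1618 (AllS.cons n1619 (AllS.cons n1620 (AllS.cons n1621 (AllS.cons n1622 (AllS.cons n1623 (AllS.cons n1624 (AllS.cons n1625 AllS.nil)))))))))))))))))))))))))))))))) c1562_1 :)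
theorem x1563 : AuxS.{u} (cP4) s1563 0 a1563 := aux_base3 tw535 rfl b1563
theorem x1563_1 : AuxS.{u} (cP4) s1563 0 a1563_1 := x1563
theorem x1563_2 : AuxS.{u} (cP4) s1563 0 a1563_2 := x1563_1
theorem n1563 : Sound.{u} (cP4) s1563 0 :=
  (x1563_2.fr GamS.nil AllS.nil c1563_0 :)
theorem x1564 : AuxS.{u} (cP4) s1564 0 a1564 := aux_base3 tw536 rfl b1564
theorem x1564_1 : AuxS.{u} (cP4) s1564 0 a1564_1 := x1564
theorem x1564_2 : AuxS.{u} (cP4) s1564 0 a1564_2 := x1564_1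
theorem n1564 : Sound.{u} (cP4) s1564 0 :=
  (x1564_2.fr GamS.nil AllS.nil c1564_0 :)
theorem x1565 : AuxS.{u} (cP4) s1565 0 a1565 := aux_base3 tw537 rfl b1565
theorem x1565_1 : AuxS.{u} (cP4) s1565 0 a1565_1 := x1565
theorem x1565_2 : AuxS.{u} (cP4) s1565 0 a1565_2 := x1565_1
theorem n1565 : Sound.{u} (cP4) s1565 0 :=
  (x1565_2.fr GamS.nil AllS.nil c1565_0 :)
theorem x1566 : AuxS.{u} (cP4) s1566 0 a1566 := aux_base3 tw538 rfl b1566
theorem x1566_1 : AuxS.{u} (cP4) s1566 0 a1566_1 := x1566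
theorem x1566_2 : AuxS.{u} (cP4) s1566 0 a1566_2 := x1566_1
theorem n1566 : Sound.{u} (cP4) s1566 0 :=
  (x1566_2.fr GamS.nil AllS.nil c1566_0 :)
theorem x1567 : AuxS.{u} (cP4) s1567 0 a1567 := aux_base3 tw539 rfl b1567
theorem x1567_1 : AuxS.{u} (cP4) s1567 0 a1567_1 := x1567
theorem x1567_2 : AuxS.{u} (cP4) s1567 0 a1567_2 := x1567_1
theorem n1567 : Sound.{u} (cP4) s1567 0 :=
  (x1567_2.fr GamS.nil AllS.nil c1567_0 :)
theorem x1568 : AuxS.{u} (cP4) s1568 0 a1568 := aux_base3 tw540 rfl b1568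
theorem x1568_1 : AuxS.{u} (cP4) s1568 0 a1568_1 := x1568
theorem x1568_2 : AuxS.{u} (cP4) s1568 0 a1568_2 := x1568_1
theorem n1568 : Sound.{u} (cP4) s1568 0 :=
  (x1568_2.fr GamS.nil AllS.nil c1568_0 :)
theorem x1569 : AuxS.{u} (cP4) s1569 0 a1569 := aux_base3 tw541 rfl b1569
theorem x1569_1 : AuxS.{u} (cP4) s1569 0 a1569_1 := x1569
theorem x1569_2 : AuxS.{u} (cP4) s1569 0 a1569_2 := x1569_1
theorem n1569 : Sound.{u} (cP4) s1569 0 :=
  (x1569_2.fr GamS.nil AllS.nil c1569_0 :)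
theorem x1570 : AuxS.{u} (cP4) s1570 0 a1570 := aux_base3 tw542 rfl b1570
theorem x1570_1 : AuxS.{u} (cP4) s1570 0 a1570_1 := x1570
theorem x1570_2 : AuxS.{u} (cP4) s1570 0 a1570_2 := x1570_1
theorem n1570 : Sound.{u} (cP4) s1570 0 :=
  (x1570_2.fr GamS.nil AllS.nil c1570_0 :)
theorem x1571 : AuxS.{u} (cP4) s1571 0 a1571 := aux_base3 tw543 rfl b1571
theorem x1571_1 : AuxS.{u} (cP4) s1571 0 a1571_1 := x1571
theorem x1571_2 : AuxS.{u} (cP4) s1571 0 a1571_2 := x1571_1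
theorem n1571 : Sound.{u} (cP4) s1571 0 :=
  (x1571_2.fr GamS.nil AllS.nil c1571_0 :)
theorem x1572 : AuxS.{u} (cP4) s1572 0 a1572 := aux_base3 tw544 rfl b1572
theorem x1572_1 : AuxS.{u} (cP4) s1572 0 a1572_1 := x1572
theorem x1572_2 : AuxS.{u} (cP4) s1572 0 a1572_2 := x1572_1
theorem n1572 : Sound.{u} (cP4) s1572 0 :=
  (x1572_2.fr GamS.nil AllS.nil c1572_0 :)
theorem x1573 : AuxS.{u} (cP4) s1573 0 a1573 := aux_base3 tw545 rfl b1573
theorem x1573_1 : AuxS.{u} (cP4) s1573 0 a1573_1 := x1573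
theorem x1573_2 : AuxS.{u} (cP4) s1573 0 a1573_2 := x1573_1
theorem n1573 : Sound.{u} (cP4) s1573 0 :=
  (x1573_2.fr GamS.nil AllS.nil c1573_0 :)
theorem x1574 : AuxS.{u} (cP4) s1574 0 a1574 := aux_base3 tw546 rfl b1574
theorem x1574_1 : AuxS.{u} (cP4) s1574 0 a1574_1 := x1574
theorem x1574_2 : AuxS.{u} (cP4) s1574 0 a1574_2 := x1574_1
theorem n1574 : Sound.{u} (cP4) s1574 0 :=
  (x1574_2.fr GamS.nil AllS.nil c1574_0 :)
theorem x1575 : AuxS.{u} (cP4) s1575 0 a1575 := aux_base3 tw547 rfl b1575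
theorem x1575_1 : AuxS.{u} (cP4) s1575 0 a1575_1 := x1575
theorem x1575_2 : AuxS.{u} (cP4) s1575 0 a1575_2 := x1575_1
theorem n1575 : Sound.{u} (cP4) s1575 0 :=
  (x1575_2.fr GamS.nil AllS.nil c1575_0 :)
theorem x1576 : AuxS.{u} (cP4) s1576 0 a1576 := aux_base3 tw548 rfl b1576
theorem x1576_1 : AuxS.{u} (cP4) s1576 0 a1576_1 := x1576
theorem x1576_2 : AuxS.{u} (cP4) s1576 0 a1576_2 := x1576_1
theorem n1576 : Sound.{u} (cP4) s1576 0 :=
  (x1576_2.fr GamS.nil AllS.nil c1576_0 :)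
theorem x1577 : AuxS.{u} (cP4) s1577 0 a1577 := aux_base3 tw549 rfl b1577
theorem x1577_1 : AuxS.{u} (cP4) s1577 0 a1577_1 := x1577
theorem x1577_2 : AuxS.{u} (cP4) s1577 0 a1577_2 := x1577_1
theorem n1577 : Sound.{u} (cP4) s1577 0 :=
  (x1577_2.fr GamS.nil AllS.nil c1577_0 :)
theorem x1642 : AuxS.{u} (cP4) s1642 0 a1642 := aux_base3 tw550 rfl b1642
theorem n1642 : Sound.{u} (cP4) s1642 0 :=
  (x1642.k4 c1642_0 :)
theorem x1643 : AuxS.{u} (cP4) s1643 0 a1643 := aux_base3 tw550 rfl b1643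
theorem n1643 : Sound.{u} (cP4) s1643 0 :=
  (x1643.k4 c1643_0 :)
theorem x1644 : AuxS.{u} (cP4) s1644 0 a1644 := aux_base3 tw550 rfl b1644
theorem n1644 : Sound.{u} (cP4) s1644 0 :=
  (x1644.k4 c1644_0 :)
theorem x1645 : AuxS.{u} (cP4) s1645 0 a1645 := aux_base3 tw550 rfl b1645
theorem n1645 : Sound.{u} (cP4) s1645 0 :=
  (x1645.k4 c1645_0 :)
theorem x1646 : AuxS.{u} (cP4) s1646 0 a1646 := aux_base3 tw550 rfl b1646
theorem n1646 : Sound.{u} (cP4) s1646 0 :=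
  (x1646.k4 c1646_0 :)
theorem x1647 : AuxS.{u} (cP4) s1647 0 a1647 := aux_base3 tw550 rfl b1647
theorem n1647 : Sound.{u} (cP4) s1647 0 :=
  (x1647.k4 c1647_0 :)
theorem x1648 : AuxS.{u} (cP4) s1648 0 a1648 := aux_base3 tw550 rfl b1648
theorem n1648 : Sound.{u} (cP4) s1648 0 :=
  (x1648.k4 c1648_0 :)
theorem x1649 : AuxS.{u} (cP4) s1649 0 a1649 := aux_base3 tw550 rfl b1649
theorem n1649 : Sound.{u} (cP4) s1649 0 :=
  (x1649.k4 c1649_0 :)
theorem x1650 : AuxS.{u} (cP4) s1650 0 a1650 := aux_base3 tw550 rfl b1650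
theorem n1650 : Sound.{u} (cP4) s1650 0 :=
  (x1650.k4 c1650_0 :)
theorem x1651 : AuxS.{u} (cP4) s1651 0 a1651 := aux_base3 tw550 rfl b1651
theorem n1651 : Sound.{u} (cP4) s1651 0 :=
  (x1651.k4 c1651_0 :)
theorem x1652 : AuxS.{u} (cP4) s1652 0 a1652 := aux_base3 tw550 rfl b1652
theorem n1652 : Sound.{u} (cP4) s1652 0 :=
  (x1652.k4 c1652_0 :)
theorem x1653 : AuxS.{u} (cP4) s1653 0 a1653 := aux_base3 tw550 rfl b1653
theorem n1653 : Sound.{u} (cP4) s1653 0 :=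
  (x1653.k4 c1653_0 :)
theorem x1654 : AuxS.{u} (cP4) s1654 0 a1654 := aux_base3 tw550 rfl b1654
theorem n1654 : Sound.{u} (cP4) s1654 0 :=
  (x1654.k4 c1654_0 :)
theorem x1655 : AuxS.{u} (cP4) s1655 0 a1655 := aux_base3 tw550 rfl b1655
theorem n1655 : Sound.{u} (cP4) s1655 0 :=
  (x1655.k4 c1655_0 :)
theorem x1656 : AuxS.{u} (cP4) s1656 0 a1656 := aux_base3 tw550 rfl b1656
theorem n1656 : Sound.{u} (cP4) s1656 0 :=
  (x1656.k4 c1656_0 :)
theorem x1657 : AuxS.{u} (cP4) s1657 0 a1657 := aux_base3 tw550 rfl b1657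
theorem n1657 : Sound.{u} (cP4) s1657 0 :=
  (x1657.k4 c1657_0 :)
theorem x1658 : AuxS.{u} (cP4) s1658 0 a1658 := aux_base3 tw550 rfl b1658
theorem n1658 : Sound.{u} (cP4) s1658 0 :=
  (x1658.k4 c1658_0 :)
theorem x1659 : AuxS.{u} (cP4) s1659 0 a1659 := aux_base3 tw550 rfl b1659
theorem n1659 : Sound.{u} (cP4) s1659 0 :=
  (x1659.k4 c1659_0 :)
theorem x1660 : AuxS.{u} (cP4) s1660 0 a1660 := aux_base3 tw550 rfl b1660
theorem n1660 : Sound.{u} (cP4) s1660 0 :=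
  (x1660.k4 c1660_0 :)
theorem x1661 : AuxS.{u} (cP4) s1661 0 a1661 := aux_base3 tw550 rfl b1661
theorem n1661 : Sound.{u} (cP4) s1661 0 :=
  (x1661.k4 c1661_0 :)
theorem x1662 : AuxS.{u} (cP4) s1662 0 a1662 := aux_base3 tw550 rfl b1662
theorem n1662 : Sound.{u} (cP4) s1662 0 :=
  (x1662.k4 c1662_0 :)
theorem x1663 : AuxS.{u} (cP4) s1663 0 a1663 := aux_base3 tw550 rfl b1663
theorem n1663 : Sound.{u} (cP4) s1663 0 :=
  (x1663.k4 c1663_0 :)
theorem x1664 : AuxS.{u} (cP4) s1664 0 a1664 := aux_base3 tw550 rfl b1664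
theorem n1664 : Sound.{u} (cP4) s1664 0 :=
  (x1664.k4 c1664_0 :)
theorem x1665 : AuxS.{u} (cP4) s1665 0 a1665 := aux_base3 tw550 rfl b1665
theorem n1665 : Sound.{u} (cP4) s1665 0 :=
  (x1665.k4 c1665_0 :)
theorem x1666 : AuxS.{u} (cP4) s1666 0 a1666 := aux_base3 tw550 rfl b1666
theorem n1666 : Sound.{u} (cP4) s1666 0 :=
  (x1666.k4 c1666_0 :)
theorem x1667 : AuxS.{u} (cP4) s1667 0 a1667 := aux_base3 tw550 rfl b1667
theorem n1667 : Sound.{u} (cP4) s1667 0 :=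
  (x1667.k4 c1667_0 :)
theorem x1668 : AuxS.{u} (cP4) s1668 0 a1668 := aux_base3 tw550 rfl b1668
theorem n1668 : Sound.{u} (cP4) s1668 0 :=
  (x1668.k4 c1668_0 :)
theorem x1669 : AuxS.{u} (cP4) s1669 0 a1669 := aux_base3 tw550 rfl b1669
theorem n1669 : Sound.{u} (cP4) s1669 0 :=
  (x1669.k4 c1669_0 :)
theorem x1670 : AuxS.{u} (cP4) s1670 0 a1670 := aux_base3 tw550 rfl b1670
theorem n1670 : Sound.{u} (cP4) s1670 0 :=
  (x1670.k4 c1670_0 :)
theorem x1671 : AuxS.{u} (cP4) s1671 0 a1671 := aux_base3 tw550 rfl b1671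
theorem n1671 : Sound.{u} (cP4) s1671 0 :=
  (x1671.k4 c1671_0 :)
theorem x1672 : AuxS.{u} (cP4) s1672 0 a1672 := aux_base3 tw550 rfl b1672
theorem n1672 : Sound.{u} (cP4) s1672 0 :=
  (x1672.k4 c1672_0 :)
theorem x1674 : AuxS.{u} (cP4) s1674 0 a1674 := aux_base3 tw582 rfl b1674
theorem x1674_1 : AuxS.{u} (cP4) s1674 0 a1674_1 := x1674
theorem n1674 : Sound.{u} (cP4) s1674 0 :=
  (x1674_1.jump c1674_0 c1674_1 n332 :)
theorem x1675 : AuxS.{u} (cP4) s1675 0 a1675 := aux_base3 tw583 rfl b1675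
theorem x1675_1 : AuxS.{u} (cP4) s1675 0 a1675_1 := x1675
theorem n1675 : Sound.{u} (cP4) s1675 0 :=
  (x1675_1.jump c1675_0 c1675_1 n333 :)
theorem x1676 : AuxS.{u} (cP4) s1676 0 a1676 := aux_base3 tw584 rfl b1676
theorem x1676_1 : AuxS.{u} (cP4) s1676 0 a1676_1 := x1676
theorem n1676 : Sound.{u} (cP4) s1676 0 :=
  (x1676_1.jump c1676_0 c1676_1 n334 :)
theorem x1677 : AuxS.{u} (cP4) s1677 0 a1677 := aux_base3 tw585 rfl b1677
theorem x1677_1 : AuxS.{u} (cP4) s1677 0 a1677_1 := x1677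
theorem n1677 : Sound.{u} (cP4) s1677 0 :=
  (x1677_1.jump c1677_0 c1677_1 n335 :)
theorem x1678 : AuxS.{u} (cP4) s1678 0 a1678 := aux_base3 tw586 rfl b1678
theorem x1678_1 : AuxS.{u} (cP4) s1678 0 a1678_1 := x1678
theorem n1678 : Sound.{u} (cP4) s1678 0 :=
  (x1678_1.jump c1678_0 c1678_1 n336 :)
theorem x1679 : AuxS.{u} (cP4) s1679 0 a1679 := aux_base3 tw587 rfl b1679
theorem x1679_1 : AuxS.{u} (cP4) s1679 0 a1679_1 := x1679
theorem n1679 : Sound.{u} (cP4) s1679 0 :=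
  (x1679_1.jump c1679_0 c1679_1 n337 :)
theorem x1680 : AuxS.{u} (cP4) s1680 0 a1680 := aux_base3 tw588 rfl b1680
theorem x1680_1 : AuxS.{u} (cP4) s1680 0 a1680_1 := x1680
theorem n1680 : Sound.{u} (cP4) s1680 0 :=
  (x1680_1.jump c1680_0 c1680_1 n338 :)
theorem x1681 : AuxS.{u} (cP4) s1681 0 a1681 := aux_base3 tw589 rfl b1681
theorem x1681_1 : AuxS.{u} (cP4) s1681 0 a1681_1 := x1681
theorem n1681 : Sound.{u} (cP4) s1681 0 :=
  (x1681_1.jump c1681_0 c1681_1 n339 :)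
theorem x1673 : AuxS.{u} (cP4) s1673 0 a1673 := aux_base3 tw550 rfl b1673
theorem x1673_1 : AuxS.{u} (cP4) s1673 0 a1673_1 := x1673
theorem x1673_2 : AuxS.{u} (cP4) s1673 0 a1673_2 := x1673_1
theorem n1673 : Sound.{u} (cP4) s1673 0 :=
  (x1673_2.fr2 (AuxS.gam x1673_2 c1673_0) (AllS.cons n1674 (AllS.cons n1675 (AllS.cons n1676 (AllS.cons n1677 (AllS.cons n1678 (AllS.cons n1679 (AllS.cons n1680 (AllS.cons n1681 AllS.nil)))))))) c1673_1 :)
theorem x1578 : AuxS.{u} (cP4) s1578 0 a1578 := aux_base3 tw550 rfl b1578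
theorem x1578_1 : AuxS.{u} (cP4) s1578 0 a1578_1 := x1578
theorem x1578_2 : AuxS.{u} (cP4) s1578 0 a1578_2 := x1578_1
theorem n1578 : Sound.{u} (cP4) s1578 0 :=
  (x1578_2.fr (AuxS.gam x1578_2 c1578_0) (AllS.cons n1642 (AllS.cons n1643 (AllS.cons n1644 (AllS.cons n1645 (AllS.cons n1646 (AllS.cons n1647 (AllS.cons n1648 (AllS.cons n1649 (AllS.cons n1650 (AllS.cons n1651 (AllS.cons n1652 (AllS.cons n1653 (AllS.cons n1654 (AllS.cons n1655 (AllS.cons n1656 (AllS.cons n1657 (AllS.cons n1658 (AllS.cons n1659 (AllS.cons n1660 (AllS.cons n1661 (AllS.cons n1662 (AllS.cons n1663 (AllS.cons n1664 (AllS.cons n1665 (AllS.cons n1666 (AllS.cons n1667 (AllS.cons n1668 (AllS.cons n1669 (AllS.cons n1670 (AllS.cons n1671 (AllS.cons n1672 (AllS.cons n1673 AllS.nil)))))))))))))))))))))))))))))))) c1578_1 :)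
theorem x1579 : AuxS.{u} (cP4) s1579 0 a1579 := aux_base3 tw551 rfl b1579
theorem x1579_1 : AuxS.{u} (cP4) s1579 0 a1579_1 := x1579
theorem x1579_2 : AuxS.{u} (cP4) s1579 0 a1579_2 := x1579_1
theorem n1579 : Sound.{u} (cP4) s1579 0 :=
  (x1579_2.fr GamS.nil AllS.nil c1579_0 :)
theorem x1580 : AuxS.{u} (cP4) s1580 0 a1580 := aux_base3 tw552 rfl b1580
theorem x1580_1 : AuxS.{u} (cP4) s1580 0 a1580_1 := x1580
theorem x1580_2 : AuxS.{u} (cP4) s1580 0 a1580_2 := x1580_1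
theorem n1580 : Sound.{u} (cP4) s1580 0 :=
  (x1580_2.fr GamS.nil AllS.nil c1580_0 :)
theorem x1581 : AuxS.{u} (cP4) s1581 0 a1581 := aux_base3 tw553 rfl b1581
theorem x1581_1 : AuxS.{u} (cP4) s1581 0 a1581_1 := x1581
theorem x1581_2 : AuxS.{u} (cP4) s1581 0 a1581_2 := x1581_1
theorem n1581 : Sound.{u} (cP4) s1581 0 :=
  (x1581_2.fr GamS.nil AllS.nil c1581_0 :)
theorem x1582 : AuxS.{u} (cP4) s1582 0 a1582 := aux_base3 tw554 rfl b1582
theorem x1582_1 : AuxS.{u} (cP4) s1582 0 a1582_1 := x1582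
theorem x1582_2 : AuxS.{u} (cP4) s1582 0 a1582_2 := x1582_1
theorem n1582 : Sound.{u} (cP4) s1582 0 :=
  (x1582_2.fr GamS.nil AllS.nil c1582_0 :)
theorem x1583 : AuxS.{u} (cP4) s1583 0 a1583 := aux_base3 tw555 rfl b1583
theorem x1583_1 : AuxS.{u} (cP4) s1583 0 a1583_1 := x1583
theorem x1583_2 : AuxS.{u} (cP4) s1583 0 a1583_2 := x1583_1
theorem n1583 : Sound.{u} (cP4) s1583 0 :=
  (x1583_2.fr GamS.nil AllS.nil c1583_0 :)
theorem x1584 : AuxS.{u} (cP4) s1584 0 a1584 := aux_base3 tw556 rfl b1584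
theorem x1584_1 : AuxS.{u} (cP4) s1584 0 a1584_1 := x1584
theorem x1584_2 : AuxS.{u} (cP4) s1584 0 a1584_2 := x1584_1
theorem n1584 : Sound.{u} (cP4) s1584 0 :=
  (x1584_2.fr GamS.nil AllS.nil c1584_0 :)
theorem x1585 : AuxS.{u} (cP4) s1585 0 a1585 := aux_base3 tw557 rfl b1585
theorem x1585_1 : AuxS.{u} (cP4) s1585 0 a1585_1 := x1585
theorem x1585_2 : AuxS.{u} (cP4) s1585 0 a1585_2 := x1585_1
theorem n1585 : Sound.{u} (cP4) s1585 0 :=
  (x1585_2.fr GamS.nil AllS.nil c1585_0 :)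
theorem x1586 : AuxS.{u} (cP4) s1586 0 a1586 := aux_base3 tw558 rfl b1586
theorem x1586_1 : AuxS.{u} (cP4) s1586 0 a1586_1 := x1586
theorem x1586_2 : AuxS.{u} (cP4) s1586 0 a1586_2 := x1586_1
theorem n1586 : Sound.{u} (cP4) s1586 0 :=
  (x1586_2.fr GamS.nil AllS.nil c1586_0 :)
theorem x1587 : AuxS.{u} (cP4) s1587 0 a1587 := aux_base3 tw559 rfl b1587
theorem x1587_1 : AuxS.{u} (cP4) s1587 0 a1587_1 := x1587
theorem x1587_2 : AuxS.{u} (cP4) s1587 0 a1587_2 := x1587_1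
theorem n1587 : Sound.{u} (cP4) s1587 0 :=
  (x1587_2.fr GamS.nil AllS.nil c1587_0 :)
theorem x1588 : AuxS.{u} (cP4) s1588 0 a1588 := aux_base3 tw560 rfl b1588
theorem x1588_1 : AuxS.{u} (cP4) s1588 0 a1588_1 := x1588
theorem x1588_2 : AuxS.{u} (cP4) s1588 0 a1588_2 := x1588_1
theorem n1588 : Sound.{u} (cP4) s1588 0 :=
  (x1588_2.fr GamS.nil AllS.nil c1588_0 :)
theorem x1589 : AuxS.{u} (cP4) s1589 0 a1589 := aux_base3 tw561 rfl b1589
theorem x1589_1 : AuxS.{u} (cP4) s1589 0 a1589_1 := x1589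
theorem x1589_2 : AuxS.{u} (cP4) s1589 0 a1589_2 := x1589_1
theorem n1589 : Sound.{u} (cP4) s1589 0 :=
  (x1589_2.fr GamS.nil AllS.nil c1589_0 :)
theorem x1590 : AuxS.{u} (cP4) s1590 0 a1590 := aux_base3 tw562 rfl b1590
theorem x1590_1 : AuxS.{u} (cP4) s1590 0 a1590_1 := x1590
theorem x1590_2 : AuxS.{u} (cP4) s1590 0 a1590_2 := x1590_1
theorem n1590 : Sound.{u} (cP4) s1590 0 :=
  (x1590_2.fr GamS.nil AllS.nil c1590_0 :)
theorem x1591 : AuxS.{u} (cP4) s1591 0 a1591 := aux_base3 tw563 rfl b1591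
theorem x1591_1 : AuxS.{u} (cP4) s1591 0 a1591_1 := x1591
theorem x1591_2 : AuxS.{u} (cP4) s1591 0 a1591_2 := x1591_1
theorem n1591 : Sound.{u} (cP4) s1591 0 :=
  (x1591_2.fr GamS.nil AllS.nil c1591_0 :)
theorem x1592 : AuxS.{u} (cP4) s1592 0 a1592 := aux_base3 tw564 rfl b1592
theorem x1592_1 : AuxS.{u} (cP4) s1592 0 a1592_1 := x1592
theorem x1592_2 : AuxS.{u} (cP4) s1592 0 a1592_2 := x1592_1
theorem n1592 : Sound.{u} (cP4) s1592 0 :=
  (x1592_2.fr GamS.nil AllS.nil c1592_0 :)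
theorem x1593 : AuxS.{u} (cP4) s1593 0 a1593 := aux_base3 tw565 rfl b1593
theorem x1593_1 : AuxS.{u} (cP4) s1593 0 a1593_1 := x1593
theorem x1593_2 : AuxS.{u} (cP4) s1593 0 a1593_2 := x1593_1
theorem n1593 : Sound.{u} (cP4) s1593 0 :=
  (x1593_2.fr GamS.nil AllS.nil c1593_0 :)
theorem x1561 : AuxS.{u} (cP4) s1561 0 a1561 := aux_base3 tw502 rfl b1561
theorem x1561_1 : AuxS.{u} (cP4) s1561 0 a1561_1 := (AuxS.up x1561 c1561_5 :)
theorem x1561_2 : AuxS.{u} (cP4) s1561 0 a1561_2 := x1561_1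
theorem x1561_3 : AuxS.{u} (cP4) s1561 0 a1561_3 := x1561_2
theorem p1561_0_1 : Phs s1561 a1561_3 [] [s1562, s1563, s1564, s1565, s1566, s1567, s1568, s1569, s1570, s1571, s1572, s1573, s1574, s1575, s1576, s1577, s1578, s1579, s1580, s1581, s1582, s1583, s1584, s1585, s1586, s1587, s1588, s1589, s1590, s1591, s1592, s1593] ct1561_0 v1561_0 5 w1561_0_1 := (Phs.fin c1561_0)
theorem p1561_0_3 : Phs s1561 a1561_3 [] [s1562, s1563, s1564, s1565, s1566, s1567, s1568, s1569, s1570, s1571, s1572, s1573, s1574, s1575, s1576, s1577, s1578, s1579, s1580, s1581, s1582, s1583, s1584, s1585, s1586, s1587, s1588, s1589, s1590, s1591, s1592, s1593] ct1561_0 v1561_0 4 w1561_0_3 := (Phs.stp c1561_1 p1561_0_1)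
theorem p1561_0_5 : Phs s1561 a1561_3 [] [s1562, s1563, s1564, s1565, s1566, s1567, s1568, s1569, s1570, s1571, s1572, s1573, s1574, s1575, s1576, s1577, s1578, s1579, s1580, s1581, s1582, s1583, s1584, s1585, s1586, s1587, s1588, s1589, s1590, s1591, s1592, s1593] ct1561_0 v1561_0 1 w1561_0_5 := (Phs.stp c1561_2 p1561_0_3)
theorem n1561 : Sound.{u} (cP4) s1561 0 :=
  (x1561_3.ext2 (fun h => absurd h (by decide)) GamS.nil (AllS.cons n1562 (AllS.cons n1563 (AllS.cons n1564 (AllS.cons n1565 (AllS.cons n1566 (AllS.cons n1567 (AllS.cons n1568 (AllS.cons n1569 (AllS.cons n1570 (AllS.cons n1571 (AllS.cons n1572 (AllS.cons n1573 (AllS.cons n1574 (AllS.cons n1575 (AllS.cons n1576 (AllS.cons n1577 (AllS.cons n1578 (AllS.cons n1579 (AllS.cons n1580 (AllS.cons n1581 (AllS.cons n1582 (AllS.cons n1583 (AllS.cons n1584 (AllS.cons n1585 (AllS.cons n1586 (AllS.cons n1587 (AllS.cons n1588 (AllS.cons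 n1589 (AllS.cons n1590 (AllS.cons n1591 (AllS.cons n1592 (AllS.cons n1593 AllS.nil)))))))))))))))))))))))))))))))) c1561_4 (Phs.stp c1561_3 p1561_0_5) (Phs.fin (ct := ct1561_0) rfl) :)
theorem x1529 : AuxS.{u} (cP4) s1529 0 a1529 := aux_base3 tw518 rfl b1529
theorem x1529_1 : AuxS.{u} (cP4) s1529 0 a1529_1 := x1529
theorem x1529_2 : AuxS.{u} (cP4) s1529 0 a1529_2 := x1529_1
theorem n1529 : Sound.{u} (cP4) s1529 0 :=
  (x1529_2.jump c1529_0 c1529_1 n1561 :)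
theorem x1530 : AuxS.{u} (cP4) s1530 0 a1530 := aux_base3 tw518 rfl b1530
theorem n1530 : Sound.{u} (cP4) s1530 0 :=
  (x1530.k4 c1530_0 :)
theorem x1531 : AuxS.{u} (cP4) s1531 0 a1531 := aux_base3 tw518 rfl b1531
theorem n1531 : Sound.{u} (cP4) s1531 0 :=
  (x1531.k4 c1531_0 :)
theorem x1532 : AuxS.{u} (cP4) s1532 0 a1532 := aux_base3 tw518 rfl b1532
theorem n1532 : Sound.{u} (cP4) s1532 0 :=
  (x1532.k4 c1532_0 :)
theorem x1533 : AuxS.{u} (cP4) s1533 0 a1533 := aux_base3 tw518 rfl b1533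
theorem n1533 : Sound.{u} (cP4) s1533 0 :=
  (x1533.k4 c1533_0 :)
theorem x1534 : AuxS.{u} (cP4) s1534 0 a1534 := aux_base3 tw518 rfl b1534
theorem n1534 : Sound.{u} (cP4) s1534 0 :=
  (x1534.k4 c1534_0 :)
theorem x1535 : AuxS.{u} (cP4) s1535 0 a1535 := aux_base3 tw518 rfl b1535
theorem n1535 : Sound.{u} (cP4) s1535 0 :=
  (x1535.k4 c1535_0 :)
theorem x1536 : AuxS.{u} (cP4) s1536 0 a1536 := aux_base3 tw518 rfl b1536
theorem n1536 : Sound.{u} (cP4) s1536 0 :=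
  (x1536.k4 c1536_0 :)
theorem x1537 : AuxS.{u} (cP4) s1537 0 a1537 := aux_base3 tw518 rfl b1537
theorem n1537 : Sound.{u} (cP4) s1537 0 :=
  (x1537.k4 c1537_0 :)
theorem x1538 : AuxS.{u} (cP4) s1538 0 a1538 := aux_base3 tw518 rfl b1538
theorem n1538 : Sound.{u} (cP4) s1538 0 :=
  (x1538.k4 c1538_0 :)
theorem x1539 : AuxS.{u} (cP4) s1539 0 a1539 := aux_base3 tw518 rfl b1539
theorem n1539 : Sound.{u} (cP4) s1539 0 :=
  (x1539.k4 c1539_0 :)
theorem x1540 : AuxS.{u} (cP4) s1540 0 a1540 := aux_base3 tw518 rfl b1540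
theorem n1540 : Sound.{u} (cP4) s1540 0 :=
  (x1540.k4 c1540_0 :)
theorem x1541 : AuxS.{u} (cP4) s1541 0 a1541 := aux_base3 tw518 rfl b1541
theorem n1541 : Sound.{u} (cP4) s1541 0 :=
  (x1541.k4 c1541_0 :)
theorem x1542 : AuxS.{u} (cP4) s1542 0 a1542 := aux_base3 tw518 rfl b1542
theorem n1542 : Sound.{u} (cP4) s1542 0 :=
  (x1542.k4 c1542_0 :)
theorem x1543 : AuxS.{u} (cP4) s1543 0 a1543 := aux_base3 tw518 rfl b1543
theorem n1543 : Sound.{u} (cP4) s1543 0 :=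
  (x1543.k4 c1543_0 :)
theorem x1544 : AuxS.{u} (cP4) s1544 0 a1544 := aux_base3 tw518 rfl b1544
theorem n1544 : Sound.{u} (cP4) s1544 0 :=
  (x1544.k4 c1544_0 :)
theorem x1545 : AuxS.{u} (cP4) s1545 0 a1545 := aux_base3 tw518 rfl b1545
theorem n1545 : Sound.{u} (cP4) s1545 0 :=
  (x1545.k4 c1545_0 :)
theorem x1546 : AuxS.{u} (cP4) s1546 0 a1546 := aux_base3 tw518 rfl b1546
theorem n1546 : Sound.{u} (cP4) s1546 0 :=
  (x1546.k4 c1546_0 :)
theorem x1547 : AuxS.{u} (cP4) s1547 0 a1547 := aux_base3 tw518 rfl b1547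
theorem n1547 : Sound.{u} (cP4) s1547 0 :=
  (x1547.k4 c1547_0 :)
theorem x1548 : AuxS.{u} (cP4) s1548 0 a1548 := aux_base3 tw518 rfl b1548
theorem n1548 : Sound.{u} (cP4) s1548 0 :=
  (x1548.k4 c1548_0 :)
theorem x1549 : AuxS.{u} (cP4) s1549 0 a1549 := aux_base3 tw518 rfl b1549
theorem n1549 : Sound.{u} (cP4) s1549 0 :=
  (x1549.k4 c1549_0 :)
theorem x1550 : AuxS.{u} (cP4) s1550 0 a1550 := aux_base3 tw518 rfl b1550
theorem n1550 : Sound.{u} (cP4) s1550 0 :=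
  (x1550.k4 c1550_0 :)
theorem x1551 : AuxS.{u} (cP4) s1551 0 a1551 := aux_base3 tw518 rfl b1551
theorem n1551 : Sound.{u} (cP4) s1551 0 :=
  (x1551.k4 c1551_0 :)
theorem x1552 : AuxS.{u} (cP4) s1552 0 a1552 := aux_base3 tw518 rfl b1552
theorem n1552 : Sound.{u} (cP4) s1552 0 :=
  (x1552.k4 c1552_0 :)
theorem x1553 : AuxS.{u} (cP4) s1553 0 a1553 := aux_base3 tw518 rfl b1553
theorem n1553 : Sound.{u} (cP4) s1553 0 :=
  (x1553.k4 c1553_0 :)
theorem x1554 : AuxS.{u} (cP4) s1554 0 a1554 := aux_base3 tw518 rfl b1554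
theorem n1554 : Sound.{u} (cP4) s1554 0 :=
  (x1554.k4 c1554_0 :)
theorem x1555 : AuxS.{u} (cP4) s1555 0 a1555 := aux_base3 tw518 rfl b1555
theorem n1555 : Sound.{u} (cP4) s1555 0 :=
  (x1555.k4 c1555_0 :)
theorem x1556 : AuxS.{u} (cP4) s1556 0 a1556 := aux_base3 tw518 rfl b1556
theorem n1556 : Sound.{u} (cP4) s1556 0 :=
  (x1556.k4 c1556_0 :)
theorem x1557 : AuxS.{u} (cP4) s1557 0 a1557 := aux_base3 tw518 rfl b1557
theorem n1557 : Sound.{u} (cP4) s1557 0 :=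
  (x1557.k4 c1557_0 :)
theorem x1558 : AuxS.{u} (cP4) s1558 0 a1558 := aux_base3 tw518 rfl b1558
theorem n1558 : Sound.{u} (cP4) s1558 0 :=
  (x1558.k4 c1558_0 :)
theorem x1559 : AuxS.{u} (cP4) s1559 0 a1559 := aux_base3 tw518 rfl b1559
theorem n1559 : Sound.{u} (cP4) s1559 0 :=
  (x1559.k4 c1559_0 :)
theorem x1560 : AuxS.{u} (cP4) s1560 0 a1560 := aux_base3 tw518 rfl b1560
theorem n1560 : Sound.{u} (cP4) s1560 0 :=
  (x1560.k4 c1560_0 :)
theorem x1513 : AuxS.{u} (cP4) s1513 0 a1513 := aux_base3 tw518 rfl b1513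
theorem x1513_1 : AuxS.{u} (cP4) s1513 0 a1513_1 := x1513
theorem x1513_2 : AuxS.{u} (cP4) s1513 0 a1513_2 := x1513_1
theorem n1513 : Sound.{u} (cP4) s1513 0 :=
  (x1513_2.fr (AuxS.gam x1513_2 c1513_0) (AllS.cons n1529 (AllS.cons n1530 (AllS.cons n1531 (AllS.cons n1532 (AllS.cons n1533 (AllS.cons n1534 (AllS.cons n1535 (AllS.cons n1536 (AllS.cons n1537 (AllS.cons n1538 (AllS.cons n1539 (AllS.cons n1540 (AllS.cons n1541 (AllS.cons n1542 (AllS.cons n1543 (AllS.cons n1544 (AllS.cons n1545 (AllS.cons n1546 (AllS.cons n1547 (AllS.cons n1548 (AllS.cons n1549 (AllS.cons n1550 (AllS.cons n1551 (AllS.cons n1552 (AllS.cons n1553 (AllS.cons n1554 (AllS.cons n1555 (AllS.cons n1556 (AllS.cons n1557 (AllS.cons n1558 (AllS.cons n1559 (AllS.cons n1560 AllS.nil)))))))))))))))))))))))))))))))) c1513_1 :)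
theorem x1514 : AuxS.{u} (cP4) s1514 0 a1514 := aux_base3 tw519 rfl b1514
theorem x1514_1 : AuxS.{u} (cP4) s1514 0 a1514_1 := x1514
theorem x1514_2 : AuxS.{u} (cP4) s1514 0 a1514_2 := x1514_1
theorem n1514 : Sound.{u} (cP4) s1514 0 :=
  (x1514_2.fr GamS.nil AllS.nil c1514_0 :)
theorem x1515 : AuxS.{u} (cP4) s1515 0 a1515 := aux_base3 tw520 rfl b1515
theorem x1515_1 : AuxS.{u} (cP4) s1515 0 a1515_1 := x1515
theorem x1515_2 : AuxS.{u} (cP4) s1515 0 a1515_2 := x1515_1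
theorem n1515 : Sound.{u} (cP4) s1515 0 :=
  (x1515_2.fr GamS.nil AllS.nil c1515_0 :)
theorem x1516 : AuxS.{u} (cP4) s1516 0 a1516 := aux_base3 tw521 rfl b1516
theorem x1516_1 : AuxS.{u} (cP4) s1516 0 a1516_1 := x1516
theorem x1516_2 : AuxS.{u} (cP4) s1516 0 a1516_2 := x1516_1
theorem n1516 : Sound.{u} (cP4) s1516 0 :=
  (x1516_2.fr GamS.nil AllS.nil c1516_0 :)
theorem x1517 : AuxS.{u} (cP4) s1517 0 a1517 := aux_base3 tw522 rfl b1517
theorem x1517_1 : AuxS.{u} (cP4) s1517 0 a1517_1 := x1517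
theorem x1517_2 : AuxS.{u} (cP4) s1517 0 a1517_2 := x1517_1
theorem n1517 : Sound.{u} (cP4) s1517 0 :=
  (x1517_2.fr GamS.nil AllS.nil c1517_0 :)
theorem x1518 : AuxS.{u} (cP4) s1518 0 a1518 := aux_base3 tw523 rfl b1518
theorem x1518_1 : AuxS.{u} (cP4) s1518 0 a1518_1 := x1518
theorem x1518_2 : AuxS.{u} (cP4) s1518 0 a1518_2 := x1518_1
theorem n1518 : Sound.{u} (cP4) s1518 0 :=
  (x1518_2.fr GamS.nil AllS.nil c1518_0 :)
theorem x1519 : AuxS.{u} (cP4) s1519 0 a1519 := aux_base3 tw524 rfl b1519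
theorem x1519_1 : AuxS.{u} (cP4) s1519 0 a1519_1 := x1519
theorem x1519_2 : AuxS.{u} (cP4) s1519 0 a1519_2 := x1519_1
theorem n1519 : Sound.{u} (cP4) s1519 0 :=
  (x1519_2.fr GamS.nil AllS.nil c1519_0 :)
theorem x1520 : AuxS.{u} (cP4) s1520 0 a1520 := aux_base3 tw525 rfl b1520
theorem x1520_1 : AuxS.{u} (cP4) s1520 0 a1520_1 := x1520
theorem x1520_2 : AuxS.{u} (cP4) s1520 0 a1520_2 := x1520_1
theorem n1520 : Sound.{u} (cP4) s1520 0 :=
  (x1520_2.fr GamS.nil AllS.nil c1520_0 :)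
theorem x1521 : AuxS.{u} (cP4) s1521 0 a1521 := aux_base3 tw526 rfl b1521
theorem x1521_1 : AuxS.{u} (cP4) s1521 0 a1521_1 := x1521
theorem x1521_2 : AuxS.{u} (cP4) s1521 0 a1521_2 := x1521_1
theorem n1521 : Sound.{u} (cP4) s1521 0 :=
  (x1521_2.fr GamS.nil AllS.nil c1521_0 :)
theorem x1522 : AuxS.{u} (cP4) s1522 0 a1522 := aux_base3 tw527 rfl b1522
theorem x1522_1 : AuxS.{u} (cP4) s1522 0 a1522_1 := x1522
theorem x1522_2 : AuxS.{u} (cP4) s1522 0 a1522_2 := x1522_1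
theorem n1522 : Sound.{u} (cP4) s1522 0 :=
  (x1522_2.fr GamS.nil AllS.nil c1522_0 :)
theorem x1523 : AuxS.{u} (cP4) s1523 0 a1523 := aux_base3 tw528 rfl b1523
theorem x1523_1 : AuxS.{u} (cP4) s1523 0 a1523_1 := x1523
theorem x1523_2 : AuxS.{u} (cP4) s1523 0 a1523_2 := x1523_1
theorem n1523 : Sound.{u} (cP4) s1523 0 :=
  (x1523_2.fr GamS.nil AllS.nil c1523_0 :)
theorem x1524 : AuxS.{u} (cP4) s1524 0 a1524 := aux_base3 tw529 rfl b1524
theorem x1524_1 : AuxS.{u} (cP4) s1524 0 a1524_1 := x1524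
theorem x1524_2 : AuxS.{u} (cP4) s1524 0 a1524_2 := x1524_1
theorem n1524 : Sound.{u} (cP4) s1524 0 :=
  (x1524_2.fr GamS.nil AllS.nil c1524_0 :)
theorem x1525 : AuxS.{u} (cP4) s1525 0 a1525 := aux_base3 tw530 rfl b1525
theorem x1525_1 : AuxS.{u} (cP4) s1525 0 a1525_1 := x1525
theorem x1525_2 : AuxS.{u} (cP4) s1525 0 a1525_2 := x1525_1
theorem n1525 : Sound.{u} (cP4) s1525 0 :=
  (x1525_2.fr GamS.nil AllS.nil c1525_0 :)
theorem x1526 : AuxS.{u} (cP4) s1526 0 a1526 := aux_base3 tw531 rfl b1526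
theorem x1526_1 : AuxS.{u} (cP4) s1526 0 a1526_1 := x1526
theorem x1526_2 : AuxS.{u} (cP4) s1526 0 a1526_2 := x1526_1
theorem n1526 : Sound.{u} (cP4) s1526 0 :=
  (x1526_2.fr GamS.nil AllS.nil c1526_0 :)
theorem x1527 : AuxS.{u} (cP4) s1527 0 a1527 := aux_base3 tw532 rfl b1527
theorem x1527_1 : AuxS.{u} (cP4) s1527 0 a1527_1 := x1527
theorem x1527_2 : AuxS.{u} (cP4) s1527 0 a1527_2 := x1527_1
theorem n1527 : Sound.{u} (cP4) s1527 0 :=
  (x1527_2.fr GamS.nil AllS.nil c1527_0 :)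
theorem x1528 : AuxS.{u} (cP4) s1528 0 a1528 := aux_base3 tw533 rfl b1528
theorem x1528_1 : AuxS.{u} (cP4) s1528 0 a1528_1 := x1528
theorem x1528_2 : AuxS.{u} (cP4) s1528 0 a1528_2 := x1528_1
theorem n1528 : Sound.{u} (cP4) s1528 0 :=
  (x1528_2.fr GamS.nil AllS.nil c1528_0 :)
theorem x1497 : AuxS.{u} (cP4) s1497 0 a1497 := aux_base3 tw502 rfl b1497
theorem x1497_1 : AuxS.{u} (cP4) s1497 0 a1497_1 := (AuxS.up x1497 c1497_7 :)
theorem x1497_2 : AuxS.{u} (cP4) s1497 0 a1497_2 := x1497_1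
theorem p1497_0_1 : Phs s1497 a1497_2 (List.map Prod.fst g1497_0) [s1513, s1514, s1515, s1516, s1517, s1518, s1519, s1520, s1521, s1522, s1523, s1524, s1525, s1526, s1527, s1528] ct1497_0 v1497_0 5 w1497_0_1 := (Phs.fin c1497_1)
theorem p1497_0_3 : Phs s1497 a1497_2 (List.map Prod.fst g1497_0) [s1513, s1514, s1515, s1516, s1517, s1518, s1519, s1520, s1521, s1522, s1523, s1524, s1525, s1526, s1527, s1528] ct1497_0 v1497_0 4 w1497_0_3 := (Phs.stp c1497_2 p1497_0_1)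
theorem p1497_0_5 : Phs s1497 a1497_2 (List.map Prod.fst g1497_0) [s1513, s1514, s1515, s1516, s1517, s1518, s1519, s1520, s1521, s1522, s1523, s1524, s1525, s1526, s1527, s1528] ct1497_0 v1497_0 3 w1497_0_5 := (Phs.stp c1497_3 p1497_0_3)
theorem p1497_0_7 : Phs s1497 a1497_2 (List.map Prod.fst g1497_0) [s1513, s1514, s1515, s1516, s1517, s1518, s1519, s1520, s1521, s1522, s1523, s1524, s1525, s1526, s1527, s1528] ct1497_0 v1497_0 1 w1497_0_7 := (Phs.stp c1497_4 p1497_0_5)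
theorem n1497 : Sound.{u} (cP4) s1497 0 :=
  (x1497_2.ext2 (fun h => absurd h (by decide)) (AuxS.gam x1497_2 c1497_0) (AllS.cons n1513 (AllS.cons n1514 (AllS.cons n1515 (AllS.cons n1516 (AllS.cons n1517 (AllS.cons n1518 (AllS.cons n1519 (AllS.cons n1520 (AllS.cons n1521 (AllS.cons n1522 (AllS.cons n1523 (AllS.cons n1524 (AllS.cons n1525 (AllS.cons n1526 (AllS.cons n1527 (AllS.cons n1528 AllS.nil)))))))))))))))) c1497_6 (Phs.stp c1497_5 p1497_0_7) (Phs.fin (ct := ct1497_0) rfl) :)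
theorem x1698 : AuxS.{u} (cP4) s1698 0 a1698 := aux_base3 tw590 rfl b1698
theorem n1698 : Sound.{u} (cP4) s1698 0 :=
  (x1698.k4 c1698_0 :)
theorem x1699 : AuxS.{u} (cP4) s1699 0 a1699 := aux_base3 tw590 rfl b1699
theorem n1699 : Sound.{u} (cP4) s1699 0 :=
  (x1699.k4 c1699_0 :)
theorem x1700 : AuxS.{u} (cP4) s1700 0 a1700 := aux_base3 tw590 rfl b1700
theorem n1700 : Sound.{u} (cP4) s1700 0 :=
  (x1700.k4 c1700_0 :)
theorem x1701 : AuxS.{u} (cP4) s1701 0 a1701 := aux_base3 tw590 rfl b1701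
theorem n1701 : Sound.{u} (cP4) s1701 0 :=
  (x1701.k4 c1701_0 :)
theorem x1702 : AuxS.{u} (cP4) s1702 0 a1702 := aux_base3 tw590 rfl b1702
theorem n1702 : Sound.{u} (cP4) s1702 0 :=
  (x1702.k4 c1702_0 :)
theorem x1703 : AuxS.{u} (cP4) s1703 0 a1703 := aux_base3 tw590 rfl b1703
theorem n1703 : Sound.{u} (cP4) s1703 0 :=
  (x1703.k4 c1703_0 :)
theorem x1704 : AuxS.{u} (cP4) s1704 0 a1704 := aux_base3 tw590 rfl b1704
theorem n1704 : Sound.{u} (cP4) s1704 0 :=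
  (x1704.k4 c1704_0 :)
theorem x1705 : AuxS.{u} (cP4) s1705 0 a1705 := aux_base3 tw590 rfl b1705
theorem n1705 : Sound.{u} (cP4) s1705 0 :=
  (x1705.k4 c1705_0 :)
theorem x1706 : AuxS.{u} (cP4) s1706 0 a1706 := aux_base3 tw590 rfl b1706
theorem n1706 : Sound.{u} (cP4) s1706 0 :=
  (x1706.k4 c1706_0 :)
theorem x1707 : AuxS.{u} (cP4) s1707 0 a1707 := aux_base3 tw590 rfl b1707
theorem n1707 : Sound.{u} (cP4) s1707 0 :=
  (x1707.k4 c1707_0 :)
theorem x1708 : AuxS.{u} (cP4) s1708 0 a1708 := aux_base3 tw590 rfl b1708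
theorem n1708 : Sound.{u} (cP4) s1708 0 :=
  (x1708.k4 c1708_0 :)
theorem x1709 : AuxS.{u} (cP4) s1709 0 a1709 := aux_base3 tw590 rfl b1709
theorem n1709 : Sound.{u} (cP4) s1709 0 :=
  (x1709.k4 c1709_0 :)
theorem x1731 : AuxS.{u} (cP4) s1731 0 a1731 := aux_base3 tw606 rfl b1731
theorem x1731_1 : AuxS.{u} (cP4) s1731 0 a1731_1 := x1731
theorem x1731_2 : AuxS.{u} (cP4) s1731 0 a1731_2 := x1731_1
theorem n1731 : Sound.{u} (cP4) s1731 0 :=
  (x1731_2.fr GamS.nil AllS.nil c1731_0 :)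
theorem x1732 : AuxS.{u} (cP4) s1732 0 a1732 := aux_base3 tw607 rfl b1732
theorem x1732_1 : AuxS.{u} (cP4) s1732 0 a1732_1 := x1732
theorem x1732_2 : AuxS.{u} (cP4) s1732 0 a1732_2 := x1732_1
theorem n1732 : Sound.{u} (cP4) s1732 0 :=
  (x1732_2.fr GamS.nil AllS.nil c1732_0 :)
theorem x1733 : AuxS.{u} (cP4) s1733 0 a1733 := aux_base3 tw608 rfl b1733
theorem x1733_1 : AuxS.{u} (cP4) s1733 0 a1733_1 := x1733
theorem x1733_2 : AuxS.{u} (cP4) s1733 0 a1733_2 := x1733_1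
theorem n1733 : Sound.{u} (cP4) s1733 0 :=
  (x1733_2.fr GamS.nil AllS.nil c1733_0 :)
theorem x1734 : AuxS.{u} (cP4) s1734 0 a1734 := aux_base3 tw609 rfl b1734
theorem x1734_1 : AuxS.{u} (cP4) s1734 0 a1734_1 := x1734
theorem x1734_2 : AuxS.{u} (cP4) s1734 0 a1734_2 := x1734_1
theorem n1734 : Sound.{u} (cP4) s1734 0 :=
  (x1734_2.fr GamS.nil AllS.nil c1734_0 :)
theorem x1735 : AuxS.{u} (cP4) s1735 0 a1735 := aux_base3 tw610 rfl b1735
theorem n1735 : Sound.{u} (cP4) s1735 0 :=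
  (x1735.k4 c1735_0 :)
theorem x1736 : AuxS.{u} (cP4) s1736 0 a1736 := aux_base3 tw611 rfl b1736
theorem n1736 : Sound.{u} (cP4) s1736 0 :=
  (x1736.k4 c1736_0 :)
theorem x1737 : AuxS.{u} (cP4) s1737 0 a1737 := aux_base3 tw612 rfl b1737
theorem n1737 : Sound.{u} (cP4) s1737 0 :=
  (x1737.k4 c1737_0 :)
theorem x1738 : AuxS.{u} (cP4) s1738 0 a1738 := aux_base3 tw613 rfl b1738
theorem n1738 : Sound.{u} (cP4) s1738 0 :=
  (x1738.k4 c1738_0 :)
theorem x1739 : AuxS.{u} (cP4) s1739 0 a1739 := aux_base3 tw614 rfl b1739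
theorem n1739 : Sound.{u} (cP4) s1739 0 :=
  (x1739.k4 c1739_0 :)
theorem x1740 : AuxS.{u} (cP4) s1740 0 a1740 := aux_base3 tw615 rfl b1740
theorem n1740 : Sound.{u} (cP4) s1740 0 :=
  (x1740.k4 c1740_0 :)
theorem x1741 : AuxS.{u} (cP4) s1741 0 a1741 := aux_base3 tw616 rfl b1741
theorem n1741 : Sound.{u} (cP4) s1741 0 :=
  (x1741.k4 c1741_0 :)
theorem x1742 : AuxS.{u} (cP4) s1742 0 a1742 := aux_base3 tw617 rfl b1742
theorem n1742 : Sound.{u} (cP4) s1742 0 :=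
  (x1742.k4 c1742_0 :)
theorem x1743 : AuxS.{u} (cP4) s1743 0 a1743 := aux_base3 tw618 rfl b1743
theorem n1743 : Sound.{u} (cP4) s1743 0 :=
  (x1743.k4 c1743_0 :)
theorem x1744 : AuxS.{u} (cP4) s1744 0 a1744 := aux_base3 tw619 rfl b1744
theorem n1744 : Sound.{u} (cP4) s1744 0 :=
  (x1744.k4 c1744_0 :)
theorem x1745 : AuxS.{u} (cP4) s1745 0 a1745 := aux_base3 tw620 rfl b1745
theorem n1745 : Sound.{u} (cP4) s1745 0 :=
  (x1745.k4 c1745_0 :)
theorem x1746 : AuxS.{u} (cP4) s1746 0 a1746 := aux_base3 tw621 rfl b1746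
theorem n1746 : Sound.{u} (cP4) s1746 0 :=
  (x1746.k4 c1746_0 :)
theorem x1747 : AuxS.{u} (cP4) s1747 0 a1747 := aux_base3 tw622 rfl b1747
theorem x1747_1 : AuxS.{u} (cP4) s1747 0 a1747_1 := x1747
theorem x1747_2 : AuxS.{u} (cP4) s1747 0 a1747_2 := x1747_1
theorem n1747 : Sound.{u} (cP4) s1747 0 :=
  (x1747_2.fr GamS.nil AllS.nil c1747_0 :)
theorem x1748 : AuxS.{u} (cP4) s1748 0 a1748 := aux_base3 tw623 rfl b1748
theorem x1748_1 : AuxS.{u} (cP4) s1748 0 a1748_1 := x1748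
theorem x1748_2 : AuxS.{u} (cP4) s1748 0 a1748_2 := x1748_1
theorem n1748 : Sound.{u} (cP4) s1748 0 :=
  (x1748_2.fr GamS.nil AllS.nil c1748_0 :)
theorem x1749 : AuxS.{u} (cP4) s1749 0 a1749 := aux_base3 tw624 rfl b1749
theorem x1749_1 : AuxS.{u} (cP4) s1749 0 a1749_1 := x1749
theorem x1749_2 : AuxS.{u} (cP4) s1749 0 a1749_2 := x1749_1
theorem n1749 : Sound.{u} (cP4) s1749 0 :=
  (x1749_2.fr GamS.nil AllS.nil c1749_0 :)
theorem x1750 : AuxS.{u} (cP4) s1750 0 a1750 := aux_base3 tw625 rfl b1750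
theorem x1750_1 : AuxS.{u} (cP4) s1750 0 a1750_1 := x1750
theorem x1750_2 : AuxS.{u} (cP4) s1750 0 a1750_2 := x1750_1
theorem n1750 : Sound.{u} (cP4) s1750 0 :=
  (x1750_2.fr GamS.nil AllS.nil c1750_0 :)
theorem x1751 : AuxS.{u} (cP4) s1751 0 a1751 := aux_base3 tw626 rfl b1751
theorem n1751 : Sound.{u} (cP4) s1751 0 :=
  (x1751.k4 c1751_0 :)
theorem x1752 : AuxS.{u} (cP4) s1752 0 a1752 := aux_base3 tw627 rfl b1752
theorem n1752 : Sound.{u} (cP4) s1752 0 :=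
  (x1752.k4 c1752_0 :)
theorem x1753 : AuxS.{u} (cP4) s1753 0 a1753 := aux_base3 tw628 rfl b1753
theorem n1753 : Sound.{u} (cP4) s1753 0 :=
  (x1753.k4 c1753_0 :)
theorem x1754 : AuxS.{u} (cP4) s1754 0 a1754 := aux_base3 tw629 rfl b1754
theorem n1754 : Sound.{u} (cP4) s1754 0 :=
  (x1754.k4 c1754_0 :)
theorem x1755 : AuxS.{u} (cP4) s1755 0 a1755 := aux_base3 tw630 rfl b1755
theorem n1755 : Sound.{u} (cP4) s1755 0 :=
  (x1755.k4 c1755_0 :)
theorem x1756 : AuxS.{u} (cP4) s1756 0 a1756 := aux_base3 tw631 rfl b1756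
theorem n1756 : Sound.{u} (cP4) s1756 0 :=
  (x1756.k4 c1756_0 :)
theorem x1757 : AuxS.{u} (cP4) s1757 0 a1757 := aux_base3 tw632 rfl b1757
theorem n1757 : Sound.{u} (cP4) s1757 0 :=
  (x1757.k4 c1757_0 :)
theorem x1758 : AuxS.{u} (cP4) s1758 0 a1758 := aux_base3 tw633 rfl b1758
theorem n1758 : Sound.{u} (cP4) s1758 0 :=
  (x1758.k4 c1758_0 :)
theorem x1759 : AuxS.{u} (cP4) s1759 0 a1759 := aux_base3 tw634 rfl b1759
theorem n1759 : Sound.{u} (cP4) s1759 0 :=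
  (x1759.k4 c1759_0 :)
theorem x1760 : AuxS.{u} (cP4) s1760 0 a1760 := aux_base3 tw635 rfl b1760
theorem n1760 : Sound.{u} (cP4) s1760 0 :=
  (x1760.k4 c1760_0 :)
theorem x1761 : AuxS.{u} (cP4) s1761 0 a1761 := aux_base3 tw636 rfl b1761
theorem n1761 : Sound.{u} (cP4) s1761 0 :=
  (x1761.k4 c1761_0 :)
theorem x1762 : AuxS.{u} (cP4) s1762 0 a1762 := aux_base3 tw637 rfl b1762
theorem n1762 : Sound.{u} (cP4) s1762 0 :=
  (x1762.k4 c1762_0 :)
theorem x1730 : AuxS.{u} (cP4) s1730 0 a1730 := aux_base3 tw503 rfl b1730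
theorem x1730_1 : AuxS.{u} (cP4) s1730 0 a1730_1 := (AuxS.up x1730 c1730_5 :)
theorem x1730_2 : AuxS.{u} (cP4) s1730 0 a1730_2 := x1730_1
theorem x1730_3 : AuxS.{u} (cP4) s1730 0 a1730_3 := x1730_2
theorem p1730_0_1 : Phs s1730 a1730_3 [] [s1731, s1732, s1733, s1734, s1735, s1736, s1737, s1738, s1739, s1740, s1741, s1742, s1743, s1744, s1745, s1746, s1747, s1748, s1749, s1750, s1751, s1752, s1753, s1754, s1755, s1756, s1757, s1758, s1759, s1760, s1761, s1762] ct1730_0 v1730_0 5 w1730_0_1 := (Phs.fin c1730_0)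
theorem p1730_0_3 : Phs s1730 a1730_3 [] [s1731, s1732, s1733, s1734, s1735, s1736, s1737, s1738, s1739, s1740, s1741, s1742, s1743, s1744, s1745, s1746, s1747, s1748, s1749, s1750, s1751, s1752, s1753, s1754, s1755, s1756, s1757, s1758, s1759, s1760, s1761, s1762] ct1730_0 v1730_0 4 w1730_0_3 := (Phs.stp c1730_1 p1730_0_1)
theorem p1730_0_5 : Phs s1730 a1730_3 [] [s1731, s1732, s1733, s1734, s1735, s1736, s1737, s1738, s1739, s1740, s1741, s1742, s1743, s1744, s1745, s1746, s1747, s1748, s1749, s1750, s1751, s1752, s1753, s1754, s1755, s1756, s1757, s1758, s1759, s1760, s1761, s1762] ct1730_0 v1730_0 1 w1730_0_5 := (Phs.stp c1730_2 p1730_0_3)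
theorem n1730 : Sound.{u} (cP4) s1730 0 :=
  (x1730_3.ext2 (fun h => absurd h (by decide)) GamS.nil (AllS.cons n1731 (AllS.cons n1732 (AllS.cons n1733 (AllS.cons n1734 (AllS.cons n1735 (AllS.cons n1736 (AllS.cons n1737 (AllS.cons n1738 (AllS.cons n1739 (AllS.cons n1740 (AllS.cons n1741 (AllS.cons n1742 (AllS.cons n1743 (AllS.cons n1744 (AllS.cons n1745 (AllS.cons n1746 (AllS.cons n1747 (AllS.cons n1748 (AllS.cons n1749 (AllS.cons n1750 (AllS.cons n1751 (AllS.cons n1752 (AllS.cons n1753 (AllS.cons n1754 (AllS.cons n1755 (AllS.cons n1756 (AllS.cons n1757 (AllS.cons n1758 (AllS.cons n1759 (AllS.cons n1760 (AllS.cons n1761 (AllS.cons n1762 AllS.nil)))))))))))))))))))))))))))))))) c1730_4 (Phs.stp c1730_3 p1730_0_5) (Phs.fin (ct := ct1730_0) rfl) :)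
theorem x1710 : AuxS.{u} (cP4) s1710 0 a1710 := aux_base3 tw590 rfl b1710
theorem x1710_1 : AuxS.{u} (cP4) s1710 0 a1710_1 := x1710
theorem x1710_2 : AuxS.{u} (cP4) s1710 0 a1710_2 := x1710_1
theorem n1710 : Sound.{u} (cP4) s1710 0 :=
  (x1710_2.jump c1710_0 c1710_1 n1730 :)
theorem x1711 : AuxS.{u} (cP4) s1711 0 a1711 := aux_base3 tw590 rfl b1711
theorem n1711 : Sound.{u} (cP4) s1711 0 :=
  (x1711.k4 c1711_0 :)
theorem x1712 : AuxS.{u} (cP4) s1712 0 a1712 := aux_base3 tw590 rfl b1712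
theorem n1712 : Sound.{u} (cP4) s1712 0 :=
  (x1712.k4 c1712_0 :)
theorem x1713 : AuxS.{u} (cP4) s1713 0 a1713 := aux_base3 tw590 rfl b1713
theorem n1713 : Sound.{u} (cP4) s1713 0 :=
  (x1713.k4 c1713_0 :)
theorem x1714 : AuxS.{u} (cP4) s1714 0 a1714 := aux_base3 tw590 rfl b1714
theorem n1714 : Sound.{u} (cP4) s1714 0 :=
  (x1714.k4 c1714_0 :)
theorem x1715 : AuxS.{u} (cP4) s1715 0 a1715 := aux_base3 tw590 rfl b1715
theorem n1715 : Sound.{u} (cP4) s1715 0 :=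
  (x1715.k4 c1715_0 :)
theorem x1716 : AuxS.{u} (cP4) s1716 0 a1716 := aux_base3 tw590 rfl b1716
theorem n1716 : Sound.{u} (cP4) s1716 0 :=
  (x1716.k4 c1716_0 :)
theorem x1717 : AuxS.{u} (cP4) s1717 0 a1717 := aux_base3 tw590 rfl b1717
theorem n1717 : Sound.{u} (cP4) s1717 0 :=
  (x1717.k4 c1717_0 :)
theorem x1718 : AuxS.{u} (cP4) s1718 0 a1718 := aux_base3 tw590 rfl b1718
theorem n1718 : Sound.{u} (cP4) s1718 0 :=
  (x1718.k4 c1718_0 :)
theorem x1719 : AuxS.{u} (cP4) s1719 0 a1719 := aux_base3 tw590 rfl b1719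
theorem n1719 : Sound.{u} (cP4) s1719 0 :=
  (x1719.k4 c1719_0 :)
theorem x1720 : AuxS.{u} (cP4) s1720 0 a1720 := aux_base3 tw590 rfl b1720
theorem n1720 : Sound.{u} (cP4) s1720 0 :=
  (x1720.k4 c1720_0 :)
theorem x1721 : AuxS.{u} (cP4) s1721 0 a1721 := aux_base3 tw590 rfl b1721
theorem n1721 : Sound.{u} (cP4) s1721 0 :=
  (x1721.k4 c1721_0 :)
theorem x1722 : AuxS.{u} (cP4) s1722 0 a1722 := aux_base3 tw590 rfl b1722
theorem n1722 : Sound.{u} (cP4) s1722 0 :=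
  (x1722.k4 c1722_0 :)
theorem x1723 : AuxS.{u} (cP4) s1723 0 a1723 := aux_base3 tw590 rfl b1723
theorem n1723 : Sound.{u} (cP4) s1723 0 :=
  (x1723.k4 c1723_0 :)
theorem x1724 : AuxS.{u} (cP4) s1724 0 a1724 := aux_base3 tw590 rfl b1724
theorem n1724 : Sound.{u} (cP4) s1724 0 :=
  (x1724.k4 c1724_0 :)
theorem x1725 : AuxS.{u} (cP4) s1725 0 a1725 := aux_base3 tw590 rfl b1725
theorem n1725 : Sound.{u} (cP4) s1725 0 :=
  (x1725.k4 c1725_0 :)
theorem x1726 : AuxS.{u} (cP4) s1726 0 a1726 := aux_base3 tw590 rfl b1726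
theorem n1726 : Sound.{u} (cP4) s1726 0 :=
  (x1726.k4 c1726_0 :)
theorem x1727 : AuxS.{u} (cP4) s1727 0 a1727 := aux_base3 tw590 rfl b1727
theorem n1727 : Sound.{u} (cP4) s1727 0 :=
  (x1727.k4 c1727_0 :)
theorem x1728 : AuxS.{u} (cP4) s1728 0 a1728 := aux_base3 tw590 rfl b1728
theorem n1728 : Sound.{u} (cP4) s1728 0 :=
  (x1728.k4 c1728_0 :)
theorem x1729 : AuxS.{u} (cP4) s1729 0 a1729 := aux_base3 tw590 rfl b1729
theorem n1729 : Sound.{u} (cP4) s1729 0 :=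
  (x1729.k4 c1729_0 :)
theorem x1682 : AuxS.{u} (cP4) s1682 0 a1682 := aux_base3 tw590 rfl b1682
theorem x1682_1 : AuxS.{u} (cP4) s1682 0 a1682_1 := x1682
theorem x1682_2 : AuxS.{u} (cP4) s1682 0 a1682_2 := x1682_1
theorem n1682 : Sound.{u} (cP4) s1682 0 :=
  (x1682_2.fr (AuxS.gam x1682_2 c1682_0) (AllS.cons n1698 (AllS.cons n1699 (AllS.cons n1700 (AllS.cons n1701 (AllS.cons n1702 (AllS.cons n1703 (AllS.cons n1704 (AllS.cons n1705 (AllS.cons n1706 (AllS.cons n1707 (AllS.cons n1708 (AllS.cons n1709 (AllS.cons n1710 (AllS.cons n1711 (AllS.cons n1712 (AllS.cons n1713 (AllS.cons n1714 (AllS.cons n1715 (AllS.cons n1716 (AllS.cons n1717 (AllS.cons n1718 (AllS.cons n1719 (AllS.cons n1720 (AllS.cons n1721 (AllS.cons n1722 (AllS.cons n1723 (AllS.cons n1724 (AllS.cons n1725 (AllS.cons n1726 (AllS.cons n1727 (AllS.cons n1728 (AllS.cons n1729 AllS.nil)))))))))))))))))))))))))))))))) c1682_1 :)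
theorem x1683 : AuxS.{u} (cP4) s1683 0 a1683 := aux_base3 tw591 rfl b1683
theorem x1683_1 : AuxS.{u} (cP4) s1683 0 a1683_1 := x1683
theorem x1683_2 : AuxS.{u} (cP4) s1683 0 a1683_2 := x1683_1
theorem n1683 : Sound.{u} (cP4) s1683 0 :=
  (x1683_2.fr GamS.nil AllS.nil c1683_0 :)
theorem x1684 : AuxS.{u} (cP4) s1684 0 a1684 := aux_base3 tw592 rfl b1684
theorem x1684_1 : AuxS.{u} (cP4) s1684 0 a1684_1 := x1684
theorem x1684_2 : AuxS.{u} (cP4) s1684 0 a1684_2 := x1684_1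
theorem n1684 : Sound.{u} (cP4) s1684 0 :=
  (x1684_2.fr GamS.nil AllS.nil c1684_0 :)
theorem x1685 : AuxS.{u} (cP4) s1685 0 a1685 := aux_base3 tw593 rfl b1685
theorem x1685_1 : AuxS.{u} (cP4) s1685 0 a1685_1 := x1685
theorem x1685_2 : AuxS.{u} (cP4) s1685 0 a1685_2 := x1685_1
theorem n1685 : Sound.{u} (cP4) s1685 0 :=
  (x1685_2.fr GamS.nil AllS.nil c1685_0 :)
theorem x1686 : AuxS.{u} (cP4) s1686 0 a1686 := aux_base3 tw594 rfl b1686
theorem x1686_1 : AuxS.{u} (cP4) s1686 0 a1686_1 := x1686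
theorem x1686_2 : AuxS.{u} (cP4) s1686 0 a1686_2 := x1686_1
theorem n1686 : Sound.{u} (cP4) s1686 0 :=
  (x1686_2.fr GamS.nil AllS.nil c1686_0 :)
theorem x1687 : AuxS.{u} (cP4) s1687 0 a1687 := aux_base3 tw595 rfl b1687
theorem x1687_1 : AuxS.{u} (cP4) s1687 0 a1687_1 := x1687
theorem x1687_2 : AuxS.{u} (cP4) s1687 0 a1687_2 := x1687_1
theorem n1687 : Sound.{u} (cP4) s1687 0 :=
  (x1687_2.fr GamS.nil AllS.nil c1687_0 :)
theorem x1688 : AuxS.{u} (cP4) s1688 0 a1688 := aux_base3 tw596 rfl b1688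
theorem x1688_1 : AuxS.{u} (cP4) s1688 0 a1688_1 := x1688
theorem x1688_2 : AuxS.{u} (cP4) s1688 0 a1688_2 := x1688_1
theorem n1688 : Sound.{u} (cP4) s1688 0 :=
  (x1688_2.fr GamS.nil AllS.nil c1688_0 :)
theorem x1689 : AuxS.{u} (cP4) s1689 0 a1689 := aux_base3 tw597 rfl b1689
theorem x1689_1 : AuxS.{u} (cP4) s1689 0 a1689_1 := x1689
theorem x1689_2 : AuxS.{u} (cP4) s1689 0 a1689_2 := x1689_1
theorem n1689 : Sound.{u} (cP4) s1689 0 :=
  (x1689_2.fr GamS.nil AllS.nil c1689_0 :)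
theorem x1690 : AuxS.{u} (cP4) s1690 0 a1690 := aux_base3 tw598 rfl b1690
theorem x1690_1 : AuxS.{u} (cP4) s1690 0 a1690_1 := x1690
theorem x1690_2 : AuxS.{u} (cP4) s1690 0 a1690_2 := x1690_1
theorem n1690 : Sound.{u} (cP4) s1690 0 :=
  (x1690_2.fr GamS.nil AllS.nil c1690_0 :)
theorem x1691 : AuxS.{u} (cP4) s1691 0 a1691 := aux_base3 tw599 rfl b1691
theorem x1691_1 : AuxS.{u} (cP4) s1691 0 a1691_1 := x1691
theorem x1691_2 : AuxS.{u} (cP4) s1691 0 a1691_2 := x1691_1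
theorem n1691 : Sound.{u} (cP4) s1691 0 :=
  (x1691_2.fr GamS.nil AllS.nil c1691_0 :)
theorem x1692 : AuxS.{u} (cP4) s1692 0 a1692 := aux_base3 tw600 rfl b1692
theorem x1692_1 : AuxS.{u} (cP4) s1692 0 a1692_1 := x1692
theorem x1692_2 : AuxS.{u} (cP4) s1692 0 a1692_2 := x1692_1
theorem n1692 : Sound.{u} (cP4) s1692 0 :=
  (x1692_2.fr GamS.nil AllS.nil c1692_0 :)
theorem x1693 : AuxS.{u} (cP4) s1693 0 a1693 := aux_base3 tw601 rfl b1693
theorem x1693_1 : AuxS.{u} (cP4) s1693 0 a1693_1 := x1693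
theorem x1693_2 : AuxS.{u} (cP4) s1693 0 a1693_2 := x1693_1
theorem n1693 : Sound.{u} (cP4) s1693 0 :=
  (x1693_2.fr GamS.nil AllS.nil c1693_0 :)
theorem x1694 : AuxS.{u} (cP4) s1694 0 a1694 := aux_base3 tw602 rfl b1694
theorem x1694_1 : AuxS.{u} (cP4) s1694 0 a1694_1 := x1694
theorem x1694_2 : AuxS.{u} (cP4) s1694 0 a1694_2 := x1694_1
theorem n1694 : Sound.{u} (cP4) s1694 0 :=
  (x1694_2.fr GamS.nil AllS.nil c1694_0 :)
theorem x1695 : AuxS.{u} (cP4) s1695 0 a1695 := aux_base3 tw603 rfl b1695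
theorem x1695_1 : AuxS.{u} (cP4) s1695 0 a1695_1 := x1695
theorem x1695_2 : AuxS.{u} (cP4) s1695 0 a1695_2 := x1695_1
theorem n1695 : Sound.{u} (cP4) s1695 0 :=
  (x1695_2.fr GamS.nil AllS.nil c1695_0 :)
theorem x1696 : AuxS.{u} (cP4) s1696 0 a1696 := aux_base3 tw604 rfl b1696
theorem x1696_1 : AuxS.{u} (cP4) s1696 0 a1696_1 := x1696
theorem x1696_2 : AuxS.{u} (cP4) s1696 0 a1696_2 := x1696_1
theorem n1696 : Sound.{u} (cP4) s1696 0 :=
  (x1696_2.fr GamS.nil AllS.nil c1696_0 :)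
theorem x1697 : AuxS.{u} (cP4) s1697 0 a1697 := aux_base3 tw605 rfl b1697
theorem x1697_1 : AuxS.{u} (cP4) s1697 0 a1697_1 := x1697
theorem x1697_2 : AuxS.{u} (cP4) s1697 0 a1697_2 := x1697_1
theorem n1697 : Sound.{u} (cP4) s1697 0 :=
  (x1697_2.fr GamS.nil AllS.nil c1697_0 :)
theorem x1498 : AuxS.{u} (cP4) s1498 0 a1498 := aux_base3 tw503 rfl b1498
theorem x1498_1 : AuxS.{u} (cP4) s1498 0 a1498_1 := (AuxS.up x1498 c1498_7 :)
theorem x1498_2 : AuxS.{u} (cP4) s1498 0 a1498_2 := x1498_1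
theorem p1498_0_1 : Phs s1498 a1498_2 (List.map Prod.fst g1498_0) [s1682, s1683, s1684, s1685, s1686, s1687, s1688, s1689, s1690, s1691, s1692, s1693, s1694, s1695, s1696, s1697] ct1498_0 v1498_0 5 w1498_0_1 := (Phs.fin c1498_1)
theorem p1498_0_3 : Phs s1498 a1498_2 (List.map Prod.fst g1498_0) [s1682, s1683, s1684, s1685, s1686, s1687, s1688, s1689, s1690, s1691, s1692, s1693, s1694, s1695, s1696, s1697] ct1498_0 v1498_0 4 w1498_0_3 := (Phs.stp c1498_2 p1498_0_1)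
theorem p1498_0_5 : Phs s1498 a1498_2 (List.map Prod.fst g1498_0) [s1682, s1683, s1684, s1685, s1686, s1687, s1688, s1689, s1690, s1691, s1692, s1693, s1694, s1695, s1696, s1697] ct1498_0 v1498_0 3 w1498_0_5 := (Phs.stp c1498_3 p1498_0_3)
theorem p1498_0_7 : Phs s1498 a1498_2 (List.map Prod.fst g1498_0) [s1682, s1683, s1684, s1685, s1686, s1687, s1688, s1689, s1690, s1691, s1692, s1693, s1694, s1695, s1696, s1697] ct1498_0 v1498_0 1 w1498_0_7 := (Phs.stp c1498_4 p1498_0_5)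
theorem n1498 : Sound.{u} (cP4) s1498 0 :=
  (x1498_2.ext2 (fun h => absurd h (by decide)) (AuxS.gam x1498_2 c1498_0) (AllS.cons n1682 (AllS.cons n1683 (AllS.cons n1684 (AllS.cons n1685 (AllS.cons n1686 (AllS.cons n1687 (AllS.cons n1688 (AllS.cons n1689 (AllS.cons n1690 (AllS.cons n1691 (AllS.cons n1692 (AllS.cons n1693 (AllS.cons n1694 (AllS.cons n1695 (AllS.cons n1696 (AllS.cons n1697 AllS.nil)))))))))))))))) c1498_6 (Phs.stp c1498_5 p1498_0_7) (Phs.fin (ct := ct1498_0) rfl) :)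
theorem x1499 : AuxS.{u} (cP4) s1499 0 a1499 := aux_base3 tw504 rfl b1499
theorem x1499_1 : AuxS.{u} (cP4) s1499 0 a1499_1 := (AuxS.up x1499 c1499_1 :)
theorem n1499 : Sound.{u} (cP4) s1499 0 :=
  (x1499_1.k7 c1499_0 :)
theorem x1500 : AuxS.{u} (cP4) s1500 0 a1500 := aux_base3 tw505 rfl b1500
theorem x1500_1 : AuxS.{u} (cP4) s1500 0 a1500_1 := (AuxS.up x1500 c1500_1 :)
theorem n1500 : Sound.{u} (cP4) s1500 0 :=
  (x1500_1.k7 c1500_0 :)
theorem x1812 : AuxS.{u} (cP4) s1812 0 a1812 := aux_base3 tw654 rfl b1812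
theorem x1812_1 : AuxS.{u} (cP4) s1812 0 a1812_1 := x1812
theorem n1812 : Sound.{u} (cP4) s1812 0 :=
  (x1812_1.fr GamS.nil AllS.nil c1812_0 :)
theorem x1813 : AuxS.{u} (cP4) s1813 0 a1813 := aux_base3 tw655 rfl b1813
theorem x1813_1 : AuxS.{u} (cP4) s1813 0 a1813_1 := x1813
theorem n1813 : Sound.{u} (cP4) s1813 0 :=
  (x1813_1.fr GamS.nil AllS.nil c1813_0 :)
theorem x1814 : AuxS.{u} (cP4) s1814 0 a1814 := aux_base3 tw656 rfl b1814
theorem x1814_1 : AuxS.{u} (cP4) s1814 0 a1814_1 := x1814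
theorem n1814 : Sound.{u} (cP4) s1814 0 :=
  (x1814_1.fr GamS.nil AllS.nil c1814_0 :)
theorem x1815 : AuxS.{u} (cP4) s1815 0 a1815 := aux_base3 tw657 rfl b1815
theorem x1815_1 : AuxS.{u} (cP4) s1815 0 a1815_1 := x1815
theorem n1815 : Sound.{u} (cP4) s1815 0 :=
  (x1815_1.fr GamS.nil AllS.nil c1815_0 :)
theorem x1816 : AuxS.{u} (cP4) s1816 0 a1816 := aux_base3 tw658 rfl b1816
theorem x1816_1 : AuxS.{u} (cP4) s1816 0 a1816_1 := x1816
theorem x1816_2 : AuxS.{u} (cP4) s1816 0 a1816_2 := x1816_1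
theorem n1816 : Sound.{u} (cP4) s1816 0 :=
  (x1816_2.fr GamS.nil AllS.nil c1816_0 :)
theorem x1817 : AuxS.{u} (cP4) s1817 0 a1817 := aux_base3 tw659 rfl b1817
theorem x1817_1 : AuxS.{u} (cP4) s1817 0 a1817_1 := x1817
theorem n1817 : Sound.{u} (cP4) s1817 0 :=
  (x1817_1.fr GamS.nil AllS.nil c1817_0 :)
theorem x1818 : AuxS.{u} (cP4) s1818 0 a1818 := aux_base3 tw660 rfl b1818
theorem x1818_1 : AuxS.{u} (cP4) s1818 0 a1818_1 := x1818
theorem n1818 : Sound.{u} (cP4) s1818 0 :=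
  (x1818_1.fr GamS.nil AllS.nil c1818_0 :)
theorem x1819 : AuxS.{u} (cP4) s1819 0 a1819 := aux_base3 tw661 rfl b1819
theorem x1819_1 : AuxS.{u} (cP4) s1819 0 a1819_1 := x1819
theorem n1819 : Sound.{u} (cP4) s1819 0 :=
  (x1819_1.fr GamS.nil AllS.nil c1819_0 :)
theorem x1820 : AuxS.{u} (cP4) s1820 0 a1820 := aux_base3 tw662 rfl b1820
theorem x1820_1 : AuxS.{u} (cP4) s1820 0 a1820_1 := x1820
theorem x1820_2 : AuxS.{u} (cP4) s1820 0 a1820_2 := x1820_1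
theorem n1820 : Sound.{u} (cP4) s1820 0 :=
  (x1820_2.fr GamS.nil AllS.nil c1820_0 :)
theorem x1821 : AuxS.{u} (cP4) s1821 0 a1821 := aux_base3 tw663 rfl b1821
theorem x1821_1 : AuxS.{u} (cP4) s1821 0 a1821_1 := x1821
theorem n1821 : Sound.{u} (cP4) s1821 0 :=
  (x1821_1.fr GamS.nil AllS.nil c1821_0 :)
theorem x1822 : AuxS.{u} (cP4) s1822 0 a1822 := aux_base3 tw664 rfl b1822
theorem x1822_1 : AuxS.{u} (cP4) s1822 0 a1822_1 := x1822
theorem n1822 : Sound.{u} (cP4) s1822 0 :=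
  (x1822_1.fr GamS.nil AllS.nil c1822_0 :)
theorem x1823 : AuxS.{u} (cP4) s1823 0 a1823 := aux_base3 tw665 rfl b1823
theorem x1823_1 : AuxS.{u} (cP4) s1823 0 a1823_1 := x1823
theorem x1823_2 : AuxS.{u} (cP4) s1823 0 a1823_2 := x1823_1
theorem n1823 : Sound.{u} (cP4) s1823 0 :=
  (x1823_2.fr GamS.nil AllS.nil c1823_0 :)
theorem x1824 : AuxS.{u} (cP4) s1824 0 a1824 := aux_base3 tw666 rfl b1824
theorem x1824_1 : AuxS.{u} (cP4) s1824 0 a1824_1 := x1824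
theorem x1824_2 : AuxS.{u} (cP4) s1824 0 a1824_2 := x1824_1
theorem n1824 : Sound.{u} (cP4) s1824 0 :=
  (x1824_2.fr GamS.nil AllS.nil c1824_0 :)
theorem x1825 : AuxS.{u} (cP4) s1825 0 a1825 := aux_base3 tw667 rfl b1825
theorem x1825_1 : AuxS.{u} (cP4) s1825 0 a1825_1 := x1825
theorem x1825_2 : AuxS.{u} (cP4) s1825 0 a1825_2 := x1825_1
theorem n1825 : Sound.{u} (cP4) s1825 0 :=
  (x1825_2.fr GamS.nil AllS.nil c1825_0 :)
theorem x1826 : AuxS.{u} (cP4) s1826 0 a1826 := aux_base3 tw668 rfl b1826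
theorem x1826_1 : AuxS.{u} (cP4) s1826 0 a1826_1 := x1826
theorem n1826 : Sound.{u} (cP4) s1826 0 :=
  (x1826_1.fr GamS.nil AllS.nil c1826_0 :)
theorem x1827 : AuxS.{u} (cP4) s1827 0 a1827 := aux_base3 tw669 rfl b1827
theorem x1827_1 : AuxS.{u} (cP4) s1827 0 a1827_1 := x1827
theorem n1827 : Sound.{u} (cP4) s1827 0 :=
  (x1827_1.fr GamS.nil AllS.nil c1827_0 :)
theorem x1828 : AuxS.{u} (cP4) s1828 0 a1828 := aux_base3 tw670 rfl b1828
theorem x1828_1 : AuxS.{u} (cP4) s1828 0 a1828_1 := x1828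
theorem n1828 : Sound.{u} (cP4) s1828 0 :=
  (x1828_1.fr GamS.nil AllS.nil c1828_0 :)
theorem x1829 : AuxS.{u} (cP4) s1829 0 a1829 := aux_base3 tw671 rfl b1829
theorem x1829_1 : AuxS.{u} (cP4) s1829 0 a1829_1 := x1829
theorem n1829 : Sound.{u} (cP4) s1829 0 :=
  (x1829_1.fr GamS.nil AllS.nil c1829_0 :)
theorem x1830 : AuxS.{u} (cP4) s1830 0 a1830 := aux_base3 tw672 rfl b1830
theorem x1830_1 : AuxS.{u} (cP4) s1830 0 a1830_1 := x1830
theorem n1830 : Sound.{u} (cP4) s1830 0 :=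
  (x1830_1.fr GamS.nil AllS.nil c1830_0 :)
theorem x1831 : AuxS.{u} (cP4) s1831 0 a1831 := aux_base3 tw673 rfl b1831
theorem x1831_1 : AuxS.{u} (cP4) s1831 0 a1831_1 := x1831
theorem n1831 : Sound.{u} (cP4) s1831 0 :=
  (x1831_1.fr GamS.nil AllS.nil c1831_0 :)
theorem x1832 : AuxS.{u} (cP4) s1832 0 a1832 := aux_base3 tw674 rfl b1832
theorem x1832_1 : AuxS.{u} (cP4) s1832 0 a1832_1 := x1832
theorem x1832_2 : AuxS.{u} (cP4) s1832 0 a1832_2 := x1832_1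
theorem n1832 : Sound.{u} (cP4) s1832 0 :=
  (x1832_2.fr GamS.nil AllS.nil c1832_0 :)
theorem x1833 : AuxS.{u} (cP4) s1833 0 a1833 := aux_base3 tw675 rfl b1833
theorem x1833_1 : AuxS.{u} (cP4) s1833 0 a1833_1 := x1833
theorem n1833 : Sound.{u} (cP4) s1833 0 :=
  (x1833_1.fr GamS.nil AllS.nil c1833_0 :)
theorem x1834 : AuxS.{u} (cP4) s1834 0 a1834 := aux_base3 tw676 rfl b1834
theorem x1834_1 : AuxS.{u} (cP4) s1834 0 a1834_1 := x1834
theorem n1834 : Sound.{u} (cP4) s1834 0 :=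
  (x1834_1.fr GamS.nil AllS.nil c1834_0 :)
theorem x1835 : AuxS.{u} (cP4) s1835 0 a1835 := aux_base3 tw677 rfl b1835
theorem x1835_1 : AuxS.{u} (cP4) s1835 0 a1835_1 := x1835
theorem n1835 : Sound.{u} (cP4) s1835 0 :=
  (x1835_1.fr GamS.nil AllS.nil c1835_0 :)
theorem x1836 : AuxS.{u} (cP4) s1836 0 a1836 := aux_base3 tw678 rfl b1836
theorem x1836_1 : AuxS.{u} (cP4) s1836 0 a1836_1 := x1836
theorem x1836_2 : AuxS.{u} (cP4) s1836 0 a1836_2 := x1836_1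
theorem n1836 : Sound.{u} (cP4) s1836 0 :=
  (x1836_2.fr GamS.nil AllS.nil c1836_0 :)
theorem x1837 : AuxS.{u} (cP4) s1837 0 a1837 := aux_base3 tw679 rfl b1837
theorem x1837_1 : AuxS.{u} (cP4) s1837 0 a1837_1 := x1837
theorem n1837 : Sound.{u} (cP4) s1837 0 :=
  (x1837_1.fr GamS.nil AllS.nil c1837_0 :)
theorem x1838 : AuxS.{u} (cP4) s1838 0 a1838 := aux_base3 tw680 rfl b1838
theorem x1838_1 : AuxS.{u} (cP4) s1838 0 a1838_1 := x1838
theorem n1838 : Sound.{u} (cP4) s1838 0 :=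
  (x1838_1.fr GamS.nil AllS.nil c1838_0 :)
theorem x1839 : AuxS.{u} (cP4) s1839 0 a1839 := aux_base3 tw681 rfl b1839
theorem x1839_1 : AuxS.{u} (cP4) s1839 0 a1839_1 := x1839
theorem x1839_2 : AuxS.{u} (cP4) s1839 0 a1839_2 := x1839_1
theorem n1839 : Sound.{u} (cP4) s1839 0 :=
  (x1839_2.fr GamS.nil AllS.nil c1839_0 :)
theorem x1840 : AuxS.{u} (cP4) s1840 0 a1840 := aux_base3 tw682 rfl b1840
theorem x1840_1 : AuxS.{u} (cP4) s1840 0 a1840_1 := x1840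
theorem x1840_2 : AuxS.{u} (cP4) s1840 0 a1840_2 := x1840_1
theorem n1840 : Sound.{u} (cP4) s1840 0 :=
  (x1840_2.fr GamS.nil AllS.nil c1840_0 :)
theorem x1841 : AuxS.{u} (cP4) s1841 0 a1841 := aux_base3 tw683 rfl b1841
theorem x1841_1 : AuxS.{u} (cP4) s1841 0 a1841_1 := x1841
theorem x1841_2 : AuxS.{u} (cP4) s1841 0 a1841_2 := x1841_1
theorem n1841 : Sound.{u} (cP4) s1841 0 :=
  (x1841_2.fr GamS.nil AllS.nil c1841_0 :)
theorem x1842 : AuxS.{u} (cP4) s1842 0 a1842 := aux_base3 tw684 rfl b1842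
theorem x1842_1 : AuxS.{u} (cP4) s1842 0 a1842_1 := x1842
theorem n1842 : Sound.{u} (cP4) s1842 0 :=
  (x1842_1.fr GamS.nil AllS.nil c1842_0 :)
theorem x1843 : AuxS.{u} (cP4) s1843 0 a1843 := aux_base3 tw685 rfl b1843
theorem x1843_1 : AuxS.{u} (cP4) s1843 0 a1843_1 := x1843
theorem n1843 : Sound.{u} (cP4) s1843 0 :=
  (x1843_1.fr GamS.nil AllS.nil c1843_0 :)
theorem x1811 : AuxS.{u} (cP4) s1811 0 a1811 := aux_base3 tw506 rfl b1811
theorem x1811_1 : AuxS.{u} (cP4) s1811 0 a1811_1 := (AuxS.up x1811 c1811_5 :)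
theorem p1811_0_1 : Phs s1811 a1811_1 [] [s1812, s1813, s1814, s1815, s1816, s1817, s1818, s1819, s1820, s1821, s1822, s1823, s1824, s1825, s1826, s1827, s1828, s1829, s1830, s1831, s1832, s1833, s1834, s1835, s1836, s1837, s1838, s1839, s1840, s1841, s1842, s1843] ct1811_0 v1811_0 5 w1811_0_1 := (Phs.fin c1811_0)
theorem p1811_0_3 : Phs s1811 a1811_1 [] [s1812, s1813, s1814, s1815, s1816, s1817, s1818, s1819, s1820, s1821, s1822, s1823, s1824, s1825, s1826, s1827, s1828, s1829, s1830, s1831, s1832, s1833, s1834, s1835, s1836, s1837, s1838, s1839, s1840, s1841, s1842, s1843] ct1811_0 v1811_0 4 w1811_0_3 := (Phs.stp c1811_1 p1811_0_1)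
theorem p1811_0_5 : Phs s1811 a1811_1 [] [s1812, s1813, s1814, s1815, s1816, s1817, s1818, s1819, s1820, s1821, s1822, s1823, s1824, s1825, s1826, s1827, s1828, s1829, s1830, s1831, s1832, s1833, s1834, s1835, s1836, s1837, s1838, s1839, s1840, s1841, s1842, s1843] ct1811_0 v1811_0 1 w1811_0_5 := (Phs.stp c1811_2 p1811_0_3)
theorem n1811 : Sound.{u} (cP4) s1811 0 :=
  (x1811_1.ext2 (fun h => absurd h (by decide)) GamS.nil (AllS.cons n1812 (AllS.cons n1813 (AllS.cons n1814 (AllS.cons n1815 (AllS.cons n1816 (AllS.cons n1817 (AllS.cons n1818 (AllS.cons n1819 (AllS.cons n1820 (AllS.cons n1821 (AllS.cons n1822 (AllS.cons n1823 (AllS.cons n1824 (AllS.cons n1825 (AllS.cons n1826 (AllS.cons n1827 (AllS.cons n1828 (AllS.cons n1829 (AllS.cons n1830 (AllS.cons n1831 (AllS.cons n1832 (AllS.cons n1833 (AllS.cons n1834 (AllS.cons n1835 (AllS.cons n1836 (AllS.cons n1837 (AllS.cons n1838 (AllS.cons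 n1839 (AllS.cons n1840 (AllS.cons n1841 (AllS.cons n1842 (AllS.cons n1843 AllS.nil)))))))))))))))))))))))))))))))) c1811_4 (Phs.stp c1811_3 p1811_0_5) (Phs.fin (ct := ct1811_0) rfl) :)
theorem x1779 : AuxS.{u} (cP4) s1779 0 a1779 := aux_base3 tw638 rfl b1779
theorem x1779_1 : AuxS.{u} (cP4) s1779 0 a1779_1 := x1779
theorem n1779 : Sound.{u} (cP4) s1779 0 :=
  (x1779_1.jump c1779_0 c1779_1 n1811 :)
theorem x1780 : AuxS.{u} (cP4) s1780 0 a1780 := aux_base3 tw638 rfl b1780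
theorem n1780 : Sound.{u} (cP4) s1780 0 :=
  (x1780.k4 c1780_0 :)
theorem x1781 : AuxS.{u} (cP4) s1781 0 a1781 := aux_base3 tw638 rfl b1781
theorem n1781 : Sound.{u} (cP4) s1781 0 :=
  (x1781.k4 c1781_0 :)
theorem x1782 : AuxS.{u} (cP4) s1782 0 a1782 := aux_base3 tw638 rfl b1782
theorem n1782 : Sound.{u} (cP4) s1782 0 :=
  (x1782.k4 c1782_0 :)
theorem x1783 : AuxS.{u} (cP4) s1783 0 a1783 := aux_base3 tw638 rfl b1783
theorem n1783 : Sound.{u} (cP4) s1783 0 :=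
  (x1783.k4 c1783_0 :)
theorem x1784 : AuxS.{u} (cP4) s1784 0 a1784 := aux_base3 tw638 rfl b1784
theorem n1784 : Sound.{u} (cP4) s1784 0 :=
  (x1784.k4 c1784_0 :)
theorem x1785 : AuxS.{u} (cP4) s1785 0 a1785 := aux_base3 tw638 rfl b1785
theorem n1785 : Sound.{u} (cP4) s1785 0 :=
  (x1785.k4 c1785_0 :)
theorem x1786 : AuxS.{u} (cP4) s1786 0 a1786 := aux_base3 tw638 rfl b1786
theorem n1786 : Sound.{u} (cP4) s1786 0 :=
  (x1786.k4 c1786_0 :)
theorem x1787 : AuxS.{u} (cP4) s1787 0 a1787 := aux_base3 tw638 rfl b1787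
theorem n1787 : Sound.{u} (cP4) s1787 0 :=
  (x1787.k4 c1787_0 :)
theorem x1788 : AuxS.{u} (cP4) s1788 0 a1788 := aux_base3 tw638 rfl b1788
theorem n1788 : Sound.{u} (cP4) s1788 0 :=
  (x1788.k4 c1788_0 :)
theorem x1789 : AuxS.{u} (cP4) s1789 0 a1789 := aux_base3 tw638 rfl b1789
theorem n1789 : Sound.{u} (cP4) s1789 0 :=
  (x1789.k4 c1789_0 :)
theorem x1790 : AuxS.{u} (cP4) s1790 0 a1790 := aux_base3 tw638 rfl b1790
theorem n1790 : Sound.{u} (cP4) s1790 0 :=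
  (x1790.k4 c1790_0 :)
theorem x1791 : AuxS.{u} (cP4) s1791 0 a1791 := aux_base3 tw638 rfl b1791
theorem n1791 : Sound.{u} (cP4) s1791 0 :=
  (x1791.k4 c1791_0 :)
theorem x1792 : AuxS.{u} (cP4) s1792 0 a1792 := aux_base3 tw638 rfl b1792
theorem n1792 : Sound.{u} (cP4) s1792 0 :=
  (x1792.k4 c1792_0 :)
theorem x1793 : AuxS.{u} (cP4) s1793 0 a1793 := aux_base3 tw638 rfl b1793
theorem n1793 : Sound.{u} (cP4) s1793 0 :=
  (x1793.k4 c1793_0 :)
theorem x1794 : AuxS.{u} (cP4) s1794 0 a1794 := aux_base3 tw638 rfl b1794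
theorem n1794 : Sound.{u} (cP4) s1794 0 :=
  (x1794.k4 c1794_0 :)
theorem x1795 : AuxS.{u} (cP4) s1795 0 a1795 := aux_base3 tw638 rfl b1795
theorem n1795 : Sound.{u} (cP4) s1795 0 :=
  (x1795.k4 c1795_0 :)
theorem x1796 : AuxS.{u} (cP4) s1796 0 a1796 := aux_base3 tw638 rfl b1796
theorem n1796 : Sound.{u} (cP4) s1796 0 :=
  (x1796.k4 c1796_0 :)
theorem x1797 : AuxS.{u} (cP4) s1797 0 a1797 := aux_base3 tw638 rfl b1797
theorem n1797 : Sound.{u} (cP4) s1797 0 :=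
  (x1797.k4 c1797_0 :)
theorem x1798 : AuxS.{u} (cP4) s1798 0 a1798 := aux_base3 tw638 rfl b1798
theorem n1798 : Sound.{u} (cP4) s1798 0 :=
  (x1798.k4 c1798_0 :)
theorem x1799 : AuxS.{u} (cP4) s1799 0 a1799 := aux_base3 tw638 rfl b1799
theorem n1799 : Sound.{u} (cP4) s1799 0 :=
  (x1799.k4 c1799_0 :)
theorem x1800 : AuxS.{u} (cP4) s1800 0 a1800 := aux_base3 tw638 rfl b1800
theorem n1800 : Sound.{u} (cP4) s1800 0 :=
  (x1800.k4 c1800_0 :)
theorem x1801 : AuxS.{u} (cP4) s1801 0 a1801 := aux_base3 tw638 rfl b1801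
theorem n1801 : Sound.{u} (cP4) s1801 0 :=
  (x1801.k4 c1801_0 :)
theorem x1802 : AuxS.{u} (cP4) s1802 0 a1802 := aux_base3 tw638 rfl b1802
theorem n1802 : Sound.{u} (cP4) s1802 0 :=
  (x1802.k4 c1802_0 :)
theorem x1803 : AuxS.{u} (cP4) s1803 0 a1803 := aux_base3 tw638 rfl b1803
theorem n1803 : Sound.{u} (cP4) s1803 0 :=
  (x1803.k4 c1803_0 :)
theorem x1804 : AuxS.{u} (cP4) s1804 0 a1804 := aux_base3 tw638 rfl b1804
theorem n1804 : Sound.{u} (cP4) s1804 0 :=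
  (x1804.k4 c1804_0 :)
theorem x1805 : AuxS.{u} (cP4) s1805 0 a1805 := aux_base3 tw638 rfl b1805
theorem n1805 : Sound.{u} (cP4) s1805 0 :=
  (x1805.k4 c1805_0 :)
theorem x1806 : AuxS.{u} (cP4) s1806 0 a1806 := aux_base3 tw638 rfl b1806
theorem n1806 : Sound.{u} (cP4) s1806 0 :=
  (x1806.k4 c1806_0 :)
theorem x1807 : AuxS.{u} (cP4) s1807 0 a1807 := aux_base3 tw638 rfl b1807
theorem n1807 : Sound.{u} (cP4) s1807 0 :=
  (x1807.k4 c1807_0 :)
theorem x1808 : AuxS.{u} (cP4) s1808 0 a1808 := aux_base3 tw638 rfl b1808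
theorem n1808 : Sound.{u} (cP4) s1808 0 :=
  (x1808.k4 c1808_0 :)
theorem x1809 : AuxS.{u} (cP4) s1809 0 a1809 := aux_base3 tw638 rfl b1809
theorem n1809 : Sound.{u} (cP4) s1809 0 :=
  (x1809.k4 c1809_0 :)
theorem x1810 : AuxS.{u} (cP4) s1810 0 a1810 := aux_base3 tw638 rfl b1810
theorem n1810 : Sound.{u} (cP4) s1810 0 :=
  (x1810.k4 c1810_0 :)
theorem x1763 : AuxS.{u} (cP4) s1763 0 a1763 := aux_base3 tw638 rfl b1763
theorem x1763_1 : AuxS.{u} (cP4) s1763 0 a1763_1 := x1763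
theorem n1763 : Sound.{u} (cP4) s1763 0 :=
  (x1763_1.fr (AuxS.gam x1763_1 c1763_0) (AllS.cons n1779 (AllS.cons n1780 (AllS.cons n1781 (AllS.cons n1782 (AllS.cons n1783 (AllS.cons n1784 (AllS.cons n1785 (AllS.cons n1786 (AllS.cons n1787 (AllS.cons n1788 (AllS.cons n1789 (AllS.cons n1790 (AllS.cons n1791 (AllS.cons n1792 (AllS.cons n1793 (AllS.cons n1794 (AllS.cons n1795 (AllS.cons n1796 (AllS.cons n1797 (AllS.cons n1798 (AllS.cons n1799 (AllS.cons n1800 (AllS.cons n1801 (AllS.cons n1802 (AllS.cons n1803 (AllS.cons n1804 (AllS.cons n1805 (AllS.cons n1806 (AllS.cons n1807 (AllS.cons n1808 (AllS.cons n1809 (AllS.cons n1810 AllS.nil)))))))))))))))))))))))))))))))) c1763_1 :)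
theorem x1764 : AuxS.{u} (cP4) s1764 0 a1764 := aux_base3 tw639 rfl b1764
theorem x1764_1 : AuxS.{u} (cP4) s1764 0 a1764_1 := x1764
theorem n1764 : Sound.{u} (cP4) s1764 0 :=
  (x1764_1.fr GamS.nil AllS.nil c1764_0 :)
theorem x1765 : AuxS.{u} (cP4) s1765 0 a1765 := aux_base3 tw640 rfl b1765
theorem x1765_1 : AuxS.{u} (cP4) s1765 0 a1765_1 := x1765
theorem n1765 : Sound.{u} (cP4) s1765 0 :=
  (x1765_1.fr GamS.nil AllS.nil c1765_0 :)
theorem x1766 : AuxS.{u} (cP4) s1766 0 a1766 := aux_base3 tw641 rfl b1766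
theorem x1766_1 : AuxS.{u} (cP4) s1766 0 a1766_1 := x1766
theorem n1766 : Sound.{u} (cP4) s1766 0 :=
  (x1766_1.fr GamS.nil AllS.nil c1766_0 :)
theorem x1767 : AuxS.{u} (cP4) s1767 0 a1767 := aux_base3 tw642 rfl b1767
theorem x1767_1 : AuxS.{u} (cP4) s1767 0 a1767_1 := x1767
theorem x1767_2 : AuxS.{u} (cP4) s1767 0 a1767_2 := x1767_1
theorem n1767 : Sound.{u} (cP4) s1767 0 :=
  (x1767_2.fr GamS.nil AllS.nil c1767_0 :)
theorem x1768 : AuxS.{u} (cP4) s1768 0 a1768 := aux_base3 tw643 rfl b1768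
theorem x1768_1 : AuxS.{u} (cP4) s1768 0 a1768_1 := x1768
theorem n1768 : Sound.{u} (cP4) s1768 0 :=
  (x1768_1.fr GamS.nil AllS.nil c1768_0 :)
theorem x1769 : AuxS.{u} (cP4) s1769 0 a1769 := aux_base3 tw644 rfl b1769
theorem x1769_1 : AuxS.{u} (cP4) s1769 0 a1769_1 := x1769
theorem n1769 : Sound.{u} (cP4) s1769 0 :=
  (x1769_1.fr GamS.nil AllS.nil c1769_0 :)
theorem x1770 : AuxS.{u} (cP4) s1770 0 a1770 := aux_base3 tw645 rfl b1770
theorem x1770_1 : AuxS.{u} (cP4) s1770 0 a1770_1 := x1770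
theorem n1770 : Sound.{u} (cP4) s1770 0 :=
  (x1770_1.fr GamS.nil AllS.nil c1770_0 :)
theorem x1771 : AuxS.{u} (cP4) s1771 0 a1771 := aux_base3 tw646 rfl b1771
theorem x1771_1 : AuxS.{u} (cP4) s1771 0 a1771_1 := x1771
theorem x1771_2 : AuxS.{u} (cP4) s1771 0 a1771_2 := x1771_1
theorem n1771 : Sound.{u} (cP4) s1771 0 :=
  (x1771_2.fr GamS.nil AllS.nil c1771_0 :)
theorem x1772 : AuxS.{u} (cP4) s1772 0 a1772 := aux_base3 tw647 rfl b1772
theorem x1772_1 : AuxS.{u} (cP4) s1772 0 a1772_1 := x1772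
theorem n1772 : Sound.{u} (cP4) s1772 0 :=
  (x1772_1.fr GamS.nil AllS.nil c1772_0 :)
theorem x1773 : AuxS.{u} (cP4) s1773 0 a1773 := aux_base3 tw648 rfl b1773
theorem x1773_1 : AuxS.{u} (cP4) s1773 0 a1773_1 := x1773
theorem n1773 : Sound.{u} (cP4) s1773 0 :=
  (x1773_1.fr GamS.nil AllS.nil c1773_0 :)
theorem x1774 : AuxS.{u} (cP4) s1774 0 a1774 := aux_base3 tw649 rfl b1774
theorem x1774_1 : AuxS.{u} (cP4) s1774 0 a1774_1 := x1774
theorem x1774_2 : AuxS.{u} (cP4) s1774 0 a1774_2 := x1774_1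
theorem n1774 : Sound.{u} (cP4) s1774 0 :=
  (x1774_2.fr GamS.nil AllS.nil c1774_0 :)
theorem x1775 : AuxS.{u} (cP4) s1775 0 a1775 := aux_base3 tw650 rfl b1775
theorem x1775_1 : AuxS.{u} (cP4) s1775 0 a1775_1 := x1775
theorem x1775_2 : AuxS.{u} (cP4) s1775 0 a1775_2 := x1775_1
theorem n1775 : Sound.{u} (cP4) s1775 0 :=
  (x1775_2.fr GamS.nil AllS.nil c1775_0 :)
theorem x1776 : AuxS.{u} (cP4) s1776 0 a1776 := aux_base3 tw651 rfl b1776
theorem x1776_1 : AuxS.{u} (cP4) s1776 0 a1776_1 := x1776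
theorem x1776_2 : AuxS.{u} (cP4) s1776 0 a1776_2 := x1776_1
theorem n1776 : Sound.{u} (cP4) s1776 0 :=
  (x1776_2.fr GamS.nil AllS.nil c1776_0 :)
theorem x1777 : AuxS.{u} (cP4) s1777 0 a1777 := aux_base3 tw652 rfl b1777
theorem x1777_1 : AuxS.{u} (cP4) s1777 0 a1777_1 := x1777
theorem n1777 : Sound.{u} (cP4) s1777 0 :=
  (x1777_1.fr GamS.nil AllS.nil c1777_0 :)
theorem x1778 : AuxS.{u} (cP4) s1778 0 a1778 := aux_base3 tw653 rfl b1778
theorem x1778_1 : AuxS.{u} (cP4) s1778 0 a1778_1 := x1778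
theorem n1778 : Sound.{u} (cP4) s1778 0 :=
  (x1778_1.fr GamS.nil AllS.nil c1778_0 :)
theorem x1501 : AuxS.{u} (cP4) s1501 0 a1501 := aux_base3 tw506 rfl b1501
theorem x1501_1 : AuxS.{u} (cP4) s1501 0 a1501_1 := (AuxS.up x1501 c1501_7 :)
theorem p1501_0_1 : Phs s1501 a1501_1 (List.map Prod.fst g1501_0) [s1763, s1764, s1765, s1766, s1767, s1768, s1769, s1770, s1771, s1772, s1773, s1774, s1775, s1776, s1777, s1778] ct1501_0 v1501_0 5 w1501_0_1 := (Phs.fin c1501_1)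
theorem p1501_0_3 : Phs s1501 a1501_1 (List.map Prod.fst g1501_0) [s1763, s1764, s1765, s1766, s1767, s1768, s1769, s1770, s1771, s1772, s1773, s1774, s1775, s1776, s1777, s1778] ct1501_0 v1501_0 4 w1501_0_3 := (Phs.stp c1501_2 p1501_0_1)
theorem p1501_0_5 : Phs s1501 a1501_1 (List.map Prod.fst g1501_0) [s1763, s1764, s1765, s1766, s1767, s1768, s1769, s1770, s1771, s1772, s1773, s1774, s1775, s1776, s1777, s1778] ct1501_0 v1501_0 3 w1501_0_5 := (Phs.stp c1501_3 p1501_0_3)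
theorem p1501_0_7 : Phs s1501 a1501_1 (List.map Prod.fst g1501_0) [s1763, s1764, s1765, s1766, s1767, s1768, s1769, s1770, s1771, s1772, s1773, s1774, s1775, s1776, s1777, s1778] ct1501_0 v1501_0 1 w1501_0_7 := (Phs.stp c1501_4 p1501_0_5)
theorem n1501 : Sound.{u} (cP4) s1501 0 :=
  (x1501_1.ext2 (fun h => absurd h (by decide)) (AuxS.gam x1501_1 c1501_0) (AllS.cons n1763 (AllS.cons n1764 (AllS.cons n1765 (AllS.cons n1766 (AllS.cons n1767 (AllS.cons n1768 (AllS.cons n1769 (AllS.cons n1770 (AllS.cons n1771 (AllS.cons n1772 (AllS.cons n1773 (AllS.cons n1774 (AllS.cons n1775 (AllS.cons n1776 (AllS.cons n1777 (AllS.cons n1778 AllS.nil)))))))))))))))) c1501_6 (Phs.stp c1501_5 p1501_0_7) (Phs.fin (ct := ct1501_0) rfl) :)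
theorem x1860 : AuxS.{u} (cP4) s1860 0 a1860 := aux_base3 tw686 rfl b1860
theorem n1860 : Sound.{u} (cP4) s1860 0 :=
  (x1860.k4 c1860_0 :)
theorem x1861 : AuxS.{u} (cP4) s1861 0 a1861 := aux_base3 tw686 rfl b1861
theorem n1861 : Sound.{u} (cP4) s1861 0 :=
  (x1861.k4 c1861_0 :)
theorem x1862 : AuxS.{u} (cP4) s1862 0 a1862 := aux_base3 tw686 rfl b1862
theorem n1862 : Sound.{u} (cP4) s1862 0 :=
  (x1862.k4 c1862_0 :)
theorem x1863 : AuxS.{u} (cP4) s1863 0 a1863 := aux_base3 tw686 rfl b1863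
theorem n1863 : Sound.{u} (cP4) s1863 0 :=
  (x1863.k4 c1863_0 :)
theorem x1864 : AuxS.{u} (cP4) s1864 0 a1864 := aux_base3 tw686 rfl b1864
theorem n1864 : Sound.{u} (cP4) s1864 0 :=
  (x1864.k4 c1864_0 :)
theorem x1865 : AuxS.{u} (cP4) s1865 0 a1865 := aux_base3 tw686 rfl b1865
theorem n1865 : Sound.{u} (cP4) s1865 0 :=
  (x1865.k4 c1865_0 :)
theorem x1866 : AuxS.{u} (cP4) s1866 0 a1866 := aux_base3 tw686 rfl b1866
theorem n1866 : Sound.{u} (cP4) s1866 0 :=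
  (x1866.k4 c1866_0 :)
theorem x1867 : AuxS.{u} (cP4) s1867 0 a1867 := aux_base3 tw686 rfl b1867
theorem n1867 : Sound.{u} (cP4) s1867 0 :=
  (x1867.k4 c1867_0 :)
theorem x1868 : AuxS.{u} (cP4) s1868 0 a1868 := aux_base3 tw686 rfl b1868
theorem n1868 : Sound.{u} (cP4) s1868 0 :=
  (x1868.k4 c1868_0 :)
theorem x1869 : AuxS.{u} (cP4) s1869 0 a1869 := aux_base3 tw686 rfl b1869
theorem n1869 : Sound.{u} (cP4) s1869 0 :=
  (x1869.k4 c1869_0 :)
theorem x1870 : AuxS.{u} (cP4) s1870 0 a1870 := aux_base3 tw686 rfl b1870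
theorem n1870 : Sound.{u} (cP4) s1870 0 :=
  (x1870.k4 c1870_0 :)
theorem x1871 : AuxS.{u} (cP4) s1871 0 a1871 := aux_base3 tw686 rfl b1871
theorem n1871 : Sound.{u} (cP4) s1871 0 :=
  (x1871.k4 c1871_0 :)
theorem x1925 : AuxS.{u} (cP4) s1925 0 a1925 := aux_base3 tw702 rfl b1925
theorem n1925 : Sound.{u} (cP4) s1925 0 :=
  (x1925.k4 c1925_0 :)
theorem x1926 : AuxS.{u} (cP4) s1926 0 a1926 := aux_base3 tw702 rfl b1926
theorem n1926 : Sound.{u} (cP4) s1926 0 :=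
  (x1926.k4 c1926_0 :)
theorem x1927 : AuxS.{u} (cP4) s1927 0 a1927 := aux_base3 tw702 rfl b1927
theorem n1927 : Sound.{u} (cP4) s1927 0 :=
  (x1927.k4 c1927_0 :)
theorem x1928 : AuxS.{u} (cP4) s1928 0 a1928 := aux_base3 tw702 rfl b1928
theorem n1928 : Sound.{u} (cP4) s1928 0 :=
  (x1928.k4 c1928_0 :)
theorem x1929 : AuxS.{u} (cP4) s1929 0 a1929 := aux_base3 tw702 rfl b1929
theorem n1929 : Sound.{u} (cP4) s1929 0 :=
  (x1929.k4 c1929_0 :)
theorem x1930 : AuxS.{u} (cP4) s1930 0 a1930 := aux_base3 tw702 rfl b1930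
theorem n1930 : Sound.{u} (cP4) s1930 0 :=
  (x1930.k4 c1930_0 :)
theorem x1931 : AuxS.{u} (cP4) s1931 0 a1931 := aux_base3 tw702 rfl b1931
theorem n1931 : Sound.{u} (cP4) s1931 0 :=
  (x1931.k4 c1931_0 :)
theorem x1932 : AuxS.{u} (cP4) s1932 0 a1932 := aux_base3 tw702 rfl b1932
theorem n1932 : Sound.{u} (cP4) s1932 0 :=
  (x1932.k4 c1932_0 :)
theorem x1957 : AuxS.{u} (cP4) s1957 0 a1957 := aux_base3 tw702 rfl b1957
theorem x1957_1 : AuxS.{u} (cP4) s1957 0 a1957_1 := x1957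
theorem n1957 : Sound.{u} (cP4) s1957 0 :=
  (x1957_1.jump c1957_0 c1957_1 n791 :)
theorem x1933 : AuxS.{u} (cP4) s1933 0 a1933 := aux_base3 tw702 rfl b1933
theorem x1933_1 : AuxS.{u} (cP4) s1933 0 a1933_1 := x1933
theorem n1933 : Sound.{u} (cP4) s1933 0 :=
  (x1933_1.jump c1933_0 c1933_1 n1957 :)
theorem x1934 : AuxS.{u} (cP4) s1934 0 a1934 := aux_base3 tw702 rfl b1934
theorem n1934 : Sound.{u} (cP4) s1934 0 :=
  (x1934.k4 c1934_0 :)
theorem x1935 : AuxS.{u} (cP4) s1935 0 a1935 := aux_base3 tw702 rfl b1935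
theorem n1935 : Sound.{u} (cP4) s1935 0 :=
  (x1935.k4 c1935_0 :)
theorem x1936 : AuxS.{u} (cP4) s1936 0 a1936 := aux_base3 tw702 rfl b1936
theorem n1936 : Sound.{u} (cP4) s1936 0 :=
  (x1936.k4 c1936_0 :)
theorem x1937 : AuxS.{u} (cP4) s1937 0 a1937 := aux_base3 tw702 rfl b1937
theorem n1937 : Sound.{u} (cP4) s1937 0 :=
  (x1937.k4 c1937_0 :)
theorem x1938 : AuxS.{u} (cP4) s1938 0 a1938 := aux_base3 tw702 rfl b1938
theorem n1938 : Sound.{u} (cP4) s1938 0 :=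
  (x1938.k4 c1938_0 :)
theorem x1939 : AuxS.{u} (cP4) s1939 0 a1939 := aux_base3 tw702 rfl b1939
theorem n1939 : Sound.{u} (cP4) s1939 0 :=
  (x1939.k4 c1939_0 :)
theorem x1940 : AuxS.{u} (cP4) s1940 0 a1940 := aux_base3 tw702 rfl b1940
theorem n1940 : Sound.{u} (cP4) s1940 0 :=
  (x1940.k4 c1940_0 :)
theorem x1941 : AuxS.{u} (cP4) s1941 0 a1941 := aux_base3 tw702 rfl b1941
theorem n1941 : Sound.{u} (cP4) s1941 0 :=
  (x1941.k4 c1941_0 :)
theorem x1942 : AuxS.{u} (cP4) s1942 0 a1942 := aux_base3 tw702 rfl b1942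
theorem n1942 : Sound.{u} (cP4) s1942 0 :=
  (x1942.k4 c1942_0 :)
theorem x1943 : AuxS.{u} (cP4) s1943 0 a1943 := aux_base3 tw702 rfl b1943
theorem n1943 : Sound.{u} (cP4) s1943 0 :=
  (x1943.k4 c1943_0 :)
theorem x1944 : AuxS.{u} (cP4) s1944 0 a1944 := aux_base3 tw702 rfl b1944
theorem n1944 : Sound.{u} (cP4) s1944 0 :=
  (x1944.k4 c1944_0 :)
theorem x1945 : AuxS.{u} (cP4) s1945 0 a1945 := aux_base3 tw702 rfl b1945
theorem n1945 : Sound.{u} (cP4) s1945 0 :=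
  (x1945.k4 c1945_0 :)
theorem x1946 : AuxS.{u} (cP4) s1946 0 a1946 := aux_base3 tw702 rfl b1946
theorem n1946 : Sound.{u} (cP4) s1946 0 :=
  (x1946.k4 c1946_0 :)
theorem x1947 : AuxS.{u} (cP4) s1947 0 a1947 := aux_base3 tw702 rfl b1947
theorem n1947 : Sound.{u} (cP4) s1947 0 :=
  (x1947.k4 c1947_0 :)
theorem x1948 : AuxS.{u} (cP4) s1948 0 a1948 := aux_base3 tw702 rfl b1948
theorem n1948 : Sound.{u} (cP4) s1948 0 :=
  (x1948.k4 c1948_0 :)
theorem x1949 : AuxS.{u} (cP4) s1949 0 a1949 := aux_base3 tw702 rfl b1949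
theorem n1949 : Sound.{u} (cP4) s1949 0 :=
  (x1949.k4 c1949_0 :)
theorem x1950 : AuxS.{u} (cP4) s1950 0 a1950 := aux_base3 tw702 rfl b1950
theorem n1950 : Sound.{u} (cP4) s1950 0 :=
  (x1950.k4 c1950_0 :)
theorem x1951 : AuxS.{u} (cP4) s1951 0 a1951 := aux_base3 tw702 rfl b1951
theorem n1951 : Sound.{u} (cP4) s1951 0 :=
  (x1951.k4 c1951_0 :)
theorem x1952 : AuxS.{u} (cP4) s1952 0 a1952 := aux_base3 tw702 rfl b1952
theorem n1952 : Sound.{u} (cP4) s1952 0 :=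
  (x1952.k4 c1952_0 :)
theorem x1953 : AuxS.{u} (cP4) s1953 0 a1953 := aux_base3 tw702 rfl b1953
theorem n1953 : Sound.{u} (cP4) s1953 0 :=
  (x1953.k4 c1953_0 :)
theorem x1954 : AuxS.{u} (cP4) s1954 0 a1954 := aux_base3 tw702 rfl b1954
theorem n1954 : Sound.{u} (cP4) s1954 0 :=
  (x1954.k4 c1954_0 :)
theorem x1955 : AuxS.{u} (cP4) s1955 0 a1955 := aux_base3 tw702 rfl b1955
theorem n1955 : Sound.{u} (cP4) s1955 0 :=
  (x1955.k4 c1955_0 :)
theorem x1956 : AuxS.{u} (cP4) s1956 0 a1956 := aux_base3 tw702 rfl b1956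
theorem n1956 : Sound.{u} (cP4) s1956 0 :=
  (x1956.k4 c1956_0 :)
theorem x1893 : AuxS.{u} (cP4) s1893 0 a1893 := aux_base3 tw702 rfl b1893
theorem x1893_1 : AuxS.{u} (cP4) s1893 0 a1893_1 := x1893
theorem n1893 : Sound.{u} (cP4) s1893 0 :=
  (x1893_1.fr (AuxS.gam x1893_1 c1893_0) (AllS.cons n1925 (AllS.cons n1926 (AllS.cons n1927 (AllS.cons n1928 (AllS.cons n1929 (AllS.cons n1930 (AllS.cons n1931 (AllS.cons n1932 (AllS.cons n1933 (AllS.cons n1934 (AllS.cons n1935 (AllS.cons n1936 (AllS.cons n1937 (AllS.cons n1938 (AllS.cons n1939 (AllS.cons n1940 (AllS.cons n1941 (AllS.cons n1942 (AllS.cons n1943 (AllS.cons n1944 (AllS.cons n1945 (AllS.cons n1946 (AllS.cons n1947 (AllS.cons n1948 (AllS.cons n1949 (AllS.cons n1950 (AllS.cons n1951 (AllS.cons n1952 (AllS.cons n1953 (AllS.cons n1954 (AllS.cons n1955 (AllS.cons n1956 AllS.nil)))))))))))))))))))))))))))))))) c1893_1 :)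
theorem x1894 : AuxS.{u} (cP4) s1894 0 a1894 := aux_base3 tw703 rfl b1894
theorem x1894_1 : AuxS.{u} (cP4) s1894 0 a1894_1 := x1894
theorem n1894 : Sound.{u} (cP4) s1894 0 :=
  (x1894_1.fr GamS.nil AllS.nil c1894_0 :)
theorem x1895 : AuxS.{u} (cP4) s1895 0 a1895 := aux_base3 tw704 rfl b1895
theorem x1895_1 : AuxS.{u} (cP4) s1895 0 a1895_1 := x1895
theorem n1895 : Sound.{u} (cP4) s1895 0 :=
  (x1895_1.fr GamS.nil AllS.nil c1895_0 :)
theorem x1896 : AuxS.{u} (cP4) s1896 0 a1896 := aux_base3 tw705 rfl b1896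
theorem x1896_1 : AuxS.{u} (cP4) s1896 0 a1896_1 := x1896
theorem n1896 : Sound.{u} (cP4) s1896 0 :=
  (x1896_1.fr GamS.nil AllS.nil c1896_0 :)
theorem x1897 : AuxS.{u} (cP4) s1897 0 a1897 := aux_base3 tw706 rfl b1897
theorem n1897 : Sound.{u} (cP4) s1897 0 :=
  (x1897.k4 c1897_0 :)
theorem x1898 : AuxS.{u} (cP4) s1898 0 a1898 := aux_base3 tw707 rfl b1898
theorem n1898 : Sound.{u} (cP4) s1898 0 :=
  (x1898.k4 c1898_0 :)
theorem x1899 : AuxS.{u} (cP4) s1899 0 a1899 := aux_base3 tw708 rfl b1899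
theorem n1899 : Sound.{u} (cP4) s1899 0 :=
  (x1899.k4 c1899_0 :)
theorem x1900 : AuxS.{u} (cP4) s1900 0 a1900 := aux_base3 tw709 rfl b1900
theorem n1900 : Sound.{u} (cP4) s1900 0 :=
  (x1900.k4 c1900_0 :)
theorem x1901 : AuxS.{u} (cP4) s1901 0 a1901 := aux_base3 tw710 rfl b1901
theorem n1901 : Sound.{u} (cP4) s1901 0 :=
  (x1901.k4 c1901_0 :)
theorem x1902 : AuxS.{u} (cP4) s1902 0 a1902 := aux_base3 tw711 rfl b1902
theorem n1902 : Sound.{u} (cP4) s1902 0 :=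
  (x1902.k4 c1902_0 :)
theorem x1903 : AuxS.{u} (cP4) s1903 0 a1903 := aux_base3 tw712 rfl b1903
theorem n1903 : Sound.{u} (cP4) s1903 0 :=
  (x1903.k4 c1903_0 :)
theorem x1904 : AuxS.{u} (cP4) s1904 0 a1904 := aux_base3 tw713 rfl b1904
theorem n1904 : Sound.{u} (cP4) s1904 0 :=
  (x1904.k4 c1904_0 :)
theorem x1905 : AuxS.{u} (cP4) s1905 0 a1905 := aux_base3 tw714 rfl b1905
theorem n1905 : Sound.{u} (cP4) s1905 0 :=
  (x1905.k4 c1905_0 :)
theorem x1906 : AuxS.{u} (cP4) s1906 0 a1906 := aux_base3 tw715 rfl b1906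
theorem n1906 : Sound.{u} (cP4) s1906 0 :=
  (x1906.k4 c1906_0 :)
theorem x1907 : AuxS.{u} (cP4) s1907 0 a1907 := aux_base3 tw716 rfl b1907
theorem n1907 : Sound.{u} (cP4) s1907 0 :=
  (x1907.k4 c1907_0 :)
theorem x1908 : AuxS.{u} (cP4) s1908 0 a1908 := aux_base3 tw717 rfl b1908
theorem n1908 : Sound.{u} (cP4) s1908 0 :=
  (x1908.k4 c1908_0 :)
theorem x1958 : AuxS.{u} (cP4) s1958 0 a1958 := aux_base3 tw718 rfl b1958
theorem n1958 : Sound.{u} (cP4) s1958 0 :=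
  (x1958.k4 c1958_0 :)
theorem x1959 : AuxS.{u} (cP4) s1959 0 a1959 := aux_base3 tw718 rfl b1959
theorem n1959 : Sound.{u} (cP4) s1959 0 :=
  (x1959.k4 c1959_0 :)
theorem x1960 : AuxS.{u} (cP4) s1960 0 a1960 := aux_base3 tw718 rfl b1960
theorem n1960 : Sound.{u} (cP4) s1960 0 :=
  (x1960.k4 c1960_0 :)
theorem x1961 : AuxS.{u} (cP4) s1961 0 a1961 := aux_base3 tw718 rfl b1961
theorem n1961 : Sound.{u} (cP4) s1961 0 :=
  (x1961.k4 c1961_0 :)
theorem x1962 : AuxS.{u} (cP4) s1962 0 a1962 := aux_base3 tw718 rfl b1962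
theorem n1962 : Sound.{u} (cP4) s1962 0 :=
  (x1962.k4 c1962_0 :)
theorem x1963 : AuxS.{u} (cP4) s1963 0 a1963 := aux_base3 tw718 rfl b1963
theorem n1963 : Sound.{u} (cP4) s1963 0 :=
  (x1963.k4 c1963_0 :)
theorem x1964 : AuxS.{u} (cP4) s1964 0 a1964 := aux_base3 tw718 rfl b1964
theorem n1964 : Sound.{u} (cP4) s1964 0 :=
  (x1964.k4 c1964_0 :)
theorem x1965 : AuxS.{u} (cP4) s1965 0 a1965 := aux_base3 tw718 rfl b1965
theorem n1965 : Sound.{u} (cP4) s1965 0 :=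
  (x1965.k4 c1965_0 :)
theorem x1966 : AuxS.{u} (cP4) s1966 0 a1966 := aux_base3 tw718 rfl b1966
theorem n1966 : Sound.{u} (cP4) s1966 0 :=
  (x1966.k4 c1966_0 :)
theorem x1967 : AuxS.{u} (cP4) s1967 0 a1967 := aux_base3 tw718 rfl b1967
theorem n1967 : Sound.{u} (cP4) s1967 0 :=
  (x1967.k4 c1967_0 :)
theorem x1968 : AuxS.{u} (cP4) s1968 0 a1968 := aux_base3 tw718 rfl b1968
theorem n1968 : Sound.{u} (cP4) s1968 0 :=
  (x1968.k4 c1968_0 :)
theorem x1969 : AuxS.{u} (cP4) s1969 0 a1969 := aux_base3 tw718 rfl b1969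
theorem n1969 : Sound.{u} (cP4) s1969 0 :=
  (x1969.k4 c1969_0 :)
theorem x1970 : AuxS.{u} (cP4) s1970 0 a1970 := aux_base3 tw718 rfl b1970
theorem n1970 : Sound.{u} (cP4) s1970 0 :=
  (x1970.k4 c1970_0 :)
theorem x1971 : AuxS.{u} (cP4) s1971 0 a1971 := aux_base3 tw718 rfl b1971
theorem n1971 : Sound.{u} (cP4) s1971 0 :=
  (x1971.k4 c1971_0 :)
theorem x1972 : AuxS.{u} (cP4) s1972 0 a1972 := aux_base3 tw718 rfl b1972
theorem n1972 : Sound.{u} (cP4) s1972 0 :=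
  (x1972.k4 c1972_0 :)
theorem x1973 : AuxS.{u} (cP4) s1973 0 a1973 := aux_base3 tw718 rfl b1973
theorem n1973 : Sound.{u} (cP4) s1973 0 :=
  (x1973.k4 c1973_0 :)
theorem x1974 : AuxS.{u} (cP4) s1974 0 a1974 := aux_base3 tw718 rfl b1974
theorem n1974 : Sound.{u} (cP4) s1974 0 :=
  (x1974.k4 c1974_0 :)
theorem x1975 : AuxS.{u} (cP4) s1975 0 a1975 := aux_base3 tw718 rfl b1975
theorem n1975 : Sound.{u} (cP4) s1975 0 :=
  (x1975.k4 c1975_0 :)
theorem x1976 : AuxS.{u} (cP4) s1976 0 a1976 := aux_base3 tw718 rfl b1976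
theorem n1976 : Sound.{u} (cP4) s1976 0 :=
  (x1976.k4 c1976_0 :)
theorem x1977 : AuxS.{u} (cP4) s1977 0 a1977 := aux_base3 tw718 rfl b1977
theorem n1977 : Sound.{u} (cP4) s1977 0 :=
  (x1977.k4 c1977_0 :)
theorem x1978 : AuxS.{u} (cP4) s1978 0 a1978 := aux_base3 tw718 rfl b1978
theorem n1978 : Sound.{u} (cP4) s1978 0 :=
  (x1978.k4 c1978_0 :)
theorem x1979 : AuxS.{u} (cP4) s1979 0 a1979 := aux_base3 tw718 rfl b1979
theorem n1979 : Sound.{u} (cP4) s1979 0 :=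
  (x1979.k4 c1979_0 :)
theorem x1980 : AuxS.{u} (cP4) s1980 0 a1980 := aux_base3 tw718 rfl b1980
theorem n1980 : Sound.{u} (cP4) s1980 0 :=
  (x1980.k4 c1980_0 :)
theorem x1990 : AuxS.{u} (cP4) s1990 0 a1990 := aux_base3 tw718 rfl b1990
theorem x1990_1 : AuxS.{u} (cP4) s1990 0 a1990_1 := x1990
theorem n1990 : Sound.{u} (cP4) s1990 0 :=
  (x1990_1.jump c1990_0 c1990_1 n826 :)
theorem x1981 : AuxS.{u} (cP4) s1981 0 a1981 := aux_base3 tw718 rfl b1981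
theorem x1981_1 : AuxS.{u} (cP4) s1981 0 a1981_1 := x1981
theorem n1981 : Sound.{u} (cP4) s1981 0 :=
  (x1981_1.jump c1981_0 c1981_1 n1990 :)
theorem x1982 : AuxS.{u} (cP4) s1982 0 a1982 := aux_base3 tw718 rfl b1982
theorem n1982 : Sound.{u} (cP4) s1982 0 :=
  (x1982.k4 c1982_0 :)
theorem x1983 : AuxS.{u} (cP4) s1983 0 a1983 := aux_base3 tw718 rfl b1983
theorem n1983 : Sound.{u} (cP4) s1983 0 :=
  (x1983.k4 c1983_0 :)
theorem x1984 : AuxS.{u} (cP4) s1984 0 a1984 := aux_base3 tw718 rfl b1984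
theorem n1984 : Sound.{u} (cP4) s1984 0 :=
  (x1984.k4 c1984_0 :)
theorem x1985 : AuxS.{u} (cP4) s1985 0 a1985 := aux_base3 tw718 rfl b1985
theorem n1985 : Sound.{u} (cP4) s1985 0 :=
  (x1985.k4 c1985_0 :)
theorem x1986 : AuxS.{u} (cP4) s1986 0 a1986 := aux_base3 tw718 rfl b1986
theorem n1986 : Sound.{u} (cP4) s1986 0 :=
  (x1986.k4 c1986_0 :)
theorem x1987 : AuxS.{u} (cP4) s1987 0 a1987 := aux_base3 tw718 rfl b1987
theorem n1987 : Sound.{u} (cP4) s1987 0 :=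
  (x1987.k4 c1987_0 :)
theorem x1988 : AuxS.{u} (cP4) s1988 0 a1988 := aux_base3 tw718 rfl b1988
theorem n1988 : Sound.{u} (cP4) s1988 0 :=
  (x1988.k4 c1988_0 :)
theorem x1989 : AuxS.{u} (cP4) s1989 0 a1989 := aux_base3 tw718 rfl b1989
theorem n1989 : Sound.{u} (cP4) s1989 0 :=
  (x1989.k4 c1989_0 :)
theorem x1909 : AuxS.{u} (cP4) s1909 0 a1909 := aux_base3 tw718 rfl b1909
theorem x1909_1 : AuxS.{u} (cP4) s1909 0 a1909_1 := x1909
theorem n1909 : Sound.{u} (cP4) s1909 0 :=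
  (x1909_1.fr (AuxS.gam x1909_1 c1909_0) (AllS.cons n1958 (AllS.cons n1959 (AllS.cons n1960 (AllS.cons n1961 (AllS.cons n1962 (AllS.cons n1963 (AllS.cons n1964 (AllS.cons n1965 (AllS.cons n1966 (AllS.cons n1967 (AllS.cons n1968 (AllS.cons n1969 (AllS.cons n1970 (AllS.cons n1971 (AllS.cons n1972 (AllS.cons n1973 (AllS.cons n1974 (AllS.cons n1975 (AllS.cons n1976 (AllS.cons n1977 (AllS.cons n1978 (AllS.cons n1979 (AllS.cons n1980 (AllS.cons n1981 (AllS.cons n1982 (AllS.cons n1983 (AllS.cons n1984 (AllS.cons n1985 (AllS.cons n1986 (AllS.cons n1987 (AllS.cons n1988 (AllS.cons n1989 AllS.nil)))))))))))))))))))))))))))))))) c1909_1 :)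
theorem x1910 : AuxS.{u} (cP4) s1910 0 a1910 := aux_base3 tw719 rfl b1910
theorem x1910_1 : AuxS.{u} (cP4) s1910 0 a1910_1 := x1910
theorem n1910 : Sound.{u} (cP4) s1910 0 :=
  (x1910_1.fr GamS.nil AllS.nil c1910_0 :)
theorem x1911 : AuxS.{u} (cP4) s1911 0 a1911 := aux_base3 tw720 rfl b1911
theorem x1911_1 : AuxS.{u} (cP4) s1911 0 a1911_1 := x1911
theorem n1911 : Sound.{u} (cP4) s1911 0 :=
  (x1911_1.fr GamS.nil AllS.nil c1911_0 :)
theorem x1912 : AuxS.{u} (cP4) s1912 0 a1912 := aux_base3 tw721 rfl b1912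
theorem x1912_1 : AuxS.{u} (cP4) s1912 0 a1912_1 := x1912
theorem n1912 : Sound.{u} (cP4) s1912 0 :=
  (x1912_1.fr GamS.nil AllS.nil c1912_0 :)
theorem x1913 : AuxS.{u} (cP4) s1913 0 a1913 := aux_base3 tw722 rfl b1913
theorem n1913 : Sound.{u} (cP4) s1913 0 :=
  (x1913.k4 c1913_0 :)
theorem x1914 : AuxS.{u} (cP4) s1914 0 a1914 := aux_base3 tw723 rfl b1914
theorem n1914 : Sound.{u} (cP4) s1914 0 :=
  (x1914.k4 c1914_0 :)
theorem x1915 : AuxS.{u} (cP4) s1915 0 a1915 := aux_base3 tw724 rfl b1915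
theorem n1915 : Sound.{u} (cP4) s1915 0 :=
  (x1915.k4 c1915_0 :)
theorem x1916 : AuxS.{u} (cP4) s1916 0 a1916 := aux_base3 tw725 rfl b1916
theorem n1916 : Sound.{u} (cP4) s1916 0 :=
  (x1916.k4 c1916_0 :)
theorem x1917 : AuxS.{u} (cP4) s1917 0 a1917 := aux_base3 tw726 rfl b1917
theorem n1917 : Sound.{u} (cP4) s1917 0 :=
  (x1917.k4 c1917_0 :)
theorem x1918 : AuxS.{u} (cP4) s1918 0 a1918 := aux_base3 tw727 rfl b1918
theorem n1918 : Sound.{u} (cP4) s1918 0 :=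
  (x1918.k4 c1918_0 :)
theorem x1919 : AuxS.{u} (cP4) s1919 0 a1919 := aux_base3 tw728 rfl b1919
theorem n1919 : Sound.{u} (cP4) s1919 0 :=
  (x1919.k4 c1919_0 :)
theorem x1920 : AuxS.{u} (cP4) s1920 0 a1920 := aux_base3 tw729 rfl b1920
theorem n1920 : Sound.{u} (cP4) s1920 0 :=
  (x1920.k4 c1920_0 :)
theorem x1921 : AuxS.{u} (cP4) s1921 0 a1921 := aux_base3 tw730 rfl b1921
theorem n1921 : Sound.{u} (cP4) s1921 0 :=
  (x1921.k4 c1921_0 :)
theorem x1922 : AuxS.{u} (cP4) s1922 0 a1922 := aux_base3 tw731 rfl b1922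
theorem n1922 : Sound.{u} (cP4) s1922 0 :=
  (x1922.k4 c1922_0 :)
theorem x1923 : AuxS.{u} (cP4) s1923 0 a1923 := aux_base3 tw732 rfl b1923
theorem n1923 : Sound.{u} (cP4) s1923 0 :=
  (x1923.k4 c1923_0 :)
theorem x1924 : AuxS.{u} (cP4) s1924 0 a1924 := aux_base3 tw733 rfl b1924
theorem n1924 : Sound.{u} (cP4) s1924 0 :=
  (x1924.k4 c1924_0 :)
theorem x1892 : AuxS.{u} (cP4) s1892 0 a1892 := aux_base3 tw507 rfl b1892
theorem x1892_1 : AuxS.{u} (cP4) s1892 0 a1892_1 := (AuxS.up x1892 c1892_5 :)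
theorem p1892_0_1 : Phs s1892 a1892_1 [] [s1893, s1894, s1895, s1896, s1897, s1898, s1899, s1900, s1901, s1902, s1903, s1904, s1905, s1906, s1907, s1908, s1909, s1910, s1911, s1912, s1913, s1914, s1915, s1916, s1917, s1918, s1919, s1920, s1921, s1922, s1923, s1924] ct1892_0 v1892_0 5 w1892_0_1 := (Phs.fin c1892_0)
theorem p1892_0_3 : Phs s1892 a1892_1 [] [s1893, s1894, s1895, s1896, s1897, s1898, s1899, s1900, s1901, s1902, s1903, s1904, s1905, s1906, s1907, s1908, s1909, s1910, s1911, s1912, s1913, s1914, s1915, s1916, s1917, s1918, s1919, s1920, s1921, s1922, s1923, s1924] ct1892_0 v1892_0 4 w1892_0_3 := (Phs.stp c1892_1 p1892_0_1)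
theorem p1892_0_5 : Phs s1892 a1892_1 [] [s1893, s1894, s1895, s1896, s1897, s1898, s1899, s1900, s1901, s1902, s1903, s1904, s1905, s1906, s1907, s1908, s1909, s1910, s1911, s1912, s1913, s1914, s1915, s1916, s1917, s1918, s1919, s1920, s1921, s1922, s1923, s1924] ct1892_0 v1892_0 1 w1892_0_5 := (Phs.stp c1892_2 p1892_0_3)
theorem n1892 : Sound.{u} (cP4) s1892 0 :=
  (x1892_1.ext2 (fun h => absurd h (by decide)) GamS.nil (AllS.cons n1893 (AllS.cons n1894 (AllS.cons n1895 (AllS.cons n1896 (AllS.cons n1897 (AllS.cons n1898 (AllS.cons n1899 (AllS.cons n1900 (AllS.cons n1901 (AllS.cons n1902 (AllS.cons n1903 (AllS.cons n1904 (AllS.cons n1905 (AllS.cons n1906 (AllS.cons n1907 (AllS.cons n1908 (AllS.cons n1909 (AllS.cons n1910 (AllS.cons n1911 (AllS.cons n1912 (AllS.cons n1913 (AllS.cons n1914 (AllS.cons n1915 (AllS.cons n1916 (AllS.cons n1917 (AllS.cons n1918 (AllS.cons n1919 (AllS.cons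 n1920 (AllS.cons n1921 (AllS.cons n1922 (AllS.cons n1923 (AllS.cons n1924 AllS.nil)))))))))))))))))))))))))))))))) c1892_4 (Phs.stp c1892_3 p1892_0_5) (Phs.fin (ct := ct1892_0) rfl) :)
theorem x1872 : AuxS.{u} (cP4) s1872 0 a1872 := aux_base3 tw686 rfl b1872
theorem x1872_1 : AuxS.{u} (cP4) s1872 0 a1872_1 := x1872
theorem n1872 : Sound.{u} (cP4) s1872 0 :=
  (x1872_1.jump c1872_0 c1872_1 n1892 :)
theorem x1873 : AuxS.{u} (cP4) s1873 0 a1873 := aux_base3 tw686 rfl b1873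
theorem n1873 : Sound.{u} (cP4) s1873 0 :=
  (x1873.k4 c1873_0 :)
theorem x1874 : AuxS.{u} (cP4) s1874 0 a1874 := aux_base3 tw686 rfl b1874
theorem n1874 : Sound.{u} (cP4) s1874 0 :=
  (x1874.k4 c1874_0 :)
theorem x1875 : AuxS.{u} (cP4) s1875 0 a1875 := aux_base3 tw686 rfl b1875
theorem n1875 : Sound.{u} (cP4) s1875 0 :=
  (x1875.k4 c1875_0 :)
theorem x1876 : AuxS.{u} (cP4) s1876 0 a1876 := aux_base3 tw686 rfl b1876
theorem n1876 : Sound.{u} (cP4) s1876 0 :=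
  (x1876.k4 c1876_0 :)
theorem x1877 : AuxS.{u} (cP4) s1877 0 a1877 := aux_base3 tw686 rfl b1877
theorem n1877 : Sound.{u} (cP4) s1877 0 :=
  (x1877.k4 c1877_0 :)
theorem x1878 : AuxS.{u} (cP4) s1878 0 a1878 := aux_base3 tw686 rfl b1878
theorem n1878 : Sound.{u} (cP4) s1878 0 :=
  (x1878.k4 c1878_0 :)
theorem x1879 : AuxS.{u} (cP4) s1879 0 a1879 := aux_base3 tw686 rfl b1879
theorem n1879 : Sound.{u} (cP4) s1879 0 :=
  (x1879.k4 c1879_0 :)
theorem x1880 : AuxS.{u} (cP4) s1880 0 a1880 := aux_base3 tw686 rfl b1880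
theorem n1880 : Sound.{u} (cP4) s1880 0 :=
  (x1880.k4 c1880_0 :)
theorem x1881 : AuxS.{u} (cP4) s1881 0 a1881 := aux_base3 tw686 rfl b1881
theorem n1881 : Sound.{u} (cP4) s1881 0 :=
  (x1881.k4 c1881_0 :)
theorem x1882 : AuxS.{u} (cP4) s1882 0 a1882 := aux_base3 tw686 rfl b1882
theorem n1882 : Sound.{u} (cP4) s1882 0 :=
  (x1882.k4 c1882_0 :)
theorem x1883 : AuxS.{u} (cP4) s1883 0 a1883 := aux_base3 tw686 rfl b1883
theorem n1883 : Sound.{u} (cP4) s1883 0 :=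
  (x1883.k4 c1883_0 :)
theorem x1884 : AuxS.{u} (cP4) s1884 0 a1884 := aux_base3 tw686 rfl b1884
theorem n1884 : Sound.{u} (cP4) s1884 0 :=
  (x1884.k4 c1884_0 :)
theorem x1885 : AuxS.{u} (cP4) s1885 0 a1885 := aux_base3 tw686 rfl b1885
theorem n1885 : Sound.{u} (cP4) s1885 0 :=
  (x1885.k4 c1885_0 :)
theorem x1886 : AuxS.{u} (cP4) s1886 0 a1886 := aux_base3 tw686 rfl b1886
theorem n1886 : Sound.{u} (cP4) s1886 0 :=
  (x1886.k4 c1886_0 :)
theorem x1887 : AuxS.{u} (cP4) s1887 0 a1887 := aux_base3 tw686 rfl b1887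
theorem n1887 : Sound.{u} (cP4) s1887 0 :=
  (x1887.k4 c1887_0 :)
theorem x1888 : AuxS.{u} (cP4) s1888 0 a1888 := aux_base3 tw686 rfl b1888
theorem n1888 : Sound.{u} (cP4) s1888 0 :=
  (x1888.k4 c1888_0 :)
theorem x1889 : AuxS.{u} (cP4) s1889 0 a1889 := aux_base3 tw686 rfl b1889
theorem n1889 : Sound.{u} (cP4) s1889 0 :=
  (x1889.k4 c1889_0 :)
theorem x1890 : AuxS.{u} (cP4) s1890 0 a1890 := aux_base3 tw686 rfl b1890
theorem n1890 : Sound.{u} (cP4) s1890 0 :=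
  (x1890.k4 c1890_0 :)
theorem x1891 : AuxS.{u} (cP4) s1891 0 a1891 := aux_base3 tw686 rfl b1891
theorem n1891 : Sound.{u} (cP4) s1891 0 :=
  (x1891.k4 c1891_0 :)
theorem x1844 : AuxS.{u} (cP4) s1844 0 a1844 := aux_base3 tw686 rfl b1844
theorem x1844_1 : AuxS.{u} (cP4) s1844 0 a1844_1 := x1844
theorem n1844 : Sound.{u} (cP4) s1844 0 :=
  (x1844_1.fr (AuxS.gam x1844_1 c1844_0) (AllS.cons n1860 (AllS.cons n1861 (AllS.cons n1862 (AllS.cons n1863 (AllS.cons n1864 (AllS.cons n1865 (AllS.cons n1866 (AllS.cons n1867 (AllS.cons n1868 (AllS.cons n1869 (AllS.cons n1870 (AllS.cons n1871 (AllS.cons n1872 (AllS.cons n1873 (AllS.cons n1874 (AllS.cons n1875 (AllS.cons n1876 (AllS.cons n1877 (AllS.cons n1878 (AllS.cons n1879 (AllS.cons n1880 (AllS.cons n1881 (AllS.cons n1882 (AllS.cons n1883 (AllS.cons n1884 (AllS.cons n1885 (AllS.cons n1886 (AllS.cons n1887 (AllS.cons n1888 (AllS.cons n1889 (AllS.cons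 n1890 (AllS.cons n1891 AllS.nil)))))))))))))))))))))))))))))))) c1844_1 :)
theorem x1845 : AuxS.{u} (cP4) s1845 0 a1845 := aux_base3 tw687 rfl b1845
theorem x1845_1 : AuxS.{u} (cP4) s1845 0 a1845_1 := x1845
theorem n1845 : Sound.{u} (cP4) s1845 0 :=
  (x1845_1.fr GamS.nil AllS.nil c1845_0 :)
theorem x1846 : AuxS.{u} (cP4) s1846 0 a1846 := aux_base3 tw688 rfl b1846
theorem x1846_1 : AuxS.{u} (cP4) s1846 0 a1846_1 := x1846
theorem n1846 : Sound.{u} (cP4) s1846 0 :=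
  (x1846_1.fr GamS.nil AllS.nil c1846_0 :)
theorem x1847 : AuxS.{u} (cP4) s1847 0 a1847 := aux_base3 tw689 rfl b1847
theorem x1847_1 : AuxS.{u} (cP4) s1847 0 a1847_1 := x1847
theorem n1847 : Sound.{u} (cP4) s1847 0 :=
  (x1847_1.fr GamS.nil AllS.nil c1847_0 :)
theorem x1848 : AuxS.{u} (cP4) s1848 0 a1848 := aux_base3 tw690 rfl b1848
theorem x1848_1 : AuxS.{u} (cP4) s1848 0 a1848_1 := x1848
theorem x1848_2 : AuxS.{u} (cP4) s1848 0 a1848_2 := x1848_1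
theorem n1848 : Sound.{u} (cP4) s1848 0 :=
  (x1848_2.fr GamS.nil AllS.nil c1848_0 :)
theorem x1849 : AuxS.{u} (cP4) s1849 0 a1849 := aux_base3 tw691 rfl b1849
theorem x1849_1 : AuxS.{u} (cP4) s1849 0 a1849_1 := x1849
theorem n1849 : Sound.{u} (cP4) s1849 0 :=
  (x1849_1.fr GamS.nil AllS.nil c1849_0 :)
theorem x1850 : AuxS.{u} (cP4) s1850 0 a1850 := aux_base3 tw692 rfl b1850
theorem x1850_1 : AuxS.{u} (cP4) s1850 0 a1850_1 := x1850
theorem x1850_2 : AuxS.{u} (cP4) s1850 0 a1850_2 := x1850_1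
theorem n1850 : Sound.{u} (cP4) s1850 0 :=
  (x1850_2.fr GamS.nil AllS.nil c1850_0 :)
theorem x1851 : AuxS.{u} (cP4) s1851 0 a1851 := aux_base3 tw693 rfl b1851
theorem x1851_1 : AuxS.{u} (cP4) s1851 0 a1851_1 := x1851
theorem n1851 : Sound.{u} (cP4) s1851 0 :=
  (x1851_1.fr GamS.nil AllS.nil c1851_0 :)
theorem x1852 : AuxS.{u} (cP4) s1852 0 a1852 := aux_base3 tw694 rfl b1852
theorem x1852_1 : AuxS.{u} (cP4) s1852 0 a1852_1 := x1852
theorem n1852 : Sound.{u} (cP4) s1852 0 :=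
  (x1852_1.fr GamS.nil AllS.nil c1852_0 :)
theorem x1853 : AuxS.{u} (cP4) s1853 0 a1853 := aux_base3 tw695 rfl b1853
theorem x1853_1 : AuxS.{u} (cP4) s1853 0 a1853_1 := x1853
theorem n1853 : Sound.{u} (cP4) s1853 0 :=
  (x1853_1.fr GamS.nil AllS.nil c1853_0 :)
theorem x1854 : AuxS.{u} (cP4) s1854 0 a1854 := aux_base3 tw696 rfl b1854
theorem x1854_1 : AuxS.{u} (cP4) s1854 0 a1854_1 := x1854
theorem n1854 : Sound.{u} (cP4) s1854 0 :=
  (x1854_1.fr GamS.nil AllS.nil c1854_0 :)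
theorem x1855 : AuxS.{u} (cP4) s1855 0 a1855 := aux_base3 tw697 rfl b1855
theorem x1855_1 : AuxS.{u} (cP4) s1855 0 a1855_1 := x1855
theorem n1855 : Sound.{u} (cP4) s1855 0 :=
  (x1855_1.fr GamS.nil AllS.nil c1855_0 :)
theorem x1856 : AuxS.{u} (cP4) s1856 0 a1856 := aux_base3 tw698 rfl b1856
theorem x1856_1 : AuxS.{u} (cP4) s1856 0 a1856_1 := x1856
theorem x1856_2 : AuxS.{u} (cP4) s1856 0 a1856_2 := x1856_1
theorem n1856 : Sound.{u} (cP4) s1856 0 :=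
  (x1856_2.fr GamS.nil AllS.nil c1856_0 :)
theorem x1857 : AuxS.{u} (cP4) s1857 0 a1857 := aux_base3 tw699 rfl b1857
theorem x1857_1 : AuxS.{u} (cP4) s1857 0 a1857_1 := x1857
theorem n1857 : Sound.{u} (cP4) s1857 0 :=
  (x1857_1.fr GamS.nil AllS.nil c1857_0 :)
theorem x1858 : AuxS.{u} (cP4) s1858 0 a1858 := aux_base3 tw700 rfl b1858
theorem x1858_1 : AuxS.{u} (cP4) s1858 0 a1858_1 := x1858
theorem n1858 : Sound.{u} (cP4) s1858 0 :=
  (x1858_1.fr GamS.nil AllS.nil c1858_0 :)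
theorem x1859 : AuxS.{u} (cP4) s1859 0 a1859 := aux_base3 tw701 rfl b1859
theorem x1859_1 : AuxS.{u} (cP4) s1859 0 a1859_1 := x1859
theorem x1859_2 : AuxS.{u} (cP4) s1859 0 a1859_2 := x1859_1
theorem n1859 : Sound.{u} (cP4) s1859 0 :=
  (x1859_2.fr GamS.nil AllS.nil c1859_0 :)
theorem x1502 : AuxS.{u} (cP4) s1502 0 a1502 := aux_base3 tw507 rfl b1502
theorem x1502_1 : AuxS.{u} (cP4) s1502 0 a1502_1 := (AuxS.up x1502 c1502_7 :)
theorem p1502_0_1 : Phs s1502 a1502_1 (List.map Prod.fst g1502_0) [s1844, s1845, s1846, s1847, s1848, s1849, s1850, s1851, s1852, s1853, s1854, s1855, s1856, s1857, s1858, s1859] ct1502_0 v1502_0 5 w1502_0_1 := (Phs.fin c1502_1)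
theorem p1502_0_3 : Phs s1502 a1502_1 (List.map Prod.fst g1502_0) [s1844, s1845, s1846, s1847, s1848, s1849, s1850, s1851, s1852, s1853, s1854, s1855, s1856, s1857, s1858, s1859] ct1502_0 v1502_0 4 w1502_0_3 := (Phs.stp c1502_2 p1502_0_1)
theorem p1502_0_5 : Phs s1502 a1502_1 (List.map Prod.fst g1502_0) [s1844, s1845, s1846, s1847, s1848, s1849, s1850, s1851, s1852, s1853, s1854, s1855, s1856, s1857, s1858, s1859] ct1502_0 v1502_0 3 w1502_0_5 := (Phs.stp c1502_3 p1502_0_3)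
theorem p1502_0_7 : Phs s1502 a1502_1 (List.map Prod.fst g1502_0) [s1844, s1845, s1846, s1847, s1848, s1849, s1850, s1851, s1852, s1853, s1854, s1855, s1856, s1857, s1858, s1859] ct1502_0 v1502_0 1 w1502_0_7 := (Phs.stp c1502_4 p1502_0_5)
theorem n1502 : Sound.{u} (cP4) s1502 0 :=
  (x1502_1.ext2 (fun h => absurd h (by decide)) (AuxS.gam x1502_1 c1502_0) (AllS.cons n1844 (AllS.cons n1845 (AllS.cons n1846 (AllS.cons n1847 (AllS.cons n1848 (AllS.cons n1849 (AllS.cons n1850 (AllS.cons n1851 (AllS.cons n1852 (AllS.cons n1853 (AllS.cons n1854 (AllS.cons n1855 (AllS.cons n1856 (AllS.cons n1857 (AllS.cons n1858 (AllS.cons n1859 AllS.nil)))))))))))))))) c1502_6 (Phs.stp c1502_5 p1502_0_7) (Phs.fin (ct := ct1502_0) rfl) :)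
theorem x1503 : AuxS.{u} (cP4) s1503 0 a1503 := aux_base3 tw508 rfl b1503
theorem x1503_1 : AuxS.{u} (cP4) s1503 0 a1503_1 := (AuxS.up x1503 c1503_1 :)
theorem n1503 : Sound.{u} (cP4) s1503 0 :=
  (x1503_1.k7 c1503_0 :)
theorem x1504 : AuxS.{u} (cP4) s1504 0 a1504 := aux_base3 tw509 rfl b1504
theorem x1504_1 : AuxS.{u} (cP4) s1504 0 a1504_1 := (AuxS.up x1504 c1504_1 :)
theorem n1504 : Sound.{u} (cP4) s1504 0 :=
  (x1504_1.k7 c1504_0 :)
theorem x1505 : AuxS.{u} (cP4) s1505 0 a1505 := aux_base3 tw510 rfl b1505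
theorem x1505_1 : AuxS.{u} (cP4) s1505 0 a1505_1 := (AuxS.up x1505 c1505_1 :)
theorem n1505 : Sound.{u} (cP4) s1505 0 :=
  (x1505_1.k7 c1505_0 :)
theorem x1506 : AuxS.{u} (cP4) s1506 0 a1506 := aux_base3 tw511 rfl b1506
theorem x1506_1 : AuxS.{u} (cP4) s1506 0 a1506_1 := (AuxS.up x1506 c1506_1 :)
theorem n1506 : Sound.{u} (cP4) s1506 0 :=
  (x1506_1.k7 c1506_0 :)
theorem x1507 : AuxS.{u} (cP4) s1507 0 a1507 := aux_base3 tw512 rfl b1507
theorem x1507_1 : AuxS.{u} (cP4) s1507 0 a1507_1 := (AuxS.up x1507 c1507_1 :)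
theorem n1507 : Sound.{u} (cP4) s1507 0 :=
  (x1507_1.k7 c1507_0 :)
theorem x1508 : AuxS.{u} (cP4) s1508 0 a1508 := aux_base3 tw513 rfl b1508
theorem x1508_1 : AuxS.{u} (cP4) s1508 0 a1508_1 := (AuxS.up x1508 c1508_6 :)
theorem x1508_2 : AuxS.{u} (cP4) s1508 0 a1508_2 := x1508_1
theorem p1508_0_1 : Phs s1508 a1508_2 [] [] ct1508_0 v1508_0 5 w1508_0_1 := (Phs.fin c1508_0)
theorem p1508_0_3 : Phs s1508 a1508_2 [] [] ct1508_0 v1508_0 4 w1508_0_3 := (Phs.stp c1508_1 p1508_0_1)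
theorem p1508_0_5 : Phs s1508 a1508_2 [] [] ct1508_0 v1508_0 3 w1508_0_5 := (Phs.stp c1508_2 p1508_0_3)
theorem p1508_0_7 : Phs s1508 a1508_2 [] [] ct1508_0 v1508_0 1 w1508_0_7 := (Phs.stp c1508_3 p1508_0_5)
theorem n1508 : Sound.{u} (cP4) s1508 0 :=
  (x1508_2.ext2 (fun h => absurd h (by decide)) GamS.nil AllS.nil c1508_5 (Phs.stp c1508_4 p1508_0_7) (Phs.fin (ct := ct1508_0) rfl) :)
theorem x1509 : AuxS.{u} (cP4) s1509 0 a1509 := aux_base3 tw514 rfl b1509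
theorem x1509_1 : AuxS.{u} (cP4) s1509 0 a1509_1 := (AuxS.up x1509 c1509_1 :)
theorem n1509 : Sound.{u} (cP4) s1509 0 :=
  (x1509_1.k7 c1509_0 :)
theorem x1510 : AuxS.{u} (cP4) s1510 0 a1510 := aux_base3 tw515 rfl b1510
theorem x1510_1 : AuxS.{u} (cP4) s1510 0 a1510_1 := (AuxS.up x1510 c1510_1 :)
theorem n1510 : Sound.{u} (cP4) s1510 0 :=
  (x1510_1.k7 c1510_0 :)
theorem x1995 : AuxS.{u} (cP4) s1995 0 a1995 := aux_base3 tw735 rfl b1995
theorem x1995_1 : AuxS.{u} (cP4) s1995 0 a1995_1 := x1995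
theorem x1995_2 : AuxS.{u} (cP4) s1995 0 a1995_2 := x1995_1
theorem n1995 : Sound.{u} (cP4) s1995 0 :=
  (x1995_2.fr GamS.nil AllS.nil c1995_0 :)
theorem x1996 : AuxS.{u} (cP4) s1996 0 a1996 := aux_base3 tw736 rfl b1996
theorem x1996_1 : AuxS.{u} (cP4) s1996 0 a1996_1 := x1996
theorem n1996 : Sound.{u} (cP4) s1996 0 :=
  (x1996_1.fr GamS.nil AllS.nil c1996_0 :)
theorem x1997 : AuxS.{u} (cP4) s1997 0 a1997 := aux_base3 tw737 rfl b1997
theorem x1997_1 : AuxS.{u} (cP4) s1997 0 a1997_1 := (AuxS.up x1997 c1997_1 :)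
theorem x1997_2 : AuxS.{u} (cP4) s1997 0 a1997_2 := (AuxS.up2 x1997_1 c1997_2 :)
theorem n1997 : Sound.{u} (cP4) s1997 0 :=
  (x1997_2.fr GamS.nil AllS.nil c1997_0 :)
theorem x1998 : AuxS.{u} (cP4) s1998 0 a1998 := aux_base3 tw738 rfl b1998
theorem x1998_1 : AuxS.{u} (cP4) s1998 0 a1998_1 := x1998
theorem n1998 : Sound.{u} (cP4) s1998 0 :=
  (x1998_1.fr GamS.nil AllS.nil c1998_0 :)
theorem x1999 : AuxS.{u} (cP4) s1999 0 a1999 := aux_base3 tw739 rfl b1999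
theorem x1999_1 : AuxS.{u} (cP4) s1999 0 a1999_1 := (AuxS.up x1999 c1999_1 :)
theorem x1999_2 : AuxS.{u} (cP4) s1999 0 a1999_2 := (AuxS.up2 x1999_1 c1999_2 :)
theorem n1999 : Sound.{u} (cP4) s1999 0 :=
  (x1999_2.fr GamS.nil AllS.nil c1999_0 :)
theorem x2000 : AuxS.{u} (cP4) s2000 0 a2000 := aux_base3 tw740 rfl b2000
theorem x2000_1 : AuxS.{u} (cP4) s2000 0 a2000_1 := x2000
theorem n2000 : Sound.{u} (cP4) s2000 0 :=
  (x2000_1.fr GamS.nil AllS.nil c2000_0 :)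
theorem x2001 : AuxS.{u} (cP4) s2001 0 a2001 := aux_base3 tw741 rfl b2001
theorem x2001_1 : AuxS.{u} (cP4) s2001 0 a2001_1 := x2001
theorem n2001 : Sound.{u} (cP4) s2001 0 :=
  (x2001_1.fr GamS.nil AllS.nil c2001_0 :)
theorem x2002 : AuxS.{u} (cP4) s2002 0 a2002 := aux_base3 tw742 rfl b2002
theorem x2002_1 : AuxS.{u} (cP4) s2002 0 a2002_1 := x2002
theorem n2002 : Sound.{u} (cP4) s2002 0 :=
  (x2002_1.fr GamS.nil AllS.nil c2002_0 :)
theorem x2003 : AuxS.{u} (cP4) s2003 0 a2003 := aux_base3 tw743 rfl b2003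
theorem x2003_1 : AuxS.{u} (cP4) s2003 0 a2003_1 := x2003
theorem n2003 : Sound.{u} (cP4) s2003 0 :=
  (x2003_1.fr GamS.nil AllS.nil c2003_0 :)
theorem x2004 : AuxS.{u} (cP4) s2004 0 a2004 := aux_base3 tw744 rfl b2004
theorem x2004_1 : AuxS.{u} (cP4) s2004 0 a2004_1 := x2004
theorem n2004 : Sound.{u} (cP4) s2004 0 :=
  (x2004_1.fr GamS.nil AllS.nil c2004_0 :)
theorem x2005 : AuxS.{u} (cP4) s2005 0 a2005 := aux_base3 tw745 rfl b2005
theorem x2005_1 : AuxS.{u} (cP4) s2005 0 a2005_1 := x2005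
theorem n2005 : Sound.{u} (cP4) s2005 0 :=
  (x2005_1.fr GamS.nil AllS.nil c2005_0 :)
theorem x2011 : AuxS.{u} (cP4) s2011 0 a2011 := aux_base3 tw746 rfl b2011
theorem n2011 : Sound.{u} (cP4) s2011 0 :=
  (x2011.k4 c2011_0 :)
theorem x2012 : AuxS.{u} (cP4) s2012 0 a2012 := aux_base3 tw746 rfl b2012
theorem n2012 : Sound.{u} (cP4) s2012 0 :=
  (x2012.k4 c2012_0 :)
theorem x2013 : AuxS.{u} (cP4) s2013 0 a2013 := aux_base3 tw746 rfl b2013
theorem n2013 : Sound.{u} (cP4) s2013 0 :=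
  (x2013.k4 c2013_0 :)
theorem x2014 : AuxS.{u} (cP4) s2014 0 a2014 := aux_base3 tw746 rfl b2014
theorem n2014 : Sound.{u} (cP4) s2014 0 :=
  (x2014.k4 c2014_0 :)
theorem x2075 : AuxS.{u} (cP4) s2075 0 a2075 := aux_base3 tw751 rfl b2075
theorem n2075 : Sound.{u} (cP4) s2075 0 :=
  (x2075.k4 c2075_0 :)
theorem x2076 : AuxS.{u} (cP4) s2076 0 a2076 := aux_base3 tw752 rfl b2076
theorem n2076 : Sound.{u} (cP4) s2076 0 :=
  (x2076.k4 c2076_0 :)
theorem x2077 : AuxS.{u} (cP4) s2077 0 a2077 := aux_base3 tw753 rfl b2077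
theorem n2077 : Sound.{u} (cP4) s2077 0 :=
  (x2077.k4 c2077_0 :)
theorem x2078 : AuxS.{u} (cP4) s2078 0 a2078 := aux_base3 tw754 rfl b2078
theorem n2078 : Sound.{u} (cP4) s2078 0 :=
  (x2078.k4 c2078_0 :)
theorem x2079 : AuxS.{u} (cP4) s2079 0 a2079 := aux_base3 tw755 rfl b2079
theorem x2079_1 : AuxS.{u} (cP4) s2079 0 a2079_1 := (AuxS.up x2079 c2079_1 :)
theorem n2079 : Sound.{u} (cP4) s2079 0 :=
  (x2079_1.k7 c2079_0 :)
theorem x2080 : AuxS.{u} (cP4) s2080 0 a2080 := aux_base3 tw756 rfl b2080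
theorem x2080_1 : AuxS.{u} (cP4) s2080 0 a2080_1 := (AuxS.up x2080 c2080_1 :)
theorem n2080 : Sound.{u} (cP4) s2080 0 :=
  (x2080_1.k7 c2080_0 :)
theorem x2081 : AuxS.{u} (cP4) s2081 0 a2081 := aux_base3 tw757 rfl b2081
theorem x2081_1 : AuxS.{u} (cP4) s2081 0 a2081_1 := x2081
theorem n2081 : Sound.{u} (cP4) s2081 0 :=
  (x2081_1.fr2 GamS.nil AllS.nil c2081_0 :)
theorem x2082 : AuxS.{u} (cP4) s2082 0 a2082 := aux_base3 tw758 rfl b2082
theorem x2082_1 : AuxS.{u} (cP4) s2082 0 a2082_1 := x2082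
theorem n2082 : Sound.{u} (cP4) s2082 0 :=
  (x2082_1.fr2 GamS.nil AllS.nil c2082_0 :)
theorem x2091 : AuxS.{u} (cP4) s2091 0 a2091 := aux_base3 tw767 rfl b2091
theorem x2091_1 : AuxS.{u} (cP4) s2091 0 a2091_1 := x2091
theorem n2091 : Sound.{u} (cP4) s2091 0 :=
  (x2091_1.jump c2091_0 c2091_1 n1014 :)
theorem x2083 : AuxS.{u} (cP4) s2083 0 a2083 := aux_base3 tw759 rfl b2083
theorem x2083_1 : AuxS.{u} (cP4) s2083 0 a2083_1 := x2083
theorem x2083_2 : AuxS.{u} (cP4) s2083 0 a2083_2 := x2083_1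
theorem n2083 : Sound.{u} (cP4) s2083 0 :=
  (x2083_2.fr2 (AuxS.gam x2083_2 c2083_0) (AllS.cons n2091 AllS.nil) c2083_1 :)
theorem x2084 : AuxS.{u} (cP4) s2084 0 a2084 := aux_base3 tw760 rfl b2084
theorem x2084_1 : AuxS.{u} (cP4) s2084 0 a2084_1 := x2084
theorem n2084 : Sound.{u} (cP4) s2084 0 :=
  (x2084_1.fr2 GamS.nil AllS.nil c2084_0 :)
theorem x2085 : AuxS.{u} (cP4) s2085 0 a2085 := aux_base3 tw761 rfl b2085
theorem x2085_1 : AuxS.{u} (cP4) s2085 0 a2085_1 := (AuxS.up x2085 c2085_1 :)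
theorem n2085 : Sound.{u} (cP4) s2085 0 :=
  (x2085_1.k7 c2085_0 :)
theorem x2086 : AuxS.{u} (cP4) s2086 0 a2086 := aux_base3 tw762 rfl b2086
theorem x2086_1 : AuxS.{u} (cP4) s2086 0 a2086_1 := (AuxS.up x2086 c2086_1 :)
theorem n2086 : Sound.{u} (cP4) s2086 0 :=
  (x2086_1.k7 c2086_0 :)
theorem x2087 : AuxS.{u} (cP4) s2087 0 a2087 := aux_base3 tw763 rfl b2087
theorem n2087 : Sound.{u} (cP4) s2087 0 :=
  (x2087.k4 c2087_0 :)
theorem x2088 : AuxS.{u} (cP4) s2088 0 a2088 := aux_base3 tw764 rfl b2088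
theorem n2088 : Sound.{u} (cP4) s2088 0 :=
  (x2088.k4 c2088_0 :)
theorem x2089 : AuxS.{u} (cP4) s2089 0 a2089 := aux_base3 tw765 rfl b2089
theorem n2089 : Sound.{u} (cP4) s2089 0 :=
  (x2089.k4 c2089_0 :)
theorem x2090 : AuxS.{u} (cP4) s2090 0 a2090 := aux_base3 tw766 rfl b2090
theorem n2090 : Sound.{u} (cP4) s2090 0 :=
  (x2090.k4 c2090_0 :)
theorem x2015 : AuxS.{u} (cP4) s2015 0 a2015 := aux_base3 tw746 rfl b2015
theorem x2015_1 : AuxS.{u} (cP4) s2015 0 a2015_1 := x2015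
theorem n2015 : Sound.{u} (cP4) s2015 0 :=
  (x2015_1.fr2 GamS.nil (AllS.cons n2075 (AllS.cons n2076 (AllS.cons n2077 (AllS.cons n2078 (AllS.cons n2079 (AllS.cons n2080 (AllS.cons n2081 (AllS.cons n2082 (AllS.cons n2083 (AllS.cons n2084 (AllS.cons n2085 (AllS.cons n2086 (AllS.cons n2087 (AllS.cons n2088 (AllS.cons n2089 (AllS.cons n2090 AllS.nil)))))))))))))))) c2015_0 :)
theorem x2016 : AuxS.{u} (cP4) s2016 0 a2016 := aux_base3 tw746 rfl b2016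
theorem n2016 : Sound.{u} (cP4) s2016 0 :=
  (x2016.k4 c2016_0 :)
theorem x2017 : AuxS.{u} (cP4) s2017 0 a2017 := aux_base3 tw746 rfl b2017
theorem n2017 : Sound.{u} (cP4) s2017 0 :=
  (x2017.k4 c2017_0 :)
theorem x2018 : AuxS.{u} (cP4) s2018 0 a2018 := aux_base3 tw746 rfl b2018
theorem n2018 : Sound.{u} (cP4) s2018 0 :=
  (x2018.k4 c2018_0 :)
theorem x2019 : AuxS.{u} (cP4) s2019 0 a2019 := aux_base3 tw746 rfl b2019
theorem n2019 : Sound.{u} (cP4) s2019 0 :=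
  (x2019.k4 c2019_0 :)
theorem x2020 : AuxS.{u} (cP4) s2020 0 a2020 := aux_base3 tw746 rfl b2020
theorem n2020 : Sound.{u} (cP4) s2020 0 :=
  (x2020.k4 c2020_0 :)
theorem x2021 : AuxS.{u} (cP4) s2021 0 a2021 := aux_base3 tw746 rfl b2021
theorem n2021 : Sound.{u} (cP4) s2021 0 :=
  (x2021.k4 c2021_0 :)
theorem x2022 : AuxS.{u} (cP4) s2022 0 a2022 := aux_base3 tw746 rfl b2022
theorem n2022 : Sound.{u} (cP4) s2022 0 :=
  (x2022.k4 c2022_0 :)
theorem x2023 : AuxS.{u} (cP4) s2023 0 a2023 := aux_base3 tw746 rfl b2023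
theorem n2023 : Sound.{u} (cP4) s2023 0 :=
  (x2023.k4 c2023_0 :)
theorem x2024 : AuxS.{u} (cP4) s2024 0 a2024 := aux_base3 tw746 rfl b2024
theorem n2024 : Sound.{u} (cP4) s2024 0 :=
  (x2024.k4 c2024_0 :)
theorem x2025 : AuxS.{u} (cP4) s2025 0 a2025 := aux_base3 tw746 rfl b2025
theorem n2025 : Sound.{u} (cP4) s2025 0 :=
  (x2025.k4 c2025_0 :)
theorem x2026 : AuxS.{u} (cP4) s2026 0 a2026 := aux_base3 tw746 rfl b2026
theorem n2026 : Sound.{u} (cP4) s2026 0 :=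
  (x2026.k4 c2026_0 :)
theorem x2027 : AuxS.{u} (cP4) s2027 0 a2027 := aux_base3 tw746 rfl b2027
theorem n2027 : Sound.{u} (cP4) s2027 0 :=
  (x2027.k4 c2027_0 :)
theorem x2028 : AuxS.{u} (cP4) s2028 0 a2028 := aux_base3 tw746 rfl b2028
theorem n2028 : Sound.{u} (cP4) s2028 0 :=
  (x2028.k4 c2028_0 :)
theorem x2029 : AuxS.{u} (cP4) s2029 0 a2029 := aux_base3 tw746 rfl b2029
theorem n2029 : Sound.{u} (cP4) s2029 0 :=
  (x2029.k4 c2029_0 :)
theorem x2030 : AuxS.{u} (cP4) s2030 0 a2030 := aux_base3 tw746 rfl b2030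
theorem n2030 : Sound.{u} (cP4) s2030 0 :=
  (x2030.k4 c2030_0 :)
theorem x2031 : AuxS.{u} (cP4) s2031 0 a2031 := aux_base3 tw746 rfl b2031
theorem n2031 : Sound.{u} (cP4) s2031 0 :=
  (x2031.k4 c2031_0 :)
theorem x2032 : AuxS.{u} (cP4) s2032 0 a2032 := aux_base3 tw746 rfl b2032
theorem n2032 : Sound.{u} (cP4) s2032 0 :=
  (x2032.k4 c2032_0 :)
theorem x2033 : AuxS.{u} (cP4) s2033 0 a2033 := aux_base3 tw746 rfl b2033
theorem n2033 : Sound.{u} (cP4) s2033 0 :=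
  (x2033.k4 c2033_0 :)
theorem x2034 : AuxS.{u} (cP4) s2034 0 a2034 := aux_base3 tw746 rfl b2034
theorem n2034 : Sound.{u} (cP4) s2034 0 :=
  (x2034.k4 c2034_0 :)
theorem x2035 : AuxS.{u} (cP4) s2035 0 a2035 := aux_base3 tw746 rfl b2035
theorem n2035 : Sound.{u} (cP4) s2035 0 :=
  (x2035.k4 c2035_0 :)
theorem x2036 : AuxS.{u} (cP4) s2036 0 a2036 := aux_base3 tw746 rfl b2036
theorem n2036 : Sound.{u} (cP4) s2036 0 :=
  (x2036.k4 c2036_0 :)
theorem x2037 : AuxS.{u} (cP4) s2037 0 a2037 := aux_base3 tw746 rfl b2037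
theorem n2037 : Sound.{u} (cP4) s2037 0 :=
  (x2037.k4 c2037_0 :)
theorem x2038 : AuxS.{u} (cP4) s2038 0 a2038 := aux_base3 tw746 rfl b2038
theorem n2038 : Sound.{u} (cP4) s2038 0 :=
  (x2038.k4 c2038_0 :)
theorem x2039 : AuxS.{u} (cP4) s2039 0 a2039 := aux_base3 tw746 rfl b2039
theorem n2039 : Sound.{u} (cP4) s2039 0 :=
  (x2039.k4 c2039_0 :)
theorem x2040 : AuxS.{u} (cP4) s2040 0 a2040 := aux_base3 tw746 rfl b2040
theorem n2040 : Sound.{u} (cP4) s2040 0 :=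
  (x2040.k4 c2040_0 :)
theorem x2041 : AuxS.{u} (cP4) s2041 0 a2041 := aux_base3 tw746 rfl b2041
theorem n2041 : Sound.{u} (cP4) s2041 0 :=
  (x2041.k4 c2041_0 :)
theorem x2042 : AuxS.{u} (cP4) s2042 0 a2042 := aux_base3 tw746 rfl b2042
theorem n2042 : Sound.{u} (cP4) s2042 0 :=
  (x2042.k4 c2042_0 :)
theorem x2043 : AuxS.{u} (cP4) s2043 0 a2043 := aux_base3 tw746 rfl b2043
theorem n2043 : Sound.{u} (cP4) s2043 0 :=
  (x2043.k4 c2043_0 :)
theorem x2044 : AuxS.{u} (cP4) s2044 0 a2044 := aux_base3 tw746 rfl b2044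
theorem n2044 : Sound.{u} (cP4) s2044 0 :=
  (x2044.k4 c2044_0 :)
theorem x2045 : AuxS.{u} (cP4) s2045 0 a2045 := aux_base3 tw746 rfl b2045
theorem n2045 : Sound.{u} (cP4) s2045 0 :=
  (x2045.k4 c2045_0 :)
theorem x2046 : AuxS.{u} (cP4) s2046 0 a2046 := aux_base3 tw746 rfl b2046
theorem n2046 : Sound.{u} (cP4) s2046 0 :=
  (x2046.k4 c2046_0 :)
theorem x2047 : AuxS.{u} (cP4) s2047 0 a2047 := aux_base3 tw746 rfl b2047
theorem n2047 : Sound.{u} (cP4) s2047 0 :=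
  (x2047.k4 c2047_0 :)
theorem x2048 : AuxS.{u} (cP4) s2048 0 a2048 := aux_base3 tw746 rfl b2048
theorem n2048 : Sound.{u} (cP4) s2048 0 :=
  (x2048.k4 c2048_0 :)
theorem x2049 : AuxS.{u} (cP4) s2049 0 a2049 := aux_base3 tw746 rfl b2049
theorem n2049 : Sound.{u} (cP4) s2049 0 :=
  (x2049.k4 c2049_0 :)
theorem x2050 : AuxS.{u} (cP4) s2050 0 a2050 := aux_base3 tw746 rfl b2050
theorem n2050 : Sound.{u} (cP4) s2050 0 :=
  (x2050.k4 c2050_0 :)
theorem x2051 : AuxS.{u} (cP4) s2051 0 a2051 := aux_base3 tw746 rfl b2051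
theorem n2051 : Sound.{u} (cP4) s2051 0 :=
  (x2051.k4 c2051_0 :)
theorem x2052 : AuxS.{u} (cP4) s2052 0 a2052 := aux_base3 tw746 rfl b2052
theorem n2052 : Sound.{u} (cP4) s2052 0 :=
  (x2052.k4 c2052_0 :)
theorem x2053 : AuxS.{u} (cP4) s2053 0 a2053 := aux_base3 tw746 rfl b2053
theorem n2053 : Sound.{u} (cP4) s2053 0 :=
  (x2053.k4 c2053_0 :)
theorem x2054 : AuxS.{u} (cP4) s2054 0 a2054 := aux_base3 tw746 rfl b2054
theorem n2054 : Sound.{u} (cP4) s2054 0 :=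
  (x2054.k4 c2054_0 :)
theorem x2055 : AuxS.{u} (cP4) s2055 0 a2055 := aux_base3 tw746 rfl b2055
theorem n2055 : Sound.{u} (cP4) s2055 0 :=
  (x2055.k4 c2055_0 :)
theorem x2056 : AuxS.{u} (cP4) s2056 0 a2056 := aux_base3 tw746 rfl b2056
theorem n2056 : Sound.{u} (cP4) s2056 0 :=
  (x2056.k4 c2056_0 :)
theorem x2057 : AuxS.{u} (cP4) s2057 0 a2057 := aux_base3 tw746 rfl b2057
theorem n2057 : Sound.{u} (cP4) s2057 0 :=
  (x2057.k4 c2057_0 :)
theorem x2058 : AuxS.{u} (cP4) s2058 0 a2058 := aux_base3 tw746 rfl b2058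
theorem n2058 : Sound.{u} (cP4) s2058 0 :=
  (x2058.k4 c2058_0 :)
theorem x2059 : AuxS.{u} (cP4) s2059 0 a2059 := aux_base3 tw746 rfl b2059
theorem n2059 : Sound.{u} (cP4) s2059 0 :=
  (x2059.k4 c2059_0 :)
theorem x2060 : AuxS.{u} (cP4) s2060 0 a2060 := aux_base3 tw746 rfl b2060
theorem n2060 : Sound.{u} (cP4) s2060 0 :=
  (x2060.k4 c2060_0 :)
theorem x2061 : AuxS.{u} (cP4) s2061 0 a2061 := aux_base3 tw746 rfl b2061
theorem n2061 : Sound.{u} (cP4) s2061 0 :=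
  (x2061.k4 c2061_0 :)
theorem x2062 : AuxS.{u} (cP4) s2062 0 a2062 := aux_base3 tw746 rfl b2062
theorem n2062 : Sound.{u} (cP4) s2062 0 :=
  (x2062.k4 c2062_0 :)
theorem x2092 : AuxS.{u} (cP4) s2092 0 a2092 := aux_base3 tw768 rfl b2092
theorem x2092_1 : AuxS.{u} (cP4) s2092 0 a2092_1 := (AuxS.up x2092 c2092_1 :)
theorem n2092 : Sound.{u} (cP4) s2092 0 :=
  (x2092_1.k7 c2092_0 :)
theorem x2093 : AuxS.{u} (cP4) s2093 0 a2093 := aux_base3 tw769 rfl b2093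
theorem x2093_1 : AuxS.{u} (cP4) s2093 0 a2093_1 := (AuxS.up x2093 c2093_1 :)
theorem n2093 : Sound.{u} (cP4) s2093 0 :=
  (x2093_1.k7 c2093_0 :)
theorem x2108 : AuxS.{u} (cP4) s2108 0 a2108 := aux_base3 tw784 rfl b2108
theorem x2108_1 : AuxS.{u} (cP4) s2108 0 a2108_1 := x2108
theorem n2108 : Sound.{u} (cP4) s2108 0 :=
  (x2108_1.jump c2108_0 c2108_1 n953 :)
theorem x2094 : AuxS.{u} (cP4) s2094 0 a2094 := aux_base3 tw770 rfl b2094
theorem x2094_1 : AuxS.{u} (cP4) s2094 0 a2094_1 := x2094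
theorem n2094 : Sound.{u} (cP4) s2094 0 :=
  (x2094_1.fr2 (AuxS.gam x2094_1 c2094_0) (AllS.cons n2108 AllS.nil) c2094_1 :)
theorem x2095 : AuxS.{u} (cP4) s2095 0 a2095 := aux_base3 tw771 rfl b2095
theorem x2095_1 : AuxS.{u} (cP4) s2095 0 a2095_1 := x2095
theorem n2095 : Sound.{u} (cP4) s2095 0 :=
  (x2095_1.fr2 GamS.nil AllS.nil c2095_0 :)
theorem x2096 : AuxS.{u} (cP4) s2096 0 a2096 := aux_base3 tw772 rfl b2096
theorem n2096 : Sound.{u} (cP4) s2096 0 :=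
  (x2096.k4 c2096_0 :)
theorem x2097 : AuxS.{u} (cP4) s2097 0 a2097 := aux_base3 tw773 rfl b2097
theorem n2097 : Sound.{u} (cP4) s2097 0 :=
  (x2097.k4 c2097_0 :)
theorem x2098 : AuxS.{u} (cP4) s2098 0 a2098 := aux_base3 tw774 rfl b2098
theorem n2098 : Sound.{u} (cP4) s2098 0 :=
  (x2098.k4 c2098_0 :)
theorem x2099 : AuxS.{u} (cP4) s2099 0 a2099 := aux_base3 tw775 rfl b2099
theorem n2099 : Sound.{u} (cP4) s2099 0 :=
  (x2099.k4 c2099_0 :)
theorem x2100 : AuxS.{u} (cP4) s2100 0 a2100 := aux_base3 tw776 rfl b2100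
theorem n2100 : Sound.{u} (cP4) s2100 0 :=
  (x2100.k4 c2100_0 :)
theorem x2101 : AuxS.{u} (cP4) s2101 0 a2101 := aux_base3 tw777 rfl b2101
theorem n2101 : Sound.{u} (cP4) s2101 0 :=
  (x2101.k4 c2101_0 :)
theorem x2102 : AuxS.{u} (cP4) s2102 0 a2102 := aux_base3 tw778 rfl b2102
theorem n2102 : Sound.{u} (cP4) s2102 0 :=
  (x2102.k4 c2102_0 :)
theorem x2103 : AuxS.{u} (cP4) s2103 0 a2103 := aux_base3 tw779 rfl b2103
theorem n2103 : Sound.{u} (cP4) s2103 0 :=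
  (x2103.k4 c2103_0 :)
theorem x2104 : AuxS.{u} (cP4) s2104 0 a2104 := aux_base3 tw780 rfl b2104
theorem x2104_1 : AuxS.{u} (cP4) s2104 0 a2104_1 := x2104
theorem x2104_2 : AuxS.{u} (cP4) s2104 0 a2104_2 := x2104_1
theorem n2104 : Sound.{u} (cP4) s2104 0 :=
  (x2104_2.fr2 GamS.nil AllS.nil c2104_0 :)
theorem x2105 : AuxS.{u} (cP4) s2105 0 a2105 := aux_base3 tw781 rfl b2105
theorem x2105_1 : AuxS.{u} (cP4) s2105 0 a2105_1 := x2105
theorem n2105 : Sound.{u} (cP4) s2105 0 :=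
  (x2105_1.fr2 GamS.nil AllS.nil c2105_0 :)
theorem x2106 : AuxS.{u} (cP4) s2106 0 a2106 := aux_base3 tw782 rfl b2106
theorem x2106_1 : AuxS.{u} (cP4) s2106 0 a2106_1 := (AuxS.up x2106 c2106_1 :)
theorem n2106 : Sound.{u} (cP4) s2106 0 :=
  (x2106_1.k7 c2106_0 :)
theorem x2107 : AuxS.{u} (cP4) s2107 0 a2107 := aux_base3 tw783 rfl b2107
theorem x2107_1 : AuxS.{u} (cP4) s2107 0 a2107_1 := (AuxS.up x2107 c2107_1 :)
theorem n2107 : Sound.{u} (cP4) s2107 0 :=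
  (x2107_1.k7 c2107_0 :)
theorem x2063 : AuxS.{u} (cP4) s2063 0 a2063 := aux_base3 tw746 rfl b2063
theorem x2063_1 : AuxS.{u} (cP4) s2063 0 a2063_1 := x2063
theorem n2063 : Sound.{u} (cP4) s2063 0 :=
  (x2063_1.fr2 GamS.nil (AllS.cons n2092 (AllS.cons n2093 (AllS.cons n2094 (AllS.cons n2095 (AllS.cons n2096 (AllS.cons n2097 (AllS.cons n2098 (AllS.cons n2099 (AllS.cons n2100 (AllS.cons n2101 (AllS.cons n2102 (AllS.cons n2103 (AllS.cons n2104 (AllS.cons n2105 (AllS.cons n2106 (AllS.cons n2107 AllS.nil)))))))))))))))) c2063_0 :)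
theorem x2064 : AuxS.{u} (cP4) s2064 0 a2064 := aux_base3 tw746 rfl b2064
theorem n2064 : Sound.{u} (cP4) s2064 0 :=
  (x2064.k4 c2064_0 :)
theorem x2065 : AuxS.{u} (cP4) s2065 0 a2065 := aux_base3 tw746 rfl b2065
theorem n2065 : Sound.{u} (cP4) s2065 0 :=
  (x2065.k4 c2065_0 :)
theorem x2066 : AuxS.{u} (cP4) s2066 0 a2066 := aux_base3 tw746 rfl b2066
theorem n2066 : Sound.{u} (cP4) s2066 0 :=
  (x2066.k4 c2066_0 :)
theorem x2067 : AuxS.{u} (cP4) s2067 0 a2067 := aux_base3 tw746 rfl b2067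
theorem n2067 : Sound.{u} (cP4) s2067 0 :=
  (x2067.k4 c2067_0 :)
theorem x2068 : AuxS.{u} (cP4) s2068 0 a2068 := aux_base3 tw746 rfl b2068
theorem n2068 : Sound.{u} (cP4) s2068 0 :=
  (x2068.k4 c2068_0 :)
theorem x2069 : AuxS.{u} (cP4) s2069 0 a2069 := aux_base3 tw746 rfl b2069
theorem n2069 : Sound.{u} (cP4) s2069 0 :=
  (x2069.k4 c2069_0 :)
theorem x2070 : AuxS.{u} (cP4) s2070 0 a2070 := aux_base3 tw746 rfl b2070
theorem n2070 : Sound.{u} (cP4) s2070 0 :=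
  (x2070.k4 c2070_0 :)
theorem x2071 : AuxS.{u} (cP4) s2071 0 a2071 := aux_base3 tw746 rfl b2071
theorem n2071 : Sound.{u} (cP4) s2071 0 :=
  (x2071.k4 c2071_0 :)
theorem x2072 : AuxS.{u} (cP4) s2072 0 a2072 := aux_base3 tw746 rfl b2072
theorem n2072 : Sound.{u} (cP4) s2072 0 :=
  (x2072.k4 c2072_0 :)
theorem x2073 : AuxS.{u} (cP4) s2073 0 a2073 := aux_base3 tw746 rfl b2073
theorem n2073 : Sound.{u} (cP4) s2073 0 :=
  (x2073.k4 c2073_0 :)
theorem x2074 : AuxS.{u} (cP4) s2074 0 a2074 := aux_base3 tw746 rfl b2074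
theorem n2074 : Sound.{u} (cP4) s2074 0 :=
  (x2074.k4 c2074_0 :)
theorem x2006 : AuxS.{u} (cP4) s2006 0 a2006 := aux_base3 tw746 rfl b2006
theorem x2006_1 : AuxS.{u} (cP4) s2006 0 a2006_1 := x2006
theorem n2006 : Sound.{u} (cP4) s2006 0 :=
  (x2006_1.fr (AuxS.gam x2006_1 c2006_0) (AllS.cons n2011 (AllS.cons n2012 (AllS.cons n2013 (AllS.cons n2014 (AllS.cons n2015 (AllS.cons n2016 (AllS.cons n2017 (AllS.cons n2018 (AllS.cons n2019 (AllS.cons n2020 (AllS.cons n2021 (AllS.cons n2022 (AllS.cons n2023 (AllS.cons n2024 (AllS.cons n2025 (AllS.cons n2026 (AllS.cons n2027 (AllS.cons n2028 (AllS.cons n2029 (AllS.cons n2030 (AllS.cons n2031 (AllS.cons n2032 (AllS.cons n2033 (AllS.cons n2034 (AllS.cons n2035 (AllS.cons n2036 (AllS.cons n2037 (AllS.cons n2038 (AllS.cons n2039 (AllS.cons n2040 (AllS.cons n2041 (AllS.cons n2042 (AllS.cons n2043 (AllS.cons n2044 (AllS.cons n2045 (AllS.cons n2046 (AllS.cons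 n2047 (AllS.cons n2048 (AllS.cons n2049 (AllS.cons n2050 (AllS.cons n2051 (AllS.cons n2052 (AllS.cons n2053 (AllS.cons n2054 (AllS.cons n2055 (AllS.cons n2056 (AllS.cons n2057 (AllS.cons n2058 (AllS.cons n2059 (AllS.cons n2060 (AllS.cons n2061 (AllS.cons n2062 (AllS.cons n2063 (AllS.cons n2064 (AllS.cons n2065 (AllS.cons n2066 (AllS.cons n2067 (AllS.cons n2068 (AllS.cons n2069 (AllS.cons n2070 (AllS.cons n2071 (AllS.cons n2072 (AllS.cons n2073 (AllS.cons n2074 AllS.nil)))))))))))))))))))))))))))))))))))))))))))))))))))))))))))))))) c2006_1 :)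
theorem x2007 : AuxS.{u} (cP4) s2007 0 a2007 := aux_base3 tw747 rfl b2007
theorem x2007_1 : AuxS.{u} (cP4) s2007 0 a2007_1 := x2007
theorem n2007 : Sound.{u} (cP4) s2007 0 :=
  (x2007_1.fr GamS.nil AllS.nil c2007_0 :)
theorem x2008 : AuxS.{u} (cP4) s2008 0 a2008 := aux_base3 tw748 rfl b2008
theorem x2008_1 : AuxS.{u} (cP4) s2008 0 a2008_1 := x2008
theorem n2008 : Sound.{u} (cP4) s2008 0 :=
  (x2008_1.fr GamS.nil AllS.nil c2008_0 :)
theorem x2009 : AuxS.{u} (cP4) s2009 0 a2009 := aux_base3 tw749 rfl b2009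
theorem x2009_1 : AuxS.{u} (cP4) s2009 0 a2009_1 := x2009
theorem n2009 : Sound.{u} (cP4) s2009 0 :=
  (x2009_1.fr GamS.nil AllS.nil c2009_0 :)
theorem x2010 : AuxS.{u} (cP4) s2010 0 a2010 := aux_base3 tw750 rfl b2010
theorem x2010_1 : AuxS.{u} (cP4) s2010 0 a2010_1 := x2010
theorem n2010 : Sound.{u} (cP4) s2010 0 :=
  (x2010_1.fr GamS.nil AllS.nil c2010_0 :)
theorem x1994 : AuxS.{u} (cP4) s1994 0 a1994 := aux_base3 tw516 rfl b1994
theorem x1994_1 : AuxS.{u} (cP4) s1994 0 a1994_1 := (AuxS.up x1994 c1994_6 :)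
theorem x1994_2 : AuxS.{u} (cP4) s1994 0 a1994_2 := x1994_1
theorem p1994_0_1 : Phs s1994 a1994_2 (List.map Prod.fst g1994_0) [s1995, s1996, s1997, s1998, s1999, s2000, s2001, s2002, s2003, s2004, s2005, s2006, s2007, s2008, s2009, s2010] ct1994_0 v1994_0 5 w1994_0_1 := (Phs.fin c1994_1)
theorem p1994_0_3 : Phs s1994 a1994_2 (List.map Prod.fst g1994_0) [s1995, s1996, s1997, s1998, s1999, s2000, s2001, s2002, s2003, s2004, s2005, s2006, s2007, s2008, s2009, s2010] ct1994_0 v1994_0 4 w1994_0_3 := (Phs.stp c1994_2 p1994_0_1)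
theorem p1994_0_5 : Phs s1994 a1994_2 (List.map Prod.fst g1994_0) [s1995, s1996, s1997, s1998, s1999, s2000, s2001, s2002, s2003, s2004, s2005, s2006, s2007, s2008, s2009, s2010] ct1994_0 v1994_0 1 w1994_0_5 := (Phs.stp c1994_3 p1994_0_3)
theorem n1994 : Sound.{u} (cP4) s1994 0 :=
  (x1994_2.ext2 (fun h => absurd h (by decide)) (AuxS.gam x1994_2 c1994_0) (AllS.cons n1995 (AllS.cons n1996 (AllS.cons n1997 (AllS.cons n1998 (AllS.cons n1999 (AllS.cons n2000 (AllS.cons n2001 (AllS.cons n2002 (AllS.cons n2003 (AllS.cons n2004 (AllS.cons n2005 (AllS.cons n2006 (AllS.cons n2007 (AllS.cons n2008 (AllS.cons n2009 (AllS.cons n2010 AllS.nil)))))))))))))))) c1994_5 (Phs.stp c1994_4 p1994_0_5) (Phs.fin (ct := ct1994_0) rfl) :)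
theorem x1992 : AuxS.{u} (cP4) s1992 0 a1992 := aux_base3 tw734 rfl b1992
theorem x1992_1 : AuxS.{u} (cP4) s1992 0 a1992_1 := x1992
theorem x1992_2 : AuxS.{u} (cP4) s1992 0 a1992_2 := x1992_1
theorem n1992 : Sound.{u} (cP4) s1992 0 :=
  (x1992_2.jump c1992_0 c1992_1 n1994 :)
theorem x1993 : AuxS.{u} (cP4) s1993 0 a1993 := aux_base3 tw734 rfl b1993
theorem n1993 : Sound.{u} (cP4) s1993 0 :=
  (x1993.k4 c1993_0 :)
theorem x1991 : AuxS.{u} (cP4) s1991 0 a1991 := aux_base3 tw734 rfl b1991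
theorem x1991_1 : AuxS.{u} (cP4) s1991 0 a1991_1 := x1991
theorem x1991_2 : AuxS.{u} (cP4) s1991 0 a1991_2 := x1991_1
theorem n1991 : Sound.{u} (cP4) s1991 0 :=
  (x1991_2.fr GamS.nil (AllS.cons n1992 (AllS.cons n1993 AllS.nil)) c1991_0 :)
theorem x1511 : AuxS.{u} (cP4) s1511 0 a1511 := aux_base3 tw516 rfl b1511
theorem x1511_1 : AuxS.{u} (cP4) s1511 0 a1511_1 := (AuxS.up x1511 c1511_7 :)
theorem x1511_2 : AuxS.{u} (cP4) s1511 0 a1511_2 := x1511_1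
theorem p1511_0_1 : Phs s1511 a1511_2 (List.map Prod.fst g1511_0) [s1991] ct1511_0 v1511_0 5 w1511_0_1 := (Phs.fin c1511_1)
theorem p1511_0_3 : Phs s1511 a1511_2 (List.map Prod.fst g1511_0) [s1991] ct1511_0 v1511_0 4 w1511_0_3 := (Phs.stp c1511_2 p1511_0_1)
theorem p1511_0_5 : Phs s1511 a1511_2 (List.map Prod.fst g1511_0) [s1991] ct1511_0 v1511_0 3 w1511_0_5 := (Phs.stp c1511_3 p1511_0_3)
theorem p1511_0_7 : Phs s1511 a1511_2 (List.map Prod.fst g1511_0) [s1991] ct1511_0 v1511_0 1 w1511_0_7 := (Phs.stp c1511_4 p1511_0_5)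
theorem n1511 : Sound.{u} (cP4) s1511 0 :=
  (x1511_2.ext2 (fun h => absurd h (by decide)) (AuxS.gam x1511_2 c1511_0) (AllS.cons n1991 AllS.nil) c1511_6 (Phs.stp c1511_5 p1511_0_7) (Phs.fin (ct := ct1511_0) rfl) :)
theorem x1512 : AuxS.{u} (cP4) s1512 0 a1512 := aux_base3 tw517 rfl b1512
theorem x1512_1 : AuxS.{u} (cP4) s1512 0 a1512_1 := (AuxS.up x1512 c1512_1 :)
theorem n1512 : Sound.{u} (cP4) s1512 0 :=
  (x1512_1.k7 c1512_0 :)
theorem x17 : AuxS.{u} (cP4) s17 0 a17 := aux_base3 tw17 rfl b17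
theorem x17_1 : AuxS.{u} (cP4) s17 0 a17_1 := (AuxS.up x17 c17_4 :)
theorem p17_0_1 : Phs s17 a17_1 [] [s1497, s1498, s1499, s1500, s1501, s1502, s1503, s1504, s1505, s1506, s1507, s1508, s1509, s1510, s1511, s1512] ct17_0 v17_0 4 w17_0_1 := (Phs.fin c17_0)
theorem p17_0_3 : Phs s17 a17_1 [] [s1497, s1498, s1499, s1500, s1501, s1502, s1503, s1504, s1505, s1506, s1507, s1508, s1509, s1510, s1511, s1512] ct17_0 v17_0 1 w17_0_3 := (Phs.stp c17_1 p17_0_1)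
theorem n17 : Sound.{u} (cP4) s17 0 :=
  (x17_1.ext2 (fun h => absurd h (by decide)) GamS.nil (AllS.cons n1497 (AllS.cons n1498 (AllS.cons n1499 (AllS.cons n1500 (AllS.cons n1501 (AllS.cons n1502 (AllS.cons n1503 (AllS.cons n1504 (AllS.cons n1505 (AllS.cons n1506 (AllS.cons n1507 (AllS.cons n1508 (AllS.cons n1509 (AllS.cons n1510 (AllS.cons n1511 (AllS.cons n1512 AllS.nil)))))))))))))))) c17_3 (Phs.stp c17_2 p17_0_3) (Phs.fin (ct := ct17_0) rfl) :)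
theorem x2125 : AuxS.{u} (cP4) s2125 0 a2125 := aux_base3 tw801 rfl b2125
theorem x2125_1 : AuxS.{u} (cP4) s2125 0 a2125_1 := x2125
theorem x2125_2 : AuxS.{u} (cP4) s2125 0 a2125_2 := x2125_1
theorem n2125 : Sound.{u} (cP4) s2125 0 :=
  (x2125_2.fr GamS.nil AllS.nil c2125_0 :)
theorem x2126 : AuxS.{u} (cP4) s2126 0 a2126 := aux_base3 tw802 rfl b2126
theorem x2126_1 : AuxS.{u} (cP4) s2126 0 a2126_1 := x2126
theorem x2126_2 : AuxS.{u} (cP4) s2126 0 a2126_2 := x2126_1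
theorem n2126 : Sound.{u} (cP4) s2126 0 :=
  (x2126_2.fr GamS.nil AllS.nil c2126_0 :)
theorem x2127 : AuxS.{u} (cP4) s2127 0 a2127 := aux_base3 tw803 rfl b2127
theorem x2127_1 : AuxS.{u} (cP4) s2127 0 a2127_1 := x2127
theorem x2127_2 : AuxS.{u} (cP4) s2127 0 a2127_2 := x2127_1
theorem n2127 : Sound.{u} (cP4) s2127 0 :=
  (x2127_2.fr GamS.nil AllS.nil c2127_0 :)
theorem x2128 : AuxS.{u} (cP4) s2128 0 a2128 := aux_base3 tw804 rfl b2128
theorem x2128_1 : AuxS.{u} (cP4) s2128 0 a2128_1 := x2128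
theorem x2128_2 : AuxS.{u} (cP4) s2128 0 a2128_2 := x2128_1
theorem n2128 : Sound.{u} (cP4) s2128 0 :=
  (x2128_2.fr GamS.nil AllS.nil c2128_0 :)
theorem x2129 : AuxS.{u} (cP4) s2129 0 a2129 := aux_base3 tw805 rfl b2129
theorem x2129_1 : AuxS.{u} (cP4) s2129 0 a2129_1 := x2129
theorem x2129_2 : AuxS.{u} (cP4) s2129 0 a2129_2 := x2129_1
theorem n2129 : Sound.{u} (cP4) s2129 0 :=
  (x2129_2.fr GamS.nil AllS.nil c2129_0 :)
theorem x2130 : AuxS.{u} (cP4) s2130 0 a2130 := aux_base3 tw806 rfl b2130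
theorem x2130_1 : AuxS.{u} (cP4) s2130 0 a2130_1 := x2130
theorem x2130_2 : AuxS.{u} (cP4) s2130 0 a2130_2 := x2130_1
theorem n2130 : Sound.{u} (cP4) s2130 0 :=
  (x2130_2.fr GamS.nil AllS.nil c2130_0 :)
theorem x2131 : AuxS.{u} (cP4) s2131 0 a2131 := aux_base3 tw807 rfl b2131
theorem x2131_1 : AuxS.{u} (cP4) s2131 0 a2131_1 := x2131
theorem x2131_2 : AuxS.{u} (cP4) s2131 0 a2131_2 := x2131_1
theorem n2131 : Sound.{u} (cP4) s2131 0 :=
  (x2131_2.fr GamS.nil AllS.nil c2131_0 :)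
theorem x2132 : AuxS.{u} (cP4) s2132 0 a2132 := aux_base3 tw808 rfl b2132
theorem x2132_1 : AuxS.{u} (cP4) s2132 0 a2132_1 := x2132
theorem x2132_2 : AuxS.{u} (cP4) s2132 0 a2132_2 := x2132_1
theorem n2132 : Sound.{u} (cP4) s2132 0 :=
  (x2132_2.fr GamS.nil AllS.nil c2132_0 :)
theorem x2133 : AuxS.{u} (cP4) s2133 0 a2133 := aux_base3 tw809 rfl b2133
theorem x2133_1 : AuxS.{u} (cP4) s2133 0 a2133_1 := x2133
theorem x2133_2 : AuxS.{u} (cP4) s2133 0 a2133_2 := x2133_1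
theorem n2133 : Sound.{u} (cP4) s2133 0 :=
  (x2133_2.fr GamS.nil AllS.nil c2133_0 :)
theorem x2134 : AuxS.{u} (cP4) s2134 0 a2134 := aux_base3 tw810 rfl b2134
theorem x2134_1 : AuxS.{u} (cP4) s2134 0 a2134_1 := x2134
theorem x2134_2 : AuxS.{u} (cP4) s2134 0 a2134_2 := x2134_1
theorem n2134 : Sound.{u} (cP4) s2134 0 :=
  (x2134_2.fr GamS.nil AllS.nil c2134_0 :)
theorem x2135 : AuxS.{u} (cP4) s2135 0 a2135 := aux_base3 tw811 rfl b2135
theorem x2135_1 : AuxS.{u} (cP4) s2135 0 a2135_1 := x2135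
theorem x2135_2 : AuxS.{u} (cP4) s2135 0 a2135_2 := x2135_1
theorem n2135 : Sound.{u} (cP4) s2135 0 :=
  (x2135_2.fr GamS.nil AllS.nil c2135_0 :)
theorem x2136 : AuxS.{u} (cP4) s2136 0 a2136 := aux_base3 tw812 rfl b2136
theorem x2136_1 : AuxS.{u} (cP4) s2136 0 a2136_1 := x2136
theorem x2136_2 : AuxS.{u} (cP4) s2136 0 a2136_2 := x2136_1
theorem n2136 : Sound.{u} (cP4) s2136 0 :=
  (x2136_2.fr GamS.nil AllS.nil c2136_0 :)
theorem x2137 : AuxS.{u} (cP4) s2137 0 a2137 := aux_base3 tw813 rfl b2137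
theorem x2137_1 : AuxS.{u} (cP4) s2137 0 a2137_1 := x2137
theorem x2137_2 : AuxS.{u} (cP4) s2137 0 a2137_2 := x2137_1
theorem n2137 : Sound.{u} (cP4) s2137 0 :=
  (x2137_2.fr GamS.nil AllS.nil c2137_0 :)
theorem x2138 : AuxS.{u} (cP4) s2138 0 a2138 := aux_base3 tw814 rfl b2138
theorem x2138_1 : AuxS.{u} (cP4) s2138 0 a2138_1 := x2138
theorem x2138_2 : AuxS.{u} (cP4) s2138 0 a2138_2 := x2138_1
theorem n2138 : Sound.{u} (cP4) s2138 0 :=
  (x2138_2.fr GamS.nil AllS.nil c2138_0 :)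
theorem x2139 : AuxS.{u} (cP4) s2139 0 a2139 := aux_base3 tw815 rfl b2139
theorem x2139_1 : AuxS.{u} (cP4) s2139 0 a2139_1 := x2139
theorem x2139_2 : AuxS.{u} (cP4) s2139 0 a2139_2 := x2139_1
theorem n2139 : Sound.{u} (cP4) s2139 0 :=
  (x2139_2.fr GamS.nil AllS.nil c2139_0 :)
theorem x2140 : AuxS.{u} (cP4) s2140 0 a2140 := aux_base3 tw816 rfl b2140
theorem x2140_1 : AuxS.{u} (cP4) s2140 0 a2140_1 := x2140
theorem x2140_2 : AuxS.{u} (cP4) s2140 0 a2140_2 := x2140_1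
theorem n2140 : Sound.{u} (cP4) s2140 0 :=
  (x2140_2.fr GamS.nil AllS.nil c2140_0 :)
theorem x2109 : AuxS.{u} (cP4) s2109 0 a2109 := aux_base3 tw785 rfl b2109
theorem x2109_1 : AuxS.{u} (cP4) s2109 0 a2109_1 := (AuxS.up x2109 c2109_7 :)
theorem x2109_2 : AuxS.{u} (cP4) s2109 0 a2109_2 := x2109_1
theorem p2109_0_1 : Phs s2109 a2109_2 (List.map Prod.fst g2109_0) [s2125, s2126, s2127, s2128, s2129, s2130, s2131, s2132, s2133, s2134, s2135, s2136, s2137, s2138, s2139, s2140] ct2109_0 v2109_0 5 w2109_0_1 := (Phs.fin c2109_1)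
theorem p2109_0_3 : Phs s2109 a2109_2 (List.map Prod.fst g2109_0) [s2125, s2126, s2127, s2128, s2129, s2130, s2131, s2132, s2133, s2134, s2135, s2136, s2137, s2138, s2139, s2140] ct2109_0 v2109_0 4 w2109_0_3 := (Phs.stp c2109_2 p2109_0_1)
theorem p2109_0_5 : Phs s2109 a2109_2 (List.map Prod.fst g2109_0) [s2125, s2126, s2127, s2128, s2129, s2130, s2131, s2132, s2133, s2134, s2135, s2136, s2137, s2138, s2139, s2140] ct2109_0 v2109_0 3 w2109_0_5 := (Phs.stp c2109_3 p2109_0_3)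
theorem p2109_0_7 : Phs s2109 a2109_2 (List.map Prod.fst g2109_0) [s2125, s2126, s2127, s2128, s2129, s2130, s2131, s2132, s2133, s2134, s2135, s2136, s2137, s2138, s2139, s2140] ct2109_0 v2109_0 1 w2109_0_7 := (Phs.stp c2109_4 p2109_0_5)
theorem n2109 : Sound.{u} (cP4) s2109 0 :=
  (x2109_2.ext2 (fun h => absurd h (by decide)) (AuxS.gam x2109_2 c2109_0) (AllS.cons n2125 (AllS.cons n2126 (AllS.cons n2127 (AllS.cons n2128 (AllS.cons n2129 (AllS.cons n2130 (AllS.cons n2131 (AllS.cons n2132 (AllS.cons n2133 (AllS.cons n2134 (AllS.cons n2135 (AllS.cons n2136 (AllS.cons n2137 (AllS.cons n2138 (AllS.cons n2139 (AllS.cons n2140 AllS.nil)))))))))))))))) c2109_6 (Phs.stp c2109_5 p2109_0_7) (Phs.fin (ct := ct2109_0) rfl) :)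
theorem x2141 : AuxS.{u} (cP4) s2141 0 a2141 := aux_base3 tw817 rfl b2141
theorem x2141_1 : AuxS.{u} (cP4) s2141 0 a2141_1 := x2141
theorem x2141_2 : AuxS.{u} (cP4) s2141 0 a2141_2 := x2141_1
theorem n2141 : Sound.{u} (cP4) s2141 0 :=
  (x2141_2.fr GamS.nil AllS.nil c2141_0 :)
theorem x2142 : AuxS.{u} (cP4) s2142 0 a2142 := aux_base3 tw818 rfl b2142
theorem x2142_1 : AuxS.{u} (cP4) s2142 0 a2142_1 := x2142
theorem x2142_2 : AuxS.{u} (cP4) s2142 0 a2142_2 := x2142_1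
theorem n2142 : Sound.{u} (cP4) s2142 0 :=
  (x2142_2.fr GamS.nil AllS.nil c2142_0 :)
theorem x2143 : AuxS.{u} (cP4) s2143 0 a2143 := aux_base3 tw819 rfl b2143
theorem x2143_1 : AuxS.{u} (cP4) s2143 0 a2143_1 := x2143
theorem x2143_2 : AuxS.{u} (cP4) s2143 0 a2143_2 := x2143_1
theorem n2143 : Sound.{u} (cP4) s2143 0 :=
  (x2143_2.fr GamS.nil AllS.nil c2143_0 :)
theorem x2144 : AuxS.{u} (cP4) s2144 0 a2144 := aux_base3 tw820 rfl b2144
theorem x2144_1 : AuxS.{u} (cP4) s2144 0 a2144_1 := x2144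
theorem x2144_2 : AuxS.{u} (cP4) s2144 0 a2144_2 := x2144_1
theorem n2144 : Sound.{u} (cP4) s2144 0 :=
  (x2144_2.fr GamS.nil AllS.nil c2144_0 :)
theorem x2145 : AuxS.{u} (cP4) s2145 0 a2145 := aux_base3 tw821 rfl b2145
theorem x2145_1 : AuxS.{u} (cP4) s2145 0 a2145_1 := x2145
theorem x2145_2 : AuxS.{u} (cP4) s2145 0 a2145_2 := x2145_1
theorem n2145 : Sound.{u} (cP4) s2145 0 :=
  (x2145_2.fr GamS.nil AllS.nil c2145_0 :)
theorem x2146 : AuxS.{u} (cP4) s2146 0 a2146 := aux_base3 tw822 rfl b2146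
theorem x2146_1 : AuxS.{u} (cP4) s2146 0 a2146_1 := x2146
theorem x2146_2 : AuxS.{u} (cP4) s2146 0 a2146_2 := x2146_1
theorem n2146 : Sound.{u} (cP4) s2146 0 :=
  (x2146_2.fr GamS.nil AllS.nil c2146_0 :)
theorem x2147 : AuxS.{u} (cP4) s2147 0 a2147 := aux_base3 tw823 rfl b2147
theorem x2147_1 : AuxS.{u} (cP4) s2147 0 a2147_1 := x2147
theorem x2147_2 : AuxS.{u} (cP4) s2147 0 a2147_2 := x2147_1
theorem n2147 : Sound.{u} (cP4) s2147 0 :=
  (x2147_2.fr GamS.nil AllS.nil c2147_0 :)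
theorem x2148 : AuxS.{u} (cP4) s2148 0 a2148 := aux_base3 tw824 rfl b2148
theorem x2148_1 : AuxS.{u} (cP4) s2148 0 a2148_1 := x2148
theorem x2148_2 : AuxS.{u} (cP4) s2148 0 a2148_2 := x2148_1
theorem n2148 : Sound.{u} (cP4) s2148 0 :=
  (x2148_2.fr GamS.nil AllS.nil c2148_0 :)
theorem x2149 : AuxS.{u} (cP4) s2149 0 a2149 := aux_base3 tw825 rfl b2149
theorem x2149_1 : AuxS.{u} (cP4) s2149 0 a2149_1 := x2149
theorem x2149_2 : AuxS.{u} (cP4) s2149 0 a2149_2 := x2149_1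
theorem n2149 : Sound.{u} (cP4) s2149 0 :=
  (x2149_2.fr GamS.nil AllS.nil c2149_0 :)
theorem x2150 : AuxS.{u} (cP4) s2150 0 a2150 := aux_base3 tw826 rfl b2150
theorem x2150_1 : AuxS.{u} (cP4) s2150 0 a2150_1 := x2150
theorem x2150_2 : AuxS.{u} (cP4) s2150 0 a2150_2 := x2150_1
theorem n2150 : Sound.{u} (cP4) s2150 0 :=
  (x2150_2.fr GamS.nil AllS.nil c2150_0 :)
theorem x2151 : AuxS.{u} (cP4) s2151 0 a2151 := aux_base3 tw827 rfl b2151
theorem x2151_1 : AuxS.{u} (cP4) s2151 0 a2151_1 := x2151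
theorem x2151_2 : AuxS.{u} (cP4) s2151 0 a2151_2 := x2151_1
theorem n2151 : Sound.{u} (cP4) s2151 0 :=
  (x2151_2.fr GamS.nil AllS.nil c2151_0 :)
theorem x2152 : AuxS.{u} (cP4) s2152 0 a2152 := aux_base3 tw828 rfl b2152
theorem x2152_1 : AuxS.{u} (cP4) s2152 0 a2152_1 := x2152
theorem x2152_2 : AuxS.{u} (cP4) s2152 0 a2152_2 := x2152_1
theorem n2152 : Sound.{u} (cP4) s2152 0 :=
  (x2152_2.fr GamS.nil AllS.nil c2152_0 :)
theorem x2153 : AuxS.{u} (cP4) s2153 0 a2153 := aux_base3 tw829 rfl b2153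
theorem x2153_1 : AuxS.{u} (cP4) s2153 0 a2153_1 := x2153
theorem x2153_2 : AuxS.{u} (cP4) s2153 0 a2153_2 := x2153_1
theorem n2153 : Sound.{u} (cP4) s2153 0 :=
  (x2153_2.fr GamS.nil AllS.nil c2153_0 :)
theorem x2154 : AuxS.{u} (cP4) s2154 0 a2154 := aux_base3 tw830 rfl b2154
theorem x2154_1 : AuxS.{u} (cP4) s2154 0 a2154_1 := x2154
theorem x2154_2 : AuxS.{u} (cP4) s2154 0 a2154_2 := x2154_1
theorem n2154 : Sound.{u} (cP4) s2154 0 :=
  (x2154_2.fr GamS.nil AllS.nil c2154_0 :)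
theorem x2155 : AuxS.{u} (cP4) s2155 0 a2155 := aux_base3 tw831 rfl b2155
theorem x2155_1 : AuxS.{u} (cP4) s2155 0 a2155_1 := x2155
theorem x2155_2 : AuxS.{u} (cP4) s2155 0 a2155_2 := x2155_1
theorem n2155 : Sound.{u} (cP4) s2155 0 :=
  (x2155_2.fr GamS.nil AllS.nil c2155_0 :)
theorem x2156 : AuxS.{u} (cP4) s2156 0 a2156 := aux_base3 tw832 rfl b2156
theorem x2156_1 : AuxS.{u} (cP4) s2156 0 a2156_1 := x2156
theorem x2156_2 : AuxS.{u} (cP4) s2156 0 a2156_2 := x2156_1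
theorem n2156 : Sound.{u} (cP4) s2156 0 :=
  (x2156_2.fr GamS.nil AllS.nil c2156_0 :)
theorem x2110 : AuxS.{u} (cP4) s2110 0 a2110 := aux_base3 tw786 rfl b2110
theorem x2110_1 : AuxS.{u} (cP4) s2110 0 a2110_1 := (AuxS.up x2110 c2110_7 :)
theorem x2110_2 : AuxS.{u} (cP4) s2110 0 a2110_2 := x2110_1
theorem p2110_0_1 : Phs s2110 a2110_2 (List.map Prod.fst g2110_0) [s2141, s2142, s2143, s2144, s2145, s2146, s2147, s2148, s2149, s2150, s2151, s2152, s2153, s2154, s2155, s2156] ct2110_0 v2110_0 5 w2110_0_1 := (Phs.fin c2110_1)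
theorem p2110_0_3 : Phs s2110 a2110_2 (List.map Prod.fst g2110_0) [s2141, s2142, s2143, s2144, s2145, s2146, s2147, s2148, s2149, s2150, s2151, s2152, s2153, s2154, s2155, s2156] ct2110_0 v2110_0 4 w2110_0_3 := (Phs.stp c2110_2 p2110_0_1)
theorem p2110_0_5 : Phs s2110 a2110_2 (List.map Prod.fst g2110_0) [s2141, s2142, s2143, s2144, s2145, s2146, s2147, s2148, s2149, s2150, s2151, s2152, s2153, s2154, s2155, s2156] ct2110_0 v2110_0 3 w2110_0_5 := (Phs.stp c2110_3 p2110_0_3)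
theorem p2110_0_7 : Phs s2110 a2110_2 (List.map Prod.fst g2110_0) [s2141, s2142, s2143, s2144, s2145, s2146, s2147, s2148, s2149, s2150, s2151, s2152, s2153, s2154, s2155, s2156] ct2110_0 v2110_0 1 w2110_0_7 := (Phs.stp c2110_4 p2110_0_5)
theorem n2110 : Sound.{u} (cP4) s2110 0 :=
  (x2110_2.ext2 (fun h => absurd h (by decide)) (AuxS.gam x2110_2 c2110_0) (AllS.cons n2141 (AllS.cons n2142 (AllS.cons n2143 (AllS.cons n2144 (AllS.cons n2145 (AllS.cons n2146 (AllS.cons n2147 (AllS.cons n2148 (AllS.cons n2149 (AllS.cons n2150 (AllS.cons n2151 (AllS.cons n2152 (AllS.cons n2153 (AllS.cons n2154 (AllS.cons n2155 (AllS.cons n2156 AllS.nil)))))))))))))))) c2110_6 (Phs.stp c2110_5 p2110_0_7) (Phs.fin (ct := ct2110_0) rfl) :)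
theorem x2111 : AuxS.{u} (cP4) s2111 0 a2111 := aux_base3 tw787 rfl b2111
theorem x2111_1 : AuxS.{u} (cP4) s2111 0 a2111_1 := (AuxS.up x2111 c2111_1 :)
theorem n2111 : Sound.{u} (cP4) s2111 0 :=
  (x2111_1.k7 c2111_0 :)
theorem x2112 : AuxS.{u} (cP4) s2112 0 a2112 := aux_base3 tw788 rfl b2112
theorem x2112_1 : AuxS.{u} (cP4) s2112 0 a2112_1 := (AuxS.up x2112 c2112_1 :)
theorem n2112 : Sound.{u} (cP4) s2112 0 :=
  (x2112_1.k7 c2112_0 :)
theorem x2157 : AuxS.{u} (cP4) s2157 0 a2157 := aux_base3 tw833 rfl b2157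
theorem x2157_1 : AuxS.{u} (cP4) s2157 0 a2157_1 := x2157
theorem n2157 : Sound.{u} (cP4) s2157 0 :=
  (x2157_1.fr GamS.nil AllS.nil c2157_0 :)
theorem x2158 : AuxS.{u} (cP4) s2158 0 a2158 := aux_base3 tw834 rfl b2158
theorem x2158_1 : AuxS.{u} (cP4) s2158 0 a2158_1 := x2158
theorem n2158 : Sound.{u} (cP4) s2158 0 :=
  (x2158_1.fr GamS.nil AllS.nil c2158_0 :)
theorem x2159 : AuxS.{u} (cP4) s2159 0 a2159 := aux_base3 tw835 rfl b2159
theorem x2159_1 : AuxS.{u} (cP4) s2159 0 a2159_1 := x2159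
theorem n2159 : Sound.{u} (cP4) s2159 0 :=
  (x2159_1.fr GamS.nil AllS.nil c2159_0 :)
theorem x2160 : AuxS.{u} (cP4) s2160 0 a2160 := aux_base3 tw836 rfl b2160
theorem x2160_1 : AuxS.{u} (cP4) s2160 0 a2160_1 := x2160
theorem n2160 : Sound.{u} (cP4) s2160 0 :=
  (x2160_1.fr GamS.nil AllS.nil c2160_0 :)
theorem x2161 : AuxS.{u} (cP4) s2161 0 a2161 := aux_base3 tw837 rfl b2161
theorem x2161_1 : AuxS.{u} (cP4) s2161 0 a2161_1 := x2161
theorem x2161_2 : AuxS.{u} (cP4) s2161 0 a2161_2 := x2161_1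
theorem n2161 : Sound.{u} (cP4) s2161 0 :=
  (x2161_2.fr GamS.nil AllS.nil c2161_0 :)
theorem x2162 : AuxS.{u} (cP4) s2162 0 a2162 := aux_base3 tw838 rfl b2162
theorem x2162_1 : AuxS.{u} (cP4) s2162 0 a2162_1 := x2162
theorem x2162_2 : AuxS.{u} (cP4) s2162 0 a2162_2 := x2162_1
theorem n2162 : Sound.{u} (cP4) s2162 0 :=
  (x2162_2.fr GamS.nil AllS.nil c2162_0 :)
theorem x2163 : AuxS.{u} (cP4) s2163 0 a2163 := aux_base3 tw839 rfl b2163
theorem x2163_1 : AuxS.{u} (cP4) s2163 0 a2163_1 := x2163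
theorem n2163 : Sound.{u} (cP4) s2163 0 :=
  (x2163_1.fr GamS.nil AllS.nil c2163_0 :)
theorem x2164 : AuxS.{u} (cP4) s2164 0 a2164 := aux_base3 tw840 rfl b2164
theorem x2164_1 : AuxS.{u} (cP4) s2164 0 a2164_1 := x2164
theorem n2164 : Sound.{u} (cP4) s2164 0 :=
  (x2164_1.fr GamS.nil AllS.nil c2164_0 :)
theorem x2165 : AuxS.{u} (cP4) s2165 0 a2165 := aux_base3 tw841 rfl b2165
theorem x2165_1 : AuxS.{u} (cP4) s2165 0 a2165_1 := x2165
theorem x2165_2 : AuxS.{u} (cP4) s2165 0 a2165_2 := x2165_1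
theorem n2165 : Sound.{u} (cP4) s2165 0 :=
  (x2165_2.fr GamS.nil AllS.nil c2165_0 :)
theorem x2166 : AuxS.{u} (cP4) s2166 0 a2166 := aux_base3 tw842 rfl b2166
theorem x2166_1 : AuxS.{u} (cP4) s2166 0 a2166_1 := x2166
theorem n2166 : Sound.{u} (cP4) s2166 0 :=
  (x2166_1.fr GamS.nil AllS.nil c2166_0 :)
theorem x2167 : AuxS.{u} (cP4) s2167 0 a2167 := aux_base3 tw843 rfl b2167
theorem x2167_1 : AuxS.{u} (cP4) s2167 0 a2167_1 := x2167
theorem x2167_2 : AuxS.{u} (cP4) s2167 0 a2167_2 := x2167_1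
theorem n2167 : Sound.{u} (cP4) s2167 0 :=
  (x2167_2.fr GamS.nil AllS.nil c2167_0 :)
theorem x2168 : AuxS.{u} (cP4) s2168 0 a2168 := aux_base3 tw844 rfl b2168
theorem x2168_1 : AuxS.{u} (cP4) s2168 0 a2168_1 := x2168
theorem n2168 : Sound.{u} (cP4) s2168 0 :=
  (x2168_1.fr GamS.nil AllS.nil c2168_0 :)
theorem x2169 : AuxS.{u} (cP4) s2169 0 a2169 := aux_base3 tw845 rfl b2169
theorem x2169_1 : AuxS.{u} (cP4) s2169 0 a2169_1 := x2169
theorem x2169_2 : AuxS.{u} (cP4) s2169 0 a2169_2 := x2169_1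
theorem n2169 : Sound.{u} (cP4) s2169 0 :=
  (x2169_2.fr GamS.nil AllS.nil c2169_0 :)
theorem x2170 : AuxS.{u} (cP4) s2170 0 a2170 := aux_base3 tw846 rfl b2170
theorem x2170_1 : AuxS.{u} (cP4) s2170 0 a2170_1 := x2170
theorem n2170 : Sound.{u} (cP4) s2170 0 :=
  (x2170_1.fr GamS.nil AllS.nil c2170_0 :)
theorem x2171 : AuxS.{u} (cP4) s2171 0 a2171 := aux_base3 tw847 rfl b2171
theorem x2171_1 : AuxS.{u} (cP4) s2171 0 a2171_1 := x2171
theorem n2171 : Sound.{u} (cP4) s2171 0 :=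
  (x2171_1.fr GamS.nil AllS.nil c2171_0 :)
theorem x2172 : AuxS.{u} (cP4) s2172 0 a2172 := aux_base3 tw848 rfl b2172
theorem x2172_1 : AuxS.{u} (cP4) s2172 0 a2172_1 := x2172
theorem n2172 : Sound.{u} (cP4) s2172 0 :=
  (x2172_1.fr GamS.nil AllS.nil c2172_0 :)
theorem x2113 : AuxS.{u} (cP4) s2113 0 a2113 := aux_base3 tw789 rfl b2113
theorem x2113_1 : AuxS.{u} (cP4) s2113 0 a2113_1 := (AuxS.up x2113 c2113_7 :)
theorem p2113_0_1 : Phs s2113 a2113_1 (List.map Prod.fst g2113_0) [s2157, s2158, s2159, s2160, s2161, s2162, s2163, s2164, s2165, s2166, s2167, s2168, s2169, s2170, s2171, s2172] ct2113_0 v2113_0 5 w2113_0_1 := (Phs.fin c2113_1)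
theorem p2113_0_3 : Phs s2113 a2113_1 (List.map Prod.fst g2113_0) [s2157, s2158, s2159, s2160, s2161, s2162, s2163, s2164, s2165, s2166, s2167, s2168, s2169, s2170, s2171, s2172] ct2113_0 v2113_0 4 w2113_0_3 := (Phs.stp c2113_2 p2113_0_1)
theorem p2113_0_5 : Phs s2113 a2113_1 (List.map Prod.fst g2113_0) [s2157, s2158, s2159, s2160, s2161, s2162, s2163, s2164, s2165, s2166, s2167, s2168, s2169, s2170, s2171, s2172] ct2113_0 v2113_0 3 w2113_0_5 := (Phs.stp c2113_3 p2113_0_3)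
theorem p2113_0_7 : Phs s2113 a2113_1 (List.map Prod.fst g2113_0) [s2157, s2158, s2159, s2160, s2161, s2162, s2163, s2164, s2165, s2166, s2167, s2168, s2169, s2170, s2171, s2172] ct2113_0 v2113_0 1 w2113_0_7 := (Phs.stp c2113_4 p2113_0_5)
theorem n2113 : Sound.{u} (cP4) s2113 0 :=
  (x2113_1.ext2 (fun h => absurd h (by decide)) (AuxS.gam x2113_1 c2113_0) (AllS.cons n2157 (AllS.cons n2158 (AllS.cons n2159 (AllS.cons n2160 (AllS.cons n2161 (AllS.cons n2162 (AllS.cons n2163 (AllS.cons n2164 (AllS.cons n2165 (AllS.cons n2166 (AllS.cons n2167 (AllS.cons n2168 (AllS.cons n2169 (AllS.cons n2170 (AllS.cons n2171 (AllS.cons n2172 AllS.nil)))))))))))))))) c2113_6 (Phs.stp c2113_5 p2113_0_7) (Phs.fin (ct := ct2113_0) rfl) :)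
theorem x2173 : AuxS.{u} (cP4) s2173 0 a2173 := aux_base3 tw849 rfl b2173
theorem x2173_1 : AuxS.{u} (cP4) s2173 0 a2173_1 := x2173
theorem x2173_2 : AuxS.{u} (cP4) s2173 0 a2173_2 := x2173_1
theorem n2173 : Sound.{u} (cP4) s2173 0 :=
  (x2173_2.fr GamS.nil AllS.nil c2173_0 :)
theorem x2174 : AuxS.{u} (cP4) s2174 0 a2174 := aux_base3 tw850 rfl b2174
theorem x2174_1 : AuxS.{u} (cP4) s2174 0 a2174_1 := x2174
theorem x2174_2 : AuxS.{u} (cP4) s2174 0 a2174_2 := x2174_1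
theorem n2174 : Sound.{u} (cP4) s2174 0 :=
  (x2174_2.fr GamS.nil AllS.nil c2174_0 :)
theorem x2175 : AuxS.{u} (cP4) s2175 0 a2175 := aux_base3 tw851 rfl b2175
theorem x2175_1 : AuxS.{u} (cP4) s2175 0 a2175_1 := x2175
theorem x2175_2 : AuxS.{u} (cP4) s2175 0 a2175_2 := x2175_1
theorem n2175 : Sound.{u} (cP4) s2175 0 :=
  (x2175_2.fr GamS.nil AllS.nil c2175_0 :)
theorem x2176 : AuxS.{u} (cP4) s2176 0 a2176 := aux_base3 tw852 rfl b2176
theorem x2176_1 : AuxS.{u} (cP4) s2176 0 a2176_1 := x2176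
theorem x2176_2 : AuxS.{u} (cP4) s2176 0 a2176_2 := x2176_1
theorem n2176 : Sound.{u} (cP4) s2176 0 :=
  (x2176_2.fr GamS.nil AllS.nil c2176_0 :)
theorem x2177 : AuxS.{u} (cP4) s2177 0 a2177 := aux_base3 tw853 rfl b2177
theorem x2177_1 : AuxS.{u} (cP4) s2177 0 a2177_1 := x2177
theorem x2177_2 : AuxS.{u} (cP4) s2177 0 a2177_2 := x2177_1
theorem n2177 : Sound.{u} (cP4) s2177 0 :=
  (x2177_2.fr GamS.nil AllS.nil c2177_0 :)
theorem x2178 : AuxS.{u} (cP4) s2178 0 a2178 := aux_base3 tw854 rfl b2178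
theorem x2178_1 : AuxS.{u} (cP4) s2178 0 a2178_1 := x2178
theorem x2178_2 : AuxS.{u} (cP4) s2178 0 a2178_2 := x2178_1
theorem n2178 : Sound.{u} (cP4) s2178 0 :=
  (x2178_2.fr GamS.nil AllS.nil c2178_0 :)
theorem x2179 : AuxS.{u} (cP4) s2179 0 a2179 := aux_base3 tw855 rfl b2179
theorem x2179_1 : AuxS.{u} (cP4) s2179 0 a2179_1 := x2179
theorem x2179_2 : AuxS.{u} (cP4) s2179 0 a2179_2 := x2179_1
theorem n2179 : Sound.{u} (cP4) s2179 0 :=
  (x2179_2.fr GamS.nil AllS.nil c2179_0 :)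
theorem x2180 : AuxS.{u} (cP4) s2180 0 a2180 := aux_base3 tw856 rfl b2180
theorem x2180_1 : AuxS.{u} (cP4) s2180 0 a2180_1 := x2180
theorem x2180_2 : AuxS.{u} (cP4) s2180 0 a2180_2 := x2180_1
theorem n2180 : Sound.{u} (cP4) s2180 0 :=
  (x2180_2.fr GamS.nil AllS.nil c2180_0 :)
theorem x2181 : AuxS.{u} (cP4) s2181 0 a2181 := aux_base3 tw857 rfl b2181
theorem x2181_1 : AuxS.{u} (cP4) s2181 0 a2181_1 := x2181
theorem x2181_2 : AuxS.{u} (cP4) s2181 0 a2181_2 := x2181_1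
theorem n2181 : Sound.{u} (cP4) s2181 0 :=
  (x2181_2.fr GamS.nil AllS.nil c2181_0 :)
theorem x2182 : AuxS.{u} (cP4) s2182 0 a2182 := aux_base3 tw858 rfl b2182
theorem x2182_1 : AuxS.{u} (cP4) s2182 0 a2182_1 := x2182
theorem x2182_2 : AuxS.{u} (cP4) s2182 0 a2182_2 := x2182_1
theorem n2182 : Sound.{u} (cP4) s2182 0 :=
  (x2182_2.fr GamS.nil AllS.nil c2182_0 :)
theorem x2183 : AuxS.{u} (cP4) s2183 0 a2183 := aux_base3 tw859 rfl b2183
theorem x2183_1 : AuxS.{u} (cP4) s2183 0 a2183_1 := x2183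
theorem x2183_2 : AuxS.{u} (cP4) s2183 0 a2183_2 := x2183_1
theorem n2183 : Sound.{u} (cP4) s2183 0 :=
  (x2183_2.fr GamS.nil AllS.nil c2183_0 :)
theorem x2184 : AuxS.{u} (cP4) s2184 0 a2184 := aux_base3 tw860 rfl b2184
theorem x2184_1 : AuxS.{u} (cP4) s2184 0 a2184_1 := x2184
theorem x2184_2 : AuxS.{u} (cP4) s2184 0 a2184_2 := x2184_1
theorem n2184 : Sound.{u} (cP4) s2184 0 :=
  (x2184_2.fr GamS.nil AllS.nil c2184_0 :)
theorem x2185 : AuxS.{u} (cP4) s2185 0 a2185 := aux_base3 tw861 rfl b2185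
theorem x2185_1 : AuxS.{u} (cP4) s2185 0 a2185_1 := x2185
theorem x2185_2 : AuxS.{u} (cP4) s2185 0 a2185_2 := x2185_1
theorem n2185 : Sound.{u} (cP4) s2185 0 :=
  (x2185_2.fr GamS.nil AllS.nil c2185_0 :)
theorem x2186 : AuxS.{u} (cP4) s2186 0 a2186 := aux_base3 tw862 rfl b2186
theorem x2186_1 : AuxS.{u} (cP4) s2186 0 a2186_1 := x2186
theorem x2186_2 : AuxS.{u} (cP4) s2186 0 a2186_2 := x2186_1
theorem n2186 : Sound.{u} (cP4) s2186 0 :=
  (x2186_2.fr GamS.nil AllS.nil c2186_0 :)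
theorem x2187 : AuxS.{u} (cP4) s2187 0 a2187 := aux_base3 tw863 rfl b2187
theorem x2187_1 : AuxS.{u} (cP4) s2187 0 a2187_1 := x2187
theorem x2187_2 : AuxS.{u} (cP4) s2187 0 a2187_2 := x2187_1
theorem n2187 : Sound.{u} (cP4) s2187 0 :=
  (x2187_2.fr GamS.nil AllS.nil c2187_0 :)
theorem x2188 : AuxS.{u} (cP4) s2188 0 a2188 := aux_base3 tw864 rfl b2188
theorem x2188_1 : AuxS.{u} (cP4) s2188 0 a2188_1 := x2188
theorem x2188_2 : AuxS.{u} (cP4) s2188 0 a2188_2 := x2188_1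
theorem n2188 : Sound.{u} (cP4) s2188 0 :=
  (x2188_2.fr GamS.nil AllS.nil c2188_0 :)
theorem x2114 : AuxS.{u} (cP4) s2114 0 a2114 := aux_base3 tw790 rfl b2114
theorem x2114_1 : AuxS.{u} (cP4) s2114 0 a2114_1 := (AuxS.up x2114 c2114_7 :)
theorem x2114_2 : AuxS.{u} (cP4) s2114 0 a2114_2 := x2114_1
theorem p2114_0_1 : Phs s2114 a2114_2 (List.map Prod.fst g2114_0) [s2173, s2174, s2175, s2176, s2177, s2178, s2179, s2180, s2181, s2182, s2183, s2184, s2185, s2186, s2187, s2188] ct2114_0 v2114_0 5 w2114_0_1 := (Phs.fin c2114_1)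
theorem p2114_0_3 : Phs s2114 a2114_2 (List.map Prod.fst g2114_0) [s2173, s2174, s2175, s2176, s2177, s2178, s2179, s2180, s2181, s2182, s2183, s2184, s2185, s2186, s2187, s2188] ct2114_0 v2114_0 4 w2114_0_3 := (Phs.stp c2114_2 p2114_0_1)
theorem p2114_0_5 : Phs s2114 a2114_2 (List.map Prod.fst g2114_0) [s2173, s2174, s2175, s2176, s2177, s2178, s2179, s2180, s2181, s2182, s2183, s2184, s2185, s2186, s2187, s2188] ct2114_0 v2114_0 3 w2114_0_5 := (Phs.stp c2114_3 p2114_0_3)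
theorem p2114_0_7 : Phs s2114 a2114_2 (List.map Prod.fst g2114_0) [s2173, s2174, s2175, s2176, s2177, s2178, s2179, s2180, s2181, s2182, s2183, s2184, s2185, s2186, s2187, s2188] ct2114_0 v2114_0 1 w2114_0_7 := (Phs.stp c2114_4 p2114_0_5)
theorem n2114 : Sound.{u} (cP4) s2114 0 :=
  (x2114_2.ext2 (fun h => absurd h (by decide)) (AuxS.gam x2114_2 c2114_0) (AllS.cons n2173 (AllS.cons n2174 (AllS.cons n2175 (AllS.cons n2176 (AllS.cons n2177 (AllS.cons n2178 (AllS.cons n2179 (AllS.cons n2180 (AllS.cons n2181 (AllS.cons n2182 (AllS.cons n2183 (AllS.cons n2184 (AllS.cons n2185 (AllS.cons n2186 (AllS.cons n2187 (AllS.cons n2188 AllS.nil)))))))))))))))) c2114_6 (Phs.stp c2114_5 p2114_0_7) (Phs.fin (ct := ct2114_0) rfl) :)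
theorem x2115 : AuxS.{u} (cP4) s2115 0 a2115 := aux_base3 tw791 rfl b2115
theorem x2115_1 : AuxS.{u} (cP4) s2115 0 a2115_1 := (AuxS.up x2115 c2115_1 :)
theorem n2115 : Sound.{u} (cP4) s2115 0 :=
  (x2115_1.k7 c2115_0 :)
theorem x2116 : AuxS.{u} (cP4) s2116 0 a2116 := aux_base3 tw792 rfl b2116
theorem x2116_1 : AuxS.{u} (cP4) s2116 0 a2116_1 := (AuxS.up x2116 c2116_1 :)
theorem n2116 : Sound.{u} (cP4) s2116 0 :=
  (x2116_1.k7 c2116_0 :)
theorem x2117 : AuxS.{u} (cP4) s2117 0 a2117 := aux_base3 tw793 rfl b2117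
theorem x2117_1 : AuxS.{u} (cP4) s2117 0 a2117_1 := (AuxS.up x2117 c2117_1 :)
theorem n2117 : Sound.{u} (cP4) s2117 0 :=
  (x2117_1.k7 c2117_0 :)
theorem x2118 : AuxS.{u} (cP4) s2118 0 a2118 := aux_base3 tw794 rfl b2118
theorem x2118_1 : AuxS.{u} (cP4) s2118 0 a2118_1 := (AuxS.up x2118 c2118_1 :)
theorem n2118 : Sound.{u} (cP4) s2118 0 :=
  (x2118_1.k7 c2118_0 :)
theorem x2119 : AuxS.{u} (cP4) s2119 0 a2119 := aux_base3 tw795 rfl b2119
theorem x2119_1 : AuxS.{u} (cP4) s2119 0 a2119_1 := (AuxS.up x2119 c2119_6 :)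
theorem x2119_2 : AuxS.{u} (cP4) s2119 0 a2119_2 := (AuxS.up2 x2119_1 c2119_7 :)
theorem p2119_0_1 : Phs s2119 a2119_2 [] [] ct2119_0 v2119_0 5 w2119_0_1 := (Phs.fin c2119_0)
theorem p2119_0_3 : Phs s2119 a2119_2 [] [] ct2119_0 v2119_0 4 w2119_0_3 := (Phs.stp c2119_1 p2119_0_1)
theorem p2119_0_5 : Phs s2119 a2119_2 [] [] ct2119_0 v2119_0 3 w2119_0_5 := (Phs.stp c2119_2 p2119_0_3)
theorem p2119_0_7 : Phs s2119 a2119_2 [] [] ct2119_0 v2119_0 1 w2119_0_7 := (Phs.stp c2119_3 p2119_0_5)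
theorem n2119 : Sound.{u} (cP4) s2119 0 :=
  (x2119_2.ext2 (fun h => absurd h (by decide)) GamS.nil AllS.nil c2119_5 (Phs.stp c2119_4 p2119_0_7) (Phs.fin (ct := ct2119_0) rfl) :)
theorem x2120 : AuxS.{u} (cP4) s2120 0 a2120 := aux_base3 tw796 rfl b2120
theorem x2120_1 : AuxS.{u} (cP4) s2120 0 a2120_1 := (AuxS.up x2120 c2120_1 :)
theorem n2120 : Sound.{u} (cP4) s2120 0 :=
  (x2120_1.k7 c2120_0 :)
theorem x2121 : AuxS.{u} (cP4) s2121 0 a2121 := aux_base3 tw797 rfl b2121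
theorem x2121_1 : AuxS.{u} (cP4) s2121 0 a2121_1 := (AuxS.up x2121 c2121_1 :)
theorem n2121 : Sound.{u} (cP4) s2121 0 :=
  (x2121_1.k7 c2121_0 :)
theorem x2122 : AuxS.{u} (cP4) s2122 0 a2122 := aux_base3 tw798 rfl b2122
theorem x2122_1 : AuxS.{u} (cP4) s2122 0 a2122_1 := (AuxS.up x2122 c2122_1 :)
theorem n2122 : Sound.{u} (cP4) s2122 0 :=
  (x2122_1.k7 c2122_0 :)
theorem x2123 : AuxS.{u} (cP4) s2123 0 a2123 := aux_base3 tw799 rfl b2123
theorem x2123_1 : AuxS.{u} (cP4) s2123 0 a2123_1 := (AuxS.up x2123 c2123_1 :)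
theorem n2123 : Sound.{u} (cP4) s2123 0 :=
  (x2123_1.k7 c2123_0 :)
theorem x2124 : AuxS.{u} (cP4) s2124 0 a2124 := aux_base3 tw800 rfl b2124
theorem x2124_1 : AuxS.{u} (cP4) s2124 0 a2124_1 := (AuxS.up x2124 c2124_1 :)
theorem x2124_2 : AuxS.{u} (cP4) s2124 0 a2124_2 := (AuxS.up2 x2124_1 c2124_2 :)
theorem n2124 : Sound.{u} (cP4) s2124 0 :=
  (x2124_2.k7 c2124_0 :)
theorem x18 : AuxS.{u} (cP4) s18 0 a18 := aux_base3 tw18 rfl b18
theorem x18_1 : AuxS.{u} (cP4) s18 0 a18_1 := (AuxS.up x18 c18_4 :)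
theorem p18_0_1 : Phs s18 a18_1 [] [s2109, s2110, s2111, s2112, s2113, s2114, s2115, s2116, s2117, s2118, s2119, s2120, s2121, s2122, s2123, s2124] ct18_0 v18_0 4 w18_0_1 := (Phs.fin c18_0)
theorem p18_0_3 : Phs s18 a18_1 [] [s2109, s2110, s2111, s2112, s2113, s2114, s2115, s2116, s2117, s2118, s2119, s2120, s2121, s2122, s2123, s2124] ct18_0 v18_0 1 w18_0_3 := (Phs.stp c18_1 p18_0_1)
theorem n18 : Sound.{u} (cP4) s18 0 :=
  (x18_1.ext2 (fun h => absurd h (by decide)) GamS.nil (AllS.cons n2109 (AllS.cons n2110 (AllS.cons n2111 (AllS.cons n2112 (AllS.cons n2113 (AllS.cons n2114 (AllS.cons n2115 (AllS.cons n2116 (AllS.cons n2117 (AllS.cons n2118 (AllS.cons n2119 (AllS.cons n2120 (AllS.cons n2121 (AllS.cons n2122 (AllS.cons n2123 (AllS.cons n2124 AllS.nil)))))))))))))))) c18_3 (Phs.stp c18_2 p18_0_3) (Phs.fin (ct := ct18_0) rfl) :)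
theorem x19 : AuxS.{u} (cP4) s19 0 a19 := aux_base3 tw19 rfl b19
theorem n19 : Sound.{u} (cP4) s19 0 :=
  (x19.k3 c19_0 :)
theorem x20 : AuxS.{u} (cP4) s20 0 a20 := aux_base3 tw20 rfl b20
theorem n20 : Sound.{u} (cP4) s20 0 :=
  (x20.k3 c20_0 :)
theorem x2189 : AuxS.{u} (cP4) s2189 0 a2189 := aux_base3 tw865 rfl b2189
theorem x2189_1 : AuxS.{u} (cP4) s2189 0 a2189_1 := (AuxS.up x2189 c2189_1 :)
theorem n2189 : Sound.{u} (cP4) s2189 0 :=
  (x2189_1.k7 c2189_0 :)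
theorem x2190 : AuxS.{u} (cP4) s2190 0 a2190 := aux_base3 tw866 rfl b2190
theorem x2190_1 : AuxS.{u} (cP4) s2190 0 a2190_1 := (AuxS.up x2190 c2190_1 :)
theorem n2190 : Sound.{u} (cP4) s2190 0 :=
  (x2190_1.k7 c2190_0 :)
theorem x2191 : AuxS.{u} (cP4) s2191 0 a2191 := aux_base3 tw867 rfl b2191
theorem x2191_1 : AuxS.{u} (cP4) s2191 0 a2191_1 := (AuxS.up x2191 c2191_1 :)
theorem x2191_2 : AuxS.{u} (cP4) s2191 0 a2191_2 := (AuxS.up2 x2191_1 c2191_2 :)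
theorem n2191 : Sound.{u} (cP4) s2191 0 :=
  (x2191_2.k7 c2191_0 :)
theorem x2205 : AuxS.{u} (cP4) s2205 0 a2205 := aux_base3 tw881 rfl b2205
theorem x2205_1 : AuxS.{u} (cP4) s2205 0 a2205_1 := x2205
theorem n2205 : Sound.{u} (cP4) s2205 0 :=
  (x2205_1.fr GamS.nil AllS.nil c2205_0 :)
theorem x2206 : AuxS.{u} (cP4) s2206 0 a2206 := aux_base3 tw882 rfl b2206
theorem x2206_1 : AuxS.{u} (cP4) s2206 0 a2206_1 := x2206
theorem n2206 : Sound.{u} (cP4) s2206 0 :=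
  (x2206_1.fr GamS.nil AllS.nil c2206_0 :)
theorem x2221 : AuxS.{u} (cP4) s2221 0 a2221 := aux_base3 tw883 rfl b2221
theorem n2221 : Sound.{u} (cP4) s2221 0 :=
  (x2221.k4 c2221_0 :)
theorem x2222 : AuxS.{u} (cP4) s2222 0 a2222 := aux_base3 tw883 rfl b2222
theorem n2222 : Sound.{u} (cP4) s2222 0 :=
  (x2222.k4 c2222_0 :)
theorem x2223 : AuxS.{u} (cP4) s2223 0 a2223 := aux_base3 tw883 rfl b2223
theorem n2223 : Sound.{u} (cP4) s2223 0 :=
  (x2223.k4 c2223_0 :)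
theorem x2224 : AuxS.{u} (cP4) s2224 0 a2224 := aux_base3 tw883 rfl b2224
theorem n2224 : Sound.{u} (cP4) s2224 0 :=
  (x2224.k4 c2224_0 :)
theorem x2225 : AuxS.{u} (cP4) s2225 0 a2225 := aux_base3 tw883 rfl b2225
theorem n2225 : Sound.{u} (cP4) s2225 0 :=
  (x2225.k4 c2225_0 :)
theorem x2226 : AuxS.{u} (cP4) s2226 0 a2226 := aux_base3 tw883 rfl b2226
theorem n2226 : Sound.{u} (cP4) s2226 0 :=
  (x2226.k4 c2226_0 :)
theorem x2227 : AuxS.{u} (cP4) s2227 0 a2227 := aux_base3 tw883 rfl b2227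
theorem n2227 : Sound.{u} (cP4) s2227 0 :=
  (x2227.k4 c2227_0 :)
theorem x2228 : AuxS.{u} (cP4) s2228 0 a2228 := aux_base3 tw883 rfl b2228
theorem n2228 : Sound.{u} (cP4) s2228 0 :=
  (x2228.k4 c2228_0 :)
theorem x2229 : AuxS.{u} (cP4) s2229 0 a2229 := aux_base3 tw883 rfl b2229
theorem n2229 : Sound.{u} (cP4) s2229 0 :=
  (x2229.k4 c2229_0 :)
theorem x2230 : AuxS.{u} (cP4) s2230 0 a2230 := aux_base3 tw883 rfl b2230
theorem n2230 : Sound.{u} (cP4) s2230 0 :=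
  (x2230.k4 c2230_0 :)
theorem x2231 : AuxS.{u} (cP4) s2231 0 a2231 := aux_base3 tw883 rfl b2231
theorem n2231 : Sound.{u} (cP4) s2231 0 :=
  (x2231.k4 c2231_0 :)
theorem x2232 : AuxS.{u} (cP4) s2232 0 a2232 := aux_base3 tw883 rfl b2232
theorem n2232 : Sound.{u} (cP4) s2232 0 :=
  (x2232.k4 c2232_0 :)
theorem x2255 : AuxS.{u} (cP4) s2255 0 a2255 := aux_base3 tw897 rfl b2255
theorem n2255 : Sound.{u} (cP4) s2255 0 :=
  (x2255.k4 c2255_0 :)
theorem x2259 : AuxS.{u} (cP4) s2259 0 a2259 := aux_base3 tw900 rfl b2259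
theorem x2259_1 : AuxS.{u} (cP4) s2259 0 a2259_1 := x2259
theorem n2259 : Sound.{u} (cP4) s2259 0 :=
  (x2259_1.jump c2259_0 c2259_1 n1172 :)
theorem x2260 : AuxS.{u} (cP4) s2260 0 a2260 := aux_base3 tw901 rfl b2260
theorem x2260_1 : AuxS.{u} (cP4) s2260 0 a2260_1 := x2260
theorem n2260 : Sound.{u} (cP4) s2260 0 :=
  (x2260_1.jump c2260_0 c2260_1 n1173 :)
theorem x2261 : AuxS.{u} (cP4) s2261 0 a2261 := aux_base3 tw902 rfl b2261
theorem x2261_1 : AuxS.{u} (cP4) s2261 0 a2261_1 := x2261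
theorem n2261 : Sound.{u} (cP4) s2261 0 :=
  (x2261_1.jump c2261_0 c2261_1 n1170 :)
theorem x2262 : AuxS.{u} (cP4) s2262 0 a2262 := aux_base3 tw903 rfl b2262
theorem x2262_1 : AuxS.{u} (cP4) s2262 0 a2262_1 := x2262
theorem n2262 : Sound.{u} (cP4) s2262 0 :=
  (x2262_1.jump c2262_0 c2262_1 n1171 :)
theorem x2257 : AuxS.{u} (cP4) s2257 0 a2257 := aux_base3 tw898 rfl b2257
theorem x2257_1 : AuxS.{u} (cP4) s2257 0 a2257_1 := x2257
theorem x2257_2 : AuxS.{u} (cP4) s2257 0 a2257_2 := x2257_1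
theorem n2257 : Sound.{u} (cP4) s2257 0 :=
  (x2257_2.fr2 GamS.nil (AllS.cons n2259 (AllS.cons n2260 (AllS.cons n2261 (AllS.cons n2262 AllS.nil)))) c2257_0 :)
theorem x2263 : AuxS.{u} (cP4) s2263 0 a2263 := aux_base3 tw904 rfl b2263
theorem x2263_1 : AuxS.{u} (cP4) s2263 0 a2263_1 := x2263
theorem n2263 : Sound.{u} (cP4) s2263 0 :=
  (x2263_1.jump c2263_0 c2263_1 n1288 :)
theorem x2264 : AuxS.{u} (cP4) s2264 0 a2264 := aux_base3 tw905 rfl b2264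
theorem x2264_1 : AuxS.{u} (cP4) s2264 0 a2264_1 := x2264
theorem n2264 : Sound.{u} (cP4) s2264 0 :=
  (x2264_1.jump c2264_0 c2264_1 n1289 :)
theorem x2265 : AuxS.{u} (cP4) s2265 0 a2265 := aux_base3 tw906 rfl b2265
theorem x2265_1 : AuxS.{u} (cP4) s2265 0 a2265_1 := x2265
theorem n2265 : Sound.{u} (cP4) s2265 0 :=
  (x2265_1.jump c2265_0 c2265_1 n1286 :)
theorem x2266 : AuxS.{u} (cP4) s2266 0 a2266 := aux_base3 tw907 rfl b2266
theorem x2266_1 : AuxS.{u} (cP4) s2266 0 a2266_1 := x2266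
theorem n2266 : Sound.{u} (cP4) s2266 0 :=
  (x2266_1.jump c2266_0 c2266_1 n1287 :)
theorem x2258 : AuxS.{u} (cP4) s2258 0 a2258 := aux_base3 tw899 rfl b2258
theorem x2258_1 : AuxS.{u} (cP4) s2258 0 a2258_1 := x2258
theorem n2258 : Sound.{u} (cP4) s2258 0 :=
  (x2258_1.fr2 GamS.nil (AllS.cons n2263 (AllS.cons n2264 (AllS.cons n2265 (AllS.cons n2266 AllS.nil)))) c2258_0 :)
theorem x2256 : AuxS.{u} (cP4) s2256 0 a2256 := aux_base3 tw897 rfl b2256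
theorem x2256_1 : AuxS.{u} (cP4) s2256 0 a2256_1 := x2256
theorem x2256_2 : AuxS.{u} (cP4) s2256 0 a2256_2 := x2256_1
theorem n2256 : Sound.{u} (cP4) s2256 0 :=
  (x2256_2.fr2 GamS.nil (AllS.cons n2257 (AllS.cons n2258 AllS.nil)) c2256_0 :)
theorem x2254 : AuxS.{u} (cP4) s2254 0 a2254 := aux_base3 tw897 rfl b2254
theorem x2254_1 : AuxS.{u} (cP4) s2254 0 a2254_1 := x2254
theorem x2254_2 : AuxS.{u} (cP4) s2254 0 a2254_2 := x2254_1
theorem n2254 : Sound.{u} (cP4) s2254 0 :=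
  (x2254_2.fr GamS.nil (AllS.cons n2255 (AllS.cons n2256 AllS.nil)) c2254_0 :)
theorem x2253 : AuxS.{u} (cP4) s2253 0 a2253 := aux_base3 tw868 rfl b2253
theorem x2253_1 : AuxS.{u} (cP4) s2253 0 a2253_1 := (AuxS.up x2253 c2253_6 :)
theorem x2253_2 : AuxS.{u} (cP4) s2253 0 a2253_2 := x2253_1
theorem p2253_0_1 : Phs s2253 a2253_2 (List.map Prod.fst g2253_0) [s2254] ct2253_0 v2253_0 5 w2253_0_1 := (Phs.fin c2253_1)
theorem p2253_0_3 : Phs s2253 a2253_2 (List.map Prod.fst g2253_0) [s2254] ct2253_0 v2253_0 4 w2253_0_3 := (Phs.stp c2253_2 p2253_0_1)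
theorem p2253_0_5 : Phs s2253 a2253_2 (List.map Prod.fst g2253_0) [s2254] ct2253_0 v2253_0 1 w2253_0_5 := (Phs.stp c2253_3 p2253_0_3)
theorem n2253 : Sound.{u} (cP4) s2253 0 :=
  (x2253_2.ext2 (fun h => absurd h (by decide)) (AuxS.gam x2253_2 c2253_0) (AllS.cons n2254 AllS.nil) c2253_5 (Phs.stp c2253_4 p2253_0_5) (Phs.fin (ct := ct2253_0) rfl) :)
theorem x2233 : AuxS.{u} (cP4) s2233 0 a2233 := aux_base3 tw883 rfl b2233
theorem x2233_1 : AuxS.{u} (cP4) s2233 0 a2233_1 := x2233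
theorem n2233 : Sound.{u} (cP4) s2233 0 :=
  (x2233_1.jump c2233_0 c2233_1 n2253 :)
theorem x2234 : AuxS.{u} (cP4) s2234 0 a2234 := aux_base3 tw883 rfl b2234
theorem n2234 : Sound.{u} (cP4) s2234 0 :=
  (x2234.k4 c2234_0 :)
theorem x2235 : AuxS.{u} (cP4) s2235 0 a2235 := aux_base3 tw883 rfl b2235
theorem n2235 : Sound.{u} (cP4) s2235 0 :=
  (x2235.k4 c2235_0 :)
theorem x2236 : AuxS.{u} (cP4) s2236 0 a2236 := aux_base3 tw883 rfl b2236
theorem n2236 : Sound.{u} (cP4) s2236 0 :=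
  (x2236.k4 c2236_0 :)
theorem x2237 : AuxS.{u} (cP4) s2237 0 a2237 := aux_base3 tw883 rfl b2237
theorem n2237 : Sound.{u} (cP4) s2237 0 :=
  (x2237.k4 c2237_0 :)
theorem x2238 : AuxS.{u} (cP4) s2238 0 a2238 := aux_base3 tw883 rfl b2238
theorem n2238 : Sound.{u} (cP4) s2238 0 :=
  (x2238.k4 c2238_0 :)
theorem x2239 : AuxS.{u} (cP4) s2239 0 a2239 := aux_base3 tw883 rfl b2239
theorem n2239 : Sound.{u} (cP4) s2239 0 :=
  (x2239.k4 c2239_0 :)
theorem x2240 : AuxS.{u} (cP4) s2240 0 a2240 := aux_base3 tw883 rfl b2240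
theorem n2240 : Sound.{u} (cP4) s2240 0 :=
  (x2240.k4 c2240_0 :)
theorem x2241 : AuxS.{u} (cP4) s2241 0 a2241 := aux_base3 tw883 rfl b2241
theorem n2241 : Sound.{u} (cP4) s2241 0 :=
  (x2241.k4 c2241_0 :)
theorem x2242 : AuxS.{u} (cP4) s2242 0 a2242 := aux_base3 tw883 rfl b2242
theorem n2242 : Sound.{u} (cP4) s2242 0 :=
  (x2242.k4 c2242_0 :)
theorem x2243 : AuxS.{u} (cP4) s2243 0 a2243 := aux_base3 tw883 rfl b2243
theorem n2243 : Sound.{u} (cP4) s2243 0 :=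
  (x2243.k4 c2243_0 :)
theorem x2244 : AuxS.{u} (cP4) s2244 0 a2244 := aux_base3 tw883 rfl b2244
theorem n2244 : Sound.{u} (cP4) s2244 0 :=
  (x2244.k4 c2244_0 :)
theorem x2245 : AuxS.{u} (cP4) s2245 0 a2245 := aux_base3 tw883 rfl b2245
theorem n2245 : Sound.{u} (cP4) s2245 0 :=
  (x2245.k4 c2245_0 :)
theorem x2246 : AuxS.{u} (cP4) s2246 0 a2246 := aux_base3 tw883 rfl b2246
theorem n2246 : Sound.{u} (cP4) s2246 0 :=
  (x2246.k4 c2246_0 :)
theorem x2247 : AuxS.{u} (cP4) s2247 0 a2247 := aux_base3 tw883 rfl b2247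
theorem n2247 : Sound.{u} (cP4) s2247 0 :=
  (x2247.k4 c2247_0 :)
theorem x2248 : AuxS.{u} (cP4) s2248 0 a2248 := aux_base3 tw883 rfl b2248
theorem n2248 : Sound.{u} (cP4) s2248 0 :=
  (x2248.k4 c2248_0 :)
theorem x2249 : AuxS.{u} (cP4) s2249 0 a2249 := aux_base3 tw883 rfl b2249
theorem n2249 : Sound.{u} (cP4) s2249 0 :=
  (x2249.k4 c2249_0 :)
theorem x2250 : AuxS.{u} (cP4) s2250 0 a2250 := aux_base3 tw883 rfl b2250
theorem n2250 : Sound.{u} (cP4) s2250 0 :=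
  (x2250.k4 c2250_0 :)
theorem x2251 : AuxS.{u} (cP4) s2251 0 a2251 := aux_base3 tw883 rfl b2251
theorem n2251 : Sound.{u} (cP4) s2251 0 :=
  (x2251.k4 c2251_0 :)
theorem x2252 : AuxS.{u} (cP4) s2252 0 a2252 := aux_base3 tw883 rfl b2252
theorem n2252 : Sound.{u} (cP4) s2252 0 :=
  (x2252.k4 c2252_0 :)
theorem x2207 : AuxS.{u} (cP4) s2207 0 a2207 := aux_base3 tw883 rfl b2207
theorem x2207_1 : AuxS.{u} (cP4) s2207 0 a2207_1 := x2207
theorem n2207 : Sound.{u} (cP4) s2207 0 :=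
  (x2207_1.fr (AuxS.gam x2207_1 c2207_0) (AllS.cons n2221 (AllS.cons n2222 (AllS.cons n2223 (AllS.cons n2224 (AllS.cons n2225 (AllS.cons n2226 (AllS.cons n2227 (AllS.cons n2228 (AllS.cons n2229 (AllS.cons n2230 (AllS.cons n2231 (AllS.cons n2232 (AllS.cons n2233 (AllS.cons n2234 (AllS.cons n2235 (AllS.cons n2236 (AllS.cons n2237 (AllS.cons n2238 (AllS.cons n2239 (AllS.cons n2240 (AllS.cons n2241 (AllS.cons n2242 (AllS.cons n2243 (AllS.cons n2244 (AllS.cons n2245 (AllS.cons n2246 (AllS.cons n2247 (AllS.cons n2248 (AllS.cons n2249 (AllS.cons n2250 (AllS.cons n2251 (AllS.cons n2252 AllS.nil)))))))))))))))))))))))))))))))) c2207_1 :)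
theorem x2208 : AuxS.{u} (cP4) s2208 0 a2208 := aux_base3 tw884 rfl b2208
theorem x2208_1 : AuxS.{u} (cP4) s2208 0 a2208_1 := x2208
theorem n2208 : Sound.{u} (cP4) s2208 0 :=
  (x2208_1.fr GamS.nil AllS.nil c2208_0 :)
theorem x2209 : AuxS.{u} (cP4) s2209 0 a2209 := aux_base3 tw885 rfl b2209
theorem x2209_1 : AuxS.{u} (cP4) s2209 0 a2209_1 := x2209
theorem x2209_2 : AuxS.{u} (cP4) s2209 0 a2209_2 := x2209_1
theorem n2209 : Sound.{u} (cP4) s2209 0 :=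
  (x2209_2.fr GamS.nil AllS.nil c2209_0 :)
theorem x2210 : AuxS.{u} (cP4) s2210 0 a2210 := aux_base3 tw886 rfl b2210
theorem x2210_1 : AuxS.{u} (cP4) s2210 0 a2210_1 := x2210
theorem n2210 : Sound.{u} (cP4) s2210 0 :=
  (x2210_1.fr GamS.nil AllS.nil c2210_0 :)
theorem x2211 : AuxS.{u} (cP4) s2211 0 a2211 := aux_base3 tw887 rfl b2211
theorem x2211_1 : AuxS.{u} (cP4) s2211 0 a2211_1 := x2211
theorem n2211 : Sound.{u} (cP4) s2211 0 :=
  (x2211_1.fr GamS.nil AllS.nil c2211_0 :)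
theorem x2212 : AuxS.{u} (cP4) s2212 0 a2212 := aux_base3 tw888 rfl b2212
theorem x2212_1 : AuxS.{u} (cP4) s2212 0 a2212_1 := x2212
theorem n2212 : Sound.{u} (cP4) s2212 0 :=
  (x2212_1.fr GamS.nil AllS.nil c2212_0 :)
theorem x2213 : AuxS.{u} (cP4) s2213 0 a2213 := aux_base3 tw889 rfl b2213
theorem x2213_1 : AuxS.{u} (cP4) s2213 0 a2213_1 := x2213
theorem x2213_2 : AuxS.{u} (cP4) s2213 0 a2213_2 := x2213_1
theorem n2213 : Sound.{u} (cP4) s2213 0 :=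
  (x2213_2.fr GamS.nil AllS.nil c2213_0 :)
theorem x2214 : AuxS.{u} (cP4) s2214 0 a2214 := aux_base3 tw890 rfl b2214
theorem x2214_1 : AuxS.{u} (cP4) s2214 0 a2214_1 := x2214
theorem n2214 : Sound.{u} (cP4) s2214 0 :=
  (x2214_1.fr GamS.nil AllS.nil c2214_0 :)
theorem x2215 : AuxS.{u} (cP4) s2215 0 a2215 := aux_base3 tw891 rfl b2215
theorem x2215_1 : AuxS.{u} (cP4) s2215 0 a2215_1 := x2215
theorem n2215 : Sound.{u} (cP4) s2215 0 :=
  (x2215_1.fr GamS.nil AllS.nil c2215_0 :)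
theorem x2216 : AuxS.{u} (cP4) s2216 0 a2216 := aux_base3 tw892 rfl b2216
theorem x2216_1 : AuxS.{u} (cP4) s2216 0 a2216_1 := x2216
theorem x2216_2 : AuxS.{u} (cP4) s2216 0 a2216_2 := x2216_1
theorem n2216 : Sound.{u} (cP4) s2216 0 :=
  (x2216_2.fr GamS.nil AllS.nil c2216_0 :)
theorem x2217 : AuxS.{u} (cP4) s2217 0 a2217 := aux_base3 tw893 rfl b2217
theorem x2217_1 : AuxS.{u} (cP4) s2217 0 a2217_1 := x2217
theorem n2217 : Sound.{u} (cP4) s2217 0 :=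
  (x2217_1.fr GamS.nil AllS.nil c2217_0 :)
theorem x2218 : AuxS.{u} (cP4) s2218 0 a2218 := aux_base3 tw894 rfl b2218
theorem x2218_1 : AuxS.{u} (cP4) s2218 0 a2218_1 := x2218
theorem n2218 : Sound.{u} (cP4) s2218 0 :=
  (x2218_1.fr GamS.nil AllS.nil c2218_0 :)
theorem x2219 : AuxS.{u} (cP4) s2219 0 a2219 := aux_base3 tw895 rfl b2219
theorem x2219_1 : AuxS.{u} (cP4) s2219 0 a2219_1 := x2219
theorem n2219 : Sound.{u} (cP4) s2219 0 :=
  (x2219_1.fr GamS.nil AllS.nil c2219_0 :)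
theorem x2220 : AuxS.{u} (cP4) s2220 0 a2220 := aux_base3 tw896 rfl b2220
theorem x2220_1 : AuxS.{u} (cP4) s2220 0 a2220_1 := x2220
theorem n2220 : Sound.{u} (cP4) s2220 0 :=
  (x2220_1.fr GamS.nil AllS.nil c2220_0 :)
theorem x2192 : AuxS.{u} (cP4) s2192 0 a2192 := aux_base3 tw868 rfl b2192
theorem x2192_1 : AuxS.{u} (cP4) s2192 0 a2192_1 := (AuxS.up x2192 c2192_7 :)
theorem x2192_2 : AuxS.{u} (cP4) s2192 0 a2192_2 := x2192_1
theorem p2192_0_1 : Phs s2192 a2192_2 (List.map Prod.fst g2192_0) [s2205, s2206, s2207, s2208, s2209, s2210, s2211, s2212, s2213, s2214, s2215, s2216, s2217, s2218, s2219, s2220] ct2192_0 v2192_0 5 w2192_0_1 := (Phs.fin c2192_1)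
theorem p2192_0_3 : Phs s2192 a2192_2 (List.map Prod.fst g2192_0) [s2205, s2206, s2207, s2208, s2209, s2210, s2211, s2212, s2213, s2214, s2215, s2216, s2217, s2218, s2219, s2220] ct2192_0 v2192_0 4 w2192_0_3 := (Phs.stp c2192_2 p2192_0_1)
theorem p2192_0_5 : Phs s2192 a2192_2 (List.map Prod.fst g2192_0) [s2205, s2206, s2207, s2208, s2209, s2210, s2211, s2212, s2213, s2214, s2215, s2216, s2217, s2218, s2219, s2220] ct2192_0 v2192_0 3 w2192_0_5 := (Phs.stp c2192_3 p2192_0_3)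
theorem p2192_0_7 : Phs s2192 a2192_2 (List.map Prod.fst g2192_0) [s2205, s2206, s2207, s2208, s2209, s2210, s2211, s2212, s2213, s2214, s2215, s2216, s2217, s2218, s2219, s2220] ct2192_0 v2192_0 1 w2192_0_7 := (Phs.stp c2192_4 p2192_0_5)
theorem n2192 : Sound.{u} (cP4) s2192 0 :=
  (x2192_2.ext2 (fun h => absurd h (by decide)) (AuxS.gam x2192_2 c2192_0) (AllS.cons n2205 (AllS.cons n2206 (AllS.cons n2207 (AllS.cons n2208 (AllS.cons n2209 (AllS.cons n2210 (AllS.cons n2211 (AllS.cons n2212 (AllS.cons n2213 (AllS.cons n2214 (AllS.cons n2215 (AllS.cons n2216 (AllS.cons n2217 (AllS.cons n2218 (AllS.cons n2219 (AllS.cons n2220 AllS.nil)))))))))))))))) c2192_6 (Phs.stp c2192_5 p2192_0_7) (Phs.fin (ct := ct2192_0) rfl) :)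
theorem x2193 : AuxS.{u} (cP4) s2193 0 a2193 := aux_base3 tw869 rfl b2193
theorem x2193_1 : AuxS.{u} (cP4) s2193 0 a2193_1 := (AuxS.up x2193 c2193_1 :)
theorem n2193 : Sound.{u} (cP4) s2193 0 :=
  (x2193_1.k7 c2193_0 :)
theorem x2194 : AuxS.{u} (cP4) s2194 0 a2194 := aux_base3 tw870 rfl b2194
theorem x2194_1 : AuxS.{u} (cP4) s2194 0 a2194_1 := (AuxS.up x2194 c2194_1 :)
theorem n2194 : Sound.{u} (cP4) s2194 0 :=
  (x2194_1.k7 c2194_0 :)
theorem x2267 : AuxS.{u} (cP4) s2267 0 a2267 := aux_base3 tw908 rfl b2267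
theorem x2267_1 : AuxS.{u} (cP4) s2267 0 a2267_1 := x2267
theorem x2267_2 : AuxS.{u} (cP4) s2267 0 a2267_2 := x2267_1
theorem n2267 : Sound.{u} (cP4) s2267 0 :=
  (x2267_2.fr GamS.nil AllS.nil c2267_0 :)
theorem x2268 : AuxS.{u} (cP4) s2268 0 a2268 := aux_base3 tw909 rfl b2268
theorem x2268_1 : AuxS.{u} (cP4) s2268 0 a2268_1 := x2268
theorem x2268_2 : AuxS.{u} (cP4) s2268 0 a2268_2 := x2268_1
theorem n2268 : Sound.{u} (cP4) s2268 0 :=
  (x2268_2.fr GamS.nil AllS.nil c2268_0 :)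
theorem x2315 : AuxS.{u} (cP4) s2315 0 a2315 := aux_base3 tw871 rfl b2315
theorem x2315_1 : AuxS.{u} (cP4) s2315 0 a2315_1 := (AuxS.up x2315 c2315_4 :)
theorem x2315_2 : AuxS.{u} (cP4) s2315 0 a2315_2 := (AuxS.up2 x2315_1 c2315_5 :)
theorem x2315_3 : AuxS.{u} (cP4) s2315 0 a2315_3 := x2315_2
theorem p2315_0_1 : Phs s2315 a2315_3 [] [] ct2315_0 v2315_0 4 w2315_0_1 := (Phs.fin c2315_0)
theorem p2315_0_3 : Phs s2315 a2315_3 [] [] ct2315_0 v2315_0 1 w2315_0_3 := (Phs.stp c2315_1 p2315_0_1)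
theorem n2315 : Sound.{u} (cP4) s2315 0 :=
  (x2315_3.ext2 (fun h => absurd h (by decide)) GamS.nil AllS.nil c2315_3 (Phs.stp c2315_2 p2315_0_3) (Phs.fin (ct := ct2315_0) rfl) :)
theorem x2283 : AuxS.{u} (cP4) s2283 0 a2283 := aux_base3 tw910 rfl b2283
theorem x2283_1 : AuxS.{u} (cP4) s2283 0 a2283_1 := x2283
theorem x2283_2 : AuxS.{u} (cP4) s2283 0 a2283_2 := x2283_1
theorem x2283_3 : AuxS.{u} (cP4) s2283 0 a2283_3 := x2283_2
theorem n2283 : Sound.{u} (cP4) s2283 0 :=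
  (x2283_3.jump c2283_0 c2283_1 n2315 :)
theorem x2284 : AuxS.{u} (cP4) s2284 0 a2284 := aux_base3 tw910 rfl b2284
theorem n2284 : Sound.{u} (cP4) s2284 0 :=
  (x2284.k4 c2284_0 :)
theorem x2285 : AuxS.{u} (cP4) s2285 0 a2285 := aux_base3 tw910 rfl b2285
theorem n2285 : Sound.{u} (cP4) s2285 0 :=
  (x2285.k4 c2285_0 :)
theorem x2286 : AuxS.{u} (cP4) s2286 0 a2286 := aux_base3 tw910 rfl b2286
theorem n2286 : Sound.{u} (cP4) s2286 0 :=
  (x2286.k4 c2286_0 :)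
theorem x2287 : AuxS.{u} (cP4) s2287 0 a2287 := aux_base3 tw910 rfl b2287
theorem n2287 : Sound.{u} (cP4) s2287 0 :=
  (x2287.k4 c2287_0 :)
theorem x2288 : AuxS.{u} (cP4) s2288 0 a2288 := aux_base3 tw910 rfl b2288
theorem n2288 : Sound.{u} (cP4) s2288 0 :=
  (x2288.k4 c2288_0 :)
theorem x2289 : AuxS.{u} (cP4) s2289 0 a2289 := aux_base3 tw910 rfl b2289
theorem n2289 : Sound.{u} (cP4) s2289 0 :=
  (x2289.k4 c2289_0 :)
theorem x2290 : AuxS.{u} (cP4) s2290 0 a2290 := aux_base3 tw910 rfl b2290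
theorem n2290 : Sound.{u} (cP4) s2290 0 :=
  (x2290.k4 c2290_0 :)
theorem x2291 : AuxS.{u} (cP4) s2291 0 a2291 := aux_base3 tw910 rfl b2291
theorem n2291 : Sound.{u} (cP4) s2291 0 :=
  (x2291.k4 c2291_0 :)
theorem x2292 : AuxS.{u} (cP4) s2292 0 a2292 := aux_base3 tw910 rfl b2292
theorem n2292 : Sound.{u} (cP4) s2292 0 :=
  (x2292.k4 c2292_0 :)
theorem x2293 : AuxS.{u} (cP4) s2293 0 a2293 := aux_base3 tw910 rfl b2293
theorem n2293 : Sound.{u} (cP4) s2293 0 :=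
  (x2293.k4 c2293_0 :)
theorem x2294 : AuxS.{u} (cP4) s2294 0 a2294 := aux_base3 tw910 rfl b2294
theorem n2294 : Sound.{u} (cP4) s2294 0 :=
  (x2294.k4 c2294_0 :)
theorem x2295 : AuxS.{u} (cP4) s2295 0 a2295 := aux_base3 tw910 rfl b2295
theorem n2295 : Sound.{u} (cP4) s2295 0 :=
  (x2295.k4 c2295_0 :)
theorem x2296 : AuxS.{u} (cP4) s2296 0 a2296 := aux_base3 tw910 rfl b2296
theorem n2296 : Sound.{u} (cP4) s2296 0 :=
  (x2296.k4 c2296_0 :)
theorem x2297 : AuxS.{u} (cP4) s2297 0 a2297 := aux_base3 tw910 rfl b2297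
theorem n2297 : Sound.{u} (cP4) s2297 0 :=
  (x2297.k4 c2297_0 :)
theorem x2298 : AuxS.{u} (cP4) s2298 0 a2298 := aux_base3 tw910 rfl b2298
theorem n2298 : Sound.{u} (cP4) s2298 0 :=
  (x2298.k4 c2298_0 :)
theorem x2299 : AuxS.{u} (cP4) s2299 0 a2299 := aux_base3 tw910 rfl b2299
theorem n2299 : Sound.{u} (cP4) s2299 0 :=
  (x2299.k4 c2299_0 :)
theorem x2300 : AuxS.{u} (cP4) s2300 0 a2300 := aux_base3 tw910 rfl b2300
theorem n2300 : Sound.{u} (cP4) s2300 0 :=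
  (x2300.k4 c2300_0 :)
theorem x2301 : AuxS.{u} (cP4) s2301 0 a2301 := aux_base3 tw910 rfl b2301
theorem n2301 : Sound.{u} (cP4) s2301 0 :=
  (x2301.k4 c2301_0 :)
theorem x2302 : AuxS.{u} (cP4) s2302 0 a2302 := aux_base3 tw910 rfl b2302
theorem n2302 : Sound.{u} (cP4) s2302 0 :=
  (x2302.k4 c2302_0 :)
theorem x2303 : AuxS.{u} (cP4) s2303 0 a2303 := aux_base3 tw910 rfl b2303
theorem n2303 : Sound.{u} (cP4) s2303 0 :=
  (x2303.k4 c2303_0 :)
theorem x2304 : AuxS.{u} (cP4) s2304 0 a2304 := aux_base3 tw910 rfl b2304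
theorem n2304 : Sound.{u} (cP4) s2304 0 :=
  (x2304.k4 c2304_0 :)
theorem x2305 : AuxS.{u} (cP4) s2305 0 a2305 := aux_base3 tw910 rfl b2305
theorem n2305 : Sound.{u} (cP4) s2305 0 :=
  (x2305.k4 c2305_0 :)
theorem x2306 : AuxS.{u} (cP4) s2306 0 a2306 := aux_base3 tw910 rfl b2306
theorem n2306 : Sound.{u} (cP4) s2306 0 :=
  (x2306.k4 c2306_0 :)
theorem x2307 : AuxS.{u} (cP4) s2307 0 a2307 := aux_base3 tw910 rfl b2307
theorem n2307 : Sound.{u} (cP4) s2307 0 :=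
  (x2307.k4 c2307_0 :)
theorem x2308 : AuxS.{u} (cP4) s2308 0 a2308 := aux_base3 tw910 rfl b2308
theorem n2308 : Sound.{u} (cP4) s2308 0 :=
  (x2308.k4 c2308_0 :)
theorem x2309 : AuxS.{u} (cP4) s2309 0 a2309 := aux_base3 tw910 rfl b2309
theorem n2309 : Sound.{u} (cP4) s2309 0 :=
  (x2309.k4 c2309_0 :)
theorem x2310 : AuxS.{u} (cP4) s2310 0 a2310 := aux_base3 tw910 rfl b2310
theorem n2310 : Sound.{u} (cP4) s2310 0 :=
  (x2310.k4 c2310_0 :)
theorem x2311 : AuxS.{u} (cP4) s2311 0 a2311 := aux_base3 tw910 rfl b2311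
theorem n2311 : Sound.{u} (cP4) s2311 0 :=
  (x2311.k4 c2311_0 :)
theorem x2312 : AuxS.{u} (cP4) s2312 0 a2312 := aux_base3 tw910 rfl b2312
theorem n2312 : Sound.{u} (cP4) s2312 0 :=
  (x2312.k4 c2312_0 :)
theorem x2313 : AuxS.{u} (cP4) s2313 0 a2313 := aux_base3 tw910 rfl b2313
theorem n2313 : Sound.{u} (cP4) s2313 0 :=
  (x2313.k4 c2313_0 :)
theorem x2314 : AuxS.{u} (cP4) s2314 0 a2314 := aux_base3 tw910 rfl b2314
theorem n2314 : Sound.{u} (cP4) s2314 0 :=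
  (x2314.k4 c2314_0 :)
theorem x2269 : AuxS.{u} (cP4) s2269 0 a2269 := aux_base3 tw910 rfl b2269
theorem x2269_1 : AuxS.{u} (cP4) s2269 0 a2269_1 := x2269
theorem x2269_2 : AuxS.{u} (cP4) s2269 0 a2269_2 := x2269_1
theorem n2269 : Sound.{u} (cP4) s2269 0 :=
  (x2269_2.fr (AuxS.gam x2269_2 c2269_0) (AllS.cons n2283 (AllS.cons n2284 (AllS.cons n2285 (AllS.cons n2286 (AllS.cons n2287 (AllS.cons n2288 (AllS.cons n2289 (AllS.cons n2290 (AllS.cons n2291 (AllS.cons n2292 (AllS.cons n2293 (AllS.cons n2294 (AllS.cons n2295 (AllS.cons n2296 (AllS.cons n2297 (AllS.cons n2298 (AllS.cons n2299 (AllS.cons n2300 (AllS.cons n2301 (AllS.cons n2302 (AllS.cons n2303 (AllS.cons n2304 (AllS.cons n2305 (AllS.cons n2306 (AllS.cons n2307 (AllS.cons n2308 (AllS.cons n2309 (AllS.cons n2310 (AllS.cons n2311 (AllS.cons n2312 (AllS.cons n2313 (AllS.cons n2314 AllS.nil)))))))))))))))))))))))))))))))) c2269_1 :)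
theorem x2270 : AuxS.{u} (cP4) s2270 0 a2270 := aux_base3 tw911 rfl b2270
theorem x2270_1 : AuxS.{u} (cP4) s2270 0 a2270_1 := x2270
theorem x2270_2 : AuxS.{u} (cP4) s2270 0 a2270_2 := x2270_1
theorem n2270 : Sound.{u} (cP4) s2270 0 :=
  (x2270_2.fr GamS.nil AllS.nil c2270_0 :)
theorem x2271 : AuxS.{u} (cP4) s2271 0 a2271 := aux_base3 tw912 rfl b2271
theorem x2271_1 : AuxS.{u} (cP4) s2271 0 a2271_1 := x2271
theorem x2271_2 : AuxS.{u} (cP4) s2271 0 a2271_2 := x2271_1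
theorem n2271 : Sound.{u} (cP4) s2271 0 :=
  (x2271_2.fr GamS.nil AllS.nil c2271_0 :)
theorem x2272 : AuxS.{u} (cP4) s2272 0 a2272 := aux_base3 tw913 rfl b2272
theorem x2272_1 : AuxS.{u} (cP4) s2272 0 a2272_1 := x2272
theorem x2272_2 : AuxS.{u} (cP4) s2272 0 a2272_2 := x2272_1
theorem n2272 : Sound.{u} (cP4) s2272 0 :=
  (x2272_2.fr GamS.nil AllS.nil c2272_0 :)
theorem x2273 : AuxS.{u} (cP4) s2273 0 a2273 := aux_base3 tw914 rfl b2273
theorem x2273_1 : AuxS.{u} (cP4) s2273 0 a2273_1 := x2273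
theorem x2273_2 : AuxS.{u} (cP4) s2273 0 a2273_2 := x2273_1
theorem n2273 : Sound.{u} (cP4) s2273 0 :=
  (x2273_2.fr GamS.nil AllS.nil c2273_0 :)
theorem x2274 : AuxS.{u} (cP4) s2274 0 a2274 := aux_base3 tw915 rfl b2274
theorem x2274_1 : AuxS.{u} (cP4) s2274 0 a2274_1 := x2274
theorem x2274_2 : AuxS.{u} (cP4) s2274 0 a2274_2 := x2274_1
theorem n2274 : Sound.{u} (cP4) s2274 0 :=
  (x2274_2.fr GamS.nil AllS.nil c2274_0 :)
theorem x2275 : AuxS.{u} (cP4) s2275 0 a2275 := aux_base3 tw916 rfl b2275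
theorem x2275_1 : AuxS.{u} (cP4) s2275 0 a2275_1 := x2275
theorem x2275_2 : AuxS.{u} (cP4) s2275 0 a2275_2 := x2275_1
theorem n2275 : Sound.{u} (cP4) s2275 0 :=
  (x2275_2.fr GamS.nil AllS.nil c2275_0 :)
theorem x2276 : AuxS.{u} (cP4) s2276 0 a2276 := aux_base3 tw917 rfl b2276
theorem x2276_1 : AuxS.{u} (cP4) s2276 0 a2276_1 := x2276
theorem x2276_2 : AuxS.{u} (cP4) s2276 0 a2276_2 := x2276_1
theorem n2276 : Sound.{u} (cP4) s2276 0 :=
  (x2276_2.fr GamS.nil AllS.nil c2276_0 :)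
theorem x2277 : AuxS.{u} (cP4) s2277 0 a2277 := aux_base3 tw918 rfl b2277
theorem x2277_1 : AuxS.{u} (cP4) s2277 0 a2277_1 := x2277
theorem x2277_2 : AuxS.{u} (cP4) s2277 0 a2277_2 := x2277_1
theorem n2277 : Sound.{u} (cP4) s2277 0 :=
  (x2277_2.fr GamS.nil AllS.nil c2277_0 :)
theorem x2278 : AuxS.{u} (cP4) s2278 0 a2278 := aux_base3 tw919 rfl b2278
theorem x2278_1 : AuxS.{u} (cP4) s2278 0 a2278_1 := x2278
theorem x2278_2 : AuxS.{u} (cP4) s2278 0 a2278_2 := x2278_1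
theorem n2278 : Sound.{u} (cP4) s2278 0 :=
  (x2278_2.fr GamS.nil AllS.nil c2278_0 :)
theorem x2279 : AuxS.{u} (cP4) s2279 0 a2279 := aux_base3 tw920 rfl b2279
theorem x2279_1 : AuxS.{u} (cP4) s2279 0 a2279_1 := x2279
theorem x2279_2 : AuxS.{u} (cP4) s2279 0 a2279_2 := x2279_1
theorem n2279 : Sound.{u} (cP4) s2279 0 :=
  (x2279_2.fr GamS.nil AllS.nil c2279_0 :)
theorem x2280 : AuxS.{u} (cP4) s2280 0 a2280 := aux_base3 tw921 rfl b2280
theorem x2280_1 : AuxS.{u} (cP4) s2280 0 a2280_1 := x2280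
theorem x2280_2 : AuxS.{u} (cP4) s2280 0 a2280_2 := x2280_1
theorem n2280 : Sound.{u} (cP4) s2280 0 :=
  (x2280_2.fr GamS.nil AllS.nil c2280_0 :)
theorem x2281 : AuxS.{u} (cP4) s2281 0 a2281 := aux_base3 tw922 rfl b2281
theorem x2281_1 : AuxS.{u} (cP4) s2281 0 a2281_1 := x2281
theorem x2281_2 : AuxS.{u} (cP4) s2281 0 a2281_2 := x2281_1
theorem n2281 : Sound.{u} (cP4) s2281 0 :=
  (x2281_2.fr GamS.nil AllS.nil c2281_0 :)
theorem x2282 : AuxS.{u} (cP4) s2282 0 a2282 := aux_base3 tw923 rfl b2282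
theorem x2282_1 : AuxS.{u} (cP4) s2282 0 a2282_1 := x2282
theorem x2282_2 : AuxS.{u} (cP4) s2282 0 a2282_2 := x2282_1
theorem n2282 : Sound.{u} (cP4) s2282 0 :=
  (x2282_2.fr GamS.nil AllS.nil c2282_0 :)
theorem x2195 : AuxS.{u} (cP4) s2195 0 a2195 := aux_base3 tw871 rfl b2195
theorem x2195_1 : AuxS.{u} (cP4) s2195 0 a2195_1 := (AuxS.up x2195 c2195_7 :)
theorem x2195_2 : AuxS.{u} (cP4) s2195 0 a2195_2 := x2195_1
theorem p2195_0_1 : Phs s2195 a2195_2 (List.map Prod.fst g2195_0) [s2267, s2268, s2269, s2270, s2271, s2272, s2273, s2274, s2275, s2276, s2277, s2278, s2279, s2280, s2281, s2282] ct2195_0 v2195_0 5 w2195_0_1 := (Phs.fin c2195_1)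
theorem p2195_0_3 : Phs s2195 a2195_2 (List.map Prod.fst g2195_0) [s2267, s2268, s2269, s2270, s2271, s2272, s2273, s2274, s2275, s2276, s2277, s2278, s2279, s2280, s2281, s2282] ct2195_0 v2195_0 4 w2195_0_3 := (Phs.stp c2195_2 p2195_0_1)
theorem p2195_0_5 : Phs s2195 a2195_2 (List.map Prod.fst g2195_0) [s2267, s2268, s2269, s2270, s2271, s2272, s2273, s2274, s2275, s2276, s2277, s2278, s2279, s2280, s2281, s2282] ct2195_0 v2195_0 3 w2195_0_5 := (Phs.stp c2195_3 p2195_0_3)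
theorem p2195_0_7 : Phs s2195 a2195_2 (List.map Prod.fst g2195_0) [s2267, s2268, s2269, s2270, s2271, s2272, s2273, s2274, s2275, s2276, s2277, s2278, s2279, s2280, s2281, s2282] ct2195_0 v2195_0 1 w2195_0_7 := (Phs.stp c2195_4 p2195_0_5)
theorem n2195 : Sound.{u} (cP4) s2195 0 :=
  (x2195_2.ext2 (fun h => absurd h (by decide)) (AuxS.gam x2195_2 c2195_0) (AllS.cons n2267 (AllS.cons n2268 (AllS.cons n2269 (AllS.cons n2270 (AllS.cons n2271 (AllS.cons n2272 (AllS.cons n2273 (AllS.cons n2274 (AllS.cons n2275 (AllS.cons n2276 (AllS.cons n2277 (AllS.cons n2278 (AllS.cons n2279 (AllS.cons n2280 (AllS.cons n2281 (AllS.cons n2282 AllS.nil)))))))))))))))) c2195_6 (Phs.stp c2195_5 p2195_0_7) (Phs.fin (ct := ct2195_0) rfl) :)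
theorem x2316 : AuxS.{u} (cP4) s2316 0 a2316 := aux_base3 tw924 rfl b2316
theorem x2316_1 : AuxS.{u} (cP4) s2316 0 a2316_1 := x2316
theorem x2316_2 : AuxS.{u} (cP4) s2316 0 a2316_2 := x2316_1
theorem n2316 : Sound.{u} (cP4) s2316 0 :=
  (x2316_2.fr GamS.nil AllS.nil c2316_0 :)
theorem x2317 : AuxS.{u} (cP4) s2317 0 a2317 := aux_base3 tw925 rfl b2317
theorem x2317_1 : AuxS.{u} (cP4) s2317 0 a2317_1 := x2317
theorem x2317_2 : AuxS.{u} (cP4) s2317 0 a2317_2 := x2317_1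
theorem n2317 : Sound.{u} (cP4) s2317 0 :=
  (x2317_2.fr GamS.nil AllS.nil c2317_0 :)
theorem x2332 : AuxS.{u} (cP4) s2332 0 a2332 := aux_base3 tw926 rfl b2332
theorem n2332 : Sound.{u} (cP4) s2332 0 :=
  (x2332.k4 c2332_0 :)
theorem x2333 : AuxS.{u} (cP4) s2333 0 a2333 := aux_base3 tw926 rfl b2333
theorem n2333 : Sound.{u} (cP4) s2333 0 :=
  (x2333.k4 c2333_0 :)
theorem x2334 : AuxS.{u} (cP4) s2334 0 a2334 := aux_base3 tw926 rfl b2334
theorem n2334 : Sound.{u} (cP4) s2334 0 :=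
  (x2334.k4 c2334_0 :)
theorem x2335 : AuxS.{u} (cP4) s2335 0 a2335 := aux_base3 tw926 rfl b2335
theorem n2335 : Sound.{u} (cP4) s2335 0 :=
  (x2335.k4 c2335_0 :)
theorem x2336 : AuxS.{u} (cP4) s2336 0 a2336 := aux_base3 tw926 rfl b2336
theorem n2336 : Sound.{u} (cP4) s2336 0 :=
  (x2336.k4 c2336_0 :)
theorem x2337 : AuxS.{u} (cP4) s2337 0 a2337 := aux_base3 tw926 rfl b2337
theorem n2337 : Sound.{u} (cP4) s2337 0 :=
  (x2337.k4 c2337_0 :)
theorem x2338 : AuxS.{u} (cP4) s2338 0 a2338 := aux_base3 tw926 rfl b2338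
theorem n2338 : Sound.{u} (cP4) s2338 0 :=
  (x2338.k4 c2338_0 :)
theorem x2339 : AuxS.{u} (cP4) s2339 0 a2339 := aux_base3 tw926 rfl b2339
theorem n2339 : Sound.{u} (cP4) s2339 0 :=
  (x2339.k4 c2339_0 :)
theorem x2340 : AuxS.{u} (cP4) s2340 0 a2340 := aux_base3 tw926 rfl b2340
theorem n2340 : Sound.{u} (cP4) s2340 0 :=
  (x2340.k4 c2340_0 :)
theorem x2341 : AuxS.{u} (cP4) s2341 0 a2341 := aux_base3 tw926 rfl b2341
theorem n2341 : Sound.{u} (cP4) s2341 0 :=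
  (x2341.k4 c2341_0 :)
theorem x2342 : AuxS.{u} (cP4) s2342 0 a2342 := aux_base3 tw926 rfl b2342
theorem n2342 : Sound.{u} (cP4) s2342 0 :=
  (x2342.k4 c2342_0 :)
theorem x2343 : AuxS.{u} (cP4) s2343 0 a2343 := aux_base3 tw926 rfl b2343
theorem n2343 : Sound.{u} (cP4) s2343 0 :=
  (x2343.k4 c2343_0 :)
theorem x2364 : AuxS.{u} (cP4) s2364 0 a2364 := aux_base3 tw872 rfl b2364
theorem x2364_1 : AuxS.{u} (cP4) s2364 0 a2364_1 := (AuxS.up x2364 c2364_4 :)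
theorem x2364_2 : AuxS.{u} (cP4) s2364 0 a2364_2 := (AuxS.up2 x2364_1 c2364_5 :)
theorem x2364_3 : AuxS.{u} (cP4) s2364 0 a2364_3 := x2364_2
theorem p2364_0_1 : Phs s2364 a2364_3 [] [] ct2364_0 v2364_0 4 w2364_0_1 := (Phs.fin c2364_0)
theorem p2364_0_3 : Phs s2364 a2364_3 [] [] ct2364_0 v2364_0 1 w2364_0_3 := (Phs.stp c2364_1 p2364_0_1)
theorem n2364 : Sound.{u} (cP4) s2364 0 :=
  (x2364_3.ext2 (fun h => absurd h (by decide)) GamS.nil AllS.nil c2364_3 (Phs.stp c2364_2 p2364_0_3) (Phs.fin (ct := ct2364_0) rfl) :)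
theorem x2344 : AuxS.{u} (cP4) s2344 0 a2344 := aux_base3 tw926 rfl b2344
theorem x2344_1 : AuxS.{u} (cP4) s2344 0 a2344_1 := x2344
theorem x2344_2 : AuxS.{u} (cP4) s2344 0 a2344_2 := x2344_1
theorem n2344 : Sound.{u} (cP4) s2344 0 :=
  (x2344_2.jump c2344_0 c2344_1 n2364 :)
theorem x2345 : AuxS.{u} (cP4) s2345 0 a2345 := aux_base3 tw926 rfl b2345
theorem n2345 : Sound.{u} (cP4) s2345 0 :=
  (x2345.k4 c2345_0 :)
theorem x2346 : AuxS.{u} (cP4) s2346 0 a2346 := aux_base3 tw926 rfl b2346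
theorem n2346 : Sound.{u} (cP4) s2346 0 :=
  (x2346.k4 c2346_0 :)
theorem x2347 : AuxS.{u} (cP4) s2347 0 a2347 := aux_base3 tw926 rfl b2347
theorem n2347 : Sound.{u} (cP4) s2347 0 :=
  (x2347.k4 c2347_0 :)
theorem x2348 : AuxS.{u} (cP4) s2348 0 a2348 := aux_base3 tw926 rfl b2348
theorem n2348 : Sound.{u} (cP4) s2348 0 :=
  (x2348.k4 c2348_0 :)
theorem x2349 : AuxS.{u} (cP4) s2349 0 a2349 := aux_base3 tw926 rfl b2349
theorem n2349 : Sound.{u} (cP4) s2349 0 :=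
  (x2349.k4 c2349_0 :)
theorem x2350 : AuxS.{u} (cP4) s2350 0 a2350 := aux_base3 tw926 rfl b2350
theorem n2350 : Sound.{u} (cP4) s2350 0 :=
  (x2350.k4 c2350_0 :)
theorem x2351 : AuxS.{u} (cP4) s2351 0 a2351 := aux_base3 tw926 rfl b2351
theorem n2351 : Sound.{u} (cP4) s2351 0 :=
  (x2351.k4 c2351_0 :)
theorem x2352 : AuxS.{u} (cP4) s2352 0 a2352 := aux_base3 tw926 rfl b2352
theorem n2352 : Sound.{u} (cP4) s2352 0 :=
  (x2352.k4 c2352_0 :)
theorem x2353 : AuxS.{u} (cP4) s2353 0 a2353 := aux_base3 tw926 rfl b2353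
theorem n2353 : Sound.{u} (cP4) s2353 0 :=
  (x2353.k4 c2353_0 :)
theorem x2354 : AuxS.{u} (cP4) s2354 0 a2354 := aux_base3 tw926 rfl b2354
theorem n2354 : Sound.{u} (cP4) s2354 0 :=
  (x2354.k4 c2354_0 :)
theorem x2355 : AuxS.{u} (cP4) s2355 0 a2355 := aux_base3 tw926 rfl b2355
theorem n2355 : Sound.{u} (cP4) s2355 0 :=
  (x2355.k4 c2355_0 :)
theorem x2356 : AuxS.{u} (cP4) s2356 0 a2356 := aux_base3 tw926 rfl b2356
theorem n2356 : Sound.{u} (cP4) s2356 0 :=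
  (x2356.k4 c2356_0 :)
theorem x2357 : AuxS.{u} (cP4) s2357 0 a2357 := aux_base3 tw926 rfl b2357
theorem n2357 : Sound.{u} (cP4) s2357 0 :=
  (x2357.k4 c2357_0 :)
theorem x2358 : AuxS.{u} (cP4) s2358 0 a2358 := aux_base3 tw926 rfl b2358
theorem n2358 : Sound.{u} (cP4) s2358 0 :=
  (x2358.k4 c2358_0 :)
theorem x2359 : AuxS.{u} (cP4) s2359 0 a2359 := aux_base3 tw926 rfl b2359
theorem n2359 : Sound.{u} (cP4) s2359 0 :=
  (x2359.k4 c2359_0 :)
theorem x2360 : AuxS.{u} (cP4) s2360 0 a2360 := aux_base3 tw926 rfl b2360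
theorem n2360 : Sound.{u} (cP4) s2360 0 :=
  (x2360.k4 c2360_0 :)
theorem x2361 : AuxS.{u} (cP4) s2361 0 a2361 := aux_base3 tw926 rfl b2361
theorem n2361 : Sound.{u} (cP4) s2361 0 :=
  (x2361.k4 c2361_0 :)
theorem x2362 : AuxS.{u} (cP4) s2362 0 a2362 := aux_base3 tw926 rfl b2362
theorem n2362 : Sound.{u} (cP4) s2362 0 :=
  (x2362.k4 c2362_0 :)
theorem x2363 : AuxS.{u} (cP4) s2363 0 a2363 := aux_base3 tw926 rfl b2363
theorem n2363 : Sound.{u} (cP4) s2363 0 :=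
  (x2363.k4 c2363_0 :)
theorem x2318 : AuxS.{u} (cP4) s2318 0 a2318 := aux_base3 tw926 rfl b2318
theorem x2318_1 : AuxS.{u} (cP4) s2318 0 a2318_1 := x2318
theorem x2318_2 : AuxS.{u} (cP4) s2318 0 a2318_2 := x2318_1
theorem n2318 : Sound.{u} (cP4) s2318 0 :=
  (x2318_2.fr (AuxS.gam x2318_2 c2318_0) (AllS.cons n2332 (AllS.cons n2333 (AllS.cons n2334 (AllS.cons n2335 (AllS.cons n2336 (AllS.cons n2337 (AllS.cons n2338 (AllS.cons n2339 (AllS.cons n2340 (AllS.cons n2341 (AllS.cons n2342 (AllS.cons n2343 (AllS.cons n2344 (AllS.cons n2345 (AllS.cons n2346 (AllS.cons n2347 (AllS.cons n2348 (AllS.cons n2349 (AllS.cons n2350 (AllS.cons n2351 (AllS.cons n2352 (AllS.cons n2353 (AllS.cons n2354 (AllS.cons n2355 (AllS.cons n2356 (AllS.cons n2357 (AllS.cons n2358 (AllS.cons n2359 (AllS.cons n2360 (AllS.cons n2361 (AllS.cons n2362 (AllS.cons n2363 AllS.nil)))))))))))))))))))))))))))))))) c2318_1 :)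
theorem x2319 : AuxS.{u} (cP4) s2319 0 a2319 := aux_base3 tw927 rfl b2319
theorem x2319_1 : AuxS.{u} (cP4) s2319 0 a2319_1 := x2319
theorem x2319_2 : AuxS.{u} (cP4) s2319 0 a2319_2 := x2319_1
theorem n2319 : Sound.{u} (cP4) s2319 0 :=
  (x2319_2.fr GamS.nil AllS.nil c2319_0 :)
theorem x2320 : AuxS.{u} (cP4) s2320 0 a2320 := aux_base3 tw928 rfl b2320
theorem x2320_1 : AuxS.{u} (cP4) s2320 0 a2320_1 := x2320
theorem x2320_2 : AuxS.{u} (cP4) s2320 0 a2320_2 := x2320_1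
theorem n2320 : Sound.{u} (cP4) s2320 0 :=
  (x2320_2.fr GamS.nil AllS.nil c2320_0 :)
theorem x2321 : AuxS.{u} (cP4) s2321 0 a2321 := aux_base3 tw929 rfl b2321
theorem x2321_1 : AuxS.{u} (cP4) s2321 0 a2321_1 := x2321
theorem x2321_2 : AuxS.{u} (cP4) s2321 0 a2321_2 := x2321_1
theorem n2321 : Sound.{u} (cP4) s2321 0 :=
  (x2321_2.fr GamS.nil AllS.nil c2321_0 :)
theorem x2322 : AuxS.{u} (cP4) s2322 0 a2322 := aux_base3 tw930 rfl b2322
theorem x2322_1 : AuxS.{u} (cP4) s2322 0 a2322_1 := x2322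
theorem x2322_2 : AuxS.{u} (cP4) s2322 0 a2322_2 := x2322_1
theorem n2322 : Sound.{u} (cP4) s2322 0 :=
  (x2322_2.fr GamS.nil AllS.nil c2322_0 :)
theorem x2323 : AuxS.{u} (cP4) s2323 0 a2323 := aux_base3 tw931 rfl b2323
theorem x2323_1 : AuxS.{u} (cP4) s2323 0 a2323_1 := x2323
theorem x2323_2 : AuxS.{u} (cP4) s2323 0 a2323_2 := x2323_1
theorem n2323 : Sound.{u} (cP4) s2323 0 :=
  (x2323_2.fr GamS.nil AllS.nil c2323_0 :)
theorem x2324 : AuxS.{u} (cP4) s2324 0 a2324 := aux_base3 tw932 rfl b2324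
theorem x2324_1 : AuxS.{u} (cP4) s2324 0 a2324_1 := x2324
theorem x2324_2 : AuxS.{u} (cP4) s2324 0 a2324_2 := x2324_1
theorem n2324 : Sound.{u} (cP4) s2324 0 :=
  (x2324_2.fr GamS.nil AllS.nil c2324_0 :)
theorem x2325 : AuxS.{u} (cP4) s2325 0 a2325 := aux_base3 tw933 rfl b2325
theorem x2325_1 : AuxS.{u} (cP4) s2325 0 a2325_1 := x2325
theorem x2325_2 : AuxS.{u} (cP4) s2325 0 a2325_2 := x2325_1
theorem n2325 : Sound.{u} (cP4) s2325 0 :=
  (x2325_2.fr GamS.nil AllS.nil c2325_0 :)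
theorem x2326 : AuxS.{u} (cP4) s2326 0 a2326 := aux_base3 tw934 rfl b2326
theorem x2326_1 : AuxS.{u} (cP4) s2326 0 a2326_1 := x2326
theorem x2326_2 : AuxS.{u} (cP4) s2326 0 a2326_2 := x2326_1
theorem n2326 : Sound.{u} (cP4) s2326 0 :=
  (x2326_2.fr GamS.nil AllS.nil c2326_0 :)
theorem x2327 : AuxS.{u} (cP4) s2327 0 a2327 := aux_base3 tw935 rfl b2327
theorem x2327_1 : AuxS.{u} (cP4) s2327 0 a2327_1 := x2327
theorem x2327_2 : AuxS.{u} (cP4) s2327 0 a2327_2 := x2327_1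
theorem n2327 : Sound.{u} (cP4) s2327 0 :=
  (x2327_2.fr GamS.nil AllS.nil c2327_0 :)
theorem x2328 : AuxS.{u} (cP4) s2328 0 a2328 := aux_base3 tw936 rfl b2328
theorem x2328_1 : AuxS.{u} (cP4) s2328 0 a2328_1 := x2328
theorem x2328_2 : AuxS.{u} (cP4) s2328 0 a2328_2 := x2328_1
theorem n2328 : Sound.{u} (cP4) s2328 0 :=
  (x2328_2.fr GamS.nil AllS.nil c2328_0 :)
theorem x2329 : AuxS.{u} (cP4) s2329 0 a2329 := aux_base3 tw937 rfl b2329
theorem x2329_1 : AuxS.{u} (cP4) s2329 0 a2329_1 := x2329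
theorem x2329_2 : AuxS.{u} (cP4) s2329 0 a2329_2 := x2329_1
theorem n2329 : Sound.{u} (cP4) s2329 0 :=
  (x2329_2.fr GamS.nil AllS.nil c2329_0 :)
theorem x2330 : AuxS.{u} (cP4) s2330 0 a2330 := aux_base3 tw938 rfl b2330
theorem x2330_1 : AuxS.{u} (cP4) s2330 0 a2330_1 := x2330
theorem x2330_2 : AuxS.{u} (cP4) s2330 0 a2330_2 := x2330_1
theorem n2330 : Sound.{u} (cP4) s2330 0 :=
  (x2330_2.fr GamS.nil AllS.nil c2330_0 :)
theorem x2331 : AuxS.{u} (cP4) s2331 0 a2331 := aux_base3 tw939 rfl b2331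
theorem x2331_1 : AuxS.{u} (cP4) s2331 0 a2331_1 := x2331
theorem x2331_2 : AuxS.{u} (cP4) s2331 0 a2331_2 := x2331_1
theorem n2331 : Sound.{u} (cP4) s2331 0 :=
  (x2331_2.fr GamS.nil AllS.nil c2331_0 :)
theorem x2196 : AuxS.{u} (cP4) s2196 0 a2196 := aux_base3 tw872 rfl b2196
theorem x2196_1 : AuxS.{u} (cP4) s2196 0 a2196_1 := (AuxS.up x2196 c2196_7 :)
theorem x2196_2 : AuxS.{u} (cP4) s2196 0 a2196_2 := (AuxS.up2 x2196_1 c2196_8 :)
theorem p2196_0_1 : Phs s2196 a2196_2 (List.map Prod.fst g2196_0) [s2316, s2317, s2318, s2319, s2320, s2321, s2322, s2323, s2324, s2325, s2326, s2327, s2328, s2329, s2330, s2331] ct2196_0 v2196_0 5 w2196_0_1 := (Phs.fin c2196_1)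
theorem p2196_0_3 : Phs s2196 a2196_2 (List.map Prod.fst g2196_0) [s2316, s2317, s2318, s2319, s2320, s2321, s2322, s2323, s2324, s2325, s2326, s2327, s2328, s2329, s2330, s2331] ct2196_0 v2196_0 4 w2196_0_3 := (Phs.stp c2196_2 p2196_0_1)
theorem p2196_0_5 : Phs s2196 a2196_2 (List.map Prod.fst g2196_0) [s2316, s2317, s2318, s2319, s2320, s2321, s2322, s2323, s2324, s2325, s2326, s2327, s2328, s2329, s2330, s2331] ct2196_0 v2196_0 3 w2196_0_5 := (Phs.stp c2196_3 p2196_0_3)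
theorem p2196_0_7 : Phs s2196 a2196_2 (List.map Prod.fst g2196_0) [s2316, s2317, s2318, s2319, s2320, s2321, s2322, s2323, s2324, s2325, s2326, s2327, s2328, s2329, s2330, s2331] ct2196_0 v2196_0 1 w2196_0_7 := (Phs.stp c2196_4 p2196_0_5)
theorem n2196 : Sound.{u} (cP4) s2196 0 :=
  (x2196_2.ext2 (fun h => absurd h (by decide)) (AuxS.gam x2196_2 c2196_0) (AllS.cons n2316 (AllS.cons n2317 (AllS.cons n2318 (AllS.cons n2319 (AllS.cons n2320 (AllS.cons n2321 (AllS.cons n2322 (AllS.cons n2323 (AllS.cons n2324 (AllS.cons n2325 (AllS.cons n2326 (AllS.cons n2327 (AllS.cons n2328 (AllS.cons n2329 (AllS.cons n2330 (AllS.cons n2331 AllS.nil)))))))))))))))) c2196_6 (Phs.stp c2196_5 p2196_0_7) (Phs.fin (ct := ct2196_0) rfl) :)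
theorem x2197 : AuxS.{u} (cP4) s2197 0 a2197 := aux_base3 tw873 rfl b2197
theorem x2197_1 : AuxS.{u} (cP4) s2197 0 a2197_1 := (AuxS.up x2197 c2197_1 :)
theorem x2197_2 : AuxS.{u} (cP4) s2197 0 a2197_2 := (AuxS.up2 x2197_1 c2197_2 :)
theorem n2197 : Sound.{u} (cP4) s2197 0 :=
  (x2197_2.k7 c2197_0 :)
theorem x2198 : AuxS.{u} (cP4) s2198 0 a2198 := aux_base3 tw874 rfl b2198
theorem x2198_1 : AuxS.{u} (cP4) s2198 0 a2198_1 := (AuxS.up x2198 c2198_1 :)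
theorem n2198 : Sound.{u} (cP4) s2198 0 :=
  (x2198_1.k7 c2198_0 :)
theorem x2199 : AuxS.{u} (cP4) s2199 0 a2199 := aux_base3 tw875 rfl b2199
theorem x2199_1 : AuxS.{u} (cP4) s2199 0 a2199_1 := (AuxS.up x2199 c2199_1 :)
theorem n2199 : Sound.{u} (cP4) s2199 0 :=
  (x2199_1.k7 c2199_0 :)
theorem x2200 : AuxS.{u} (cP4) s2200 0 a2200 := aux_base3 tw876 rfl b2200
theorem x2200_1 : AuxS.{u} (cP4) s2200 0 a2200_1 := (AuxS.up x2200 c2200_5 :)
theorem x2200_2 : AuxS.{u} (cP4) s2200 0 a2200_2 := x2200_1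
theorem x2200_3 : AuxS.{u} (cP4) s2200 0 a2200_3 := x2200_2
theorem p2200_0_1 : Phs s2200 a2200_3 [] [] ct2200_0 v2200_0 4 w2200_0_1 := (Phs.fin c2200_0)
theorem p2200_0_3 : Phs s2200 a2200_3 [] [] ct2200_0 v2200_0 3 w2200_0_3 := (Phs.stp c2200_1 p2200_0_1)
theorem p2200_0_5 : Phs s2200 a2200_3 [] [] ct2200_0 v2200_0 1 w2200_0_5 := (Phs.stp c2200_2 p2200_0_3)
theorem n2200 : Sound.{u} (cP4) s2200 0 :=
  (x2200_3.ext2 (fun h => absurd h (by decide)) GamS.nil AllS.nil c2200_4 (Phs.stp c2200_3 p2200_0_5) (Phs.fin (ct := ct2200_0) rfl) :)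
theorem x2201 : AuxS.{u} (cP4) s2201 0 a2201 := aux_base3 tw877 rfl b2201
theorem x2201_1 : AuxS.{u} (cP4) s2201 0 a2201_1 := (AuxS.up x2201 c2201_1 :)
theorem n2201 : Sound.{u} (cP4) s2201 0 :=
  (x2201_1.k7 c2201_0 :)
theorem x2202 : AuxS.{u} (cP4) s2202 0 a2202 := aux_base3 tw878 rfl b2202
theorem x2202_1 : AuxS.{u} (cP4) s2202 0 a2202_1 := (AuxS.up x2202 c2202_1 :)
theorem x2202_2 : AuxS.{u} (cP4) s2202 0 a2202_2 := (AuxS.up2 x2202_1 c2202_2 :)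
theorem n2202 : Sound.{u} (cP4) s2202 0 :=
  (x2202_2.k7 c2202_0 :)
theorem x2369 : AuxS.{u} (cP4) s2369 0 a2369 := aux_base3 tw941 rfl b2369
theorem n2369 : Sound.{u} (cP4) s2369 0 :=
  (x2369.k4 c2369_0 :)
theorem x2373 : AuxS.{u} (cP4) s2373 0 a2373 := aux_base3 tw942 rfl b2373
theorem n2373 : Sound.{u} (cP4) s2373 0 :=
  (x2373.k4 c2373_0 :)
theorem x2375 : AuxS.{u} (cP4) s2375 0 a2375 := aux_base3 tw942 rfl b2375
theorem x2375_1 : AuxS.{u} (cP4) s2375 0 a2375_1 := x2375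
theorem x2375_2 : AuxS.{u} (cP4) s2375 0 a2375_2 := x2375_1
theorem n2375 : Sound.{u} (cP4) s2375 0 :=
  (x2375_2.jump c2375_0 c2375_1 n1477 :)
theorem x2374 : AuxS.{u} (cP4) s2374 0 a2374 := aux_base3 tw942 rfl b2374
theorem x2374_1 : AuxS.{u} (cP4) s2374 0 a2374_1 := x2374
theorem x2374_2 : AuxS.{u} (cP4) s2374 0 a2374_2 := x2374_1
theorem n2374 : Sound.{u} (cP4) s2374 0 :=
  (x2374_2.jump c2374_0 c2374_1 n2375 :)
theorem x2370 : AuxS.{u} (cP4) s2370 0 a2370 := aux_base3 tw942 rfl b2370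
theorem x2370_1 : AuxS.{u} (cP4) s2370 0 a2370_1 := x2370
theorem x2370_2 : AuxS.{u} (cP4) s2370 0 a2370_2 := x2370_1
theorem n2370 : Sound.{u} (cP4) s2370 0 :=
  (x2370_2.fr GamS.nil (AllS.cons n2373 (AllS.cons n2374 AllS.nil)) c2370_0 :)
theorem x2371 : AuxS.{u} (cP4) s2371 0 a2371 := aux_base3 tw943 rfl b2371
theorem n2371 : Sound.{u} (cP4) s2371 0 :=
  (x2371.k4 c2371_0 :)
theorem x2378 : AuxS.{u} (cP4) s2378 0 a2378 := aux_base3 tw944 rfl b2378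
theorem x2378_1 : AuxS.{u} (cP4) s2378 0 a2378_1 := x2378
theorem x2378_2 : AuxS.{u} (cP4) s2378 0 a2378_2 := x2378_1
theorem n2378 : Sound.{u} (cP4) s2378 0 :=
  (x2378_2.jump c2378_0 c2378_1 n1488 :)
theorem x2376 : AuxS.{u} (cP4) s2376 0 a2376 := aux_base3 tw944 rfl b2376
theorem x2376_1 : AuxS.{u} (cP4) s2376 0 a2376_1 := x2376
theorem x2376_2 : AuxS.{u} (cP4) s2376 0 a2376_2 := x2376_1
theorem n2376 : Sound.{u} (cP4) s2376 0 :=
  (x2376_2.jump c2376_0 c2376_1 n2378 :)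
theorem x2377 : AuxS.{u} (cP4) s2377 0 a2377 := aux_base3 tw944 rfl b2377
theorem n2377 : Sound.{u} (cP4) s2377 0 :=
  (x2377.k4 c2377_0 :)
theorem x2372 : AuxS.{u} (cP4) s2372 0 a2372 := aux_base3 tw944 rfl b2372
theorem x2372_1 : AuxS.{u} (cP4) s2372 0 a2372_1 := x2372
theorem x2372_2 : AuxS.{u} (cP4) s2372 0 a2372_2 := x2372_1
theorem n2372 : Sound.{u} (cP4) s2372 0 :=
  (x2372_2.fr GamS.nil (AllS.cons n2376 (AllS.cons n2377 AllS.nil)) c2372_0 :)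
theorem x2368 : AuxS.{u} (cP4) s2368 0 a2368 := aux_base3 tw879 rfl b2368
theorem x2368_1 : AuxS.{u} (cP4) s2368 0 a2368_1 := (AuxS.up x2368 c2368_5 :)
theorem x2368_2 : AuxS.{u} (cP4) s2368 0 a2368_2 := x2368_1
theorem p2368_0_1 : Phs s2368 a2368_2 [] [s2369, s2370, s2371, s2372] ct2368_0 v2368_0 5 w2368_0_1 := (Phs.fin c2368_0)
theorem p2368_0_3 : Phs s2368 a2368_2 [] [s2369, s2370, s2371, s2372] ct2368_0 v2368_0 4 w2368_0_3 := (Phs.stp c2368_1 p2368_0_1)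
theorem p2368_0_5 : Phs s2368 a2368_2 [] [s2369, s2370, s2371, s2372] ct2368_0 v2368_0 1 w2368_0_5 := (Phs.stp c2368_2 p2368_0_3)
theorem n2368 : Sound.{u} (cP4) s2368 0 :=
  (x2368_2.ext2 (fun h => absurd h (by decide)) GamS.nil (AllS.cons n2369 (AllS.cons n2370 (AllS.cons n2371 (AllS.cons n2372 AllS.nil)))) c2368_4 (Phs.stp c2368_3 p2368_0_5) (Phs.fin (ct := ct2368_0) rfl) :)
theorem x2366 : AuxS.{u} (cP4) s2366 0 a2366 := aux_base3 tw940 rfl b2366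
theorem x2366_1 : AuxS.{u} (cP4) s2366 0 a2366_1 := x2366
theorem x2366_2 : AuxS.{u} (cP4) s2366 0 a2366_2 := x2366_1
theorem n2366 : Sound.{u} (cP4) s2366 0 :=
  (x2366_2.jump c2366_0 c2366_1 n2368 :)
theorem x2367 : AuxS.{u} (cP4) s2367 0 a2367 := aux_base3 tw940 rfl b2367
theorem n2367 : Sound.{u} (cP4) s2367 0 :=
  (x2367.k4 c2367_0 :)
theorem x2365 : AuxS.{u} (cP4) s2365 0 a2365 := aux_base3 tw940 rfl b2365
theorem x2365_1 : AuxS.{u} (cP4) s2365 0 a2365_1 := x2365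
theorem x2365_2 : AuxS.{u} (cP4) s2365 0 a2365_2 := x2365_1
theorem n2365 : Sound.{u} (cP4) s2365 0 :=
  (x2365_2.fr GamS.nil (AllS.cons n2366 (AllS.cons n2367 AllS.nil)) c2365_0 :)
theorem x2203 : AuxS.{u} (cP4) s2203 0 a2203 := aux_base3 tw879 rfl b2203
theorem x2203_1 : AuxS.{u} (cP4) s2203 0 a2203_1 := (AuxS.up x2203 c2203_7 :)
theorem x2203_2 : AuxS.{u} (cP4) s2203 0 a2203_2 := x2203_1
theorem p2203_0_1 : Phs s2203 a2203_2 (List.map Prod.fst g2203_0) [s2365] ct2203_0 v2203_0 5 w2203_0_1 := (Phs.fin c2203_1)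
theorem p2203_0_3 : Phs s2203 a2203_2 (List.map Prod.fst g2203_0) [s2365] ct2203_0 v2203_0 4 w2203_0_3 := (Phs.stp c2203_2 p2203_0_1)
theorem p2203_0_5 : Phs s2203 a2203_2 (List.map Prod.fst g2203_0) [s2365] ct2203_0 v2203_0 3 w2203_0_5 := (Phs.stp c2203_3 p2203_0_3)
theorem p2203_0_7 : Phs s2203 a2203_2 (List.map Prod.fst g2203_0) [s2365] ct2203_0 v2203_0 1 w2203_0_7 := (Phs.stp c2203_4 p2203_0_5)
theorem n2203 : Sound.{u} (cP4) s2203 0 :=
  (x2203_2.ext2 (fun h => absurd h (by decide)) (AuxS.gam x2203_2 c2203_0) (AllS.cons n2365 AllS.nil) c2203_6 (Phs.stp c2203_5 p2203_0_7) (Phs.fin (ct := ct2203_0) rfl) :)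
theorem x2204 : AuxS.{u} (cP4) s2204 0 a2204 := aux_base3 tw880 rfl b2204
theorem x2204_1 : AuxS.{u} (cP4) s2204 0 a2204_1 := (AuxS.up x2204 c2204_1 :)
theorem n2204 : Sound.{u} (cP4) s2204 0 :=
  (x2204_1.k7 c2204_0 :)
theorem x21 : AuxS.{u} (cP4) s21 0 a21 := aux_base3 tw21 rfl b21
theorem x21_1 : AuxS.{u} (cP4) s21 0 a21_1 := (AuxS.up x21 c21_4 :)
theorem p21_0_1 : Phs s21 a21_1 [] [s2189, s2190, s2191, s2192, s2193, s2194, s2195, s2196, s2197, s2198, s2199, s2200, s2201, s2202, s2203, s2204] ct21_0 v21_0 4 w21_0_1 := (Phs.fin c21_0)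
theorem p21_0_3 : Phs s21 a21_1 [] [s2189, s2190, s2191, s2192, s2193, s2194, s2195, s2196, s2197, s2198, s2199, s2200, s2201, s2202, s2203, s2204] ct21_0 v21_0 2 w21_0_3 := (Phs.stp c21_1 p21_0_1)
theorem n21 : Sound.{u} (cP4) s21 0 :=
  (x21_1.ext2 (fun h => absurd h (by decide)) GamS.nil (AllS.cons n2189 (AllS.cons n2190 (AllS.cons n2191 (AllS.cons n2192 (AllS.cons n2193 (AllS.cons n2194 (AllS.cons n2195 (AllS.cons n2196 (AllS.cons n2197 (AllS.cons n2198 (AllS.cons n2199 (AllS.cons n2200 (AllS.cons n2201 (AllS.cons n2202 (AllS.cons n2203 (AllS.cons n2204 AllS.nil)))))))))))))))) c21_3 (Phs.stp c21_2 p21_0_3) (Phs.fin (ct := ct21_0) rfl) :)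
theorem x22 : AuxS.{u} (cP4) s22 0 a22 := aux_base3 tw22 rfl b22
theorem x22_1 : AuxS.{u} (cP4) s22 0 a22_1 := (AuxS.up x22 c22_1 :)
theorem n22 : Sound.{u} (cP4) s22 0 :=
  (x22_1.k7 c22_0 :)
theorem x23 : AuxS.{u} (cP4) s23 0 a23 := aux_base3 tw23 rfl b23
theorem n23 : Sound.{u} (cP4) s23 0 :=
  (x23.k3 c23_0 :)
theorem x24 : AuxS.{u} (cP4) s24 0 a24 := aux_base3 tw24 rfl b24
theorem n24 : Sound.{u} (cP4) s24 0 :=
  (x24.k3 c24_0 :)
theorem x2508 : AuxS.{u} (cP4) s2508 0 a2508 := aux_base3 tw1009 rfl b2508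
theorem x2508_1 : AuxS.{u} (cP4) s2508 0 a2508_1 := x2508
theorem n2508 : Sound.{u} (cP4) s2508 0 :=
  (x2508_1.jump c2508_0 c2508_1 n156 :)
theorem x2509 : AuxS.{u} (cP4) s2509 0 a2509 := aux_base3 tw1010 rfl b2509
theorem x2509_1 : AuxS.{u} (cP4) s2509 0 a2509_1 := x2509
theorem n2509 : Sound.{u} (cP4) s2509 0 :=
  (x2509_1.jump c2509_0 c2509_1 n157 :)
theorem x2510 : AuxS.{u} (cP4) s2510 0 a2510 := aux_base3 tw1011 rfl b2510
theorem x2510_1 : AuxS.{u} (cP4) s2510 0 a2510_1 := x2510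
theorem n2510 : Sound.{u} (cP4) s2510 0 :=
  (x2510_1.jump c2510_0 c2510_1 n158 :)
theorem x2511 : AuxS.{u} (cP4) s2511 0 a2511 := aux_base3 tw1012 rfl b2511
theorem x2511_1 : AuxS.{u} (cP4) s2511 0 a2511_1 := x2511
theorem n2511 : Sound.{u} (cP4) s2511 0 :=
  (x2511_1.jump c2511_0 c2511_1 n159 :)
theorem x2512 : AuxS.{u} (cP4) s2512 0 a2512 := aux_base3 tw1013 rfl b2512
theorem x2512_1 : AuxS.{u} (cP4) s2512 0 a2512_1 := x2512
theorem n2512 : Sound.{u} (cP4) s2512 0 :=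
  (x2512_1.jump c2512_0 c2512_1 n160 :)
theorem x2513 : AuxS.{u} (cP4) s2513 0 a2513 := aux_base3 tw1014 rfl b2513
theorem x2513_1 : AuxS.{u} (cP4) s2513 0 a2513_1 := x2513
theorem n2513 : Sound.{u} (cP4) s2513 0 :=
  (x2513_1.jump c2513_0 c2513_1 n161 :)
theorem x2514 : AuxS.{u} (cP4) s2514 0 a2514 := aux_base3 tw1015 rfl b2514
theorem x2514_1 : AuxS.{u} (cP4) s2514 0 a2514_1 := x2514
theorem n2514 : Sound.{u} (cP4) s2514 0 :=
  (x2514_1.jump c2514_0 c2514_1 n162 :)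
theorem x2515 : AuxS.{u} (cP4) s2515 0 a2515 := aux_base3 tw1016 rfl b2515
theorem x2515_1 : AuxS.{u} (cP4) s2515 0 a2515_1 := x2515
theorem n2515 : Sound.{u} (cP4) s2515 0 :=
  (x2515_1.jump c2515_0 c2515_1 n163 :)
theorem x2516 : AuxS.{u} (cP4) s2516 0 a2516 := aux_base3 tw1017 rfl b2516
theorem x2516_1 : AuxS.{u} (cP4) s2516 0 a2516_1 := x2516
theorem n2516 : Sound.{u} (cP4) s2516 0 :=
  (x2516_1.jump c2516_0 c2516_1 n164 :)
theorem x2517 : AuxS.{u} (cP4) s2517 0 a2517 := aux_base3 tw1018 rfl b2517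
theorem x2517_1 : AuxS.{u} (cP4) s2517 0 a2517_1 := x2517
theorem n2517 : Sound.{u} (cP4) s2517 0 :=
  (x2517_1.jump c2517_0 c2517_1 n165 :)
theorem x2518 : AuxS.{u} (cP4) s2518 0 a2518 := aux_base3 tw1019 rfl b2518
theorem x2518_1 : AuxS.{u} (cP4) s2518 0 a2518_1 := x2518
theorem x2518_2 : AuxS.{u} (cP4) s2518 0 a2518_2 := x2518_1
theorem n2518 : Sound.{u} (cP4) s2518 0 :=
  (x2518_2.jump c2518_0 c2518_1 n166 :)
theorem x2519 : AuxS.{u} (cP4) s2519 0 a2519 := aux_base3 tw1020 rfl b2519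
theorem x2519_1 : AuxS.{u} (cP4) s2519 0 a2519_1 := x2519
theorem n2519 : Sound.{u} (cP4) s2519 0 :=
  (x2519_1.jump c2519_0 c2519_1 n167 :)
theorem x2520 : AuxS.{u} (cP4) s2520 0 a2520 := aux_base3 tw1021 rfl b2520
theorem x2520_1 : AuxS.{u} (cP4) s2520 0 a2520_1 := x2520
theorem n2520 : Sound.{u} (cP4) s2520 0 :=
  (x2520_1.jump c2520_0 c2520_1 n168 :)
theorem x2521 : AuxS.{u} (cP4) s2521 0 a2521 := aux_base3 tw1022 rfl b2521
theorem x2521_1 : AuxS.{u} (cP4) s2521 0 a2521_1 := x2521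
theorem n2521 : Sound.{u} (cP4) s2521 0 :=
  (x2521_1.jump c2521_0 c2521_1 n169 :)
theorem x2522 : AuxS.{u} (cP4) s2522 0 a2522 := aux_base3 tw1023 rfl b2522
theorem x2522_1 : AuxS.{u} (cP4) s2522 0 a2522_1 := x2522
theorem n2522 : Sound.{u} (cP4) s2522 0 :=
  (x2522_1.jump c2522_0 c2522_1 n170 :)
theorem x2523 : AuxS.{u} (cP4) s2523 0 a2523 := aux_base3 tw1024 rfl b2523
theorem x2523_1 : AuxS.{u} (cP4) s2523 0 a2523_1 := x2523
theorem x2523_2 : AuxS.{u} (cP4) s2523 0 a2523_2 := x2523_1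
theorem n2523 : Sound.{u} (cP4) s2523 0 :=
  (x2523_2.jump c2523_0 c2523_1 n171 :)
theorem x2476 : AuxS.{u} (cP4) s2476 0 a2476 := aux_base3 tw977 rfl b2476
theorem x2476_1 : AuxS.{u} (cP4) s2476 0 a2476_1 := x2476
theorem x2476_2 : AuxS.{u} (cP4) s2476 0 a2476_2 := x2476_1
theorem n2476 : Sound.{u} (cP4) s2476 0 :=
  (x2476_2.fr2 GamS.nil (AllS.cons n2508 (AllS.cons n2509 (AllS.cons n2510 (AllS.cons n2511 (AllS.cons n2512 (AllS.cons n2513 (AllS.cons n2514 (AllS.cons n2515 (AllS.cons n2516 (AllS.cons n2517 (AllS.cons n2518 (AllS.cons n2519 (AllS.cons n2520 (AllS.cons n2521 (AllS.cons n2522 (AllS.cons n2523 AllS.nil)))))))))))))))) c2476_0 :)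
theorem x2477 : AuxS.{u} (cP4) s2477 0 a2477 := aux_base3 tw977 rfl b2477
theorem n2477 : Sound.{u} (cP4) s2477 0 :=
  (x2477.k4 c2477_0 :)
theorem x2478 : AuxS.{u} (cP4) s2478 0 a2478 := aux_base3 tw977 rfl b2478
theorem n2478 : Sound.{u} (cP4) s2478 0 :=
  (x2478.k4 c2478_0 :)
theorem x2479 : AuxS.{u} (cP4) s2479 0 a2479 := aux_base3 tw977 rfl b2479
theorem n2479 : Sound.{u} (cP4) s2479 0 :=
  (x2479.k4 c2479_0 :)
theorem x2480 : AuxS.{u} (cP4) s2480 0 a2480 := aux_base3 tw977 rfl b2480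
theorem n2480 : Sound.{u} (cP4) s2480 0 :=
  (x2480.k4 c2480_0 :)
theorem x2481 : AuxS.{u} (cP4) s2481 0 a2481 := aux_base3 tw977 rfl b2481
theorem n2481 : Sound.{u} (cP4) s2481 0 :=
  (x2481.k4 c2481_0 :)
theorem x2482 : AuxS.{u} (cP4) s2482 0 a2482 := aux_base3 tw977 rfl b2482
theorem n2482 : Sound.{u} (cP4) s2482 0 :=
  (x2482.k4 c2482_0 :)
theorem x2483 : AuxS.{u} (cP4) s2483 0 a2483 := aux_base3 tw977 rfl b2483
theorem n2483 : Sound.{u} (cP4) s2483 0 :=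
  (x2483.k4 c2483_0 :)
theorem x2484 : AuxS.{u} (cP4) s2484 0 a2484 := aux_base3 tw977 rfl b2484
theorem n2484 : Sound.{u} (cP4) s2484 0 :=
  (x2484.k4 c2484_0 :)
theorem x2485 : AuxS.{u} (cP4) s2485 0 a2485 := aux_base3 tw977 rfl b2485
theorem n2485 : Sound.{u} (cP4) s2485 0 :=
  (x2485.k4 c2485_0 :)
theorem x2486 : AuxS.{u} (cP4) s2486 0 a2486 := aux_base3 tw977 rfl b2486
theorem n2486 : Sound.{u} (cP4) s2486 0 :=
  (x2486.k4 c2486_0 :)
theorem x2487 : AuxS.{u} (cP4) s2487 0 a2487 := aux_base3 tw977 rfl b2487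
theorem n2487 : Sound.{u} (cP4) s2487 0 :=
  (x2487.k4 c2487_0 :)
theorem x2488 : AuxS.{u} (cP4) s2488 0 a2488 := aux_base3 tw977 rfl b2488
theorem n2488 : Sound.{u} (cP4) s2488 0 :=
  (x2488.k4 c2488_0 :)
theorem x2489 : AuxS.{u} (cP4) s2489 0 a2489 := aux_base3 tw977 rfl b2489
theorem n2489 : Sound.{u} (cP4) s2489 0 :=
  (x2489.k4 c2489_0 :)
theorem x2490 : AuxS.{u} (cP4) s2490 0 a2490 := aux_base3 tw977 rfl b2490
theorem n2490 : Sound.{u} (cP4) s2490 0 :=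
  (x2490.k4 c2490_0 :)
theorem x2491 : AuxS.{u} (cP4) s2491 0 a2491 := aux_base3 tw977 rfl b2491
theorem n2491 : Sound.{u} (cP4) s2491 0 :=
  (x2491.k4 c2491_0 :)
theorem x2492 : AuxS.{u} (cP4) s2492 0 a2492 := aux_base3 tw977 rfl b2492
theorem n2492 : Sound.{u} (cP4) s2492 0 :=
  (x2492.k4 c2492_0 :)
theorem x2493 : AuxS.{u} (cP4) s2493 0 a2493 := aux_base3 tw977 rfl b2493
theorem n2493 : Sound.{u} (cP4) s2493 0 :=
  (x2493.k4 c2493_0 :)
theorem x2494 : AuxS.{u} (cP4) s2494 0 a2494 := aux_base3 tw977 rfl b2494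
theorem n2494 : Sound.{u} (cP4) s2494 0 :=
  (x2494.k4 c2494_0 :)
theorem x2495 : AuxS.{u} (cP4) s2495 0 a2495 := aux_base3 tw977 rfl b2495
theorem n2495 : Sound.{u} (cP4) s2495 0 :=
  (x2495.k4 c2495_0 :)
theorem x2496 : AuxS.{u} (cP4) s2496 0 a2496 := aux_base3 tw977 rfl b2496
theorem n2496 : Sound.{u} (cP4) s2496 0 :=
  (x2496.k4 c2496_0 :)
theorem x2497 : AuxS.{u} (cP4) s2497 0 a2497 := aux_base3 tw977 rfl b2497
theorem n2497 : Sound.{u} (cP4) s2497 0 :=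
  (x2497.k4 c2497_0 :)
theorem x2498 : AuxS.{u} (cP4) s2498 0 a2498 := aux_base3 tw977 rfl b2498
theorem n2498 : Sound.{u} (cP4) s2498 0 :=
  (x2498.k4 c2498_0 :)
theorem x2499 : AuxS.{u} (cP4) s2499 0 a2499 := aux_base3 tw977 rfl b2499
theorem n2499 : Sound.{u} (cP4) s2499 0 :=
  (x2499.k4 c2499_0 :)
theorem x2500 : AuxS.{u} (cP4) s2500 0 a2500 := aux_base3 tw977 rfl b2500
theorem n2500 : Sound.{u} (cP4) s2500 0 :=
  (x2500.k4 c2500_0 :)
theorem x2501 : AuxS.{u} (cP4) s2501 0 a2501 := aux_base3 tw977 rfl b2501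
theorem n2501 : Sound.{u} (cP4) s2501 0 :=
  (x2501.k4 c2501_0 :)
theorem x2502 : AuxS.{u} (cP4) s2502 0 a2502 := aux_base3 tw977 rfl b2502
theorem n2502 : Sound.{u} (cP4) s2502 0 :=
  (x2502.k4 c2502_0 :)
theorem x2503 : AuxS.{u} (cP4) s2503 0 a2503 := aux_base3 tw977 rfl b2503
theorem n2503 : Sound.{u} (cP4) s2503 0 :=
  (x2503.k4 c2503_0 :)
theorem x2504 : AuxS.{u} (cP4) s2504 0 a2504 := aux_base3 tw977 rfl b2504
theorem n2504 : Sound.{u} (cP4) s2504 0 :=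
  (x2504.k4 c2504_0 :)
theorem x2505 : AuxS.{u} (cP4) s2505 0 a2505 := aux_base3 tw977 rfl b2505
theorem n2505 : Sound.{u} (cP4) s2505 0 :=
  (x2505.k4 c2505_0 :)
theorem x2506 : AuxS.{u} (cP4) s2506 0 a2506 := aux_base3 tw977 rfl b2506
theorem n2506 : Sound.{u} (cP4) s2506 0 :=
  (x2506.k4 c2506_0 :)
theorem x2507 : AuxS.{u} (cP4) s2507 0 a2507 := aux_base3 tw977 rfl b2507
theorem n2507 : Sound.{u} (cP4) s2507 0 :=
  (x2507.k4 c2507_0 :)
theorem x2444 : AuxS.{u} (cP4) s2444 0 a2444 := aux_base3 tw977 rfl b2444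
theorem x2444_1 : AuxS.{u} (cP4) s2444 0 a2444_1 := x2444
theorem x2444_2 : AuxS.{u} (cP4) s2444 0 a2444_2 := x2444_1
theorem n2444 : Sound.{u} (cP4) s2444 0 :=
  (x2444_2.fr (AuxS.gam x2444_2 c2444_0) (AllS.cons n2476 (AllS.cons n2477 (AllS.cons n2478 (AllS.cons n2479 (AllS.cons n2480 (AllS.cons n2481 (AllS.cons n2482 (AllS.cons n2483 (AllS.cons n2484 (AllS.cons n2485 (AllS.cons n2486 (AllS.cons n2487 (AllS.cons n2488 (AllS.cons n2489 (AllS.cons n2490 (AllS.cons n2491 (AllS.cons n2492 (AllS.cons n2493 (AllS.cons n2494 (AllS.cons n2495 (AllS.cons n2496 (AllS.cons n2497 (AllS.cons n2498 (AllS.cons n2499 (AllS.cons n2500 (AllS.cons n2501 (AllS.cons n2502 (AllS.cons n2503 (AllS.cons n2504 (AllS.cons n2505 (AllS.cons n2506 (AllS.cons n2507 AllS.nil)))))))))))))))))))))))))))))))) c2444_1 :)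
theorem x2445 : AuxS.{u} (cP4) s2445 0 a2445 := aux_base3 tw978 rfl b2445
theorem x2445_1 : AuxS.{u} (cP4) s2445 0 a2445_1 := x2445
theorem x2445_2 : AuxS.{u} (cP4) s2445 0 a2445_2 := x2445_1
theorem n2445 : Sound.{u} (cP4) s2445 0 :=
  (x2445_2.fr GamS.nil AllS.nil c2445_0 :)
theorem x2446 : AuxS.{u} (cP4) s2446 0 a2446 := aux_base3 tw979 rfl b2446
theorem x2446_1 : AuxS.{u} (cP4) s2446 0 a2446_1 := x2446
theorem x2446_2 : AuxS.{u} (cP4) s2446 0 a2446_2 := x2446_1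
theorem n2446 : Sound.{u} (cP4) s2446 0 :=
  (x2446_2.fr GamS.nil AllS.nil c2446_0 :)
theorem x2447 : AuxS.{u} (cP4) s2447 0 a2447 := aux_base3 tw980 rfl b2447
theorem x2447_1 : AuxS.{u} (cP4) s2447 0 a2447_1 := x2447
theorem x2447_2 : AuxS.{u} (cP4) s2447 0 a2447_2 := x2447_1
theorem n2447 : Sound.{u} (cP4) s2447 0 :=
  (x2447_2.fr GamS.nil AllS.nil c2447_0 :)
theorem x2448 : AuxS.{u} (cP4) s2448 0 a2448 := aux_base3 tw981 rfl b2448
theorem x2448_1 : AuxS.{u} (cP4) s2448 0 a2448_1 := x2448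
theorem x2448_2 : AuxS.{u} (cP4) s2448 0 a2448_2 := x2448_1
theorem n2448 : Sound.{u} (cP4) s2448 0 :=
  (x2448_2.fr GamS.nil AllS.nil c2448_0 :)
theorem x2449 : AuxS.{u} (cP4) s2449 0 a2449 := aux_base3 tw982 rfl b2449
theorem x2449_1 : AuxS.{u} (cP4) s2449 0 a2449_1 := x2449
theorem x2449_2 : AuxS.{u} (cP4) s2449 0 a2449_2 := x2449_1
theorem n2449 : Sound.{u} (cP4) s2449 0 :=
  (x2449_2.fr GamS.nil AllS.nil c2449_0 :)
theorem x2450 : AuxS.{u} (cP4) s2450 0 a2450 := aux_base3 tw983 rfl b2450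
theorem x2450_1 : AuxS.{u} (cP4) s2450 0 a2450_1 := x2450
theorem x2450_2 : AuxS.{u} (cP4) s2450 0 a2450_2 := x2450_1
theorem n2450 : Sound.{u} (cP4) s2450 0 :=
  (x2450_2.fr GamS.nil AllS.nil c2450_0 :)
theorem x2451 : AuxS.{u} (cP4) s2451 0 a2451 := aux_base3 tw984 rfl b2451
theorem x2451_1 : AuxS.{u} (cP4) s2451 0 a2451_1 := x2451
theorem x2451_2 : AuxS.{u} (cP4) s2451 0 a2451_2 := x2451_1
theorem n2451 : Sound.{u} (cP4) s2451 0 :=
  (x2451_2.fr GamS.nil AllS.nil c2451_0 :)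
theorem x2452 : AuxS.{u} (cP4) s2452 0 a2452 := aux_base3 tw985 rfl b2452
theorem x2452_1 : AuxS.{u} (cP4) s2452 0 a2452_1 := x2452
theorem x2452_2 : AuxS.{u} (cP4) s2452 0 a2452_2 := x2452_1
theorem n2452 : Sound.{u} (cP4) s2452 0 :=
  (x2452_2.fr GamS.nil AllS.nil c2452_0 :)
theorem x2453 : AuxS.{u} (cP4) s2453 0 a2453 := aux_base3 tw986 rfl b2453
theorem x2453_1 : AuxS.{u} (cP4) s2453 0 a2453_1 := x2453
theorem x2453_2 : AuxS.{u} (cP4) s2453 0 a2453_2 := x2453_1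
theorem n2453 : Sound.{u} (cP4) s2453 0 :=
  (x2453_2.fr GamS.nil AllS.nil c2453_0 :)
theorem x2454 : AuxS.{u} (cP4) s2454 0 a2454 := aux_base3 tw987 rfl b2454
theorem x2454_1 : AuxS.{u} (cP4) s2454 0 a2454_1 := x2454
theorem x2454_2 : AuxS.{u} (cP4) s2454 0 a2454_2 := x2454_1
theorem n2454 : Sound.{u} (cP4) s2454 0 :=
  (x2454_2.fr GamS.nil AllS.nil c2454_0 :)
theorem x2455 : AuxS.{u} (cP4) s2455 0 a2455 := aux_base3 tw988 rfl b2455
theorem x2455_1 : AuxS.{u} (cP4) s2455 0 a2455_1 := x2455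
theorem x2455_2 : AuxS.{u} (cP4) s2455 0 a2455_2 := x2455_1
theorem n2455 : Sound.{u} (cP4) s2455 0 :=
  (x2455_2.fr GamS.nil AllS.nil c2455_0 :)
theorem x2456 : AuxS.{u} (cP4) s2456 0 a2456 := aux_base3 tw989 rfl b2456
theorem x2456_1 : AuxS.{u} (cP4) s2456 0 a2456_1 := x2456
theorem x2456_2 : AuxS.{u} (cP4) s2456 0 a2456_2 := x2456_1
theorem n2456 : Sound.{u} (cP4) s2456 0 :=
  (x2456_2.fr GamS.nil AllS.nil c2456_0 :)
theorem x2457 : AuxS.{u} (cP4) s2457 0 a2457 := aux_base3 tw990 rfl b2457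
theorem x2457_1 : AuxS.{u} (cP4) s2457 0 a2457_1 := x2457
theorem x2457_2 : AuxS.{u} (cP4) s2457 0 a2457_2 := x2457_1
theorem n2457 : Sound.{u} (cP4) s2457 0 :=
  (x2457_2.fr GamS.nil AllS.nil c2457_0 :)
theorem x2458 : AuxS.{u} (cP4) s2458 0 a2458 := aux_base3 tw991 rfl b2458
theorem x2458_1 : AuxS.{u} (cP4) s2458 0 a2458_1 := x2458
theorem x2458_2 : AuxS.{u} (cP4) s2458 0 a2458_2 := x2458_1
theorem n2458 : Sound.{u} (cP4) s2458 0 :=
  (x2458_2.fr GamS.nil AllS.nil c2458_0 :)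
theorem x2459 : AuxS.{u} (cP4) s2459 0 a2459 := aux_base3 tw992 rfl b2459
theorem x2459_1 : AuxS.{u} (cP4) s2459 0 a2459_1 := x2459
theorem x2459_2 : AuxS.{u} (cP4) s2459 0 a2459_2 := x2459_1
theorem n2459 : Sound.{u} (cP4) s2459 0 :=
  (x2459_2.fr GamS.nil AllS.nil c2459_0 :)
theorem x2524 : AuxS.{u} (cP4) s2524 0 a2524 := aux_base3 tw993 rfl b2524
theorem n2524 : Sound.{u} (cP4) s2524 0 :=
  (x2524.k4 c2524_0 :)
theorem x2525 : AuxS.{u} (cP4) s2525 0 a2525 := aux_base3 tw993 rfl b2525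
theorem n2525 : Sound.{u} (cP4) s2525 0 :=
  (x2525.k4 c2525_0 :)
theorem x2526 : AuxS.{u} (cP4) s2526 0 a2526 := aux_base3 tw993 rfl b2526
theorem n2526 : Sound.{u} (cP4) s2526 0 :=
  (x2526.k4 c2526_0 :)
theorem x2527 : AuxS.{u} (cP4) s2527 0 a2527 := aux_base3 tw993 rfl b2527
theorem n2527 : Sound.{u} (cP4) s2527 0 :=
  (x2527.k4 c2527_0 :)
theorem x2528 : AuxS.{u} (cP4) s2528 0 a2528 := aux_base3 tw993 rfl b2528
theorem n2528 : Sound.{u} (cP4) s2528 0 :=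
  (x2528.k4 c2528_0 :)
theorem x2529 : AuxS.{u} (cP4) s2529 0 a2529 := aux_base3 tw993 rfl b2529
theorem n2529 : Sound.{u} (cP4) s2529 0 :=
  (x2529.k4 c2529_0 :)
theorem x2530 : AuxS.{u} (cP4) s2530 0 a2530 := aux_base3 tw993 rfl b2530
theorem n2530 : Sound.{u} (cP4) s2530 0 :=
  (x2530.k4 c2530_0 :)
theorem x2531 : AuxS.{u} (cP4) s2531 0 a2531 := aux_base3 tw993 rfl b2531
theorem n2531 : Sound.{u} (cP4) s2531 0 :=
  (x2531.k4 c2531_0 :)
theorem x2532 : AuxS.{u} (cP4) s2532 0 a2532 := aux_base3 tw993 rfl b2532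
theorem n2532 : Sound.{u} (cP4) s2532 0 :=
  (x2532.k4 c2532_0 :)
theorem x2533 : AuxS.{u} (cP4) s2533 0 a2533 := aux_base3 tw993 rfl b2533
theorem n2533 : Sound.{u} (cP4) s2533 0 :=
  (x2533.k4 c2533_0 :)
theorem x2556 : AuxS.{u} (cP4) s2556 0 a2556 := aux_base3 tw1025 rfl b2556
theorem x2556_1 : AuxS.{u} (cP4) s2556 0 a2556_1 := x2556
theorem n2556 : Sound.{u} (cP4) s2556 0 :=
  (x2556_1.jump c2556_0 c2556_1 n332 :)
theorem x2557 : AuxS.{u} (cP4) s2557 0 a2557 := aux_base3 tw1026 rfl b2557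
theorem x2557_1 : AuxS.{u} (cP4) s2557 0 a2557_1 := x2557
theorem n2557 : Sound.{u} (cP4) s2557 0 :=
  (x2557_1.jump c2557_0 c2557_1 n333 :)
theorem x2558 : AuxS.{u} (cP4) s2558 0 a2558 := aux_base3 tw1027 rfl b2558
theorem x2558_1 : AuxS.{u} (cP4) s2558 0 a2558_1 := x2558
theorem n2558 : Sound.{u} (cP4) s2558 0 :=
  (x2558_1.jump c2558_0 c2558_1 n334 :)
theorem x2559 : AuxS.{u} (cP4) s2559 0 a2559 := aux_base3 tw1028 rfl b2559
theorem x2559_1 : AuxS.{u} (cP4) s2559 0 a2559_1 := x2559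
theorem n2559 : Sound.{u} (cP4) s2559 0 :=
  (x2559_1.jump c2559_0 c2559_1 n335 :)
theorem x2560 : AuxS.{u} (cP4) s2560 0 a2560 := aux_base3 tw1029 rfl b2560
theorem x2560_1 : AuxS.{u} (cP4) s2560 0 a2560_1 := x2560
theorem n2560 : Sound.{u} (cP4) s2560 0 :=
  (x2560_1.jump c2560_0 c2560_1 n336 :)
theorem x2561 : AuxS.{u} (cP4) s2561 0 a2561 := aux_base3 tw1030 rfl b2561
theorem x2561_1 : AuxS.{u} (cP4) s2561 0 a2561_1 := x2561
theorem n2561 : Sound.{u} (cP4) s2561 0 :=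
  (x2561_1.jump c2561_0 c2561_1 n337 :)
theorem x2562 : AuxS.{u} (cP4) s2562 0 a2562 := aux_base3 tw1031 rfl b2562
theorem x2562_1 : AuxS.{u} (cP4) s2562 0 a2562_1 := x2562
theorem n2562 : Sound.{u} (cP4) s2562 0 :=
  (x2562_1.jump c2562_0 c2562_1 n338 :)
theorem x2563 : AuxS.{u} (cP4) s2563 0 a2563 := aux_base3 tw1032 rfl b2563
theorem x2563_1 : AuxS.{u} (cP4) s2563 0 a2563_1 := x2563
theorem n2563 : Sound.{u} (cP4) s2563 0 :=
  (x2563_1.jump c2563_0 c2563_1 n339 :)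
theorem x2534 : AuxS.{u} (cP4) s2534 0 a2534 := aux_base3 tw993 rfl b2534
theorem x2534_1 : AuxS.{u} (cP4) s2534 0 a2534_1 := x2534
theorem x2534_2 : AuxS.{u} (cP4) s2534 0 a2534_2 := x2534_1
theorem n2534 : Sound.{u} (cP4) s2534 0 :=
  (x2534_2.fr2 (AuxS.gam x2534_2 c2534_0) (AllS.cons n2556 (AllS.cons n2557 (AllS.cons n2558 (AllS.cons n2559 (AllS.cons n2560 (AllS.cons n2561 (AllS.cons n2562 (AllS.cons n2563 AllS.nil)))))))) c2534_1 :)
theorem x2535 : AuxS.{u} (cP4) s2535 0 a2535 := aux_base3 tw993 rfl b2535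
theorem n2535 : Sound.{u} (cP4) s2535 0 :=
  (x2535.k4 c2535_0 :)
theorem x2536 : AuxS.{u} (cP4) s2536 0 a2536 := aux_base3 tw993 rfl b2536
theorem n2536 : Sound.{u} (cP4) s2536 0 :=
  (x2536.k4 c2536_0 :)
theorem x2537 : AuxS.{u} (cP4) s2537 0 a2537 := aux_base3 tw993 rfl b2537
theorem n2537 : Sound.{u} (cP4) s2537 0 :=
  (x2537.k4 c2537_0 :)
theorem x2538 : AuxS.{u} (cP4) s2538 0 a2538 := aux_base3 tw993 rfl b2538
theorem n2538 : Sound.{u} (cP4) s2538 0 :=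
  (x2538.k4 c2538_0 :)
theorem x2539 : AuxS.{u} (cP4) s2539 0 a2539 := aux_base3 tw993 rfl b2539
theorem n2539 : Sound.{u} (cP4) s2539 0 :=
  (x2539.k4 c2539_0 :)
theorem x2540 : AuxS.{u} (cP4) s2540 0 a2540 := aux_base3 tw993 rfl b2540
theorem n2540 : Sound.{u} (cP4) s2540 0 :=
  (x2540.k4 c2540_0 :)
theorem x2541 : AuxS.{u} (cP4) s2541 0 a2541 := aux_base3 tw993 rfl b2541
theorem n2541 : Sound.{u} (cP4) s2541 0 :=
  (x2541.k4 c2541_0 :)
theorem x2542 : AuxS.{u} (cP4) s2542 0 a2542 := aux_base3 tw993 rfl b2542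
theorem n2542 : Sound.{u} (cP4) s2542 0 :=
  (x2542.k4 c2542_0 :)
theorem x2543 : AuxS.{u} (cP4) s2543 0 a2543 := aux_base3 tw993 rfl b2543
theorem n2543 : Sound.{u} (cP4) s2543 0 :=
  (x2543.k4 c2543_0 :)
theorem x2544 : AuxS.{u} (cP4) s2544 0 a2544 := aux_base3 tw993 rfl b2544
theorem n2544 : Sound.{u} (cP4) s2544 0 :=
  (x2544.k4 c2544_0 :)
theorem x2545 : AuxS.{u} (cP4) s2545 0 a2545 := aux_base3 tw993 rfl b2545
theorem n2545 : Sound.{u} (cP4) s2545 0 :=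
  (x2545.k4 c2545_0 :)
theorem x2546 : AuxS.{u} (cP4) s2546 0 a2546 := aux_base3 tw993 rfl b2546
theorem n2546 : Sound.{u} (cP4) s2546 0 :=
  (x2546.k4 c2546_0 :)
theorem x2547 : AuxS.{u} (cP4) s2547 0 a2547 := aux_base3 tw993 rfl b2547
theorem n2547 : Sound.{u} (cP4) s2547 0 :=
  (x2547.k4 c2547_0 :)
theorem x2548 : AuxS.{u} (cP4) s2548 0 a2548 := aux_base3 tw993 rfl b2548
theorem n2548 : Sound.{u} (cP4) s2548 0 :=
  (x2548.k4 c2548_0 :)
theorem x2549 : AuxS.{u} (cP4) s2549 0 a2549 := aux_base3 tw993 rfl b2549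
theorem n2549 : Sound.{u} (cP4) s2549 0 :=
  (x2549.k4 c2549_0 :)
theorem x2550 : AuxS.{u} (cP4) s2550 0 a2550 := aux_base3 tw993 rfl b2550
theorem n2550 : Sound.{u} (cP4) s2550 0 :=
  (x2550.k4 c2550_0 :)
theorem x2551 : AuxS.{u} (cP4) s2551 0 a2551 := aux_base3 tw993 rfl b2551
theorem n2551 : Sound.{u} (cP4) s2551 0 :=
  (x2551.k4 c2551_0 :)
theorem x2552 : AuxS.{u} (cP4) s2552 0 a2552 := aux_base3 tw993 rfl b2552
theorem n2552 : Sound.{u} (cP4) s2552 0 :=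
  (x2552.k4 c2552_0 :)
theorem x2553 : AuxS.{u} (cP4) s2553 0 a2553 := aux_base3 tw993 rfl b2553
theorem n2553 : Sound.{u} (cP4) s2553 0 :=
  (x2553.k4 c2553_0 :)
theorem x2554 : AuxS.{u} (cP4) s2554 0 a2554 := aux_base3 tw993 rfl b2554
theorem n2554 : Sound.{u} (cP4) s2554 0 :=
  (x2554.k4 c2554_0 :)
theorem x2555 : AuxS.{u} (cP4) s2555 0 a2555 := aux_base3 tw993 rfl b2555
theorem n2555 : Sound.{u} (cP4) s2555 0 :=
  (x2555.k4 c2555_0 :)
theorem x2460 : AuxS.{u} (cP4) s2460 0 a2460 := aux_base3 tw993 rfl b2460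
theorem x2460_1 : AuxS.{u} (cP4) s2460 0 a2460_1 := x2460
theorem x2460_2 : AuxS.{u} (cP4) s2460 0 a2460_2 := x2460_1
theorem n2460 : Sound.{u} (cP4) s2460 0 :=
  (x2460_2.fr (AuxS.gam x2460_2 c2460_0) (AllS.cons n2524 (AllS.cons n2525 (AllS.cons n2526 (AllS.cons n2527 (AllS.cons n2528 (AllS.cons n2529 (AllS.cons n2530 (AllS.cons n2531 (AllS.cons n2532 (AllS.cons n2533 (AllS.cons n2534 (AllS.cons n2535 (AllS.cons n2536 (AllS.cons n2537 (AllS.cons n2538 (AllS.cons n2539 (AllS.cons n2540 (AllS.cons n2541 (AllS.cons n2542 (AllS.cons n2543 (AllS.cons n2544 (AllS.cons n2545 (AllS.cons n2546 (AllS.cons n2547 (AllS.cons n2548 (AllS.cons n2549 (AllS.cons n2550 (AllS.cons n2551 (AllS.cons n2552 (AllS.cons n2553 (AllS.cons n2554 (AllS.cons n2555 AllS.nil)))))))))))))))))))))))))))))))) c2460_1 :)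
theorem x2461 : AuxS.{u} (cP4) s2461 0 a2461 := aux_base3 tw994 rfl b2461
theorem x2461_1 : AuxS.{u} (cP4) s2461 0 a2461_1 := x2461
theorem x2461_2 : AuxS.{u} (cP4) s2461 0 a2461_2 := x2461_1
theorem n2461 : Sound.{u} (cP4) s2461 0 :=
  (x2461_2.fr GamS.nil AllS.nil c2461_0 :)
theorem x2462 : AuxS.{u} (cP4) s2462 0 a2462 := aux_base3 tw995 rfl b2462
theorem x2462_1 : AuxS.{u} (cP4) s2462 0 a2462_1 := x2462
theorem x2462_2 : AuxS.{u} (cP4) s2462 0 a2462_2 := x2462_1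
theorem n2462 : Sound.{u} (cP4) s2462 0 :=
  (x2462_2.fr GamS.nil AllS.nil c2462_0 :)
theorem x2463 : AuxS.{u} (cP4) s2463 0 a2463 := aux_base3 tw996 rfl b2463
theorem x2463_1 : AuxS.{u} (cP4) s2463 0 a2463_1 := x2463
theorem x2463_2 : AuxS.{u} (cP4) s2463 0 a2463_2 := x2463_1
theorem n2463 : Sound.{u} (cP4) s2463 0 :=
  (x2463_2.fr GamS.nil AllS.nil c2463_0 :)
theorem x2464 : AuxS.{u} (cP4) s2464 0 a2464 := aux_base3 tw997 rfl b2464
theorem x2464_1 : AuxS.{u} (cP4) s2464 0 a2464_1 := x2464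
theorem x2464_2 : AuxS.{u} (cP4) s2464 0 a2464_2 := x2464_1
theorem n2464 : Sound.{u} (cP4) s2464 0 :=
  (x2464_2.fr GamS.nil AllS.nil c2464_0 :)
theorem x2465 : AuxS.{u} (cP4) s2465 0 a2465 := aux_base3 tw998 rfl b2465
theorem x2465_1 : AuxS.{u} (cP4) s2465 0 a2465_1 := x2465
theorem x2465_2 : AuxS.{u} (cP4) s2465 0 a2465_2 := x2465_1
theorem n2465 : Sound.{u} (cP4) s2465 0 :=
  (x2465_2.fr GamS.nil AllS.nil c2465_0 :)
theorem x2466 : AuxS.{u} (cP4) s2466 0 a2466 := aux_base3 tw999 rfl b2466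
theorem x2466_1 : AuxS.{u} (cP4) s2466 0 a2466_1 := x2466
theorem x2466_2 : AuxS.{u} (cP4) s2466 0 a2466_2 := x2466_1
theorem n2466 : Sound.{u} (cP4) s2466 0 :=
  (x2466_2.fr GamS.nil AllS.nil c2466_0 :)
theorem x2467 : AuxS.{u} (cP4) s2467 0 a2467 := aux_base3 tw1000 rfl b2467
theorem x2467_1 : AuxS.{u} (cP4) s2467 0 a2467_1 := x2467
theorem x2467_2 : AuxS.{u} (cP4) s2467 0 a2467_2 := x2467_1
theorem n2467 : Sound.{u} (cP4) s2467 0 :=
  (x2467_2.fr GamS.nil AllS.nil c2467_0 :)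
theorem x2468 : AuxS.{u} (cP4) s2468 0 a2468 := aux_base3 tw1001 rfl b2468
theorem x2468_1 : AuxS.{u} (cP4) s2468 0 a2468_1 := x2468
theorem x2468_2 : AuxS.{u} (cP4) s2468 0 a2468_2 := x2468_1
theorem n2468 : Sound.{u} (cP4) s2468 0 :=
  (x2468_2.fr GamS.nil AllS.nil c2468_0 :)
theorem x2469 : AuxS.{u} (cP4) s2469 0 a2469 := aux_base3 tw1002 rfl b2469
theorem x2469_1 : AuxS.{u} (cP4) s2469 0 a2469_1 := x2469
theorem x2469_2 : AuxS.{u} (cP4) s2469 0 a2469_2 := x2469_1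
theorem n2469 : Sound.{u} (cP4) s2469 0 :=
  (x2469_2.fr GamS.nil AllS.nil c2469_0 :)
theorem x2470 : AuxS.{u} (cP4) s2470 0 a2470 := aux_base3 tw1003 rfl b2470
theorem x2470_1 : AuxS.{u} (cP4) s2470 0 a2470_1 := x2470
theorem x2470_2 : AuxS.{u} (cP4) s2470 0 a2470_2 := x2470_1
theorem n2470 : Sound.{u} (cP4) s2470 0 :=
  (x2470_2.fr GamS.nil AllS.nil c2470_0 :)
theorem x2471 : AuxS.{u} (cP4) s2471 0 a2471 := aux_base3 tw1004 rfl b2471
theorem x2471_1 : AuxS.{u} (cP4) s2471 0 a2471_1 := x2471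
theorem x2471_2 : AuxS.{u} (cP4) s2471 0 a2471_2 := x2471_1
theorem n2471 : Sound.{u} (cP4) s2471 0 :=
  (x2471_2.fr GamS.nil AllS.nil c2471_0 :)
theorem x2472 : AuxS.{u} (cP4) s2472 0 a2472 := aux_base3 tw1005 rfl b2472
theorem x2472_1 : AuxS.{u} (cP4) s2472 0 a2472_1 := x2472
theorem x2472_2 : AuxS.{u} (cP4) s2472 0 a2472_2 := x2472_1
theorem n2472 : Sound.{u} (cP4) s2472 0 :=
  (x2472_2.fr GamS.nil AllS.nil c2472_0 :)
theorem x2473 : AuxS.{u} (cP4) s2473 0 a2473 := aux_base3 tw1006 rfl b2473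
theorem x2473_1 : AuxS.{u} (cP4) s2473 0 a2473_1 := x2473
theorem x2473_2 : AuxS.{u} (cP4) s2473 0 a2473_2 := x2473_1
theorem n2473 : Sound.{u} (cP4) s2473 0 :=
  (x2473_2.fr GamS.nil AllS.nil c2473_0 :)
theorem x2474 : AuxS.{u} (cP4) s2474 0 a2474 := aux_base3 tw1007 rfl b2474
theorem x2474_1 : AuxS.{u} (cP4) s2474 0 a2474_1 := x2474
theorem x2474_2 : AuxS.{u} (cP4) s2474 0 a2474_2 := x2474_1
theorem n2474 : Sound.{u} (cP4) s2474 0 :=
  (x2474_2.fr GamS.nil AllS.nil c2474_0 :)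
theorem x2475 : AuxS.{u} (cP4) s2475 0 a2475 := aux_base3 tw1008 rfl b2475
theorem x2475_1 : AuxS.{u} (cP4) s2475 0 a2475_1 := x2475
theorem x2475_2 : AuxS.{u} (cP4) s2475 0 a2475_2 := x2475_1
theorem n2475 : Sound.{u} (cP4) s2475 0 :=
  (x2475_2.fr GamS.nil AllS.nil c2475_0 :)
theorem x2443 : AuxS.{u} (cP4) s2443 0 a2443 := aux_base3 tw945 rfl b2443
theorem x2443_1 : AuxS.{u} (cP4) s2443 0 a2443_1 := (AuxS.up x2443 c2443_5 :)
theorem x2443_2 : AuxS.{u} (cP4) s2443 0 a2443_2 := x2443_1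
theorem x2443_3 : AuxS.{u} (cP4) s2443 0 a2443_3 := x2443_2
theorem p2443_0_1 : Phs s2443 a2443_3 [] [s2444, s2445, s2446, s2447, s2448, s2449, s2450, s2451, s2452, s2453, s2454, s2455, s2456, s2457, s2458, s2459, s2460, s2461, s2462, s2463, s2464, s2465, s2466, s2467, s2468, s2469, s2470, s2471, s2472, s2473, s2474, s2475] ct2443_0 v2443_0 5 w2443_0_1 := (Phs.fin c2443_0)
theorem p2443_0_3 : Phs s2443 a2443_3 [] [s2444, s2445, s2446, s2447, s2448, s2449, s2450, s2451, s2452, s2453, s2454, s2455, s2456, s2457, s2458, s2459, s2460, s2461, s2462, s2463, s2464, s2465, s2466, s2467, s2468, s2469, s2470, s2471, s2472, s2473, s2474, s2475] ct2443_0 v2443_0 4 w2443_0_3 := (Phs.stp c2443_1 p2443_0_1)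
theorem p2443_0_5 : Phs s2443 a2443_3 [] [s2444, s2445, s2446, s2447, s2448, s2449, s2450, s2451, s2452, s2453, s2454, s2455, s2456, s2457, s2458, s2459, s2460, s2461, s2462, s2463, s2464, s2465, s2466, s2467, s2468, s2469, s2470, s2471, s2472, s2473, s2474, s2475] ct2443_0 v2443_0 1 w2443_0_5 := (Phs.stp c2443_2 p2443_0_3)
theorem n2443 : Sound.{u} (cP4) s2443 0 :=
  (x2443_3.ext2 (fun h => absurd h (by decide)) GamS.nil (AllS.cons n2444 (AllS.cons n2445 (AllS.cons n2446 (AllS.cons n2447 (AllS.cons n2448 (AllS.cons n2449 (AllS.cons n2450 (AllS.cons n2451 (AllS.cons n2452 (AllS.cons n2453 (AllS.cons n2454 (AllS.cons n2455 (AllS.cons n2456 (AllS.cons n2457 (AllS.cons n2458 (AllS.cons n2459 (AllS.cons n2460 (AllS.cons n2461 (AllS.cons n2462 (AllS.cons n2463 (AllS.cons n2464 (AllS.cons n2465 (AllS.cons n2466 (AllS.cons n2467 (AllS.cons n2468 (AllS.cons n2469 (AllS.cons n2470 (AllS.cons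 n2471 (AllS.cons n2472 (AllS.cons n2473 (AllS.cons n2474 (AllS.cons n2475 AllS.nil)))))))))))))))))))))))))))))))) c2443_4 (Phs.stp c2443_3 p2443_0_5) (Phs.fin (ct := ct2443_0) rfl) :)
theorem x2411 : AuxS.{u} (cP4) s2411 0 a2411 := aux_base3 tw961 rfl b2411
theorem x2411_1 : AuxS.{u} (cP4) s2411 0 a2411_1 := x2411
theorem x2411_2 : AuxS.{u} (cP4) s2411 0 a2411_2 := x2411_1
theorem n2411 : Sound.{u} (cP4) s2411 0 :=
  (x2411_2.jump c2411_0 c2411_1 n2443 :)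
theorem x2412 : AuxS.{u} (cP4) s2412 0 a2412 := aux_base3 tw961 rfl b2412
theorem n2412 : Sound.{u} (cP4) s2412 0 :=
  (x2412.k4 c2412_0 :)
theorem x2413 : AuxS.{u} (cP4) s2413 0 a2413 := aux_base3 tw961 rfl b2413
theorem n2413 : Sound.{u} (cP4) s2413 0 :=
  (x2413.k4 c2413_0 :)
theorem x2414 : AuxS.{u} (cP4) s2414 0 a2414 := aux_base3 tw961 rfl b2414
theorem n2414 : Sound.{u} (cP4) s2414 0 :=
  (x2414.k4 c2414_0 :)
theorem x2415 : AuxS.{u} (cP4) s2415 0 a2415 := aux_base3 tw961 rfl b2415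
theorem n2415 : Sound.{u} (cP4) s2415 0 :=
  (x2415.k4 c2415_0 :)
theorem x2416 : AuxS.{u} (cP4) s2416 0 a2416 := aux_base3 tw961 rfl b2416
theorem n2416 : Sound.{u} (cP4) s2416 0 :=
  (x2416.k4 c2416_0 :)
theorem x2417 : AuxS.{u} (cP4) s2417 0 a2417 := aux_base3 tw961 rfl b2417
theorem n2417 : Sound.{u} (cP4) s2417 0 :=
  (x2417.k4 c2417_0 :)
theorem x2418 : AuxS.{u} (cP4) s2418 0 a2418 := aux_base3 tw961 rfl b2418
theorem n2418 : Sound.{u} (cP4) s2418 0 :=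
  (x2418.k4 c2418_0 :)
theorem x2419 : AuxS.{u} (cP4) s2419 0 a2419 := aux_base3 tw961 rfl b2419
theorem n2419 : Sound.{u} (cP4) s2419 0 :=
  (x2419.k4 c2419_0 :)
theorem x2420 : AuxS.{u} (cP4) s2420 0 a2420 := aux_base3 tw961 rfl b2420
theorem n2420 : Sound.{u} (cP4) s2420 0 :=
  (x2420.k4 c2420_0 :)
theorem x2421 : AuxS.{u} (cP4) s2421 0 a2421 := aux_base3 tw961 rfl b2421
theorem n2421 : Sound.{u} (cP4) s2421 0 :=
  (x2421.k4 c2421_0 :)
theorem x2422 : AuxS.{u} (cP4) s2422 0 a2422 := aux_base3 tw961 rfl b2422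
theorem n2422 : Sound.{u} (cP4) s2422 0 :=
  (x2422.k4 c2422_0 :)
theorem x2423 : AuxS.{u} (cP4) s2423 0 a2423 := aux_base3 tw961 rfl b2423
theorem n2423 : Sound.{u} (cP4) s2423 0 :=
  (x2423.k4 c2423_0 :)
theorem x2424 : AuxS.{u} (cP4) s2424 0 a2424 := aux_base3 tw961 rfl b2424
theorem n2424 : Sound.{u} (cP4) s2424 0 :=
  (x2424.k4 c2424_0 :)
theorem x2425 : AuxS.{u} (cP4) s2425 0 a2425 := aux_base3 tw961 rfl b2425
theorem n2425 : Sound.{u} (cP4) s2425 0 :=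
  (x2425.k4 c2425_0 :)
theorem x2426 : AuxS.{u} (cP4) s2426 0 a2426 := aux_base3 tw961 rfl b2426
theorem n2426 : Sound.{u} (cP4) s2426 0 :=
  (x2426.k4 c2426_0 :)
theorem x2427 : AuxS.{u} (cP4) s2427 0 a2427 := aux_base3 tw961 rfl b2427
theorem n2427 : Sound.{u} (cP4) s2427 0 :=
  (x2427.k4 c2427_0 :)
theorem x2428 : AuxS.{u} (cP4) s2428 0 a2428 := aux_base3 tw961 rfl b2428
theorem n2428 : Sound.{u} (cP4) s2428 0 :=
  (x2428.k4 c2428_0 :)
theorem x2429 : AuxS.{u} (cP4) s2429 0 a2429 := aux_base3 tw961 rfl b2429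
theorem n2429 : Sound.{u} (cP4) s2429 0 :=
  (x2429.k4 c2429_0 :)
theorem x2430 : AuxS.{u} (cP4) s2430 0 a2430 := aux_base3 tw961 rfl b2430
theorem n2430 : Sound.{u} (cP4) s2430 0 :=
  (x2430.k4 c2430_0 :)
theorem x2431 : AuxS.{u} (cP4) s2431 0 a2431 := aux_base3 tw961 rfl b2431
theorem n2431 : Sound.{u} (cP4) s2431 0 :=
  (x2431.k4 c2431_0 :)
theorem x2432 : AuxS.{u} (cP4) s2432 0 a2432 := aux_base3 tw961 rfl b2432
theorem n2432 : Sound.{u} (cP4) s2432 0 :=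
  (x2432.k4 c2432_0 :)
theorem x2433 : AuxS.{u} (cP4) s2433 0 a2433 := aux_base3 tw961 rfl b2433
theorem n2433 : Sound.{u} (cP4) s2433 0 :=
  (x2433.k4 c2433_0 :)
theorem x2434 : AuxS.{u} (cP4) s2434 0 a2434 := aux_base3 tw961 rfl b2434
theorem n2434 : Sound.{u} (cP4) s2434 0 :=
  (x2434.k4 c2434_0 :)
theorem x2435 : AuxS.{u} (cP4) s2435 0 a2435 := aux_base3 tw961 rfl b2435
theorem n2435 : Sound.{u} (cP4) s2435 0 :=
  (x2435.k4 c2435_0 :)
theorem x2436 : AuxS.{u} (cP4) s2436 0 a2436 := aux_base3 tw961 rfl b2436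
theorem n2436 : Sound.{u} (cP4) s2436 0 :=
  (x2436.k4 c2436_0 :)
theorem x2437 : AuxS.{u} (cP4) s2437 0 a2437 := aux_base3 tw961 rfl b2437
theorem n2437 : Sound.{u} (cP4) s2437 0 :=
  (x2437.k4 c2437_0 :)
theorem x2438 : AuxS.{u} (cP4) s2438 0 a2438 := aux_base3 tw961 rfl b2438
theorem n2438 : Sound.{u} (cP4) s2438 0 :=
  (x2438.k4 c2438_0 :)
theorem x2439 : AuxS.{u} (cP4) s2439 0 a2439 := aux_base3 tw961 rfl b2439
theorem n2439 : Sound.{u} (cP4) s2439 0 :=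
  (x2439.k4 c2439_0 :)
theorem x2440 : AuxS.{u} (cP4) s2440 0 a2440 := aux_base3 tw961 rfl b2440
theorem n2440 : Sound.{u} (cP4) s2440 0 :=
  (x2440.k4 c2440_0 :)
theorem x2441 : AuxS.{u} (cP4) s2441 0 a2441 := aux_base3 tw961 rfl b2441
theorem n2441 : Sound.{u} (cP4) s2441 0 :=
  (x2441.k4 c2441_0 :)
theorem x2442 : AuxS.{u} (cP4) s2442 0 a2442 := aux_base3 tw961 rfl b2442
theorem n2442 : Sound.{u} (cP4) s2442 0 :=
  (x2442.k4 c2442_0 :)
theorem x2395 : AuxS.{u} (cP4) s2395 0 a2395 := aux_base3 tw961 rfl b2395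
theorem x2395_1 : AuxS.{u} (cP4) s2395 0 a2395_1 := x2395
theorem x2395_2 : AuxS.{u} (cP4) s2395 0 a2395_2 := x2395_1
theorem n2395 : Sound.{u} (cP4) s2395 0 :=
  (x2395_2.fr (AuxS.gam x2395_2 c2395_0) (AllS.cons n2411 (AllS.cons n2412 (AllS.cons n2413 (AllS.cons n2414 (AllS.cons n2415 (AllS.cons n2416 (AllS.cons n2417 (AllS.cons n2418 (AllS.cons n2419 (AllS.cons n2420 (AllS.cons n2421 (AllS.cons n2422 (AllS.cons n2423 (AllS.cons n2424 (AllS.cons n2425 (AllS.cons n2426 (AllS.cons n2427 (AllS.cons n2428 (AllS.cons n2429 (AllS.cons n2430 (AllS.cons n2431 (AllS.cons n2432 (AllS.cons n2433 (AllS.cons n2434 (AllS.cons n2435 (AllS.cons n2436 (AllS.cons n2437 (AllS.cons n2438 (AllS.cons n2439 (AllS.cons n2440 (AllS.cons n2441 (AllS.cons n2442 AllS.nil)))))))))))))))))))))))))))))))) c2395_1 :)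
theorem x2396 : AuxS.{u} (cP4) s2396 0 a2396 := aux_base3 tw962 rfl b2396
theorem x2396_1 : AuxS.{u} (cP4) s2396 0 a2396_1 := x2396
theorem x2396_2 : AuxS.{u} (cP4) s2396 0 a2396_2 := x2396_1
theorem n2396 : Sound.{u} (cP4) s2396 0 :=
  (x2396_2.fr GamS.nil AllS.nil c2396_0 :)
theorem x2397 : AuxS.{u} (cP4) s2397 0 a2397 := aux_base3 tw963 rfl b2397
theorem x2397_1 : AuxS.{u} (cP4) s2397 0 a2397_1 := x2397
theorem x2397_2 : AuxS.{u} (cP4) s2397 0 a2397_2 := x2397_1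
theorem n2397 : Sound.{u} (cP4) s2397 0 :=
  (x2397_2.fr GamS.nil AllS.nil c2397_0 :)
theorem x2398 : AuxS.{u} (cP4) s2398 0 a2398 := aux_base3 tw964 rfl b2398
theorem x2398_1 : AuxS.{u} (cP4) s2398 0 a2398_1 := x2398
theorem x2398_2 : AuxS.{u} (cP4) s2398 0 a2398_2 := x2398_1
theorem n2398 : Sound.{u} (cP4) s2398 0 :=
  (x2398_2.fr GamS.nil AllS.nil c2398_0 :)
theorem x2399 : AuxS.{u} (cP4) s2399 0 a2399 := aux_base3 tw965 rfl b2399
theorem x2399_1 : AuxS.{u} (cP4) s2399 0 a2399_1 := x2399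
theorem x2399_2 : AuxS.{u} (cP4) s2399 0 a2399_2 := x2399_1
theorem n2399 : Sound.{u} (cP4) s2399 0 :=
  (x2399_2.fr GamS.nil AllS.nil c2399_0 :)
theorem x2400 : AuxS.{u} (cP4) s2400 0 a2400 := aux_base3 tw966 rfl b2400
theorem x2400_1 : AuxS.{u} (cP4) s2400 0 a2400_1 := x2400
theorem x2400_2 : AuxS.{u} (cP4) s2400 0 a2400_2 := x2400_1
theorem n2400 : Sound.{u} (cP4) s2400 0 :=
  (x2400_2.fr GamS.nil AllS.nil c2400_0 :)
theorem x2401 : AuxS.{u} (cP4) s2401 0 a2401 := aux_base3 tw967 rfl b2401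
theorem x2401_1 : AuxS.{u} (cP4) s2401 0 a2401_1 := x2401
theorem x2401_2 : AuxS.{u} (cP4) s2401 0 a2401_2 := x2401_1
theorem n2401 : Sound.{u} (cP4) s2401 0 :=
  (x2401_2.fr GamS.nil AllS.nil c2401_0 :)
theorem x2402 : AuxS.{u} (cP4) s2402 0 a2402 := aux_base3 tw968 rfl b2402
theorem x2402_1 : AuxS.{u} (cP4) s2402 0 a2402_1 := x2402
theorem x2402_2 : AuxS.{u} (cP4) s2402 0 a2402_2 := x2402_1
theorem n2402 : Sound.{u} (cP4) s2402 0 :=
  (x2402_2.fr GamS.nil AllS.nil c2402_0 :)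
theorem x2403 : AuxS.{u} (cP4) s2403 0 a2403 := aux_base3 tw969 rfl b2403
theorem x2403_1 : AuxS.{u} (cP4) s2403 0 a2403_1 := x2403
theorem x2403_2 : AuxS.{u} (cP4) s2403 0 a2403_2 := x2403_1
theorem n2403 : Sound.{u} (cP4) s2403 0 :=
  (x2403_2.fr GamS.nil AllS.nil c2403_0 :)
theorem x2404 : AuxS.{u} (cP4) s2404 0 a2404 := aux_base3 tw970 rfl b2404
theorem x2404_1 : AuxS.{u} (cP4) s2404 0 a2404_1 := x2404
theorem x2404_2 : AuxS.{u} (cP4) s2404 0 a2404_2 := x2404_1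
theorem n2404 : Sound.{u} (cP4) s2404 0 :=
  (x2404_2.fr GamS.nil AllS.nil c2404_0 :)
theorem x2405 : AuxS.{u} (cP4) s2405 0 a2405 := aux_base3 tw971 rfl b2405
theorem x2405_1 : AuxS.{u} (cP4) s2405 0 a2405_1 := x2405
theorem x2405_2 : AuxS.{u} (cP4) s2405 0 a2405_2 := x2405_1
theorem n2405 : Sound.{u} (cP4) s2405 0 :=
  (x2405_2.fr GamS.nil AllS.nil c2405_0 :)
theorem x2406 : AuxS.{u} (cP4) s2406 0 a2406 := aux_base3 tw972 rfl b2406
theorem x2406_1 : AuxS.{u} (cP4) s2406 0 a2406_1 := x2406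
theorem x2406_2 : AuxS.{u} (cP4) s2406 0 a2406_2 := x2406_1
theorem n2406 : Sound.{u} (cP4) s2406 0 :=
  (x2406_2.fr GamS.nil AllS.nil c2406_0 :)
theorem x2407 : AuxS.{u} (cP4) s2407 0 a2407 := aux_base3 tw973 rfl b2407
theorem x2407_1 : AuxS.{u} (cP4) s2407 0 a2407_1 := x2407
theorem x2407_2 : AuxS.{u} (cP4) s2407 0 a2407_2 := x2407_1
theorem n2407 : Sound.{u} (cP4) s2407 0 :=
  (x2407_2.fr GamS.nil AllS.nil c2407_0 :)
theorem x2408 : AuxS.{u} (cP4) s2408 0 a2408 := aux_base3 tw974 rfl b2408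
theorem x2408_1 : AuxS.{u} (cP4) s2408 0 a2408_1 := x2408
theorem x2408_2 : AuxS.{u} (cP4) s2408 0 a2408_2 := x2408_1
theorem n2408 : Sound.{u} (cP4) s2408 0 :=
  (x2408_2.fr GamS.nil AllS.nil c2408_0 :)
theorem x2409 : AuxS.{u} (cP4) s2409 0 a2409 := aux_base3 tw975 rfl b2409
theorem x2409_1 : AuxS.{u} (cP4) s2409 0 a2409_1 := x2409
theorem x2409_2 : AuxS.{u} (cP4) s2409 0 a2409_2 := x2409_1
theorem n2409 : Sound.{u} (cP4) s2409 0 :=
  (x2409_2.fr GamS.nil AllS.nil c2409_0 :)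
theorem x2410 : AuxS.{u} (cP4) s2410 0 a2410 := aux_base3 tw976 rfl b2410
theorem x2410_1 : AuxS.{u} (cP4) s2410 0 a2410_1 := x2410
theorem x2410_2 : AuxS.{u} (cP4) s2410 0 a2410_2 := x2410_1
theorem n2410 : Sound.{u} (cP4) s2410 0 :=
  (x2410_2.fr GamS.nil AllS.nil c2410_0 :)
theorem x2379 : AuxS.{u} (cP4) s2379 0 a2379 := aux_base3 tw945 rfl b2379
theorem x2379_1 : AuxS.{u} (cP4) s2379 0 a2379_1 := (AuxS.up x2379 c2379_7 :)
theorem x2379_2 : AuxS.{u} (cP4) s2379 0 a2379_2 := x2379_1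
theorem p2379_0_1 : Phs s2379 a2379_2 (List.map Prod.fst g2379_0) [s2395, s2396, s2397, s2398, s2399, s2400, s2401, s2402, s2403, s2404, s2405, s2406, s2407, s2408, s2409, s2410] ct2379_0 v2379_0 5 w2379_0_1 := (Phs.fin c2379_1)
theorem p2379_0_3 : Phs s2379 a2379_2 (List.map Prod.fst g2379_0) [s2395, s2396, s2397, s2398, s2399, s2400, s2401, s2402, s2403, s2404, s2405, s2406, s2407, s2408, s2409, s2410] ct2379_0 v2379_0 4 w2379_0_3 := (Phs.stp c2379_2 p2379_0_1)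
theorem p2379_0_5 : Phs s2379 a2379_2 (List.map Prod.fst g2379_0) [s2395, s2396, s2397, s2398, s2399, s2400, s2401, s2402, s2403, s2404, s2405, s2406, s2407, s2408, s2409, s2410] ct2379_0 v2379_0 3 w2379_0_5 := (Phs.stp c2379_3 p2379_0_3)
theorem p2379_0_7 : Phs s2379 a2379_2 (List.map Prod.fst g2379_0) [s2395, s2396, s2397, s2398, s2399, s2400, s2401, s2402, s2403, s2404, s2405, s2406, s2407, s2408, s2409, s2410] ct2379_0 v2379_0 1 w2379_0_7 := (Phs.stp c2379_4 p2379_0_5)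
theorem n2379 : Sound.{u} (cP4) s2379 0 :=
  (x2379_2.ext2 (fun h => absurd h (by decide)) (AuxS.gam x2379_2 c2379_0) (AllS.cons n2395 (AllS.cons n2396 (AllS.cons n2397 (AllS.cons n2398 (AllS.cons n2399 (AllS.cons n2400 (AllS.cons n2401 (AllS.cons n2402 (AllS.cons n2403 (AllS.cons n2404 (AllS.cons n2405 (AllS.cons n2406 (AllS.cons n2407 (AllS.cons n2408 (AllS.cons n2409 (AllS.cons n2410 AllS.nil)))))))))))))))) c2379_6 (Phs.stp c2379_5 p2379_0_7) (Phs.fin (ct := ct2379_0) rfl) :)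
theorem x2564 : AuxS.{u} (cP4) s2564 0 a2564 := aux_base3 tw1033 rfl b2564
theorem x2564_1 : AuxS.{u} (cP4) s2564 0 a2564_1 := x2564
theorem x2564_2 : AuxS.{u} (cP4) s2564 0 a2564_2 := x2564_1
theorem n2564 : Sound.{u} (cP4) s2564 0 :=
  (x2564_2.fr GamS.nil AllS.nil c2564_0 :)
theorem x2565 : AuxS.{u} (cP4) s2565 0 a2565 := aux_base3 tw1034 rfl b2565
theorem x2565_1 : AuxS.{u} (cP4) s2565 0 a2565_1 := x2565
theorem x2565_2 : AuxS.{u} (cP4) s2565 0 a2565_2 := x2565_1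
theorem n2565 : Sound.{u} (cP4) s2565 0 :=
  (x2565_2.fr GamS.nil AllS.nil c2565_0 :)
theorem x2566 : AuxS.{u} (cP4) s2566 0 a2566 := aux_base3 tw1035 rfl b2566
theorem x2566_1 : AuxS.{u} (cP4) s2566 0 a2566_1 := x2566
theorem x2566_2 : AuxS.{u} (cP4) s2566 0 a2566_2 := x2566_1
theorem n2566 : Sound.{u} (cP4) s2566 0 :=
  (x2566_2.fr GamS.nil AllS.nil c2566_0 :)
theorem x2567 : AuxS.{u} (cP4) s2567 0 a2567 := aux_base3 tw1036 rfl b2567
theorem x2567_1 : AuxS.{u} (cP4) s2567 0 a2567_1 := x2567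
theorem x2567_2 : AuxS.{u} (cP4) s2567 0 a2567_2 := x2567_1
theorem n2567 : Sound.{u} (cP4) s2567 0 :=
  (x2567_2.fr GamS.nil AllS.nil c2567_0 :)
theorem x2568 : AuxS.{u} (cP4) s2568 0 a2568 := aux_base3 tw1037 rfl b2568
theorem x2568_1 : AuxS.{u} (cP4) s2568 0 a2568_1 := x2568
theorem x2568_2 : AuxS.{u} (cP4) s2568 0 a2568_2 := x2568_1
theorem n2568 : Sound.{u} (cP4) s2568 0 :=
  (x2568_2.fr GamS.nil AllS.nil c2568_0 :)
theorem x2569 : AuxS.{u} (cP4) s2569 0 a2569 := aux_base3 tw1038 rfl b2569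
theorem x2569_1 : AuxS.{u} (cP4) s2569 0 a2569_1 := x2569
theorem x2569_2 : AuxS.{u} (cP4) s2569 0 a2569_2 := x2569_1
theorem n2569 : Sound.{u} (cP4) s2569 0 :=
  (x2569_2.fr GamS.nil AllS.nil c2569_0 :)
theorem x2570 : AuxS.{u} (cP4) s2570 0 a2570 := aux_base3 tw1039 rfl b2570
theorem x2570_1 : AuxS.{u} (cP4) s2570 0 a2570_1 := x2570
theorem x2570_2 : AuxS.{u} (cP4) s2570 0 a2570_2 := x2570_1
theorem n2570 : Sound.{u} (cP4) s2570 0 :=
  (x2570_2.fr GamS.nil AllS.nil c2570_0 :)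
theorem x2571 : AuxS.{u} (cP4) s2571 0 a2571 := aux_base3 tw1040 rfl b2571
theorem x2571_1 : AuxS.{u} (cP4) s2571 0 a2571_1 := x2571
theorem x2571_2 : AuxS.{u} (cP4) s2571 0 a2571_2 := x2571_1
theorem n2571 : Sound.{u} (cP4) s2571 0 :=
  (x2571_2.fr GamS.nil AllS.nil c2571_0 :)
theorem x2572 : AuxS.{u} (cP4) s2572 0 a2572 := aux_base3 tw1041 rfl b2572
theorem x2572_1 : AuxS.{u} (cP4) s2572 0 a2572_1 := x2572
theorem x2572_2 : AuxS.{u} (cP4) s2572 0 a2572_2 := x2572_1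
theorem n2572 : Sound.{u} (cP4) s2572 0 :=
  (x2572_2.fr GamS.nil AllS.nil c2572_0 :)
theorem x2573 : AuxS.{u} (cP4) s2573 0 a2573 := aux_base3 tw1042 rfl b2573
theorem x2573_1 : AuxS.{u} (cP4) s2573 0 a2573_1 := x2573
theorem x2573_2 : AuxS.{u} (cP4) s2573 0 a2573_2 := x2573_1
theorem n2573 : Sound.{u} (cP4) s2573 0 :=
  (x2573_2.fr GamS.nil AllS.nil c2573_0 :)
theorem x2574 : AuxS.{u} (cP4) s2574 0 a2574 := aux_base3 tw1043 rfl b2574
theorem x2574_1 : AuxS.{u} (cP4) s2574 0 a2574_1 := x2574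
theorem x2574_2 : AuxS.{u} (cP4) s2574 0 a2574_2 := x2574_1
theorem n2574 : Sound.{u} (cP4) s2574 0 :=
  (x2574_2.fr GamS.nil AllS.nil c2574_0 :)
theorem x2575 : AuxS.{u} (cP4) s2575 0 a2575 := aux_base3 tw1044 rfl b2575
theorem x2575_1 : AuxS.{u} (cP4) s2575 0 a2575_1 := x2575
theorem x2575_2 : AuxS.{u} (cP4) s2575 0 a2575_2 := x2575_1
theorem n2575 : Sound.{u} (cP4) s2575 0 :=
  (x2575_2.fr GamS.nil AllS.nil c2575_0 :)
theorem x2576 : AuxS.{u} (cP4) s2576 0 a2576 := aux_base3 tw1045 rfl b2576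
theorem x2576_1 : AuxS.{u} (cP4) s2576 0 a2576_1 := x2576
theorem x2576_2 : AuxS.{u} (cP4) s2576 0 a2576_2 := x2576_1
theorem n2576 : Sound.{u} (cP4) s2576 0 :=
  (x2576_2.fr GamS.nil AllS.nil c2576_0 :)
theorem x2577 : AuxS.{u} (cP4) s2577 0 a2577 := aux_base3 tw1046 rfl b2577
theorem x2577_1 : AuxS.{u} (cP4) s2577 0 a2577_1 := x2577
theorem x2577_2 : AuxS.{u} (cP4) s2577 0 a2577_2 := x2577_1
theorem n2577 : Sound.{u} (cP4) s2577 0 :=
  (x2577_2.fr GamS.nil AllS.nil c2577_0 :)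
theorem x2578 : AuxS.{u} (cP4) s2578 0 a2578 := aux_base3 tw1047 rfl b2578
theorem x2578_1 : AuxS.{u} (cP4) s2578 0 a2578_1 := x2578
theorem x2578_2 : AuxS.{u} (cP4) s2578 0 a2578_2 := x2578_1
theorem n2578 : Sound.{u} (cP4) s2578 0 :=
  (x2578_2.fr GamS.nil AllS.nil c2578_0 :)
theorem x2579 : AuxS.{u} (cP4) s2579 0 a2579 := aux_base3 tw1048 rfl b2579
theorem x2579_1 : AuxS.{u} (cP4) s2579 0 a2579_1 := x2579
theorem x2579_2 : AuxS.{u} (cP4) s2579 0 a2579_2 := x2579_1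
theorem n2579 : Sound.{u} (cP4) s2579 0 :=
  (x2579_2.fr GamS.nil AllS.nil c2579_0 :)
theorem x2380 : AuxS.{u} (cP4) s2380 0 a2380 := aux_base3 tw946 rfl b2380
theorem x2380_1 : AuxS.{u} (cP4) s2380 0 a2380_1 := (AuxS.up x2380 c2380_7 :)
theorem x2380_2 : AuxS.{u} (cP4) s2380 0 a2380_2 := x2380_1
theorem p2380_0_1 : Phs s2380 a2380_2 (List.map Prod.fst g2380_0) [s2564, s2565, s2566, s2567, s2568, s2569, s2570, s2571, s2572, s2573, s2574, s2575, s2576, s2577, s2578, s2579] ct2380_0 v2380_0 5 w2380_0_1 := (Phs.fin c2380_1)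
theorem p2380_0_3 : Phs s2380 a2380_2 (List.map Prod.fst g2380_0) [s2564, s2565, s2566, s2567, s2568, s2569, s2570, s2571, s2572, s2573, s2574, s2575, s2576, s2577, s2578, s2579] ct2380_0 v2380_0 4 w2380_0_3 := (Phs.stp c2380_2 p2380_0_1)
theorem p2380_0_5 : Phs s2380 a2380_2 (List.map Prod.fst g2380_0) [s2564, s2565, s2566, s2567, s2568, s2569, s2570, s2571, s2572, s2573, s2574, s2575, s2576, s2577, s2578, s2579] ct2380_0 v2380_0 3 w2380_0_5 := (Phs.stp c2380_3 p2380_0_3)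
theorem p2380_0_7 : Phs s2380 a2380_2 (List.map Prod.fst g2380_0) [s2564, s2565, s2566, s2567, s2568, s2569, s2570, s2571, s2572, s2573, s2574, s2575, s2576, s2577, s2578, s2579] ct2380_0 v2380_0 1 w2380_0_7 := (Phs.stp c2380_4 p2380_0_5)
theorem n2380 : Sound.{u} (cP4) s2380 0 :=
  (x2380_2.ext2 (fun h => absurd h (by decide)) (AuxS.gam x2380_2 c2380_0) (AllS.cons n2564 (AllS.cons n2565 (AllS.cons n2566 (AllS.cons n2567 (AllS.cons n2568 (AllS.cons n2569 (AllS.cons n2570 (AllS.cons n2571 (AllS.cons n2572 (AllS.cons n2573 (AllS.cons n2574 (AllS.cons n2575 (AllS.cons n2576 (AllS.cons n2577 (AllS.cons n2578 (AllS.cons n2579 AllS.nil)))))))))))))))) c2380_6 (Phs.stp c2380_5 p2380_0_7) (Phs.fin (ct := ct2380_0) rfl) :)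
theorem x2381 : AuxS.{u} (cP4) s2381 0 a2381 := aux_base3 tw947 rfl b2381
theorem x2381_1 : AuxS.{u} (cP4) s2381 0 a2381_1 := (AuxS.up x2381 c2381_1 :)
theorem n2381 : Sound.{u} (cP4) s2381 0 :=
  (x2381_1.k7 c2381_0 :)
theorem x2382 : AuxS.{u} (cP4) s2382 0 a2382 := aux_base3 tw948 rfl b2382
theorem x2382_1 : AuxS.{u} (cP4) s2382 0 a2382_1 := (AuxS.up x2382 c2382_1 :)
theorem n2382 : Sound.{u} (cP4) s2382 0 :=
  (x2382_1.k7 c2382_0 :)
theorem x2580 : AuxS.{u} (cP4) s2580 0 a2580 := aux_base3 tw1049 rfl b2580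
theorem x2580_1 : AuxS.{u} (cP4) s2580 0 a2580_1 := x2580
theorem n2580 : Sound.{u} (cP4) s2580 0 :=
  (x2580_1.fr GamS.nil AllS.nil c2580_0 :)
theorem x2581 : AuxS.{u} (cP4) s2581 0 a2581 := aux_base3 tw1050 rfl b2581
theorem x2581_1 : AuxS.{u} (cP4) s2581 0 a2581_1 := x2581
theorem n2581 : Sound.{u} (cP4) s2581 0 :=
  (x2581_1.fr GamS.nil AllS.nil c2581_0 :)
theorem x2582 : AuxS.{u} (cP4) s2582 0 a2582 := aux_base3 tw1051 rfl b2582
theorem x2582_1 : AuxS.{u} (cP4) s2582 0 a2582_1 := x2582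
theorem n2582 : Sound.{u} (cP4) s2582 0 :=
  (x2582_1.fr GamS.nil AllS.nil c2582_0 :)
theorem x2583 : AuxS.{u} (cP4) s2583 0 a2583 := aux_base3 tw1052 rfl b2583
theorem x2583_1 : AuxS.{u} (cP4) s2583 0 a2583_1 := x2583
theorem n2583 : Sound.{u} (cP4) s2583 0 :=
  (x2583_1.fr GamS.nil AllS.nil c2583_0 :)
theorem x2584 : AuxS.{u} (cP4) s2584 0 a2584 := aux_base3 tw1053 rfl b2584
theorem x2584_1 : AuxS.{u} (cP4) s2584 0 a2584_1 := x2584
theorem x2584_2 : AuxS.{u} (cP4) s2584 0 a2584_2 := x2584_1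
theorem n2584 : Sound.{u} (cP4) s2584 0 :=
  (x2584_2.fr GamS.nil AllS.nil c2584_0 :)
theorem x2585 : AuxS.{u} (cP4) s2585 0 a2585 := aux_base3 tw1054 rfl b2585
theorem x2585_1 : AuxS.{u} (cP4) s2585 0 a2585_1 := x2585
theorem n2585 : Sound.{u} (cP4) s2585 0 :=
  (x2585_1.fr GamS.nil AllS.nil c2585_0 :)
theorem x2586 : AuxS.{u} (cP4) s2586 0 a2586 := aux_base3 tw1055 rfl b2586
theorem x2586_1 : AuxS.{u} (cP4) s2586 0 a2586_1 := x2586
theorem n2586 : Sound.{u} (cP4) s2586 0 :=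
  (x2586_1.fr GamS.nil AllS.nil c2586_0 :)
theorem x2587 : AuxS.{u} (cP4) s2587 0 a2587 := aux_base3 tw1056 rfl b2587
theorem x2587_1 : AuxS.{u} (cP4) s2587 0 a2587_1 := x2587
theorem n2587 : Sound.{u} (cP4) s2587 0 :=
  (x2587_1.fr GamS.nil AllS.nil c2587_0 :)
theorem x2588 : AuxS.{u} (cP4) s2588 0 a2588 := aux_base3 tw1057 rfl b2588
theorem x2588_1 : AuxS.{u} (cP4) s2588 0 a2588_1 := x2588
theorem x2588_2 : AuxS.{u} (cP4) s2588 0 a2588_2 := x2588_1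
theorem n2588 : Sound.{u} (cP4) s2588 0 :=
  (x2588_2.fr GamS.nil AllS.nil c2588_0 :)
theorem x2589 : AuxS.{u} (cP4) s2589 0 a2589 := aux_base3 tw1058 rfl b2589
theorem x2589_1 : AuxS.{u} (cP4) s2589 0 a2589_1 := x2589
theorem n2589 : Sound.{u} (cP4) s2589 0 :=
  (x2589_1.fr GamS.nil AllS.nil c2589_0 :)
theorem x2590 : AuxS.{u} (cP4) s2590 0 a2590 := aux_base3 tw1059 rfl b2590
theorem x2590_1 : AuxS.{u} (cP4) s2590 0 a2590_1 := x2590
theorem x2590_2 : AuxS.{u} (cP4) s2590 0 a2590_2 := x2590_1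
theorem n2590 : Sound.{u} (cP4) s2590 0 :=
  (x2590_2.fr GamS.nil AllS.nil c2590_0 :)
theorem x2591 : AuxS.{u} (cP4) s2591 0 a2591 := aux_base3 tw1060 rfl b2591
theorem x2591_1 : AuxS.{u} (cP4) s2591 0 a2591_1 := x2591
theorem n2591 : Sound.{u} (cP4) s2591 0 :=
  (x2591_1.fr GamS.nil AllS.nil c2591_0 :)
theorem x2592 : AuxS.{u} (cP4) s2592 0 a2592 := aux_base3 tw1061 rfl b2592
theorem x2592_1 : AuxS.{u} (cP4) s2592 0 a2592_1 := x2592
theorem x2592_2 : AuxS.{u} (cP4) s2592 0 a2592_2 := x2592_1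
theorem n2592 : Sound.{u} (cP4) s2592 0 :=
  (x2592_2.fr GamS.nil AllS.nil c2592_0 :)
theorem x2593 : AuxS.{u} (cP4) s2593 0 a2593 := aux_base3 tw1062 rfl b2593
theorem x2593_1 : AuxS.{u} (cP4) s2593 0 a2593_1 := x2593
theorem x2593_2 : AuxS.{u} (cP4) s2593 0 a2593_2 := x2593_1
theorem n2593 : Sound.{u} (cP4) s2593 0 :=
  (x2593_2.fr GamS.nil AllS.nil c2593_0 :)
theorem x2594 : AuxS.{u} (cP4) s2594 0 a2594 := aux_base3 tw1063 rfl b2594
theorem x2594_1 : AuxS.{u} (cP4) s2594 0 a2594_1 := x2594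
theorem n2594 : Sound.{u} (cP4) s2594 0 :=
  (x2594_1.fr GamS.nil AllS.nil c2594_0 :)
theorem x2595 : AuxS.{u} (cP4) s2595 0 a2595 := aux_base3 tw1064 rfl b2595
theorem x2595_1 : AuxS.{u} (cP4) s2595 0 a2595_1 := x2595
theorem n2595 : Sound.{u} (cP4) s2595 0 :=
  (x2595_1.fr GamS.nil AllS.nil c2595_0 :)
theorem x2383 : AuxS.{u} (cP4) s2383 0 a2383 := aux_base3 tw949 rfl b2383
theorem x2383_1 : AuxS.{u} (cP4) s2383 0 a2383_1 := (AuxS.up x2383 c2383_7 :)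
theorem p2383_0_1 : Phs s2383 a2383_1 (List.map Prod.fst g2383_0) [s2580, s2581, s2582, s2583, s2584, s2585, s2586, s2587, s2588, s2589, s2590, s2591, s2592, s2593, s2594, s2595] ct2383_0 v2383_0 5 w2383_0_1 := (Phs.fin c2383_1)
theorem p2383_0_3 : Phs s2383 a2383_1 (List.map Prod.fst g2383_0) [s2580, s2581, s2582, s2583, s2584, s2585, s2586, s2587, s2588, s2589, s2590, s2591, s2592, s2593, s2594, s2595] ct2383_0 v2383_0 4 w2383_0_3 := (Phs.stp c2383_2 p2383_0_1)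
theorem p2383_0_5 : Phs s2383 a2383_1 (List.map Prod.fst g2383_0) [s2580, s2581, s2582, s2583, s2584, s2585, s2586, s2587, s2588, s2589, s2590, s2591, s2592, s2593, s2594, s2595] ct2383_0 v2383_0 3 w2383_0_5 := (Phs.stp c2383_3 p2383_0_3)
theorem p2383_0_7 : Phs s2383 a2383_1 (List.map Prod.fst g2383_0) [s2580, s2581, s2582, s2583, s2584, s2585, s2586, s2587, s2588, s2589, s2590, s2591, s2592, s2593, s2594, s2595] ct2383_0 v2383_0 1 w2383_0_7 := (Phs.stp c2383_4 p2383_0_5)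
theorem n2383 : Sound.{u} (cP4) s2383 0 :=
  (x2383_1.ext2 (fun h => absurd h (by decide)) (AuxS.gam x2383_1 c2383_0) (AllS.cons n2580 (AllS.cons n2581 (AllS.cons n2582 (AllS.cons n2583 (AllS.cons n2584 (AllS.cons n2585 (AllS.cons n2586 (AllS.cons n2587 (AllS.cons n2588 (AllS.cons n2589 (AllS.cons n2590 (AllS.cons n2591 (AllS.cons n2592 (AllS.cons n2593 (AllS.cons n2594 (AllS.cons n2595 AllS.nil)))))))))))))))) c2383_6 (Phs.stp c2383_5 p2383_0_7) (Phs.fin (ct := ct2383_0) rfl) :)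
theorem x2612 : AuxS.{u} (cP4) s2612 0 a2612 := aux_base3 tw1065 rfl b2612
theorem n2612 : Sound.{u} (cP4) s2612 0 :=
  (x2612.k4 c2612_0 :)
theorem x2613 : AuxS.{u} (cP4) s2613 0 a2613 := aux_base3 tw1065 rfl b2613
theorem n2613 : Sound.{u} (cP4) s2613 0 :=
  (x2613.k4 c2613_0 :)
theorem x2614 : AuxS.{u} (cP4) s2614 0 a2614 := aux_base3 tw1065 rfl b2614
theorem n2614 : Sound.{u} (cP4) s2614 0 :=
  (x2614.k4 c2614_0 :)
theorem x2615 : AuxS.{u} (cP4) s2615 0 a2615 := aux_base3 tw1065 rfl b2615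
theorem n2615 : Sound.{u} (cP4) s2615 0 :=
  (x2615.k4 c2615_0 :)
theorem x2616 : AuxS.{u} (cP4) s2616 0 a2616 := aux_base3 tw1065 rfl b2616
theorem n2616 : Sound.{u} (cP4) s2616 0 :=
  (x2616.k4 c2616_0 :)
theorem x2617 : AuxS.{u} (cP4) s2617 0 a2617 := aux_base3 tw1065 rfl b2617
theorem n2617 : Sound.{u} (cP4) s2617 0 :=
  (x2617.k4 c2617_0 :)
theorem x2618 : AuxS.{u} (cP4) s2618 0 a2618 := aux_base3 tw1065 rfl b2618
theorem n2618 : Sound.{u} (cP4) s2618 0 :=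
  (x2618.k4 c2618_0 :)
theorem x2619 : AuxS.{u} (cP4) s2619 0 a2619 := aux_base3 tw1065 rfl b2619
theorem n2619 : Sound.{u} (cP4) s2619 0 :=
  (x2619.k4 c2619_0 :)
theorem x2620 : AuxS.{u} (cP4) s2620 0 a2620 := aux_base3 tw1065 rfl b2620
theorem n2620 : Sound.{u} (cP4) s2620 0 :=
  (x2620.k4 c2620_0 :)
theorem x2621 : AuxS.{u} (cP4) s2621 0 a2621 := aux_base3 tw1065 rfl b2621
theorem n2621 : Sound.{u} (cP4) s2621 0 :=
  (x2621.k4 c2621_0 :)
theorem x2622 : AuxS.{u} (cP4) s2622 0 a2622 := aux_base3 tw1065 rfl b2622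
theorem n2622 : Sound.{u} (cP4) s2622 0 :=
  (x2622.k4 c2622_0 :)
theorem x2623 : AuxS.{u} (cP4) s2623 0 a2623 := aux_base3 tw1065 rfl b2623
theorem n2623 : Sound.{u} (cP4) s2623 0 :=
  (x2623.k4 c2623_0 :)
theorem x2624 : AuxS.{u} (cP4) s2624 0 a2624 := aux_base3 tw1065 rfl b2624
theorem n2624 : Sound.{u} (cP4) s2624 0 :=
  (x2624.k4 c2624_0 :)
theorem x2625 : AuxS.{u} (cP4) s2625 0 a2625 := aux_base3 tw1065 rfl b2625
theorem n2625 : Sound.{u} (cP4) s2625 0 :=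
  (x2625.k4 c2625_0 :)
theorem x2626 : AuxS.{u} (cP4) s2626 0 a2626 := aux_base3 tw1065 rfl b2626
theorem n2626 : Sound.{u} (cP4) s2626 0 :=
  (x2626.k4 c2626_0 :)
theorem x2627 : AuxS.{u} (cP4) s2627 0 a2627 := aux_base3 tw1065 rfl b2627
theorem n2627 : Sound.{u} (cP4) s2627 0 :=
  (x2627.k4 c2627_0 :)
theorem x2628 : AuxS.{u} (cP4) s2628 0 a2628 := aux_base3 tw1065 rfl b2628
theorem n2628 : Sound.{u} (cP4) s2628 0 :=
  (x2628.k4 c2628_0 :)
theorem x2629 : AuxS.{u} (cP4) s2629 0 a2629 := aux_base3 tw1065 rfl b2629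
theorem n2629 : Sound.{u} (cP4) s2629 0 :=
  (x2629.k4 c2629_0 :)
theorem x2630 : AuxS.{u} (cP4) s2630 0 a2630 := aux_base3 tw1065 rfl b2630
theorem n2630 : Sound.{u} (cP4) s2630 0 :=
  (x2630.k4 c2630_0 :)
theorem x2631 : AuxS.{u} (cP4) s2631 0 a2631 := aux_base3 tw1065 rfl b2631
theorem n2631 : Sound.{u} (cP4) s2631 0 :=
  (x2631.k4 c2631_0 :)
theorem x2632 : AuxS.{u} (cP4) s2632 0 a2632 := aux_base3 tw1065 rfl b2632
theorem n2632 : Sound.{u} (cP4) s2632 0 :=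
  (x2632.k4 c2632_0 :)
theorem x2633 : AuxS.{u} (cP4) s2633 0 a2633 := aux_base3 tw1065 rfl b2633
theorem n2633 : Sound.{u} (cP4) s2633 0 :=
  (x2633.k4 c2633_0 :)
theorem x2634 : AuxS.{u} (cP4) s2634 0 a2634 := aux_base3 tw1065 rfl b2634
theorem n2634 : Sound.{u} (cP4) s2634 0 :=
  (x2634.k4 c2634_0 :)
theorem x2635 : AuxS.{u} (cP4) s2635 0 a2635 := aux_base3 tw1065 rfl b2635
theorem n2635 : Sound.{u} (cP4) s2635 0 :=
  (x2635.k4 c2635_0 :)
theorem x2636 : AuxS.{u} (cP4) s2636 0 a2636 := aux_base3 tw1065 rfl b2636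
theorem n2636 : Sound.{u} (cP4) s2636 0 :=
  (x2636.k4 c2636_0 :)
theorem x2637 : AuxS.{u} (cP4) s2637 0 a2637 := aux_base3 tw1065 rfl b2637
theorem n2637 : Sound.{u} (cP4) s2637 0 :=
  (x2637.k4 c2637_0 :)
theorem x2638 : AuxS.{u} (cP4) s2638 0 a2638 := aux_base3 tw1065 rfl b2638
theorem n2638 : Sound.{u} (cP4) s2638 0 :=
  (x2638.k4 c2638_0 :)
theorem x2639 : AuxS.{u} (cP4) s2639 0 a2639 := aux_base3 tw1065 rfl b2639
theorem n2639 : Sound.{u} (cP4) s2639 0 :=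
  (x2639.k4 c2639_0 :)
theorem x2677 : AuxS.{u} (cP4) s2677 0 a2677 := aux_base3 tw1081 rfl b2677
theorem n2677 : Sound.{u} (cP4) s2677 0 :=
  (x2677.k4 c2677_0 :)
theorem x2678 : AuxS.{u} (cP4) s2678 0 a2678 := aux_base3 tw1081 rfl b2678
theorem n2678 : Sound.{u} (cP4) s2678 0 :=
  (x2678.k4 c2678_0 :)
theorem x2679 : AuxS.{u} (cP4) s2679 0 a2679 := aux_base3 tw1081 rfl b2679
theorem n2679 : Sound.{u} (cP4) s2679 0 :=
  (x2679.k4 c2679_0 :)
theorem x2680 : AuxS.{u} (cP4) s2680 0 a2680 := aux_base3 tw1081 rfl b2680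
theorem n2680 : Sound.{u} (cP4) s2680 0 :=
  (x2680.k4 c2680_0 :)
theorem x2681 : AuxS.{u} (cP4) s2681 0 a2681 := aux_base3 tw1081 rfl b2681
theorem n2681 : Sound.{u} (cP4) s2681 0 :=
  (x2681.k4 c2681_0 :)
theorem x2709 : AuxS.{u} (cP4) s2709 0 a2709 := aux_base3 tw1081 rfl b2709
theorem x2709_1 : AuxS.{u} (cP4) s2709 0 a2709_1 := x2709
theorem n2709 : Sound.{u} (cP4) s2709 0 :=
  (x2709_1.jump c2709_0 c2709_1 n791 :)
theorem x2682 : AuxS.{u} (cP4) s2682 0 a2682 := aux_base3 tw1081 rfl b2682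
theorem x2682_1 : AuxS.{u} (cP4) s2682 0 a2682_1 := x2682
theorem n2682 : Sound.{u} (cP4) s2682 0 :=
  (x2682_1.jump c2682_0 c2682_1 n2709 :)
theorem x2683 : AuxS.{u} (cP4) s2683 0 a2683 := aux_base3 tw1081 rfl b2683
theorem n2683 : Sound.{u} (cP4) s2683 0 :=
  (x2683.k4 c2683_0 :)
theorem x2684 : AuxS.{u} (cP4) s2684 0 a2684 := aux_base3 tw1081 rfl b2684
theorem n2684 : Sound.{u} (cP4) s2684 0 :=
  (x2684.k4 c2684_0 :)
theorem x2685 : AuxS.{u} (cP4) s2685 0 a2685 := aux_base3 tw1081 rfl b2685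
theorem n2685 : Sound.{u} (cP4) s2685 0 :=
  (x2685.k4 c2685_0 :)
theorem x2686 : AuxS.{u} (cP4) s2686 0 a2686 := aux_base3 tw1081 rfl b2686
theorem n2686 : Sound.{u} (cP4) s2686 0 :=
  (x2686.k4 c2686_0 :)
theorem x2687 : AuxS.{u} (cP4) s2687 0 a2687 := aux_base3 tw1081 rfl b2687
theorem n2687 : Sound.{u} (cP4) s2687 0 :=
  (x2687.k4 c2687_0 :)
theorem x2688 : AuxS.{u} (cP4) s2688 0 a2688 := aux_base3 tw1081 rfl b2688
theorem n2688 : Sound.{u} (cP4) s2688 0 :=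
  (x2688.k4 c2688_0 :)
theorem x2689 : AuxS.{u} (cP4) s2689 0 a2689 := aux_base3 tw1081 rfl b2689
theorem n2689 : Sound.{u} (cP4) s2689 0 :=
  (x2689.k4 c2689_0 :)
theorem x2690 : AuxS.{u} (cP4) s2690 0 a2690 := aux_base3 tw1081 rfl b2690
theorem n2690 : Sound.{u} (cP4) s2690 0 :=
  (x2690.k4 c2690_0 :)
theorem x2691 : AuxS.{u} (cP4) s2691 0 a2691 := aux_base3 tw1081 rfl b2691
theorem n2691 : Sound.{u} (cP4) s2691 0 :=
  (x2691.k4 c2691_0 :)
theorem x2692 : AuxS.{u} (cP4) s2692 0 a2692 := aux_base3 tw1081 rfl b2692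
theorem n2692 : Sound.{u} (cP4) s2692 0 :=
  (x2692.k4 c2692_0 :)
theorem x2693 : AuxS.{u} (cP4) s2693 0 a2693 := aux_base3 tw1081 rfl b2693
theorem n2693 : Sound.{u} (cP4) s2693 0 :=
  (x2693.k4 c2693_0 :)
theorem x2694 : AuxS.{u} (cP4) s2694 0 a2694 := aux_base3 tw1081 rfl b2694
theorem n2694 : Sound.{u} (cP4) s2694 0 :=
  (x2694.k4 c2694_0 :)
theorem x2695 : AuxS.{u} (cP4) s2695 0 a2695 := aux_base3 tw1081 rfl b2695
theorem n2695 : Sound.{u} (cP4) s2695 0 :=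
  (x2695.k4 c2695_0 :)
theorem x2696 : AuxS.{u} (cP4) s2696 0 a2696 := aux_base3 tw1081 rfl b2696
theorem n2696 : Sound.{u} (cP4) s2696 0 :=
  (x2696.k4 c2696_0 :)
theorem x2697 : AuxS.{u} (cP4) s2697 0 a2697 := aux_base3 tw1081 rfl b2697
theorem n2697 : Sound.{u} (cP4) s2697 0 :=
  (x2697.k4 c2697_0 :)
theorem x2698 : AuxS.{u} (cP4) s2698 0 a2698 := aux_base3 tw1081 rfl b2698
theorem n2698 : Sound.{u} (cP4) s2698 0 :=
  (x2698.k4 c2698_0 :)
theorem x2699 : AuxS.{u} (cP4) s2699 0 a2699 := aux_base3 tw1081 rfl b2699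
theorem n2699 : Sound.{u} (cP4) s2699 0 :=
  (x2699.k4 c2699_0 :)
theorem x2700 : AuxS.{u} (cP4) s2700 0 a2700 := aux_base3 tw1081 rfl b2700
theorem n2700 : Sound.{u} (cP4) s2700 0 :=
  (x2700.k4 c2700_0 :)
theorem x2701 : AuxS.{u} (cP4) s2701 0 a2701 := aux_base3 tw1081 rfl b2701
theorem n2701 : Sound.{u} (cP4) s2701 0 :=
  (x2701.k4 c2701_0 :)
theorem x2702 : AuxS.{u} (cP4) s2702 0 a2702 := aux_base3 tw1081 rfl b2702
theorem n2702 : Sound.{u} (cP4) s2702 0 :=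
  (x2702.k4 c2702_0 :)
theorem x2703 : AuxS.{u} (cP4) s2703 0 a2703 := aux_base3 tw1081 rfl b2703
theorem n2703 : Sound.{u} (cP4) s2703 0 :=
  (x2703.k4 c2703_0 :)
theorem x2704 : AuxS.{u} (cP4) s2704 0 a2704 := aux_base3 tw1081 rfl b2704
theorem n2704 : Sound.{u} (cP4) s2704 0 :=
  (x2704.k4 c2704_0 :)
theorem x2705 : AuxS.{u} (cP4) s2705 0 a2705 := aux_base3 tw1081 rfl b2705
theorem n2705 : Sound.{u} (cP4) s2705 0 :=
  (x2705.k4 c2705_0 :)
theorem x2706 : AuxS.{u} (cP4) s2706 0 a2706 := aux_base3 tw1081 rfl b2706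
theorem n2706 : Sound.{u} (cP4) s2706 0 :=
  (x2706.k4 c2706_0 :)
theorem x2707 : AuxS.{u} (cP4) s2707 0 a2707 := aux_base3 tw1081 rfl b2707
theorem n2707 : Sound.{u} (cP4) s2707 0 :=
  (x2707.k4 c2707_0 :)
theorem x2708 : AuxS.{u} (cP4) s2708 0 a2708 := aux_base3 tw1081 rfl b2708
theorem n2708 : Sound.{u} (cP4) s2708 0 :=
  (x2708.k4 c2708_0 :)
theorem x2645 : AuxS.{u} (cP4) s2645 0 a2645 := aux_base3 tw1081 rfl b2645
theorem x2645_1 : AuxS.{u} (cP4) s2645 0 a2645_1 := x2645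
theorem n2645 : Sound.{u} (cP4) s2645 0 :=
  (x2645_1.fr (AuxS.gam x2645_1 c2645_0) (AllS.cons n2677 (AllS.cons n2678 (AllS.cons n2679 (AllS.cons n2680 (AllS.cons n2681 (AllS.cons n2682 (AllS.cons n2683 (AllS.cons n2684 (AllS.cons n2685 (AllS.cons n2686 (AllS.cons n2687 (AllS.cons n2688 (AllS.cons n2689 (AllS.cons n2690 (AllS.cons n2691 (AllS.cons n2692 (AllS.cons n2693 (AllS.cons n2694 (AllS.cons n2695 (AllS.cons n2696 (AllS.cons n2697 (AllS.cons n2698 (AllS.cons n2699 (AllS.cons n2700 (AllS.cons n2701 (AllS.cons n2702 (AllS.cons n2703 (AllS.cons n2704 (AllS.cons n2705 (AllS.cons n2706 (AllS.cons n2707 (AllS.cons n2708 AllS.nil)))))))))))))))))))))))))))))))) c2645_1 :)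
theorem x2646 : AuxS.{u} (cP4) s2646 0 a2646 := aux_base3 tw1082 rfl b2646
theorem x2646_1 : AuxS.{u} (cP4) s2646 0 a2646_1 := x2646
theorem n2646 : Sound.{u} (cP4) s2646 0 :=
  (x2646_1.fr GamS.nil AllS.nil c2646_0 :)
theorem x2647 : AuxS.{u} (cP4) s2647 0 a2647 := aux_base3 tw1083 rfl b2647
theorem x2647_1 : AuxS.{u} (cP4) s2647 0 a2647_1 := x2647
theorem n2647 : Sound.{u} (cP4) s2647 0 :=
  (x2647_1.fr GamS.nil AllS.nil c2647_0 :)
theorem x2648 : AuxS.{u} (cP4) s2648 0 a2648 := aux_base3 tw1084 rfl b2648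
theorem x2648_1 : AuxS.{u} (cP4) s2648 0 a2648_1 := x2648
theorem n2648 : Sound.{u} (cP4) s2648 0 :=
  (x2648_1.fr GamS.nil AllS.nil c2648_0 :)
theorem x2649 : AuxS.{u} (cP4) s2649 0 a2649 := aux_base3 tw1085 rfl b2649
theorem n2649 : Sound.{u} (cP4) s2649 0 :=
  (x2649.k4 c2649_0 :)
theorem x2650 : AuxS.{u} (cP4) s2650 0 a2650 := aux_base3 tw1086 rfl b2650
theorem n2650 : Sound.{u} (cP4) s2650 0 :=
  (x2650.k4 c2650_0 :)
theorem x2651 : AuxS.{u} (cP4) s2651 0 a2651 := aux_base3 tw1087 rfl b2651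
theorem n2651 : Sound.{u} (cP4) s2651 0 :=
  (x2651.k4 c2651_0 :)
theorem x2652 : AuxS.{u} (cP4) s2652 0 a2652 := aux_base3 tw1088 rfl b2652
theorem n2652 : Sound.{u} (cP4) s2652 0 :=
  (x2652.k4 c2652_0 :)
theorem x2653 : AuxS.{u} (cP4) s2653 0 a2653 := aux_base3 tw1089 rfl b2653
theorem n2653 : Sound.{u} (cP4) s2653 0 :=
  (x2653.k4 c2653_0 :)
theorem x2654 : AuxS.{u} (cP4) s2654 0 a2654 := aux_base3 tw1090 rfl b2654
theorem n2654 : Sound.{u} (cP4) s2654 0 :=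
  (x2654.k4 c2654_0 :)
theorem x2655 : AuxS.{u} (cP4) s2655 0 a2655 := aux_base3 tw1091 rfl b2655
theorem n2655 : Sound.{u} (cP4) s2655 0 :=
  (x2655.k4 c2655_0 :)
theorem x2656 : AuxS.{u} (cP4) s2656 0 a2656 := aux_base3 tw1092 rfl b2656
theorem n2656 : Sound.{u} (cP4) s2656 0 :=
  (x2656.k4 c2656_0 :)
theorem x2657 : AuxS.{u} (cP4) s2657 0 a2657 := aux_base3 tw1093 rfl b2657
theorem n2657 : Sound.{u} (cP4) s2657 0 :=
  (x2657.k4 c2657_0 :)
theorem x2658 : AuxS.{u} (cP4) s2658 0 a2658 := aux_base3 tw1094 rfl b2658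
theorem n2658 : Sound.{u} (cP4) s2658 0 :=
  (x2658.k4 c2658_0 :)
theorem x2659 : AuxS.{u} (cP4) s2659 0 a2659 := aux_base3 tw1095 rfl b2659
theorem n2659 : Sound.{u} (cP4) s2659 0 :=
  (x2659.k4 c2659_0 :)
theorem x2660 : AuxS.{u} (cP4) s2660 0 a2660 := aux_base3 tw1096 rfl b2660
theorem n2660 : Sound.{u} (cP4) s2660 0 :=
  (x2660.k4 c2660_0 :)
theorem x2710 : AuxS.{u} (cP4) s2710 0 a2710 := aux_base3 tw1097 rfl b2710
theorem n2710 : Sound.{u} (cP4) s2710 0 :=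
  (x2710.k4 c2710_0 :)
theorem x2711 : AuxS.{u} (cP4) s2711 0 a2711 := aux_base3 tw1097 rfl b2711
theorem n2711 : Sound.{u} (cP4) s2711 0 :=
  (x2711.k4 c2711_0 :)
theorem x2712 : AuxS.{u} (cP4) s2712 0 a2712 := aux_base3 tw1097 rfl b2712
theorem n2712 : Sound.{u} (cP4) s2712 0 :=
  (x2712.k4 c2712_0 :)
theorem x2713 : AuxS.{u} (cP4) s2713 0 a2713 := aux_base3 tw1097 rfl b2713
theorem n2713 : Sound.{u} (cP4) s2713 0 :=
  (x2713.k4 c2713_0 :)
theorem x2714 : AuxS.{u} (cP4) s2714 0 a2714 := aux_base3 tw1097 rfl b2714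
theorem n2714 : Sound.{u} (cP4) s2714 0 :=
  (x2714.k4 c2714_0 :)
theorem x2715 : AuxS.{u} (cP4) s2715 0 a2715 := aux_base3 tw1097 rfl b2715
theorem n2715 : Sound.{u} (cP4) s2715 0 :=
  (x2715.k4 c2715_0 :)
theorem x2716 : AuxS.{u} (cP4) s2716 0 a2716 := aux_base3 tw1097 rfl b2716
theorem n2716 : Sound.{u} (cP4) s2716 0 :=
  (x2716.k4 c2716_0 :)
theorem x2717 : AuxS.{u} (cP4) s2717 0 a2717 := aux_base3 tw1097 rfl b2717
theorem n2717 : Sound.{u} (cP4) s2717 0 :=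
  (x2717.k4 c2717_0 :)
theorem x2718 : AuxS.{u} (cP4) s2718 0 a2718 := aux_base3 tw1097 rfl b2718
theorem n2718 : Sound.{u} (cP4) s2718 0 :=
  (x2718.k4 c2718_0 :)
theorem x2719 : AuxS.{u} (cP4) s2719 0 a2719 := aux_base3 tw1097 rfl b2719
theorem n2719 : Sound.{u} (cP4) s2719 0 :=
  (x2719.k4 c2719_0 :)
theorem x2720 : AuxS.{u} (cP4) s2720 0 a2720 := aux_base3 tw1097 rfl b2720
theorem n2720 : Sound.{u} (cP4) s2720 0 :=
  (x2720.k4 c2720_0 :)
theorem x2721 : AuxS.{u} (cP4) s2721 0 a2721 := aux_base3 tw1097 rfl b2721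
theorem n2721 : Sound.{u} (cP4) s2721 0 :=
  (x2721.k4 c2721_0 :)
theorem x2722 : AuxS.{u} (cP4) s2722 0 a2722 := aux_base3 tw1097 rfl b2722
theorem n2722 : Sound.{u} (cP4) s2722 0 :=
  (x2722.k4 c2722_0 :)
theorem x2723 : AuxS.{u} (cP4) s2723 0 a2723 := aux_base3 tw1097 rfl b2723
theorem n2723 : Sound.{u} (cP4) s2723 0 :=
  (x2723.k4 c2723_0 :)
theorem x2724 : AuxS.{u} (cP4) s2724 0 a2724 := aux_base3 tw1097 rfl b2724
theorem n2724 : Sound.{u} (cP4) s2724 0 :=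
  (x2724.k4 c2724_0 :)
theorem x2742 : AuxS.{u} (cP4) s2742 0 a2742 := aux_base3 tw1097 rfl b2742
theorem x2742_1 : AuxS.{u} (cP4) s2742 0 a2742_1 := x2742
theorem n2742 : Sound.{u} (cP4) s2742 0 :=
  (x2742_1.jump c2742_0 c2742_1 n826 :)
theorem x2725 : AuxS.{u} (cP4) s2725 0 a2725 := aux_base3 tw1097 rfl b2725
theorem x2725_1 : AuxS.{u} (cP4) s2725 0 a2725_1 := x2725
theorem n2725 : Sound.{u} (cP4) s2725 0 :=
  (x2725_1.jump c2725_0 c2725_1 n2742 :)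
theorem x2726 : AuxS.{u} (cP4) s2726 0 a2726 := aux_base3 tw1097 rfl b2726
theorem n2726 : Sound.{u} (cP4) s2726 0 :=
  (x2726.k4 c2726_0 :)
theorem x2727 : AuxS.{u} (cP4) s2727 0 a2727 := aux_base3 tw1097 rfl b2727
theorem n2727 : Sound.{u} (cP4) s2727 0 :=
  (x2727.k4 c2727_0 :)
theorem x2728 : AuxS.{u} (cP4) s2728 0 a2728 := aux_base3 tw1097 rfl b2728
theorem n2728 : Sound.{u} (cP4) s2728 0 :=
  (x2728.k4 c2728_0 :)
theorem x2729 : AuxS.{u} (cP4) s2729 0 a2729 := aux_base3 tw1097 rfl b2729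
theorem n2729 : Sound.{u} (cP4) s2729 0 :=
  (x2729.k4 c2729_0 :)
theorem x2730 : AuxS.{u} (cP4) s2730 0 a2730 := aux_base3 tw1097 rfl b2730
theorem n2730 : Sound.{u} (cP4) s2730 0 :=
  (x2730.k4 c2730_0 :)
theorem x2731 : AuxS.{u} (cP4) s2731 0 a2731 := aux_base3 tw1097 rfl b2731
theorem n2731 : Sound.{u} (cP4) s2731 0 :=
  (x2731.k4 c2731_0 :)
theorem x2732 : AuxS.{u} (cP4) s2732 0 a2732 := aux_base3 tw1097 rfl b2732
theorem n2732 : Sound.{u} (cP4) s2732 0 :=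
  (x2732.k4 c2732_0 :)
theorem x2733 : AuxS.{u} (cP4) s2733 0 a2733 := aux_base3 tw1097 rfl b2733
theorem n2733 : Sound.{u} (cP4) s2733 0 :=
  (x2733.k4 c2733_0 :)
theorem x2734 : AuxS.{u} (cP4) s2734 0 a2734 := aux_base3 tw1097 rfl b2734
theorem n2734 : Sound.{u} (cP4) s2734 0 :=
  (x2734.k4 c2734_0 :)
theorem x2735 : AuxS.{u} (cP4) s2735 0 a2735 := aux_base3 tw1097 rfl b2735
theorem n2735 : Sound.{u} (cP4) s2735 0 :=
  (x2735.k4 c2735_0 :)
theorem x2736 : AuxS.{u} (cP4) s2736 0 a2736 := aux_base3 tw1097 rfl b2736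
theorem n2736 : Sound.{u} (cP4) s2736 0 :=
  (x2736.k4 c2736_0 :)
theorem x2737 : AuxS.{u} (cP4) s2737 0 a2737 := aux_base3 tw1097 rfl b2737
theorem n2737 : Sound.{u} (cP4) s2737 0 :=
  (x2737.k4 c2737_0 :)
theorem x2738 : AuxS.{u} (cP4) s2738 0 a2738 := aux_base3 tw1097 rfl b2738
theorem n2738 : Sound.{u} (cP4) s2738 0 :=
  (x2738.k4 c2738_0 :)
theorem x2739 : AuxS.{u} (cP4) s2739 0 a2739 := aux_base3 tw1097 rfl b2739
theorem n2739 : Sound.{u} (cP4) s2739 0 :=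
  (x2739.k4 c2739_0 :)
theorem x2740 : AuxS.{u} (cP4) s2740 0 a2740 := aux_base3 tw1097 rfl b2740
theorem n2740 : Sound.{u} (cP4) s2740 0 :=
  (x2740.k4 c2740_0 :)
theorem x2741 : AuxS.{u} (cP4) s2741 0 a2741 := aux_base3 tw1097 rfl b2741
theorem n2741 : Sound.{u} (cP4) s2741 0 :=
  (x2741.k4 c2741_0 :)
theorem x2661 : AuxS.{u} (cP4) s2661 0 a2661 := aux_base3 tw1097 rfl b2661
theorem x2661_1 : AuxS.{u} (cP4) s2661 0 a2661_1 := x2661
theorem n2661 : Sound.{u} (cP4) s2661 0 :=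
  (x2661_1.fr (AuxS.gam x2661_1 c2661_0) (AllS.cons n2710 (AllS.cons n2711 (AllS.cons n2712 (AllS.cons n2713 (AllS.cons n2714 (AllS.cons n2715 (AllS.cons n2716 (AllS.cons n2717 (AllS.cons n2718 (AllS.cons n2719 (AllS.cons n2720 (AllS.cons n2721 (AllS.cons n2722 (AllS.cons n2723 (AllS.cons n2724 (AllS.cons n2725 (AllS.cons n2726 (AllS.cons n2727 (AllS.cons n2728 (AllS.cons n2729 (AllS.cons n2730 (AllS.cons n2731 (AllS.cons n2732 (AllS.cons n2733 (AllS.cons n2734 (AllS.cons n2735 (AllS.cons n2736 (AllS.cons n2737 (AllS.cons n2738 (AllS.cons n2739 (AllS.cons n2740 (AllS.cons n2741 AllS.nil)))))))))))))))))))))))))))))))) c2661_1 :)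
theorem x2662 : AuxS.{u} (cP4) s2662 0 a2662 := aux_base3 tw1098 rfl b2662
theorem x2662_1 : AuxS.{u} (cP4) s2662 0 a2662_1 := x2662
theorem n2662 : Sound.{u} (cP4) s2662 0 :=
  (x2662_1.fr GamS.nil AllS.nil c2662_0 :)
theorem x2663 : AuxS.{u} (cP4) s2663 0 a2663 := aux_base3 tw1099 rfl b2663
theorem x2663_1 : AuxS.{u} (cP4) s2663 0 a2663_1 := x2663
theorem n2663 : Sound.{u} (cP4) s2663 0 :=
  (x2663_1.fr GamS.nil AllS.nil c2663_0 :)
theorem x2664 : AuxS.{u} (cP4) s2664 0 a2664 := aux_base3 tw1100 rfl b2664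
theorem x2664_1 : AuxS.{u} (cP4) s2664 0 a2664_1 := x2664
theorem n2664 : Sound.{u} (cP4) s2664 0 :=
  (x2664_1.fr GamS.nil AllS.nil c2664_0 :)
theorem x2665 : AuxS.{u} (cP4) s2665 0 a2665 := aux_base3 tw1101 rfl b2665
theorem n2665 : Sound.{u} (cP4) s2665 0 :=
  (x2665.k4 c2665_0 :)
theorem x2666 : AuxS.{u} (cP4) s2666 0 a2666 := aux_base3 tw1102 rfl b2666
theorem n2666 : Sound.{u} (cP4) s2666 0 :=
  (x2666.k4 c2666_0 :)
theorem x2667 : AuxS.{u} (cP4) s2667 0 a2667 := aux_base3 tw1103 rfl b2667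
theorem n2667 : Sound.{u} (cP4) s2667 0 :=
  (x2667.k4 c2667_0 :)
theorem x2668 : AuxS.{u} (cP4) s2668 0 a2668 := aux_base3 tw1104 rfl b2668
theorem n2668 : Sound.{u} (cP4) s2668 0 :=
  (x2668.k4 c2668_0 :)
theorem x2669 : AuxS.{u} (cP4) s2669 0 a2669 := aux_base3 tw1105 rfl b2669
theorem n2669 : Sound.{u} (cP4) s2669 0 :=
  (x2669.k4 c2669_0 :)
theorem x2670 : AuxS.{u} (cP4) s2670 0 a2670 := aux_base3 tw1106 rfl b2670
theorem n2670 : Sound.{u} (cP4) s2670 0 :=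
  (x2670.k4 c2670_0 :)
theorem x2671 : AuxS.{u} (cP4) s2671 0 a2671 := aux_base3 tw1107 rfl b2671
theorem n2671 : Sound.{u} (cP4) s2671 0 :=
  (x2671.k4 c2671_0 :)
theorem x2672 : AuxS.{u} (cP4) s2672 0 a2672 := aux_base3 tw1108 rfl b2672
theorem n2672 : Sound.{u} (cP4) s2672 0 :=
  (x2672.k4 c2672_0 :)
theorem x2673 : AuxS.{u} (cP4) s2673 0 a2673 := aux_base3 tw1109 rfl b2673
theorem n2673 : Sound.{u} (cP4) s2673 0 :=
  (x2673.k4 c2673_0 :)
theorem x2674 : AuxS.{u} (cP4) s2674 0 a2674 := aux_base3 tw1110 rfl b2674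
theorem n2674 : Sound.{u} (cP4) s2674 0 :=
  (x2674.k4 c2674_0 :)
theorem x2675 : AuxS.{u} (cP4) s2675 0 a2675 := aux_base3 tw1111 rfl b2675
theorem n2675 : Sound.{u} (cP4) s2675 0 :=
  (x2675.k4 c2675_0 :)
theorem x2676 : AuxS.{u} (cP4) s2676 0 a2676 := aux_base3 tw1112 rfl b2676
theorem n2676 : Sound.{u} (cP4) s2676 0 :=
  (x2676.k4 c2676_0 :)
theorem x2644 : AuxS.{u} (cP4) s2644 0 a2644 := aux_base3 tw950 rfl b2644
theorem x2644_1 : AuxS.{u} (cP4) s2644 0 a2644_1 := (AuxS.up x2644 c2644_5 :)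
theorem p2644_0_1 : Phs s2644 a2644_1 [] [s2645, s2646, s2647, s2648, s2649, s2650, s2651, s2652, s2653, s2654, s2655, s2656, s2657, s2658, s2659, s2660, s2661, s2662, s2663, s2664, s2665, s2666, s2667, s2668, s2669, s2670, s2671, s2672, s2673, s2674, s2675, s2676] ct2644_0 v2644_0 5 w2644_0_1 := (Phs.fin c2644_0)
theorem p2644_0_3 : Phs s2644 a2644_1 [] [s2645, s2646, s2647, s2648, s2649, s2650, s2651, s2652, s2653, s2654, s2655, s2656, s2657, s2658, s2659, s2660, s2661, s2662, s2663, s2664, s2665, s2666, s2667, s2668, s2669, s2670, s2671, s2672, s2673, s2674, s2675, s2676] ct2644_0 v2644_0 4 w2644_0_3 := (Phs.stp c2644_1 p2644_0_1)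
theorem p2644_0_5 : Phs s2644 a2644_1 [] [s2645, s2646, s2647, s2648, s2649, s2650, s2651, s2652, s2653, s2654, s2655, s2656, s2657, s2658, s2659, s2660, s2661, s2662, s2663, s2664, s2665, s2666, s2667, s2668, s2669, s2670, s2671, s2672, s2673, s2674, s2675, s2676] ct2644_0 v2644_0 1 w2644_0_5 := (Phs.stp c2644_2 p2644_0_3)
theorem n2644 : Sound.{u} (cP4) s2644 0 :=
  (x2644_1.ext2 (fun h => absurd h (by decide)) GamS.nil (AllS.cons n2645 (AllS.cons n2646 (AllS.cons n2647 (AllS.cons n2648 (AllS.cons n2649 (AllS.cons n2650 (AllS.cons n2651 (AllS.cons n2652 (AllS.cons n2653 (AllS.cons n2654 (AllS.cons n2655 (AllS.cons n2656 (AllS.cons n2657 (AllS.cons n2658 (AllS.cons n2659 (AllS.cons n2660 (AllS.cons n2661 (AllS.cons n2662 (AllS.cons n2663 (AllS.cons n2664 (AllS.cons n2665 (AllS.cons n2666 (AllS.cons n2667 (AllS.cons n2668 (AllS.cons n2669 (AllS.cons n2670 (AllS.cons n2671 (AllS.cons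 n2672 (AllS.cons n2673 (AllS.cons n2674 (AllS.cons n2675 (AllS.cons n2676 AllS.nil)))))))))))))))))))))))))))))))) c2644_4 (Phs.stp c2644_3 p2644_0_5) (Phs.fin (ct := ct2644_0) rfl) :)
theorem x2640 : AuxS.{u} (cP4) s2640 0 a2640 := aux_base3 tw1065 rfl b2640
theorem x2640_1 : AuxS.{u} (cP4) s2640 0 a2640_1 := x2640
theorem n2640 : Sound.{u} (cP4) s2640 0 :=
  (x2640_1.jump c2640_0 c2640_1 n2644 :)
theorem x2641 : AuxS.{u} (cP4) s2641 0 a2641 := aux_base3 tw1065 rfl b2641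
theorem n2641 : Sound.{u} (cP4) s2641 0 :=
  (x2641.k4 c2641_0 :)
theorem x2642 : AuxS.{u} (cP4) s2642 0 a2642 := aux_base3 tw1065 rfl b2642
theorem n2642 : Sound.{u} (cP4) s2642 0 :=
  (x2642.k4 c2642_0 :)
theorem x2643 : AuxS.{u} (cP4) s2643 0 a2643 := aux_base3 tw1065 rfl b2643
theorem n2643 : Sound.{u} (cP4) s2643 0 :=
  (x2643.k4 c2643_0 :)
theorem x2596 : AuxS.{u} (cP4) s2596 0 a2596 := aux_base3 tw1065 rfl b2596
theorem x2596_1 : AuxS.{u} (cP4) s2596 0 a2596_1 := x2596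
theorem n2596 : Sound.{u} (cP4) s2596 0 :=
  (x2596_1.fr (AuxS.gam x2596_1 c2596_0) (AllS.cons n2612 (AllS.cons n2613 (AllS.cons n2614 (AllS.cons n2615 (AllS.cons n2616 (AllS.cons n2617 (AllS.cons n2618 (AllS.cons n2619 (AllS.cons n2620 (AllS.cons n2621 (AllS.cons n2622 (AllS.cons n2623 (AllS.cons n2624 (AllS.cons n2625 (AllS.cons n2626 (AllS.cons n2627 (AllS.cons n2628 (AllS.cons n2629 (AllS.cons n2630 (AllS.cons n2631 (AllS.cons n2632 (AllS.cons n2633 (AllS.cons n2634 (AllS.cons n2635 (AllS.cons n2636 (AllS.cons n2637 (AllS.cons n2638 (AllS.cons n2639 (AllS.cons n2640 (AllS.cons n2641 (AllS.cons n2642 (AllS.cons n2643 AllS.nil)))))))))))))))))))))))))))))))) c2596_1 :)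
theorem x2597 : AuxS.{u} (cP4) s2597 0 a2597 := aux_base3 tw1066 rfl b2597
theorem x2597_1 : AuxS.{u} (cP4) s2597 0 a2597_1 := x2597
theorem n2597 : Sound.{u} (cP4) s2597 0 :=
  (x2597_1.fr GamS.nil AllS.nil c2597_0 :)
theorem x2598 : AuxS.{u} (cP4) s2598 0 a2598 := aux_base3 tw1067 rfl b2598
theorem x2598_1 : AuxS.{u} (cP4) s2598 0 a2598_1 := x2598
theorem n2598 : Sound.{u} (cP4) s2598 0 :=
  (x2598_1.fr GamS.nil AllS.nil c2598_0 :)
theorem x2599 : AuxS.{u} (cP4) s2599 0 a2599 := aux_base3 tw1068 rfl b2599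
theorem x2599_1 : AuxS.{u} (cP4) s2599 0 a2599_1 := x2599
theorem n2599 : Sound.{u} (cP4) s2599 0 :=
  (x2599_1.fr GamS.nil AllS.nil c2599_0 :)
theorem x2600 : AuxS.{u} (cP4) s2600 0 a2600 := aux_base3 tw1069 rfl b2600
theorem x2600_1 : AuxS.{u} (cP4) s2600 0 a2600_1 := x2600
theorem x2600_2 : AuxS.{u} (cP4) s2600 0 a2600_2 := x2600_1
theorem n2600 : Sound.{u} (cP4) s2600 0 :=
  (x2600_2.fr GamS.nil AllS.nil c2600_0 :)
theorem x2601 : AuxS.{u} (cP4) s2601 0 a2601 := aux_base3 tw1070 rfl b2601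
theorem x2601_1 : AuxS.{u} (cP4) s2601 0 a2601_1 := x2601
theorem n2601 : Sound.{u} (cP4) s2601 0 :=
  (x2601_1.fr GamS.nil AllS.nil c2601_0 :)
theorem x2602 : AuxS.{u} (cP4) s2602 0 a2602 := aux_base3 tw1071 rfl b2602
theorem x2602_1 : AuxS.{u} (cP4) s2602 0 a2602_1 := x2602
theorem n2602 : Sound.{u} (cP4) s2602 0 :=
  (x2602_1.fr GamS.nil AllS.nil c2602_0 :)
theorem x2603 : AuxS.{u} (cP4) s2603 0 a2603 := aux_base3 tw1072 rfl b2603
theorem x2603_1 : AuxS.{u} (cP4) s2603 0 a2603_1 := x2603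
theorem x2603_2 : AuxS.{u} (cP4) s2603 0 a2603_2 := x2603_1
theorem n2603 : Sound.{u} (cP4) s2603 0 :=
  (x2603_2.fr GamS.nil AllS.nil c2603_0 :)
theorem x2604 : AuxS.{u} (cP4) s2604 0 a2604 := aux_base3 tw1073 rfl b2604
theorem x2604_1 : AuxS.{u} (cP4) s2604 0 a2604_1 := x2604
theorem n2604 : Sound.{u} (cP4) s2604 0 :=
  (x2604_1.fr GamS.nil AllS.nil c2604_0 :)
theorem x2605 : AuxS.{u} (cP4) s2605 0 a2605 := aux_base3 tw1074 rfl b2605
theorem x2605_1 : AuxS.{u} (cP4) s2605 0 a2605_1 := x2605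
theorem n2605 : Sound.{u} (cP4) s2605 0 :=
  (x2605_1.fr GamS.nil AllS.nil c2605_0 :)
theorem x2606 : AuxS.{u} (cP4) s2606 0 a2606 := aux_base3 tw1075 rfl b2606
theorem x2606_1 : AuxS.{u} (cP4) s2606 0 a2606_1 := x2606
theorem n2606 : Sound.{u} (cP4) s2606 0 :=
  (x2606_1.fr GamS.nil AllS.nil c2606_0 :)
theorem x2607 : AuxS.{u} (cP4) s2607 0 a2607 := aux_base3 tw1076 rfl b2607
theorem x2607_1 : AuxS.{u} (cP4) s2607 0 a2607_1 := x2607
theorem n2607 : Sound.{u} (cP4) s2607 0 :=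
  (x2607_1.fr GamS.nil AllS.nil c2607_0 :)
theorem x2608 : AuxS.{u} (cP4) s2608 0 a2608 := aux_base3 tw1077 rfl b2608
theorem x2608_1 : AuxS.{u} (cP4) s2608 0 a2608_1 := x2608
theorem x2608_2 : AuxS.{u} (cP4) s2608 0 a2608_2 := x2608_1
theorem n2608 : Sound.{u} (cP4) s2608 0 :=
  (x2608_2.fr GamS.nil AllS.nil c2608_0 :)
theorem x2609 : AuxS.{u} (cP4) s2609 0 a2609 := aux_base3 tw1078 rfl b2609
theorem x2609_1 : AuxS.{u} (cP4) s2609 0 a2609_1 := x2609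
theorem n2609 : Sound.{u} (cP4) s2609 0 :=
  (x2609_1.fr GamS.nil AllS.nil c2609_0 :)
theorem x2610 : AuxS.{u} (cP4) s2610 0 a2610 := aux_base3 tw1079 rfl b2610
theorem x2610_1 : AuxS.{u} (cP4) s2610 0 a2610_1 := x2610
theorem x2610_2 : AuxS.{u} (cP4) s2610 0 a2610_2 := x2610_1
theorem n2610 : Sound.{u} (cP4) s2610 0 :=
  (x2610_2.fr GamS.nil AllS.nil c2610_0 :)
theorem x2611 : AuxS.{u} (cP4) s2611 0 a2611 := aux_base3 tw1080 rfl b2611
theorem x2611_1 : AuxS.{u} (cP4) s2611 0 a2611_1 := x2611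
theorem n2611 : Sound.{u} (cP4) s2611 0 :=
  (x2611_1.fr GamS.nil AllS.nil c2611_0 :)
theorem x2384 : AuxS.{u} (cP4) s2384 0 a2384 := aux_base3 tw950 rfl b2384
theorem x2384_1 : AuxS.{u} (cP4) s2384 0 a2384_1 := (AuxS.up x2384 c2384_7 :)
theorem p2384_0_1 : Phs s2384 a2384_1 (List.map Prod.fst g2384_0) [s2596, s2597, s2598, s2599, s2600, s2601, s2602, s2603, s2604, s2605, s2606, s2607, s2608, s2609, s2610, s2611] ct2384_0 v2384_0 5 w2384_0_1 := (Phs.fin c2384_1)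
theorem p2384_0_3 : Phs s2384 a2384_1 (List.map Prod.fst g2384_0) [s2596, s2597, s2598, s2599, s2600, s2601, s2602, s2603, s2604, s2605, s2606, s2607, s2608, s2609, s2610, s2611] ct2384_0 v2384_0 4 w2384_0_3 := (Phs.stp c2384_2 p2384_0_1)
theorem p2384_0_5 : Phs s2384 a2384_1 (List.map Prod.fst g2384_0) [s2596, s2597, s2598, s2599, s2600, s2601, s2602, s2603, s2604, s2605, s2606, s2607, s2608, s2609, s2610, s2611] ct2384_0 v2384_0 3 w2384_0_5 := (Phs.stp c2384_3 p2384_0_3)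
theorem p2384_0_7 : Phs s2384 a2384_1 (List.map Prod.fst g2384_0) [s2596, s2597, s2598, s2599, s2600, s2601, s2602, s2603, s2604, s2605, s2606, s2607, s2608, s2609, s2610, s2611] ct2384_0 v2384_0 1 w2384_0_7 := (Phs.stp c2384_4 p2384_0_5)
theorem n2384 : Sound.{u} (cP4) s2384 0 :=
  (x2384_1.ext2 (fun h => absurd h (by decide)) (AuxS.gam x2384_1 c2384_0) (AllS.cons n2596 (AllS.cons n2597 (AllS.cons n2598 (AllS.cons n2599 (AllS.cons n2600 (AllS.cons n2601 (AllS.cons n2602 (AllS.cons n2603 (AllS.cons n2604 (AllS.cons n2605 (AllS.cons n2606 (AllS.cons n2607 (AllS.cons n2608 (AllS.cons n2609 (AllS.cons n2610 (AllS.cons n2611 AllS.nil)))))))))))))))) c2384_6 (Phs.stp c2384_5 p2384_0_7) (Phs.fin (ct := ct2384_0) rfl) :)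
theorem x2385 : AuxS.{u} (cP4) s2385 0 a2385 := aux_base3 tw951 rfl b2385
theorem x2385_1 : AuxS.{u} (cP4) s2385 0 a2385_1 := (AuxS.up x2385 c2385_1 :)
theorem n2385 : Sound.{u} (cP4) s2385 0 :=
  (x2385_1.k7 c2385_0 :)
theorem x2386 : AuxS.{u} (cP4) s2386 0 a2386 := aux_base3 tw952 rfl b2386
theorem x2386_1 : AuxS.{u} (cP4) s2386 0 a2386_1 := (AuxS.up x2386 c2386_1 :)
theorem n2386 : Sound.{u} (cP4) s2386 0 :=
  (x2386_1.k7 c2386_0 :)
theorem x2387 : AuxS.{u} (cP4) s2387 0 a2387 := aux_base3 tw953 rfl b2387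
theorem x2387_1 : AuxS.{u} (cP4) s2387 0 a2387_1 := (AuxS.up x2387 c2387_1 :)
theorem n2387 : Sound.{u} (cP4) s2387 0 :=
  (x2387_1.k7 c2387_0 :)
theorem x2388 : AuxS.{u} (cP4) s2388 0 a2388 := aux_base3 tw954 rfl b2388
theorem x2388_1 : AuxS.{u} (cP4) s2388 0 a2388_1 := (AuxS.up x2388 c2388_1 :)
theorem n2388 : Sound.{u} (cP4) s2388 0 :=
  (x2388_1.k7 c2388_0 :)
theorem x2743 : AuxS.{u} (cP4) s2743 0 a2743 := aux_base3 tw1113 rfl b2743
theorem x2743_1 : AuxS.{u} (cP4) s2743 0 a2743_1 := x2743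
theorem x2743_2 : AuxS.{u} (cP4) s2743 0 a2743_2 := x2743_1
theorem n2743 : Sound.{u} (cP4) s2743 0 :=
  (x2743_2.fr GamS.nil AllS.nil c2743_0 :)
theorem x2744 : AuxS.{u} (cP4) s2744 0 a2744 := aux_base3 tw1114 rfl b2744
theorem x2744_1 : AuxS.{u} (cP4) s2744 0 a2744_1 := x2744
theorem x2744_2 : AuxS.{u} (cP4) s2744 0 a2744_2 := x2744_1
theorem n2744 : Sound.{u} (cP4) s2744 0 :=
  (x2744_2.fr GamS.nil AllS.nil c2744_0 :)
theorem x2745 : AuxS.{u} (cP4) s2745 0 a2745 := aux_base3 tw1115 rfl b2745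
theorem x2745_1 : AuxS.{u} (cP4) s2745 0 a2745_1 := x2745
theorem x2745_2 : AuxS.{u} (cP4) s2745 0 a2745_2 := x2745_1
theorem n2745 : Sound.{u} (cP4) s2745 0 :=
  (x2745_2.fr GamS.nil AllS.nil c2745_0 :)
theorem x2746 : AuxS.{u} (cP4) s2746 0 a2746 := aux_base3 tw1116 rfl b2746
theorem x2746_1 : AuxS.{u} (cP4) s2746 0 a2746_1 := x2746
theorem x2746_2 : AuxS.{u} (cP4) s2746 0 a2746_2 := x2746_1
theorem n2746 : Sound.{u} (cP4) s2746 0 :=
  (x2746_2.fr GamS.nil AllS.nil c2746_0 :)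
theorem x2747 : AuxS.{u} (cP4) s2747 0 a2747 := aux_base3 tw1117 rfl b2747
theorem x2747_1 : AuxS.{u} (cP4) s2747 0 a2747_1 := x2747
theorem x2747_2 : AuxS.{u} (cP4) s2747 0 a2747_2 := x2747_1
theorem n2747 : Sound.{u} (cP4) s2747 0 :=
  (x2747_2.fr GamS.nil AllS.nil c2747_0 :)
theorem x2748 : AuxS.{u} (cP4) s2748 0 a2748 := aux_base3 tw1118 rfl b2748
theorem x2748_1 : AuxS.{u} (cP4) s2748 0 a2748_1 := x2748
theorem x2748_2 : AuxS.{u} (cP4) s2748 0 a2748_2 := x2748_1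
theorem n2748 : Sound.{u} (cP4) s2748 0 :=
  (x2748_2.fr GamS.nil AllS.nil c2748_0 :)
theorem x2749 : AuxS.{u} (cP4) s2749 0 a2749 := aux_base3 tw1119 rfl b2749
theorem x2749_1 : AuxS.{u} (cP4) s2749 0 a2749_1 := x2749
theorem x2749_2 : AuxS.{u} (cP4) s2749 0 a2749_2 := x2749_1
theorem n2749 : Sound.{u} (cP4) s2749 0 :=
  (x2749_2.fr GamS.nil AllS.nil c2749_0 :)
theorem x2750 : AuxS.{u} (cP4) s2750 0 a2750 := aux_base3 tw1120 rfl b2750
theorem x2750_1 : AuxS.{u} (cP4) s2750 0 a2750_1 := x2750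
theorem x2750_2 : AuxS.{u} (cP4) s2750 0 a2750_2 := x2750_1
theorem n2750 : Sound.{u} (cP4) s2750 0 :=
  (x2750_2.fr GamS.nil AllS.nil c2750_0 :)
theorem x2751 : AuxS.{u} (cP4) s2751 0 a2751 := aux_base3 tw1121 rfl b2751
theorem x2751_1 : AuxS.{u} (cP4) s2751 0 a2751_1 := x2751
theorem x2751_2 : AuxS.{u} (cP4) s2751 0 a2751_2 := x2751_1
theorem n2751 : Sound.{u} (cP4) s2751 0 :=
  (x2751_2.fr GamS.nil AllS.nil c2751_0 :)
theorem x2752 : AuxS.{u} (cP4) s2752 0 a2752 := aux_base3 tw1122 rfl b2752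
theorem x2752_1 : AuxS.{u} (cP4) s2752 0 a2752_1 := x2752
theorem x2752_2 : AuxS.{u} (cP4) s2752 0 a2752_2 := x2752_1
theorem n2752 : Sound.{u} (cP4) s2752 0 :=
  (x2752_2.fr GamS.nil AllS.nil c2752_0 :)
theorem x2753 : AuxS.{u} (cP4) s2753 0 a2753 := aux_base3 tw1123 rfl b2753
theorem x2753_1 : AuxS.{u} (cP4) s2753 0 a2753_1 := x2753
theorem x2753_2 : AuxS.{u} (cP4) s2753 0 a2753_2 := x2753_1
theorem n2753 : Sound.{u} (cP4) s2753 0 :=
  (x2753_2.fr GamS.nil AllS.nil c2753_0 :)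
theorem x2754 : AuxS.{u} (cP4) s2754 0 a2754 := aux_base3 tw1124 rfl b2754
theorem x2754_1 : AuxS.{u} (cP4) s2754 0 a2754_1 := x2754
theorem x2754_2 : AuxS.{u} (cP4) s2754 0 a2754_2 := x2754_1
theorem n2754 : Sound.{u} (cP4) s2754 0 :=
  (x2754_2.fr GamS.nil AllS.nil c2754_0 :)
theorem x2755 : AuxS.{u} (cP4) s2755 0 a2755 := aux_base3 tw1125 rfl b2755
theorem x2755_1 : AuxS.{u} (cP4) s2755 0 a2755_1 := x2755
theorem x2755_2 : AuxS.{u} (cP4) s2755 0 a2755_2 := x2755_1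
theorem n2755 : Sound.{u} (cP4) s2755 0 :=
  (x2755_2.fr GamS.nil AllS.nil c2755_0 :)
theorem x2756 : AuxS.{u} (cP4) s2756 0 a2756 := aux_base3 tw1126 rfl b2756
theorem x2756_1 : AuxS.{u} (cP4) s2756 0 a2756_1 := x2756
theorem x2756_2 : AuxS.{u} (cP4) s2756 0 a2756_2 := x2756_1
theorem n2756 : Sound.{u} (cP4) s2756 0 :=
  (x2756_2.fr GamS.nil AllS.nil c2756_0 :)
theorem x2759 : AuxS.{u} (cP4) s2759 0 a2759 := aux_base3 tw1127 rfl b2759
theorem n2759 : Sound.{u} (cP4) s2759 0 :=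
  (x2759.k4 c2759_0 :)
theorem x2791 : AuxS.{u} (cP4) s2791 0 a2791 := aux_base3 tw955 rfl b2791
theorem x2791_1 : AuxS.{u} (cP4) s2791 0 a2791_1 := (AuxS.up x2791 c2791_5 :)
theorem x2791_2 : AuxS.{u} (cP4) s2791 0 a2791_2 := (AuxS.up2 x2791_1 c2791_6 :)
theorem x2791_3 : AuxS.{u} (cP4) s2791 0 a2791_3 := (AuxS.up x2791_2 c2791_7 :)
theorem p2791_0_1 : Phs s2791 a2791_3 [] [] ct2791_0 v2791_0 5 w2791_0_1 := (Phs.fin c2791_0)
theorem p2791_0_3 : Phs s2791 a2791_3 [] [] ct2791_0 v2791_0 4 w2791_0_3 := (Phs.stp c2791_1 p2791_0_1)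
theorem p2791_0_5 : Phs s2791 a2791_3 [] [] ct2791_0 v2791_0 1 w2791_0_5 := (Phs.stp c2791_2 p2791_0_3)
theorem n2791 : Sound.{u} (cP4) s2791 0 :=
  (x2791_3.ext2 (fun h => absurd h (by decide)) GamS.nil AllS.nil c2791_4 (Phs.stp c2791_3 p2791_0_5) (Phs.fin (ct := ct2791_0) rfl) :)
theorem x2760 : AuxS.{u} (cP4) s2760 0 a2760 := aux_base3 tw1127 rfl b2760
theorem x2760_1 : AuxS.{u} (cP4) s2760 0 a2760_1 := x2760
theorem x2760_2 : AuxS.{u} (cP4) s2760 0 a2760_2 := x2760_1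
theorem x2760_3 : AuxS.{u} (cP4) s2760 0 a2760_3 := x2760_2
theorem n2760 : Sound.{u} (cP4) s2760 0 :=
  (x2760_3.jump c2760_0 c2760_1 n2791 :)
theorem x2761 : AuxS.{u} (cP4) s2761 0 a2761 := aux_base3 tw1127 rfl b2761
theorem n2761 : Sound.{u} (cP4) s2761 0 :=
  (x2761.k4 c2761_0 :)
theorem x2762 : AuxS.{u} (cP4) s2762 0 a2762 := aux_base3 tw1127 rfl b2762
theorem n2762 : Sound.{u} (cP4) s2762 0 :=
  (x2762.k4 c2762_0 :)
theorem x2763 : AuxS.{u} (cP4) s2763 0 a2763 := aux_base3 tw1127 rfl b2763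
theorem n2763 : Sound.{u} (cP4) s2763 0 :=
  (x2763.k4 c2763_0 :)
theorem x2764 : AuxS.{u} (cP4) s2764 0 a2764 := aux_base3 tw1127 rfl b2764
theorem n2764 : Sound.{u} (cP4) s2764 0 :=
  (x2764.k4 c2764_0 :)
theorem x2765 : AuxS.{u} (cP4) s2765 0 a2765 := aux_base3 tw1127 rfl b2765
theorem n2765 : Sound.{u} (cP4) s2765 0 :=
  (x2765.k4 c2765_0 :)
theorem x2766 : AuxS.{u} (cP4) s2766 0 a2766 := aux_base3 tw1127 rfl b2766
theorem n2766 : Sound.{u} (cP4) s2766 0 :=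
  (x2766.k4 c2766_0 :)
theorem x2767 : AuxS.{u} (cP4) s2767 0 a2767 := aux_base3 tw1127 rfl b2767
theorem n2767 : Sound.{u} (cP4) s2767 0 :=
  (x2767.k4 c2767_0 :)
theorem x2768 : AuxS.{u} (cP4) s2768 0 a2768 := aux_base3 tw1127 rfl b2768
theorem n2768 : Sound.{u} (cP4) s2768 0 :=
  (x2768.k4 c2768_0 :)
theorem x2769 : AuxS.{u} (cP4) s2769 0 a2769 := aux_base3 tw1127 rfl b2769
theorem n2769 : Sound.{u} (cP4) s2769 0 :=
  (x2769.k4 c2769_0 :)
theorem x2770 : AuxS.{u} (cP4) s2770 0 a2770 := aux_base3 tw1127 rfl b2770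
theorem n2770 : Sound.{u} (cP4) s2770 0 :=
  (x2770.k4 c2770_0 :)
theorem x2771 : AuxS.{u} (cP4) s2771 0 a2771 := aux_base3 tw1127 rfl b2771
theorem n2771 : Sound.{u} (cP4) s2771 0 :=
  (x2771.k4 c2771_0 :)
theorem x2772 : AuxS.{u} (cP4) s2772 0 a2772 := aux_base3 tw1127 rfl b2772
theorem n2772 : Sound.{u} (cP4) s2772 0 :=
  (x2772.k4 c2772_0 :)
theorem x2773 : AuxS.{u} (cP4) s2773 0 a2773 := aux_base3 tw1127 rfl b2773
theorem n2773 : Sound.{u} (cP4) s2773 0 :=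
  (x2773.k4 c2773_0 :)
theorem x2774 : AuxS.{u} (cP4) s2774 0 a2774 := aux_base3 tw1127 rfl b2774
theorem n2774 : Sound.{u} (cP4) s2774 0 :=
  (x2774.k4 c2774_0 :)
theorem x2775 : AuxS.{u} (cP4) s2775 0 a2775 := aux_base3 tw1127 rfl b2775
theorem n2775 : Sound.{u} (cP4) s2775 0 :=
  (x2775.k4 c2775_0 :)
theorem x2776 : AuxS.{u} (cP4) s2776 0 a2776 := aux_base3 tw1127 rfl b2776
theorem n2776 : Sound.{u} (cP4) s2776 0 :=
  (x2776.k4 c2776_0 :)
theorem x2777 : AuxS.{u} (cP4) s2777 0 a2777 := aux_base3 tw1127 rfl b2777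
theorem n2777 : Sound.{u} (cP4) s2777 0 :=
  (x2777.k4 c2777_0 :)
theorem x2778 : AuxS.{u} (cP4) s2778 0 a2778 := aux_base3 tw1127 rfl b2778
theorem n2778 : Sound.{u} (cP4) s2778 0 :=
  (x2778.k4 c2778_0 :)
theorem x2779 : AuxS.{u} (cP4) s2779 0 a2779 := aux_base3 tw1127 rfl b2779
theorem n2779 : Sound.{u} (cP4) s2779 0 :=
  (x2779.k4 c2779_0 :)
theorem x2780 : AuxS.{u} (cP4) s2780 0 a2780 := aux_base3 tw1127 rfl b2780
theorem n2780 : Sound.{u} (cP4) s2780 0 :=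
  (x2780.k4 c2780_0 :)
theorem x2781 : AuxS.{u} (cP4) s2781 0 a2781 := aux_base3 tw1127 rfl b2781
theorem n2781 : Sound.{u} (cP4) s2781 0 :=
  (x2781.k4 c2781_0 :)
theorem x2782 : AuxS.{u} (cP4) s2782 0 a2782 := aux_base3 tw1127 rfl b2782
theorem n2782 : Sound.{u} (cP4) s2782 0 :=
  (x2782.k4 c2782_0 :)
theorem x2783 : AuxS.{u} (cP4) s2783 0 a2783 := aux_base3 tw1127 rfl b2783
theorem n2783 : Sound.{u} (cP4) s2783 0 :=
  (x2783.k4 c2783_0 :)
theorem x2784 : AuxS.{u} (cP4) s2784 0 a2784 := aux_base3 tw1127 rfl b2784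
theorem n2784 : Sound.{u} (cP4) s2784 0 :=
  (x2784.k4 c2784_0 :)
theorem x2785 : AuxS.{u} (cP4) s2785 0 a2785 := aux_base3 tw1127 rfl b2785
theorem n2785 : Sound.{u} (cP4) s2785 0 :=
  (x2785.k4 c2785_0 :)
theorem x2786 : AuxS.{u} (cP4) s2786 0 a2786 := aux_base3 tw1127 rfl b2786
theorem n2786 : Sound.{u} (cP4) s2786 0 :=
  (x2786.k4 c2786_0 :)
theorem x2787 : AuxS.{u} (cP4) s2787 0 a2787 := aux_base3 tw1127 rfl b2787
theorem n2787 : Sound.{u} (cP4) s2787 0 :=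
  (x2787.k4 c2787_0 :)
theorem x2788 : AuxS.{u} (cP4) s2788 0 a2788 := aux_base3 tw1127 rfl b2788
theorem n2788 : Sound.{u} (cP4) s2788 0 :=
  (x2788.k4 c2788_0 :)
theorem x2789 : AuxS.{u} (cP4) s2789 0 a2789 := aux_base3 tw1127 rfl b2789
theorem n2789 : Sound.{u} (cP4) s2789 0 :=
  (x2789.k4 c2789_0 :)
theorem x2790 : AuxS.{u} (cP4) s2790 0 a2790 := aux_base3 tw1127 rfl b2790
theorem n2790 : Sound.{u} (cP4) s2790 0 :=
  (x2790.k4 c2790_0 :)
theorem x2757 : AuxS.{u} (cP4) s2757 0 a2757 := aux_base3 tw1127 rfl b2757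
theorem x2757_1 : AuxS.{u} (cP4) s2757 0 a2757_1 := x2757
theorem x2757_2 : AuxS.{u} (cP4) s2757 0 a2757_2 := x2757_1
theorem n2757 : Sound.{u} (cP4) s2757 0 :=
  (x2757_2.fr (AuxS.gam x2757_2 c2757_0) (AllS.cons n2759 (AllS.cons n2760 (AllS.cons n2761 (AllS.cons n2762 (AllS.cons n2763 (AllS.cons n2764 (AllS.cons n2765 (AllS.cons n2766 (AllS.cons n2767 (AllS.cons n2768 (AllS.cons n2769 (AllS.cons n2770 (AllS.cons n2771 (AllS.cons n2772 (AllS.cons n2773 (AllS.cons n2774 (AllS.cons n2775 (AllS.cons n2776 (AllS.cons n2777 (AllS.cons n2778 (AllS.cons n2779 (AllS.cons n2780 (AllS.cons n2781 (AllS.cons n2782 (AllS.cons n2783 (AllS.cons n2784 (AllS.cons n2785 (AllS.cons n2786 (AllS.cons n2787 (AllS.cons n2788 (AllS.cons n2789 (AllS.cons n2790 AllS.nil)))))))))))))))))))))))))))))))) c2757_1 :)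
theorem x2758 : AuxS.{u} (cP4) s2758 0 a2758 := aux_base3 tw1128 rfl b2758
theorem x2758_1 : AuxS.{u} (cP4) s2758 0 a2758_1 := x2758
theorem x2758_2 : AuxS.{u} (cP4) s2758 0 a2758_2 := x2758_1
theorem n2758 : Sound.{u} (cP4) s2758 0 :=
  (x2758_2.fr GamS.nil AllS.nil c2758_0 :)
theorem x2389 : AuxS.{u} (cP4) s2389 0 a2389 := aux_base3 tw955 rfl b2389
theorem x2389_1 : AuxS.{u} (cP4) s2389 0 a2389_1 := (AuxS.up x2389 c2389_7 :)
theorem x2389_2 : AuxS.{u} (cP4) s2389 0 a2389_2 := x2389_1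
theorem p2389_0_1 : Phs s2389 a2389_2 (List.map Prod.fst g2389_0) [s2743, s2744, s2745, s2746, s2747, s2748, s2749, s2750, s2751, s2752, s2753, s2754, s2755, s2756, s2757, s2758] ct2389_0 v2389_0 5 w2389_0_1 := (Phs.fin c2389_1)
theorem p2389_0_3 : Phs s2389 a2389_2 (List.map Prod.fst g2389_0) [s2743, s2744, s2745, s2746, s2747, s2748, s2749, s2750, s2751, s2752, s2753, s2754, s2755, s2756, s2757, s2758] ct2389_0 v2389_0 4 w2389_0_3 := (Phs.stp c2389_2 p2389_0_1)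
theorem p2389_0_5 : Phs s2389 a2389_2 (List.map Prod.fst g2389_0) [s2743, s2744, s2745, s2746, s2747, s2748, s2749, s2750, s2751, s2752, s2753, s2754, s2755, s2756, s2757, s2758] ct2389_0 v2389_0 3 w2389_0_5 := (Phs.stp c2389_3 p2389_0_3)
theorem p2389_0_7 : Phs s2389 a2389_2 (List.map Prod.fst g2389_0) [s2743, s2744, s2745, s2746, s2747, s2748, s2749, s2750, s2751, s2752, s2753, s2754, s2755, s2756, s2757, s2758] ct2389_0 v2389_0 1 w2389_0_7 := (Phs.stp c2389_4 p2389_0_5)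
theorem n2389 : Sound.{u} (cP4) s2389 0 :=
  (x2389_2.ext2 (fun h => absurd h (by decide)) (AuxS.gam x2389_2 c2389_0) (AllS.cons n2743 (AllS.cons n2744 (AllS.cons n2745 (AllS.cons n2746 (AllS.cons n2747 (AllS.cons n2748 (AllS.cons n2749 (AllS.cons n2750 (AllS.cons n2751 (AllS.cons n2752 (AllS.cons n2753 (AllS.cons n2754 (AllS.cons n2755 (AllS.cons n2756 (AllS.cons n2757 (AllS.cons n2758 AllS.nil)))))))))))))))) c2389_6 (Phs.stp c2389_5 p2389_0_7) (Phs.fin (ct := ct2389_0) rfl) :)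
theorem x2390 : AuxS.{u} (cP4) s2390 0 a2390 := aux_base3 tw956 rfl b2390
theorem x2390_1 : AuxS.{u} (cP4) s2390 0 a2390_1 := (AuxS.up x2390 c2390_1 :)
theorem n2390 : Sound.{u} (cP4) s2390 0 :=
  (x2390_1.k7 c2390_0 :)
theorem x2391 : AuxS.{u} (cP4) s2391 0 a2391 := aux_base3 tw957 rfl b2391
theorem x2391_1 : AuxS.{u} (cP4) s2391 0 a2391_1 := (AuxS.up x2391 c2391_1 :)
theorem n2391 : Sound.{u} (cP4) s2391 0 :=
  (x2391_1.k7 c2391_0 :)
theorem x2392 : AuxS.{u} (cP4) s2392 0 a2392 := aux_base3 tw958 rfl b2392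
theorem x2392_1 : AuxS.{u} (cP4) s2392 0 a2392_1 := (AuxS.up x2392 c2392_1 :)
theorem n2392 : Sound.{u} (cP4) s2392 0 :=
  (x2392_1.k7 c2392_0 :)
theorem x2393 : AuxS.{u} (cP4) s2393 0 a2393 := aux_base3 tw959 rfl b2393
theorem x2393_1 : AuxS.{u} (cP4) s2393 0 a2393_1 := (AuxS.up x2393 c2393_1 :)
theorem n2393 : Sound.{u} (cP4) s2393 0 :=
  (x2393_1.k7 c2393_0 :)
theorem x2792 : AuxS.{u} (cP4) s2792 0 a2792 := aux_base3 tw1129 rfl b2792
theorem x2792_1 : AuxS.{u} (cP4) s2792 0 a2792_1 := x2792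
theorem x2792_2 : AuxS.{u} (cP4) s2792 0 a2792_2 := x2792_1
theorem n2792 : Sound.{u} (cP4) s2792 0 :=
  (x2792_2.fr GamS.nil AllS.nil c2792_0 :)
theorem x2793 : AuxS.{u} (cP4) s2793 0 a2793 := aux_base3 tw1130 rfl b2793
theorem x2793_1 : AuxS.{u} (cP4) s2793 0 a2793_1 := x2793
theorem n2793 : Sound.{u} (cP4) s2793 0 :=
  (x2793_1.fr GamS.nil AllS.nil c2793_0 :)
theorem x2794 : AuxS.{u} (cP4) s2794 0 a2794 := aux_base3 tw1131 rfl b2794
theorem x2794_1 : AuxS.{u} (cP4) s2794 0 a2794_1 := x2794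
theorem n2794 : Sound.{u} (cP4) s2794 0 :=
  (x2794_1.fr GamS.nil AllS.nil c2794_0 :)
theorem x2795 : AuxS.{u} (cP4) s2795 0 a2795 := aux_base3 tw1132 rfl b2795
theorem x2795_1 : AuxS.{u} (cP4) s2795 0 a2795_1 := x2795
theorem n2795 : Sound.{u} (cP4) s2795 0 :=
  (x2795_1.fr GamS.nil AllS.nil c2795_0 :)
theorem x2796 : AuxS.{u} (cP4) s2796 0 a2796 := aux_base3 tw1133 rfl b2796
theorem x2796_1 : AuxS.{u} (cP4) s2796 0 a2796_1 := x2796
theorem x2796_2 : AuxS.{u} (cP4) s2796 0 a2796_2 := x2796_1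
theorem n2796 : Sound.{u} (cP4) s2796 0 :=
  (x2796_2.fr GamS.nil AllS.nil c2796_0 :)
theorem x2797 : AuxS.{u} (cP4) s2797 0 a2797 := aux_base3 tw1134 rfl b2797
theorem x2797_1 : AuxS.{u} (cP4) s2797 0 a2797_1 := x2797
theorem n2797 : Sound.{u} (cP4) s2797 0 :=
  (x2797_1.fr GamS.nil AllS.nil c2797_0 :)
theorem x2798 : AuxS.{u} (cP4) s2798 0 a2798 := aux_base3 tw1135 rfl b2798
theorem x2798_1 : AuxS.{u} (cP4) s2798 0 a2798_1 := x2798
theorem n2798 : Sound.{u} (cP4) s2798 0 :=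
  (x2798_1.fr GamS.nil AllS.nil c2798_0 :)
theorem x2799 : AuxS.{u} (cP4) s2799 0 a2799 := aux_base3 tw1136 rfl b2799
theorem x2799_1 : AuxS.{u} (cP4) s2799 0 a2799_1 := x2799
theorem x2799_2 : AuxS.{u} (cP4) s2799 0 a2799_2 := x2799_1
theorem n2799 : Sound.{u} (cP4) s2799 0 :=
  (x2799_2.fr GamS.nil AllS.nil c2799_0 :)
theorem x2800 : AuxS.{u} (cP4) s2800 0 a2800 := aux_base3 tw1137 rfl b2800
theorem x2800_1 : AuxS.{u} (cP4) s2800 0 a2800_1 := x2800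
theorem n2800 : Sound.{u} (cP4) s2800 0 :=
  (x2800_1.fr GamS.nil AllS.nil c2800_0 :)
theorem x2801 : AuxS.{u} (cP4) s2801 0 a2801 := aux_base3 tw1138 rfl b2801
theorem x2801_1 : AuxS.{u} (cP4) s2801 0 a2801_1 := x2801
theorem n2801 : Sound.{u} (cP4) s2801 0 :=
  (x2801_1.fr GamS.nil AllS.nil c2801_0 :)
theorem x2802 : AuxS.{u} (cP4) s2802 0 a2802 := aux_base3 tw1139 rfl b2802
theorem x2802_1 : AuxS.{u} (cP4) s2802 0 a2802_1 := x2802
theorem n2802 : Sound.{u} (cP4) s2802 0 :=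
  (x2802_1.fr GamS.nil AllS.nil c2802_0 :)
theorem x2803 : AuxS.{u} (cP4) s2803 0 a2803 := aux_base3 tw1140 rfl b2803
theorem x2803_1 : AuxS.{u} (cP4) s2803 0 a2803_1 := x2803
theorem n2803 : Sound.{u} (cP4) s2803 0 :=
  (x2803_1.fr GamS.nil AllS.nil c2803_0 :)
theorem x2804 : AuxS.{u} (cP4) s2804 0 a2804 := aux_base3 tw1141 rfl b2804
theorem x2804_1 : AuxS.{u} (cP4) s2804 0 a2804_1 := x2804
theorem n2804 : Sound.{u} (cP4) s2804 0 :=
  (x2804_1.fr GamS.nil AllS.nil c2804_0 :)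
theorem x2805 : AuxS.{u} (cP4) s2805 0 a2805 := aux_base3 tw1142 rfl b2805
theorem x2805_1 : AuxS.{u} (cP4) s2805 0 a2805_1 := x2805
theorem n2805 : Sound.{u} (cP4) s2805 0 :=
  (x2805_1.fr GamS.nil AllS.nil c2805_0 :)
theorem x2808 : AuxS.{u} (cP4) s2808 0 a2808 := aux_base3 tw1143 rfl b2808
theorem n2808 : Sound.{u} (cP4) s2808 0 :=
  (x2808.k4 c2808_0 :)
theorem x2809 : AuxS.{u} (cP4) s2809 0 a2809 := aux_base3 tw1143 rfl b2809
theorem n2809 : Sound.{u} (cP4) s2809 0 :=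
  (x2809.k4 c2809_0 :)
theorem x2810 : AuxS.{u} (cP4) s2810 0 a2810 := aux_base3 tw1143 rfl b2810
theorem n2810 : Sound.{u} (cP4) s2810 0 :=
  (x2810.k4 c2810_0 :)
theorem x2811 : AuxS.{u} (cP4) s2811 0 a2811 := aux_base3 tw1143 rfl b2811
theorem n2811 : Sound.{u} (cP4) s2811 0 :=
  (x2811.k4 c2811_0 :)
theorem x2812 : AuxS.{u} (cP4) s2812 0 a2812 := aux_base3 tw1143 rfl b2812
theorem n2812 : Sound.{u} (cP4) s2812 0 :=
  (x2812.k4 c2812_0 :)
theorem x2813 : AuxS.{u} (cP4) s2813 0 a2813 := aux_base3 tw1143 rfl b2813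
theorem n2813 : Sound.{u} (cP4) s2813 0 :=
  (x2813.k4 c2813_0 :)
theorem x2814 : AuxS.{u} (cP4) s2814 0 a2814 := aux_base3 tw1143 rfl b2814
theorem n2814 : Sound.{u} (cP4) s2814 0 :=
  (x2814.k4 c2814_0 :)
theorem x2815 : AuxS.{u} (cP4) s2815 0 a2815 := aux_base3 tw1143 rfl b2815
theorem n2815 : Sound.{u} (cP4) s2815 0 :=
  (x2815.k4 c2815_0 :)
theorem x2816 : AuxS.{u} (cP4) s2816 0 a2816 := aux_base3 tw1143 rfl b2816
theorem n2816 : Sound.{u} (cP4) s2816 0 :=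
  (x2816.k4 c2816_0 :)
theorem x2817 : AuxS.{u} (cP4) s2817 0 a2817 := aux_base3 tw1143 rfl b2817
theorem n2817 : Sound.{u} (cP4) s2817 0 :=
  (x2817.k4 c2817_0 :)
theorem x2818 : AuxS.{u} (cP4) s2818 0 a2818 := aux_base3 tw1143 rfl b2818
theorem n2818 : Sound.{u} (cP4) s2818 0 :=
  (x2818.k4 c2818_0 :)
theorem x2819 : AuxS.{u} (cP4) s2819 0 a2819 := aux_base3 tw1143 rfl b2819
theorem n2819 : Sound.{u} (cP4) s2819 0 :=
  (x2819.k4 c2819_0 :)
theorem x2820 : AuxS.{u} (cP4) s2820 0 a2820 := aux_base3 tw1143 rfl b2820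
theorem n2820 : Sound.{u} (cP4) s2820 0 :=
  (x2820.k4 c2820_0 :)
theorem x2821 : AuxS.{u} (cP4) s2821 0 a2821 := aux_base3 tw1143 rfl b2821
theorem n2821 : Sound.{u} (cP4) s2821 0 :=
  (x2821.k4 c2821_0 :)
theorem x2822 : AuxS.{u} (cP4) s2822 0 a2822 := aux_base3 tw1143 rfl b2822
theorem n2822 : Sound.{u} (cP4) s2822 0 :=
  (x2822.k4 c2822_0 :)
theorem x2823 : AuxS.{u} (cP4) s2823 0 a2823 := aux_base3 tw1143 rfl b2823
theorem n2823 : Sound.{u} (cP4) s2823 0 :=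
  (x2823.k4 c2823_0 :)
theorem x2824 : AuxS.{u} (cP4) s2824 0 a2824 := aux_base3 tw1143 rfl b2824
theorem n2824 : Sound.{u} (cP4) s2824 0 :=
  (x2824.k4 c2824_0 :)
theorem x2825 : AuxS.{u} (cP4) s2825 0 a2825 := aux_base3 tw1143 rfl b2825
theorem n2825 : Sound.{u} (cP4) s2825 0 :=
  (x2825.k4 c2825_0 :)
theorem x2826 : AuxS.{u} (cP4) s2826 0 a2826 := aux_base3 tw1143 rfl b2826
theorem n2826 : Sound.{u} (cP4) s2826 0 :=
  (x2826.k4 c2826_0 :)
theorem x2827 : AuxS.{u} (cP4) s2827 0 a2827 := aux_base3 tw1143 rfl b2827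
theorem n2827 : Sound.{u} (cP4) s2827 0 :=
  (x2827.k4 c2827_0 :)
theorem x2828 : AuxS.{u} (cP4) s2828 0 a2828 := aux_base3 tw1143 rfl b2828
theorem n2828 : Sound.{u} (cP4) s2828 0 :=
  (x2828.k4 c2828_0 :)
theorem x2829 : AuxS.{u} (cP4) s2829 0 a2829 := aux_base3 tw1143 rfl b2829
theorem n2829 : Sound.{u} (cP4) s2829 0 :=
  (x2829.k4 c2829_0 :)
theorem x2830 : AuxS.{u} (cP4) s2830 0 a2830 := aux_base3 tw1143 rfl b2830
theorem n2830 : Sound.{u} (cP4) s2830 0 :=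
  (x2830.k4 c2830_0 :)
theorem x2831 : AuxS.{u} (cP4) s2831 0 a2831 := aux_base3 tw1143 rfl b2831
theorem n2831 : Sound.{u} (cP4) s2831 0 :=
  (x2831.k4 c2831_0 :)
theorem x2832 : AuxS.{u} (cP4) s2832 0 a2832 := aux_base3 tw1143 rfl b2832
theorem n2832 : Sound.{u} (cP4) s2832 0 :=
  (x2832.k4 c2832_0 :)
theorem x2833 : AuxS.{u} (cP4) s2833 0 a2833 := aux_base3 tw1143 rfl b2833
theorem n2833 : Sound.{u} (cP4) s2833 0 :=
  (x2833.k4 c2833_0 :)
theorem x2834 : AuxS.{u} (cP4) s2834 0 a2834 := aux_base3 tw1143 rfl b2834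
theorem n2834 : Sound.{u} (cP4) s2834 0 :=
  (x2834.k4 c2834_0 :)
theorem x2835 : AuxS.{u} (cP4) s2835 0 a2835 := aux_base3 tw1143 rfl b2835
theorem n2835 : Sound.{u} (cP4) s2835 0 :=
  (x2835.k4 c2835_0 :)
theorem x2836 : AuxS.{u} (cP4) s2836 0 a2836 := aux_base3 tw1143 rfl b2836
theorem n2836 : Sound.{u} (cP4) s2836 0 :=
  (x2836.k4 c2836_0 :)
theorem x2846 : AuxS.{u} (cP4) s2846 0 a2846 := aux_base3 tw1148 rfl b2846
theorem x2846_1 : AuxS.{u} (cP4) s2846 0 a2846_1 := x2846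
theorem n2846 : Sound.{u} (cP4) s2846 0 :=
  (x2846_1.jump c2846_0 c2846_1 n1172 :)
theorem x2847 : AuxS.{u} (cP4) s2847 0 a2847 := aux_base3 tw1149 rfl b2847
theorem x2847_1 : AuxS.{u} (cP4) s2847 0 a2847_1 := x2847
theorem n2847 : Sound.{u} (cP4) s2847 0 :=
  (x2847_1.jump c2847_0 c2847_1 n1173 :)
theorem x2848 : AuxS.{u} (cP4) s2848 0 a2848 := aux_base3 tw1150 rfl b2848
theorem x2848_1 : AuxS.{u} (cP4) s2848 0 a2848_1 := x2848
theorem n2848 : Sound.{u} (cP4) s2848 0 :=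
  (x2848_1.jump c2848_0 c2848_1 n1170 :)
theorem x2849 : AuxS.{u} (cP4) s2849 0 a2849 := aux_base3 tw1151 rfl b2849
theorem x2849_1 : AuxS.{u} (cP4) s2849 0 a2849_1 := x2849
theorem n2849 : Sound.{u} (cP4) s2849 0 :=
  (x2849_1.jump c2849_0 c2849_1 n1171 :)
theorem x2844 : AuxS.{u} (cP4) s2844 0 a2844 := aux_base3 tw1146 rfl b2844
theorem x2844_1 : AuxS.{u} (cP4) s2844 0 a2844_1 := x2844
theorem x2844_2 : AuxS.{u} (cP4) s2844 0 a2844_2 := x2844_1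
theorem n2844 : Sound.{u} (cP4) s2844 0 :=
  (x2844_2.fr2 GamS.nil (AllS.cons n2846 (AllS.cons n2847 (AllS.cons n2848 (AllS.cons n2849 AllS.nil)))) c2844_0 :)
theorem x2850 : AuxS.{u} (cP4) s2850 0 a2850 := aux_base3 tw1152 rfl b2850
theorem x2850_1 : AuxS.{u} (cP4) s2850 0 a2850_1 := x2850
theorem n2850 : Sound.{u} (cP4) s2850 0 :=
  (x2850_1.jump c2850_0 c2850_1 n1288 :)
theorem x2851 : AuxS.{u} (cP4) s2851 0 a2851 := aux_base3 tw1153 rfl b2851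
theorem x2851_1 : AuxS.{u} (cP4) s2851 0 a2851_1 := x2851
theorem n2851 : Sound.{u} (cP4) s2851 0 :=
  (x2851_1.jump c2851_0 c2851_1 n1289 :)
theorem x2852 : AuxS.{u} (cP4) s2852 0 a2852 := aux_base3 tw1154 rfl b2852
theorem x2852_1 : AuxS.{u} (cP4) s2852 0 a2852_1 := x2852
theorem n2852 : Sound.{u} (cP4) s2852 0 :=
  (x2852_1.jump c2852_0 c2852_1 n1286 :)
theorem x2853 : AuxS.{u} (cP4) s2853 0 a2853 := aux_base3 tw1155 rfl b2853
theorem x2853_1 : AuxS.{u} (cP4) s2853 0 a2853_1 := x2853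
theorem n2853 : Sound.{u} (cP4) s2853 0 :=
  (x2853_1.jump c2853_0 c2853_1 n1287 :)
theorem x2845 : AuxS.{u} (cP4) s2845 0 a2845 := aux_base3 tw1147 rfl b2845
theorem x2845_1 : AuxS.{u} (cP4) s2845 0 a2845_1 := x2845
theorem n2845 : Sound.{u} (cP4) s2845 0 :=
  (x2845_1.fr2 GamS.nil (AllS.cons n2850 (AllS.cons n2851 (AllS.cons n2852 (AllS.cons n2853 AllS.nil)))) c2845_0 :)
theorem x2842 : AuxS.{u} (cP4) s2842 0 a2842 := aux_base3 tw1145 rfl b2842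
theorem x2842_1 : AuxS.{u} (cP4) s2842 0 a2842_1 := x2842
theorem x2842_2 : AuxS.{u} (cP4) s2842 0 a2842_2 := x2842_1
theorem n2842 : Sound.{u} (cP4) s2842 0 :=
  (x2842_2.fr2 GamS.nil (AllS.cons n2844 (AllS.cons n2845 AllS.nil)) c2842_0 :)
theorem x2843 : AuxS.{u} (cP4) s2843 0 a2843 := aux_base3 tw1145 rfl b2843
theorem n2843 : Sound.{u} (cP4) s2843 0 :=
  (x2843.k4 c2843_0 :)
theorem x2841 : AuxS.{u} (cP4) s2841 0 a2841 := aux_base3 tw1145 rfl b2841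
theorem x2841_1 : AuxS.{u} (cP4) s2841 0 a2841_1 := x2841
theorem x2841_2 : AuxS.{u} (cP4) s2841 0 a2841_2 := x2841_1
theorem n2841 : Sound.{u} (cP4) s2841 0 :=
  (x2841_2.fr GamS.nil (AllS.cons n2842 (AllS.cons n2843 AllS.nil)) c2841_0 :)
theorem x2840 : AuxS.{u} (cP4) s2840 0 a2840 := aux_base3 tw960 rfl b2840
theorem x2840_1 : AuxS.{u} (cP4) s2840 0 a2840_1 := (AuxS.up x2840 c2840_6 :)
theorem x2840_2 : AuxS.{u} (cP4) s2840 0 a2840_2 := x2840_1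
theorem p2840_0_1 : Phs s2840 a2840_2 (List.map Prod.fst g2840_0) [s2841] ct2840_0 v2840_0 5 w2840_0_1 := (Phs.fin c2840_1)
theorem p2840_0_3 : Phs s2840 a2840_2 (List.map Prod.fst g2840_0) [s2841] ct2840_0 v2840_0 4 w2840_0_3 := (Phs.stp c2840_2 p2840_0_1)
theorem p2840_0_5 : Phs s2840 a2840_2 (List.map Prod.fst g2840_0) [s2841] ct2840_0 v2840_0 1 w2840_0_5 := (Phs.stp c2840_3 p2840_0_3)
theorem n2840 : Sound.{u} (cP4) s2840 0 :=
  (x2840_2.ext2 (fun h => absurd h (by decide)) (AuxS.gam x2840_2 c2840_0) (AllS.cons n2841 AllS.nil) c2840_5 (Phs.stp c2840_4 p2840_0_5) (Phs.fin (ct := ct2840_0) rfl) :)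
theorem x2837 : AuxS.{u} (cP4) s2837 0 a2837 := aux_base3 tw1143 rfl b2837
theorem x2837_1 : AuxS.{u} (cP4) s2837 0 a2837_1 := x2837
theorem n2837 : Sound.{u} (cP4) s2837 0 :=
  (x2837_1.jump c2837_0 c2837_1 n2840 :)
theorem x2838 : AuxS.{u} (cP4) s2838 0 a2838 := aux_base3 tw1143 rfl b2838
theorem n2838 : Sound.{u} (cP4) s2838 0 :=
  (x2838.k4 c2838_0 :)
theorem x2839 : AuxS.{u} (cP4) s2839 0 a2839 := aux_base3 tw1143 rfl b2839
theorem n2839 : Sound.{u} (cP4) s2839 0 :=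
  (x2839.k4 c2839_0 :)
theorem x2806 : AuxS.{u} (cP4) s2806 0 a2806 := aux_base3 tw1143 rfl b2806
theorem x2806_1 : AuxS.{u} (cP4) s2806 0 a2806_1 := x2806
theorem n2806 : Sound.{u} (cP4) s2806 0 :=
  (x2806_1.fr (AuxS.gam x2806_1 c2806_0) (AllS.cons n2808 (AllS.cons n2809 (AllS.cons n2810 (AllS.cons n2811 (AllS.cons n2812 (AllS.cons n2813 (AllS.cons n2814 (AllS.cons n2815 (AllS.cons n2816 (AllS.cons n2817 (AllS.cons n2818 (AllS.cons n2819 (AllS.cons n2820 (AllS.cons n2821 (AllS.cons n2822 (AllS.cons n2823 (AllS.cons n2824 (AllS.cons n2825 (AllS.cons n2826 (AllS.cons n2827 (AllS.cons n2828 (AllS.cons n2829 (AllS.cons n2830 (AllS.cons n2831 (AllS.cons n2832 (AllS.cons n2833 (AllS.cons n2834 (AllS.cons n2835 (AllS.cons n2836 (AllS.cons n2837 (AllS.cons n2838 (AllS.cons n2839 AllS.nil)))))))))))))))))))))))))))))))) c2806_1 :)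
theorem x2807 : AuxS.{u} (cP4) s2807 0 a2807 := aux_base3 tw1144 rfl b2807
theorem x2807_1 : AuxS.{u} (cP4) s2807 0 a2807_1 := x2807
theorem n2807 : Sound.{u} (cP4) s2807 0 :=
  (x2807_1.fr GamS.nil AllS.nil c2807_0 :)
theorem x2394 : AuxS.{u} (cP4) s2394 0 a2394 := aux_base3 tw960 rfl b2394
theorem x2394_1 : AuxS.{u} (cP4) s2394 0 a2394_1 := (AuxS.up x2394 c2394_7 :)
theorem x2394_2 : AuxS.{u} (cP4) s2394 0 a2394_2 := x2394_1
theorem p2394_0_1 : Phs s2394 a2394_2 (List.map Prod.fst g2394_0) [s2792, s2793, s2794, s2795, s2796, s2797, s2798, s2799, s2800, s2801, s2802, s2803, s2804, s2805, s2806, s2807] ct2394_0 v2394_0 5 w2394_0_1 := (Phs.fin c2394_1)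
theorem p2394_0_3 : Phs s2394 a2394_2 (List.map Prod.fst g2394_0) [s2792, s2793, s2794, s2795, s2796, s2797, s2798, s2799, s2800, s2801, s2802, s2803, s2804, s2805, s2806, s2807] ct2394_0 v2394_0 4 w2394_0_3 := (Phs.stp c2394_2 p2394_0_1)
theorem p2394_0_5 : Phs s2394 a2394_2 (List.map Prod.fst g2394_0) [s2792, s2793, s2794, s2795, s2796, s2797, s2798, s2799, s2800, s2801, s2802, s2803, s2804, s2805, s2806, s2807] ct2394_0 v2394_0 3 w2394_0_5 := (Phs.stp c2394_3 p2394_0_3)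
theorem p2394_0_7 : Phs s2394 a2394_2 (List.map Prod.fst g2394_0) [s2792, s2793, s2794, s2795, s2796, s2797, s2798, s2799, s2800, s2801, s2802, s2803, s2804, s2805, s2806, s2807] ct2394_0 v2394_0 1 w2394_0_7 := (Phs.stp c2394_4 p2394_0_5)
theorem n2394 : Sound.{u} (cP4) s2394 0 :=
  (x2394_2.ext2 (fun h => absurd h (by decide)) (AuxS.gam x2394_2 c2394_0) (AllS.cons n2792 (AllS.cons n2793 (AllS.cons n2794 (AllS.cons n2795 (AllS.cons n2796 (AllS.cons n2797 (AllS.cons n2798 (AllS.cons n2799 (AllS.cons n2800 (AllS.cons n2801 (AllS.cons n2802 (AllS.cons n2803 (AllS.cons n2804 (AllS.cons n2805 (AllS.cons n2806 (AllS.cons n2807 AllS.nil)))))))))))))))) c2394_6 (Phs.stp c2394_5 p2394_0_7) (Phs.fin (ct := ct2394_0) rfl) :)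
theorem x25 : AuxS.{u} (cP4) s25 0 a25 := aux_base3 tw25 rfl b25
theorem x25_1 : AuxS.{u} (cP4) s25 0 a25_1 := (AuxS.up x25 c25_4 :)
theorem p25_0_1 : Phs s25 a25_1 [] [s2379, s2380, s2381, s2382, s2383, s2384, s2385, s2386, s2387, s2388, s2389, s2390, s2391, s2392, s2393, s2394] ct25_0 v25_0 4 w25_0_1 := (Phs.fin c25_0)
theorem p25_0_3 : Phs s25 a25_1 [] [s2379, s2380, s2381, s2382, s2383, s2384, s2385, s2386, s2387, s2388, s2389, s2390, s2391, s2392, s2393, s2394] ct25_0 v25_0 1 w25_0_3 := (Phs.stp c25_1 p25_0_1)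
theorem n25 : Sound.{u} (cP4) s25 0 :=
  (x25_1.ext2 (fun h => absurd h (by decide)) GamS.nil (AllS.cons n2379 (AllS.cons n2380 (AllS.cons n2381 (AllS.cons n2382 (AllS.cons n2383 (AllS.cons n2384 (AllS.cons n2385 (AllS.cons n2386 (AllS.cons n2387 (AllS.cons n2388 (AllS.cons n2389 (AllS.cons n2390 (AllS.cons n2391 (AllS.cons n2392 (AllS.cons n2393 (AllS.cons n2394 AllS.nil)))))))))))))))) c25_3 (Phs.stp c25_2 p25_0_3) (Phs.fin (ct := ct25_0) rfl) :)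
theorem x2870 : AuxS.{u} (cP4) s2870 0 a2870 := aux_base3 tw1172 rfl b2870
theorem x2870_1 : AuxS.{u} (cP4) s2870 0 a2870_1 := x2870
theorem x2870_2 : AuxS.{u} (cP4) s2870 0 a2870_2 := x2870_1
theorem n2870 : Sound.{u} (cP4) s2870 0 :=
  (x2870_2.fr GamS.nil AllS.nil c2870_0 :)
theorem x2871 : AuxS.{u} (cP4) s2871 0 a2871 := aux_base3 tw1173 rfl b2871
theorem x2871_1 : AuxS.{u} (cP4) s2871 0 a2871_1 := x2871
theorem x2871_2 : AuxS.{u} (cP4) s2871 0 a2871_2 := x2871_1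
theorem n2871 : Sound.{u} (cP4) s2871 0 :=
  (x2871_2.fr GamS.nil AllS.nil c2871_0 :)
theorem x2872 : AuxS.{u} (cP4) s2872 0 a2872 := aux_base3 tw1174 rfl b2872
theorem x2872_1 : AuxS.{u} (cP4) s2872 0 a2872_1 := x2872
theorem x2872_2 : AuxS.{u} (cP4) s2872 0 a2872_2 := x2872_1
theorem n2872 : Sound.{u} (cP4) s2872 0 :=
  (x2872_2.fr GamS.nil AllS.nil c2872_0 :)
theorem x2873 : AuxS.{u} (cP4) s2873 0 a2873 := aux_base3 tw1175 rfl b2873
theorem x2873_1 : AuxS.{u} (cP4) s2873 0 a2873_1 := x2873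
theorem x2873_2 : AuxS.{u} (cP4) s2873 0 a2873_2 := x2873_1
theorem n2873 : Sound.{u} (cP4) s2873 0 :=
  (x2873_2.fr GamS.nil AllS.nil c2873_0 :)
theorem x2874 : AuxS.{u} (cP4) s2874 0 a2874 := aux_base3 tw1176 rfl b2874
theorem x2874_1 : AuxS.{u} (cP4) s2874 0 a2874_1 := x2874
theorem x2874_2 : AuxS.{u} (cP4) s2874 0 a2874_2 := x2874_1
theorem n2874 : Sound.{u} (cP4) s2874 0 :=
  (x2874_2.fr GamS.nil AllS.nil c2874_0 :)
theorem x2875 : AuxS.{u} (cP4) s2875 0 a2875 := aux_base3 tw1177 rfl b2875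
theorem x2875_1 : AuxS.{u} (cP4) s2875 0 a2875_1 := x2875
theorem x2875_2 : AuxS.{u} (cP4) s2875 0 a2875_2 := x2875_1
theorem n2875 : Sound.{u} (cP4) s2875 0 :=
  (x2875_2.fr GamS.nil AllS.nil c2875_0 :)
theorem x2876 : AuxS.{u} (cP4) s2876 0 a2876 := aux_base3 tw1178 rfl b2876
theorem x2876_1 : AuxS.{u} (cP4) s2876 0 a2876_1 := x2876
theorem x2876_2 : AuxS.{u} (cP4) s2876 0 a2876_2 := x2876_1
theorem n2876 : Sound.{u} (cP4) s2876 0 :=
  (x2876_2.fr GamS.nil AllS.nil c2876_0 :)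
theorem x2877 : AuxS.{u} (cP4) s2877 0 a2877 := aux_base3 tw1179 rfl b2877
theorem x2877_1 : AuxS.{u} (cP4) s2877 0 a2877_1 := x2877
theorem x2877_2 : AuxS.{u} (cP4) s2877 0 a2877_2 := x2877_1
theorem n2877 : Sound.{u} (cP4) s2877 0 :=
  (x2877_2.fr GamS.nil AllS.nil c2877_0 :)
theorem x2878 : AuxS.{u} (cP4) s2878 0 a2878 := aux_base3 tw1180 rfl b2878
theorem x2878_1 : AuxS.{u} (cP4) s2878 0 a2878_1 := x2878
theorem x2878_2 : AuxS.{u} (cP4) s2878 0 a2878_2 := x2878_1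
theorem n2878 : Sound.{u} (cP4) s2878 0 :=
  (x2878_2.fr GamS.nil AllS.nil c2878_0 :)
theorem x2879 : AuxS.{u} (cP4) s2879 0 a2879 := aux_base3 tw1181 rfl b2879
theorem x2879_1 : AuxS.{u} (cP4) s2879 0 a2879_1 := x2879
theorem x2879_2 : AuxS.{u} (cP4) s2879 0 a2879_2 := x2879_1
theorem n2879 : Sound.{u} (cP4) s2879 0 :=
  (x2879_2.fr GamS.nil AllS.nil c2879_0 :)
theorem x2880 : AuxS.{u} (cP4) s2880 0 a2880 := aux_base3 tw1182 rfl b2880
theorem x2880_1 : AuxS.{u} (cP4) s2880 0 a2880_1 := x2880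
theorem x2880_2 : AuxS.{u} (cP4) s2880 0 a2880_2 := x2880_1
theorem n2880 : Sound.{u} (cP4) s2880 0 :=
  (x2880_2.fr GamS.nil AllS.nil c2880_0 :)
theorem x2881 : AuxS.{u} (cP4) s2881 0 a2881 := aux_base3 tw1183 rfl b2881
theorem x2881_1 : AuxS.{u} (cP4) s2881 0 a2881_1 := x2881
theorem x2881_2 : AuxS.{u} (cP4) s2881 0 a2881_2 := x2881_1
theorem n2881 : Sound.{u} (cP4) s2881 0 :=
  (x2881_2.fr GamS.nil AllS.nil c2881_0 :)
theorem x2882 : AuxS.{u} (cP4) s2882 0 a2882 := aux_base3 tw1184 rfl b2882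
theorem x2882_1 : AuxS.{u} (cP4) s2882 0 a2882_1 := x2882
theorem x2882_2 : AuxS.{u} (cP4) s2882 0 a2882_2 := x2882_1
theorem n2882 : Sound.{u} (cP4) s2882 0 :=
  (x2882_2.fr GamS.nil AllS.nil c2882_0 :)
theorem x2883 : AuxS.{u} (cP4) s2883 0 a2883 := aux_base3 tw1185 rfl b2883
theorem x2883_1 : AuxS.{u} (cP4) s2883 0 a2883_1 := x2883
theorem x2883_2 : AuxS.{u} (cP4) s2883 0 a2883_2 := x2883_1
theorem n2883 : Sound.{u} (cP4) s2883 0 :=
  (x2883_2.fr GamS.nil AllS.nil c2883_0 :)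
theorem x2884 : AuxS.{u} (cP4) s2884 0 a2884 := aux_base3 tw1186 rfl b2884
theorem x2884_1 : AuxS.{u} (cP4) s2884 0 a2884_1 := x2884
theorem x2884_2 : AuxS.{u} (cP4) s2884 0 a2884_2 := x2884_1
theorem n2884 : Sound.{u} (cP4) s2884 0 :=
  (x2884_2.fr GamS.nil AllS.nil c2884_0 :)
theorem x2885 : AuxS.{u} (cP4) s2885 0 a2885 := aux_base3 tw1187 rfl b2885
theorem x2885_1 : AuxS.{u} (cP4) s2885 0 a2885_1 := x2885
theorem x2885_2 : AuxS.{u} (cP4) s2885 0 a2885_2 := x2885_1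
theorem n2885 : Sound.{u} (cP4) s2885 0 :=
  (x2885_2.fr GamS.nil AllS.nil c2885_0 :)
theorem x2854 : AuxS.{u} (cP4) s2854 0 a2854 := aux_base3 tw1156 rfl b2854
theorem x2854_1 : AuxS.{u} (cP4) s2854 0 a2854_1 := (AuxS.up x2854 c2854_7 :)
theorem x2854_2 : AuxS.{u} (cP4) s2854 0 a2854_2 := x2854_1
theorem p2854_0_1 : Phs s2854 a2854_2 (List.map Prod.fst g2854_0) [s2870, s2871, s2872, s2873, s2874, s2875, s2876, s2877, s2878, s2879, s2880, s2881, s2882, s2883, s2884, s2885] ct2854_0 v2854_0 5 w2854_0_1 := (Phs.fin c2854_1)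
theorem p2854_0_3 : Phs s2854 a2854_2 (List.map Prod.fst g2854_0) [s2870, s2871, s2872, s2873, s2874, s2875, s2876, s2877, s2878, s2879, s2880, s2881, s2882, s2883, s2884, s2885] ct2854_0 v2854_0 4 w2854_0_3 := (Phs.stp c2854_2 p2854_0_1)
theorem p2854_0_5 : Phs s2854 a2854_2 (List.map Prod.fst g2854_0) [s2870, s2871, s2872, s2873, s2874, s2875, s2876, s2877, s2878, s2879, s2880, s2881, s2882, s2883, s2884, s2885] ct2854_0 v2854_0 3 w2854_0_5 := (Phs.stp c2854_3 p2854_0_3)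
theorem p2854_0_7 : Phs s2854 a2854_2 (List.map Prod.fst g2854_0) [s2870, s2871, s2872, s2873, s2874, s2875, s2876, s2877, s2878, s2879, s2880, s2881, s2882, s2883, s2884, s2885] ct2854_0 v2854_0 1 w2854_0_7 := (Phs.stp c2854_4 p2854_0_5)
theorem n2854 : Sound.{u} (cP4) s2854 0 :=
  (x2854_2.ext2 (fun h => absurd h (by decide)) (AuxS.gam x2854_2 c2854_0) (AllS.cons n2870 (AllS.cons n2871 (AllS.cons n2872 (AllS.cons n2873 (AllS.cons n2874 (AllS.cons n2875 (AllS.cons n2876 (AllS.cons n2877 (AllS.cons n2878 (AllS.cons n2879 (AllS.cons n2880 (AllS.cons n2881 (AllS.cons n2882 (AllS.cons n2883 (AllS.cons n2884 (AllS.cons n2885 AllS.nil)))))))))))))))) c2854_6 (Phs.stp c2854_5 p2854_0_7) (Phs.fin (ct := ct2854_0) rfl) :)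
theorem x2902 : AuxS.{u} (cP4) s2902 0 a2902 := aux_base3 tw1188 rfl b2902
theorem n2902 : Sound.{u} (cP4) s2902 0 :=
  (x2902.k4 c2902_0 :)
theorem x2903 : AuxS.{u} (cP4) s2903 0 a2903 := aux_base3 tw1188 rfl b2903
theorem n2903 : Sound.{u} (cP4) s2903 0 :=
  (x2903.k4 c2903_0 :)
theorem x2904 : AuxS.{u} (cP4) s2904 0 a2904 := aux_base3 tw1188 rfl b2904
theorem n2904 : Sound.{u} (cP4) s2904 0 :=
  (x2904.k4 c2904_0 :)
theorem x2905 : AuxS.{u} (cP4) s2905 0 a2905 := aux_base3 tw1188 rfl b2905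
theorem n2905 : Sound.{u} (cP4) s2905 0 :=
  (x2905.k4 c2905_0 :)
theorem x2906 : AuxS.{u} (cP4) s2906 0 a2906 := aux_base3 tw1188 rfl b2906
theorem n2906 : Sound.{u} (cP4) s2906 0 :=
  (x2906.k4 c2906_0 :)
theorem x2907 : AuxS.{u} (cP4) s2907 0 a2907 := aux_base3 tw1188 rfl b2907
theorem n2907 : Sound.{u} (cP4) s2907 0 :=
  (x2907.k4 c2907_0 :)
theorem x2908 : AuxS.{u} (cP4) s2908 0 a2908 := aux_base3 tw1188 rfl b2908
theorem n2908 : Sound.{u} (cP4) s2908 0 :=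
  (x2908.k4 c2908_0 :)
theorem x2909 : AuxS.{u} (cP4) s2909 0 a2909 := aux_base3 tw1188 rfl b2909
theorem n2909 : Sound.{u} (cP4) s2909 0 :=
  (x2909.k4 c2909_0 :)
theorem x2910 : AuxS.{u} (cP4) s2910 0 a2910 := aux_base3 tw1188 rfl b2910
theorem n2910 : Sound.{u} (cP4) s2910 0 :=
  (x2910.k4 c2910_0 :)
theorem x2911 : AuxS.{u} (cP4) s2911 0 a2911 := aux_base3 tw1188 rfl b2911
theorem n2911 : Sound.{u} (cP4) s2911 0 :=
  (x2911.k4 c2911_0 :)
theorem x2912 : AuxS.{u} (cP4) s2912 0 a2912 := aux_base3 tw1188 rfl b2912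
theorem n2912 : Sound.{u} (cP4) s2912 0 :=
  (x2912.k4 c2912_0 :)
theorem x2913 : AuxS.{u} (cP4) s2913 0 a2913 := aux_base3 tw1188 rfl b2913
theorem n2913 : Sound.{u} (cP4) s2913 0 :=
  (x2913.k4 c2913_0 :)
theorem x2914 : AuxS.{u} (cP4) s2914 0 a2914 := aux_base3 tw1188 rfl b2914
theorem n2914 : Sound.{u} (cP4) s2914 0 :=
  (x2914.k4 c2914_0 :)
theorem x2915 : AuxS.{u} (cP4) s2915 0 a2915 := aux_base3 tw1188 rfl b2915
theorem n2915 : Sound.{u} (cP4) s2915 0 :=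
  (x2915.k4 c2915_0 :)
theorem x2916 : AuxS.{u} (cP4) s2916 0 a2916 := aux_base3 tw1188 rfl b2916
theorem n2916 : Sound.{u} (cP4) s2916 0 :=
  (x2916.k4 c2916_0 :)
theorem x2917 : AuxS.{u} (cP4) s2917 0 a2917 := aux_base3 tw1188 rfl b2917
theorem n2917 : Sound.{u} (cP4) s2917 0 :=
  (x2917.k4 c2917_0 :)
theorem x2918 : AuxS.{u} (cP4) s2918 0 a2918 := aux_base3 tw1188 rfl b2918
theorem n2918 : Sound.{u} (cP4) s2918 0 :=
  (x2918.k4 c2918_0 :)
theorem x2919 : AuxS.{u} (cP4) s2919 0 a2919 := aux_base3 tw1188 rfl b2919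
theorem n2919 : Sound.{u} (cP4) s2919 0 :=
  (x2919.k4 c2919_0 :)
theorem x2920 : AuxS.{u} (cP4) s2920 0 a2920 := aux_base3 tw1188 rfl b2920
theorem n2920 : Sound.{u} (cP4) s2920 0 :=
  (x2920.k4 c2920_0 :)
theorem x2921 : AuxS.{u} (cP4) s2921 0 a2921 := aux_base3 tw1188 rfl b2921
theorem n2921 : Sound.{u} (cP4) s2921 0 :=
  (x2921.k4 c2921_0 :)
theorem x2922 : AuxS.{u} (cP4) s2922 0 a2922 := aux_base3 tw1188 rfl b2922
theorem n2922 : Sound.{u} (cP4) s2922 0 :=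
  (x2922.k4 c2922_0 :)
theorem x2923 : AuxS.{u} (cP4) s2923 0 a2923 := aux_base3 tw1188 rfl b2923
theorem n2923 : Sound.{u} (cP4) s2923 0 :=
  (x2923.k4 c2923_0 :)
theorem x2924 : AuxS.{u} (cP4) s2924 0 a2924 := aux_base3 tw1188 rfl b2924
theorem n2924 : Sound.{u} (cP4) s2924 0 :=
  (x2924.k4 c2924_0 :)
theorem x2925 : AuxS.{u} (cP4) s2925 0 a2925 := aux_base3 tw1188 rfl b2925
theorem n2925 : Sound.{u} (cP4) s2925 0 :=
  (x2925.k4 c2925_0 :)
theorem x2926 : AuxS.{u} (cP4) s2926 0 a2926 := aux_base3 tw1188 rfl b2926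
theorem n2926 : Sound.{u} (cP4) s2926 0 :=
  (x2926.k4 c2926_0 :)
theorem x2927 : AuxS.{u} (cP4) s2927 0 a2927 := aux_base3 tw1188 rfl b2927
theorem n2927 : Sound.{u} (cP4) s2927 0 :=
  (x2927.k4 c2927_0 :)
theorem x2928 : AuxS.{u} (cP4) s2928 0 a2928 := aux_base3 tw1188 rfl b2928
theorem n2928 : Sound.{u} (cP4) s2928 0 :=
  (x2928.k4 c2928_0 :)
theorem x2929 : AuxS.{u} (cP4) s2929 0 a2929 := aux_base3 tw1188 rfl b2929
theorem n2929 : Sound.{u} (cP4) s2929 0 :=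
  (x2929.k4 c2929_0 :)
theorem x2935 : AuxS.{u} (cP4) s2935 0 a2935 := aux_base3 tw1204 rfl b2935
theorem x2935_1 : AuxS.{u} (cP4) s2935 0 a2935_1 := x2935
theorem x2935_2 : AuxS.{u} (cP4) s2935 0 a2935_2 := x2935_1
theorem n2935 : Sound.{u} (cP4) s2935 0 :=
  (x2935_2.fr GamS.nil AllS.nil c2935_0 :)
theorem x2936 : AuxS.{u} (cP4) s2936 0 a2936 := aux_base3 tw1205 rfl b2936
theorem x2936_1 : AuxS.{u} (cP4) s2936 0 a2936_1 := x2936
theorem x2936_2 : AuxS.{u} (cP4) s2936 0 a2936_2 := x2936_1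
theorem n2936 : Sound.{u} (cP4) s2936 0 :=
  (x2936_2.fr GamS.nil AllS.nil c2936_0 :)
theorem x2937 : AuxS.{u} (cP4) s2937 0 a2937 := aux_base3 tw1206 rfl b2937
theorem x2937_1 : AuxS.{u} (cP4) s2937 0 a2937_1 := x2937
theorem x2937_2 : AuxS.{u} (cP4) s2937 0 a2937_2 := x2937_1
theorem n2937 : Sound.{u} (cP4) s2937 0 :=
  (x2937_2.fr GamS.nil AllS.nil c2937_0 :)
theorem x2938 : AuxS.{u} (cP4) s2938 0 a2938 := aux_base3 tw1207 rfl b2938
theorem x2938_1 : AuxS.{u} (cP4) s2938 0 a2938_1 := x2938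
theorem x2938_2 : AuxS.{u} (cP4) s2938 0 a2938_2 := x2938_1
theorem n2938 : Sound.{u} (cP4) s2938 0 :=
  (x2938_2.fr GamS.nil AllS.nil c2938_0 :)
theorem x2939 : AuxS.{u} (cP4) s2939 0 a2939 := aux_base3 tw1208 rfl b2939
theorem n2939 : Sound.{u} (cP4) s2939 0 :=
  (x2939.k4 c2939_0 :)
theorem x2940 : AuxS.{u} (cP4) s2940 0 a2940 := aux_base3 tw1209 rfl b2940
theorem n2940 : Sound.{u} (cP4) s2940 0 :=
  (x2940.k4 c2940_0 :)
theorem x2941 : AuxS.{u} (cP4) s2941 0 a2941 := aux_base3 tw1210 rfl b2941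
theorem n2941 : Sound.{u} (cP4) s2941 0 :=
  (x2941.k4 c2941_0 :)
theorem x2942 : AuxS.{u} (cP4) s2942 0 a2942 := aux_base3 tw1211 rfl b2942
theorem n2942 : Sound.{u} (cP4) s2942 0 :=
  (x2942.k4 c2942_0 :)
theorem x2943 : AuxS.{u} (cP4) s2943 0 a2943 := aux_base3 tw1212 rfl b2943
theorem n2943 : Sound.{u} (cP4) s2943 0 :=
  (x2943.k4 c2943_0 :)
theorem x2944 : AuxS.{u} (cP4) s2944 0 a2944 := aux_base3 tw1213 rfl b2944
theorem n2944 : Sound.{u} (cP4) s2944 0 :=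
  (x2944.k4 c2944_0 :)
theorem x2945 : AuxS.{u} (cP4) s2945 0 a2945 := aux_base3 tw1214 rfl b2945
theorem n2945 : Sound.{u} (cP4) s2945 0 :=
  (x2945.k4 c2945_0 :)
theorem x2946 : AuxS.{u} (cP4) s2946 0 a2946 := aux_base3 tw1215 rfl b2946
theorem n2946 : Sound.{u} (cP4) s2946 0 :=
  (x2946.k4 c2946_0 :)
theorem x2947 : AuxS.{u} (cP4) s2947 0 a2947 := aux_base3 tw1216 rfl b2947
theorem n2947 : Sound.{u} (cP4) s2947 0 :=
  (x2947.k4 c2947_0 :)
theorem x2948 : AuxS.{u} (cP4) s2948 0 a2948 := aux_base3 tw1217 rfl b2948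
theorem n2948 : Sound.{u} (cP4) s2948 0 :=
  (x2948.k4 c2948_0 :)
theorem x2949 : AuxS.{u} (cP4) s2949 0 a2949 := aux_base3 tw1218 rfl b2949
theorem n2949 : Sound.{u} (cP4) s2949 0 :=
  (x2949.k4 c2949_0 :)
theorem x2950 : AuxS.{u} (cP4) s2950 0 a2950 := aux_base3 tw1219 rfl b2950
theorem n2950 : Sound.{u} (cP4) s2950 0 :=
  (x2950.k4 c2950_0 :)
theorem x2951 : AuxS.{u} (cP4) s2951 0 a2951 := aux_base3 tw1220 rfl b2951
theorem x2951_1 : AuxS.{u} (cP4) s2951 0 a2951_1 := x2951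
theorem x2951_2 : AuxS.{u} (cP4) s2951 0 a2951_2 := x2951_1
theorem n2951 : Sound.{u} (cP4) s2951 0 :=
  (x2951_2.fr GamS.nil AllS.nil c2951_0 :)
theorem x2952 : AuxS.{u} (cP4) s2952 0 a2952 := aux_base3 tw1221 rfl b2952
theorem x2952_1 : AuxS.{u} (cP4) s2952 0 a2952_1 := x2952
theorem x2952_2 : AuxS.{u} (cP4) s2952 0 a2952_2 := x2952_1
theorem n2952 : Sound.{u} (cP4) s2952 0 :=
  (x2952_2.fr GamS.nil AllS.nil c2952_0 :)
theorem x2953 : AuxS.{u} (cP4) s2953 0 a2953 := aux_base3 tw1222 rfl b2953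
theorem x2953_1 : AuxS.{u} (cP4) s2953 0 a2953_1 := x2953
theorem x2953_2 : AuxS.{u} (cP4) s2953 0 a2953_2 := x2953_1
theorem n2953 : Sound.{u} (cP4) s2953 0 :=
  (x2953_2.fr GamS.nil AllS.nil c2953_0 :)
theorem x2954 : AuxS.{u} (cP4) s2954 0 a2954 := aux_base3 tw1223 rfl b2954
theorem x2954_1 : AuxS.{u} (cP4) s2954 0 a2954_1 := x2954
theorem x2954_2 : AuxS.{u} (cP4) s2954 0 a2954_2 := x2954_1
theorem n2954 : Sound.{u} (cP4) s2954 0 :=
  (x2954_2.fr GamS.nil AllS.nil c2954_0 :)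
theorem x2955 : AuxS.{u} (cP4) s2955 0 a2955 := aux_base3 tw1224 rfl b2955
theorem n2955 : Sound.{u} (cP4) s2955 0 :=
  (x2955.k4 c2955_0 :)
theorem x2956 : AuxS.{u} (cP4) s2956 0 a2956 := aux_base3 tw1225 rfl b2956
theorem n2956 : Sound.{u} (cP4) s2956 0 :=
  (x2956.k4 c2956_0 :)
theorem x2957 : AuxS.{u} (cP4) s2957 0 a2957 := aux_base3 tw1226 rfl b2957
theorem n2957 : Sound.{u} (cP4) s2957 0 :=
  (x2957.k4 c2957_0 :)
theorem x2958 : AuxS.{u} (cP4) s2958 0 a2958 := aux_base3 tw1227 rfl b2958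
theorem n2958 : Sound.{u} (cP4) s2958 0 :=
  (x2958.k4 c2958_0 :)
theorem x2959 : AuxS.{u} (cP4) s2959 0 a2959 := aux_base3 tw1228 rfl b2959
theorem n2959 : Sound.{u} (cP4) s2959 0 :=
  (x2959.k4 c2959_0 :)
theorem x2960 : AuxS.{u} (cP4) s2960 0 a2960 := aux_base3 tw1229 rfl b2960
theorem n2960 : Sound.{u} (cP4) s2960 0 :=
  (x2960.k4 c2960_0 :)
theorem x2961 : AuxS.{u} (cP4) s2961 0 a2961 := aux_base3 tw1230 rfl b2961
theorem n2961 : Sound.{u} (cP4) s2961 0 :=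
  (x2961.k4 c2961_0 :)
theorem x2962 : AuxS.{u} (cP4) s2962 0 a2962 := aux_base3 tw1231 rfl b2962
theorem n2962 : Sound.{u} (cP4) s2962 0 :=
  (x2962.k4 c2962_0 :)
theorem x2963 : AuxS.{u} (cP4) s2963 0 a2963 := aux_base3 tw1232 rfl b2963
theorem n2963 : Sound.{u} (cP4) s2963 0 :=
  (x2963.k4 c2963_0 :)
theorem x2964 : AuxS.{u} (cP4) s2964 0 a2964 := aux_base3 tw1233 rfl b2964
theorem n2964 : Sound.{u} (cP4) s2964 0 :=
  (x2964.k4 c2964_0 :)
theorem x2965 : AuxS.{u} (cP4) s2965 0 a2965 := aux_base3 tw1234 rfl b2965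
theorem n2965 : Sound.{u} (cP4) s2965 0 :=
  (x2965.k4 c2965_0 :)
theorem x2966 : AuxS.{u} (cP4) s2966 0 a2966 := aux_base3 tw1235 rfl b2966
theorem n2966 : Sound.{u} (cP4) s2966 0 :=
  (x2966.k4 c2966_0 :)
theorem x2934 : AuxS.{u} (cP4) s2934 0 a2934 := aux_base3 tw1157 rfl b2934
theorem x2934_1 : AuxS.{u} (cP4) s2934 0 a2934_1 := (AuxS.up x2934 c2934_5 :)
theorem x2934_2 : AuxS.{u} (cP4) s2934 0 a2934_2 := x2934_1
theorem x2934_3 : AuxS.{u} (cP4) s2934 0 a2934_3 := x2934_2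
theorem p2934_0_1 : Phs s2934 a2934_3 [] [s2935, s2936, s2937, s2938, s2939, s2940, s2941, s2942, s2943, s2944, s2945, s2946, s2947, s2948, s2949, s2950, s2951, s2952, s2953, s2954, s2955, s2956, s2957, s2958, s2959, s2960, s2961, s2962, s2963, s2964, s2965, s2966] ct2934_0 v2934_0 5 w2934_0_1 := (Phs.fin c2934_0)
theorem p2934_0_3 : Phs s2934 a2934_3 [] [s2935, s2936, s2937, s2938, s2939, s2940, s2941, s2942, s2943, s2944, s2945, s2946, s2947, s2948, s2949, s2950, s2951, s2952, s2953, s2954, s2955, s2956, s2957, s2958, s2959, s2960, s2961, s2962, s2963, s2964, s2965, s2966] ct2934_0 v2934_0 4 w2934_0_3 := (Phs.stp c2934_1 p2934_0_1)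
theorem p2934_0_5 : Phs s2934 a2934_3 [] [s2935, s2936, s2937, s2938, s2939, s2940, s2941, s2942, s2943, s2944, s2945, s2946, s2947, s2948, s2949, s2950, s2951, s2952, s2953, s2954, s2955, s2956, s2957, s2958, s2959, s2960, s2961, s2962, s2963, s2964, s2965, s2966] ct2934_0 v2934_0 1 w2934_0_5 := (Phs.stp c2934_2 p2934_0_3)
theorem n2934 : Sound.{u} (cP4) s2934 0 :=
  (x2934_3.ext2 (fun h => absurd h (by decide)) GamS.nil (AllS.cons n2935 (AllS.cons n2936 (AllS.cons n2937 (AllS.cons n2938 (AllS.cons n2939 (AllS.cons n2940 (AllS.cons n2941 (AllS.cons n2942 (AllS.cons n2943 (AllS.cons n2944 (AllS.cons n2945 (AllS.cons n2946 (AllS.cons n2947 (AllS.cons n2948 (AllS.cons n2949 (AllS.cons n2950 (AllS.cons n2951 (AllS.cons n2952 (AllS.cons n2953 (AllS.cons n2954 (AllS.cons n2955 (AllS.cons n2956 (AllS.cons n2957 (AllS.cons n2958 (AllS.cons n2959 (AllS.cons n2960 (AllS.cons n2961 (AllS.cons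 n2962 (AllS.cons n2963 (AllS.cons n2964 (AllS.cons n2965 (AllS.cons n2966 AllS.nil)))))))))))))))))))))))))))))))) c2934_4 (Phs.stp c2934_3 p2934_0_5) (Phs.fin (ct := ct2934_0) rfl) :)
theorem x2930 : AuxS.{u} (cP4) s2930 0 a2930 := aux_base3 tw1188 rfl b2930
theorem x2930_1 : AuxS.{u} (cP4) s2930 0 a2930_1 := x2930
theorem x2930_2 : AuxS.{u} (cP4) s2930 0 a2930_2 := x2930_1
theorem n2930 : Sound.{u} (cP4) s2930 0 :=
  (x2930_2.jump c2930_0 c2930_1 n2934 :)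
theorem x2931 : AuxS.{u} (cP4) s2931 0 a2931 := aux_base3 tw1188 rfl b2931
theorem n2931 : Sound.{u} (cP4) s2931 0 :=
  (x2931.k4 c2931_0 :)
theorem x2932 : AuxS.{u} (cP4) s2932 0 a2932 := aux_base3 tw1188 rfl b2932
theorem n2932 : Sound.{u} (cP4) s2932 0 :=
  (x2932.k4 c2932_0 :)
theorem x2933 : AuxS.{u} (cP4) s2933 0 a2933 := aux_base3 tw1188 rfl b2933
theorem n2933 : Sound.{u} (cP4) s2933 0 :=
  (x2933.k4 c2933_0 :)
theorem x2886 : AuxS.{u} (cP4) s2886 0 a2886 := aux_base3 tw1188 rfl b2886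
theorem x2886_1 : AuxS.{u} (cP4) s2886 0 a2886_1 := x2886
theorem x2886_2 : AuxS.{u} (cP4) s2886 0 a2886_2 := x2886_1
theorem n2886 : Sound.{u} (cP4) s2886 0 :=
  (x2886_2.fr (AuxS.gam x2886_2 c2886_0) (AllS.cons n2902 (AllS.cons n2903 (AllS.cons n2904 (AllS.cons n2905 (AllS.cons n2906 (AllS.cons n2907 (AllS.cons n2908 (AllS.cons n2909 (AllS.cons n2910 (AllS.cons n2911 (AllS.cons n2912 (AllS.cons n2913 (AllS.cons n2914 (AllS.cons n2915 (AllS.cons n2916 (AllS.cons n2917 (AllS.cons n2918 (AllS.cons n2919 (AllS.cons n2920 (AllS.cons n2921 (AllS.cons n2922 (AllS.cons n2923 (AllS.cons n2924 (AllS.cons n2925 (AllS.cons n2926 (AllS.cons n2927 (AllS.cons n2928 (AllS.cons n2929 (AllS.cons n2930 (AllS.cons n2931 (AllS.cons n2932 (AllS.cons n2933 AllS.nil)))))))))))))))))))))))))))))))) c2886_1 :)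
theorem x2887 : AuxS.{u} (cP4) s2887 0 a2887 := aux_base3 tw1189 rfl b2887
theorem x2887_1 : AuxS.{u} (cP4) s2887 0 a2887_1 := x2887
theorem x2887_2 : AuxS.{u} (cP4) s2887 0 a2887_2 := x2887_1
theorem n2887 : Sound.{u} (cP4) s2887 0 :=
  (x2887_2.fr GamS.nil AllS.nil c2887_0 :)
theorem x2888 : AuxS.{u} (cP4) s2888 0 a2888 := aux_base3 tw1190 rfl b2888
theorem x2888_1 : AuxS.{u} (cP4) s2888 0 a2888_1 := x2888
theorem x2888_2 : AuxS.{u} (cP4) s2888 0 a2888_2 := x2888_1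
theorem n2888 : Sound.{u} (cP4) s2888 0 :=
  (x2888_2.fr GamS.nil AllS.nil c2888_0 :)
theorem x2889 : AuxS.{u} (cP4) s2889 0 a2889 := aux_base3 tw1191 rfl b2889
theorem x2889_1 : AuxS.{u} (cP4) s2889 0 a2889_1 := x2889
theorem x2889_2 : AuxS.{u} (cP4) s2889 0 a2889_2 := x2889_1
theorem n2889 : Sound.{u} (cP4) s2889 0 :=
  (x2889_2.fr GamS.nil AllS.nil c2889_0 :)
theorem x2890 : AuxS.{u} (cP4) s2890 0 a2890 := aux_base3 tw1192 rfl b2890
theorem x2890_1 : AuxS.{u} (cP4) s2890 0 a2890_1 := x2890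
theorem x2890_2 : AuxS.{u} (cP4) s2890 0 a2890_2 := x2890_1
theorem n2890 : Sound.{u} (cP4) s2890 0 :=
  (x2890_2.fr GamS.nil AllS.nil c2890_0 :)
theorem x2891 : AuxS.{u} (cP4) s2891 0 a2891 := aux_base3 tw1193 rfl b2891
theorem x2891_1 : AuxS.{u} (cP4) s2891 0 a2891_1 := x2891
theorem x2891_2 : AuxS.{u} (cP4) s2891 0 a2891_2 := x2891_1
theorem n2891 : Sound.{u} (cP4) s2891 0 :=
  (x2891_2.fr GamS.nil AllS.nil c2891_0 :)
theorem x2892 : AuxS.{u} (cP4) s2892 0 a2892 := aux_base3 tw1194 rfl b2892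
theorem x2892_1 : AuxS.{u} (cP4) s2892 0 a2892_1 := x2892
theorem x2892_2 : AuxS.{u} (cP4) s2892 0 a2892_2 := x2892_1
theorem n2892 : Sound.{u} (cP4) s2892 0 :=
  (x2892_2.fr GamS.nil AllS.nil c2892_0 :)
theorem x2893 : AuxS.{u} (cP4) s2893 0 a2893 := aux_base3 tw1195 rfl b2893
theorem x2893_1 : AuxS.{u} (cP4) s2893 0 a2893_1 := x2893
theorem x2893_2 : AuxS.{u} (cP4) s2893 0 a2893_2 := x2893_1
theorem n2893 : Sound.{u} (cP4) s2893 0 :=
  (x2893_2.fr GamS.nil AllS.nil c2893_0 :)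
theorem x2894 : AuxS.{u} (cP4) s2894 0 a2894 := aux_base3 tw1196 rfl b2894
theorem x2894_1 : AuxS.{u} (cP4) s2894 0 a2894_1 := x2894
theorem x2894_2 : AuxS.{u} (cP4) s2894 0 a2894_2 := x2894_1
theorem n2894 : Sound.{u} (cP4) s2894 0 :=
  (x2894_2.fr GamS.nil AllS.nil c2894_0 :)
theorem x2895 : AuxS.{u} (cP4) s2895 0 a2895 := aux_base3 tw1197 rfl b2895
theorem x2895_1 : AuxS.{u} (cP4) s2895 0 a2895_1 := x2895
theorem x2895_2 : AuxS.{u} (cP4) s2895 0 a2895_2 := x2895_1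
theorem n2895 : Sound.{u} (cP4) s2895 0 :=
  (x2895_2.fr GamS.nil AllS.nil c2895_0 :)
theorem x2896 : AuxS.{u} (cP4) s2896 0 a2896 := aux_base3 tw1198 rfl b2896
theorem x2896_1 : AuxS.{u} (cP4) s2896 0 a2896_1 := x2896
theorem x2896_2 : AuxS.{u} (cP4) s2896 0 a2896_2 := x2896_1
theorem n2896 : Sound.{u} (cP4) s2896 0 :=
  (x2896_2.fr GamS.nil AllS.nil c2896_0 :)
theorem x2897 : AuxS.{u} (cP4) s2897 0 a2897 := aux_base3 tw1199 rfl b2897
theorem x2897_1 : AuxS.{u} (cP4) s2897 0 a2897_1 := x2897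
theorem x2897_2 : AuxS.{u} (cP4) s2897 0 a2897_2 := x2897_1
theorem n2897 : Sound.{u} (cP4) s2897 0 :=
  (x2897_2.fr GamS.nil AllS.nil c2897_0 :)
theorem x2898 : AuxS.{u} (cP4) s2898 0 a2898 := aux_base3 tw1200 rfl b2898
theorem x2898_1 : AuxS.{u} (cP4) s2898 0 a2898_1 := x2898
theorem x2898_2 : AuxS.{u} (cP4) s2898 0 a2898_2 := x2898_1
theorem n2898 : Sound.{u} (cP4) s2898 0 :=
  (x2898_2.fr GamS.nil AllS.nil c2898_0 :)
theorem x2899 : AuxS.{u} (cP4) s2899 0 a2899 := aux_base3 tw1201 rfl b2899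
theorem x2899_1 : AuxS.{u} (cP4) s2899 0 a2899_1 := x2899
theorem x2899_2 : AuxS.{u} (cP4) s2899 0 a2899_2 := x2899_1
theorem n2899 : Sound.{u} (cP4) s2899 0 :=
  (x2899_2.fr GamS.nil AllS.nil c2899_0 :)
theorem x2900 : AuxS.{u} (cP4) s2900 0 a2900 := aux_base3 tw1202 rfl b2900
theorem x2900_1 : AuxS.{u} (cP4) s2900 0 a2900_1 := x2900
theorem x2900_2 : AuxS.{u} (cP4) s2900 0 a2900_2 := x2900_1
theorem n2900 : Sound.{u} (cP4) s2900 0 :=
  (x2900_2.fr GamS.nil AllS.nil c2900_0 :)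
theorem x2901 : AuxS.{u} (cP4) s2901 0 a2901 := aux_base3 tw1203 rfl b2901
theorem x2901_1 : AuxS.{u} (cP4) s2901 0 a2901_1 := x2901
theorem x2901_2 : AuxS.{u} (cP4) s2901 0 a2901_2 := x2901_1
theorem n2901 : Sound.{u} (cP4) s2901 0 :=
  (x2901_2.fr GamS.nil AllS.nil c2901_0 :)
theorem x2855 : AuxS.{u} (cP4) s2855 0 a2855 := aux_base3 tw1157 rfl b2855
theorem x2855_1 : AuxS.{u} (cP4) s2855 0 a2855_1 := (AuxS.up x2855 c2855_7 :)
theorem x2855_2 : AuxS.{u} (cP4) s2855 0 a2855_2 := x2855_1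
theorem p2855_0_1 : Phs s2855 a2855_2 (List.map Prod.fst g2855_0) [s2886, s2887, s2888, s2889, s2890, s2891, s2892, s2893, s2894, s2895, s2896, s2897, s2898, s2899, s2900, s2901] ct2855_0 v2855_0 5 w2855_0_1 := (Phs.fin c2855_1)
theorem p2855_0_3 : Phs s2855 a2855_2 (List.map Prod.fst g2855_0) [s2886, s2887, s2888, s2889, s2890, s2891, s2892, s2893, s2894, s2895, s2896, s2897, s2898, s2899, s2900, s2901] ct2855_0 v2855_0 4 w2855_0_3 := (Phs.stp c2855_2 p2855_0_1)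
theorem p2855_0_5 : Phs s2855 a2855_2 (List.map Prod.fst g2855_0) [s2886, s2887, s2888, s2889, s2890, s2891, s2892, s2893, s2894, s2895, s2896, s2897, s2898, s2899, s2900, s2901] ct2855_0 v2855_0 3 w2855_0_5 := (Phs.stp c2855_3 p2855_0_3)
theorem p2855_0_7 : Phs s2855 a2855_2 (List.map Prod.fst g2855_0) [s2886, s2887, s2888, s2889, s2890, s2891, s2892, s2893, s2894, s2895, s2896, s2897, s2898, s2899, s2900, s2901] ct2855_0 v2855_0 1 w2855_0_7 := (Phs.stp c2855_4 p2855_0_5)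
theorem n2855 : Sound.{u} (cP4) s2855 0 :=
  (x2855_2.ext2 (fun h => absurd h (by decide)) (AuxS.gam x2855_2 c2855_0) (AllS.cons n2886 (AllS.cons n2887 (AllS.cons n2888 (AllS.cons n2889 (AllS.cons n2890 (AllS.cons n2891 (AllS.cons n2892 (AllS.cons n2893 (AllS.cons n2894 (AllS.cons n2895 (AllS.cons n2896 (AllS.cons n2897 (AllS.cons n2898 (AllS.cons n2899 (AllS.cons n2900 (AllS.cons n2901 AllS.nil)))))))))))))))) c2855_6 (Phs.stp c2855_5 p2855_0_7) (Phs.fin (ct := ct2855_0) rfl) :)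
theorem x2856 : AuxS.{u} (cP4) s2856 0 a2856 := aux_base3 tw1158 rfl b2856
theorem x2856_1 : AuxS.{u} (cP4) s2856 0 a2856_1 := (AuxS.up x2856 c2856_1 :)
theorem n2856 : Sound.{u} (cP4) s2856 0 :=
  (x2856_1.k7 c2856_0 :)
theorem x2857 : AuxS.{u} (cP4) s2857 0 a2857 := aux_base3 tw1159 rfl b2857
theorem x2857_1 : AuxS.{u} (cP4) s2857 0 a2857_1 := (AuxS.up x2857 c2857_1 :)
theorem n2857 : Sound.{u} (cP4) s2857 0 :=
  (x2857_1.k7 c2857_0 :)
theorem x3016 : AuxS.{u} (cP4) s3016 0 a3016 := aux_base3 tw1252 rfl b3016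
theorem x3016_1 : AuxS.{u} (cP4) s3016 0 a3016_1 := x3016
theorem n3016 : Sound.{u} (cP4) s3016 0 :=
  (x3016_1.fr GamS.nil AllS.nil c3016_0 :)
theorem x3017 : AuxS.{u} (cP4) s3017 0 a3017 := aux_base3 tw1253 rfl b3017
theorem x3017_1 : AuxS.{u} (cP4) s3017 0 a3017_1 := x3017
theorem n3017 : Sound.{u} (cP4) s3017 0 :=
  (x3017_1.fr GamS.nil AllS.nil c3017_0 :)
theorem x3018 : AuxS.{u} (cP4) s3018 0 a3018 := aux_base3 tw1254 rfl b3018
theorem x3018_1 : AuxS.{u} (cP4) s3018 0 a3018_1 := x3018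
theorem n3018 : Sound.{u} (cP4) s3018 0 :=
  (x3018_1.fr GamS.nil AllS.nil c3018_0 :)
theorem x3019 : AuxS.{u} (cP4) s3019 0 a3019 := aux_base3 tw1255 rfl b3019
theorem x3019_1 : AuxS.{u} (cP4) s3019 0 a3019_1 := x3019
theorem n3019 : Sound.{u} (cP4) s3019 0 :=
  (x3019_1.fr GamS.nil AllS.nil c3019_0 :)
theorem x3020 : AuxS.{u} (cP4) s3020 0 a3020 := aux_base3 tw1256 rfl b3020
theorem x3020_1 : AuxS.{u} (cP4) s3020 0 a3020_1 := x3020
theorem x3020_2 : AuxS.{u} (cP4) s3020 0 a3020_2 := x3020_1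
theorem n3020 : Sound.{u} (cP4) s3020 0 :=
  (x3020_2.fr GamS.nil AllS.nil c3020_0 :)
theorem x3021 : AuxS.{u} (cP4) s3021 0 a3021 := aux_base3 tw1257 rfl b3021
theorem x3021_1 : AuxS.{u} (cP4) s3021 0 a3021_1 := x3021
theorem x3021_2 : AuxS.{u} (cP4) s3021 0 a3021_2 := x3021_1
theorem n3021 : Sound.{u} (cP4) s3021 0 :=
  (x3021_2.fr GamS.nil AllS.nil c3021_0 :)
theorem x3022 : AuxS.{u} (cP4) s3022 0 a3022 := aux_base3 tw1258 rfl b3022
theorem x3022_1 : AuxS.{u} (cP4) s3022 0 a3022_1 := x3022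
theorem n3022 : Sound.{u} (cP4) s3022 0 :=
  (x3022_1.fr GamS.nil AllS.nil c3022_0 :)
theorem x3023 : AuxS.{u} (cP4) s3023 0 a3023 := aux_base3 tw1259 rfl b3023
theorem x3023_1 : AuxS.{u} (cP4) s3023 0 a3023_1 := x3023
theorem n3023 : Sound.{u} (cP4) s3023 0 :=
  (x3023_1.fr GamS.nil AllS.nil c3023_0 :)
theorem x3024 : AuxS.{u} (cP4) s3024 0 a3024 := aux_base3 tw1260 rfl b3024
theorem x3024_1 : AuxS.{u} (cP4) s3024 0 a3024_1 := x3024
theorem x3024_2 : AuxS.{u} (cP4) s3024 0 a3024_2 := x3024_1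
theorem n3024 : Sound.{u} (cP4) s3024 0 :=
  (x3024_2.fr GamS.nil AllS.nil c3024_0 :)
theorem x3025 : AuxS.{u} (cP4) s3025 0 a3025 := aux_base3 tw1261 rfl b3025
theorem x3025_1 : AuxS.{u} (cP4) s3025 0 a3025_1 := x3025
theorem n3025 : Sound.{u} (cP4) s3025 0 :=
  (x3025_1.fr GamS.nil AllS.nil c3025_0 :)
theorem x3026 : AuxS.{u} (cP4) s3026 0 a3026 := aux_base3 tw1262 rfl b3026
theorem x3026_1 : AuxS.{u} (cP4) s3026 0 a3026_1 := x3026
theorem n3026 : Sound.{u} (cP4) s3026 0 :=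
  (x3026_1.fr GamS.nil AllS.nil c3026_0 :)
theorem x3027 : AuxS.{u} (cP4) s3027 0 a3027 := aux_base3 tw1263 rfl b3027
theorem x3027_1 : AuxS.{u} (cP4) s3027 0 a3027_1 := x3027
theorem x3027_2 : AuxS.{u} (cP4) s3027 0 a3027_2 := x3027_1
theorem n3027 : Sound.{u} (cP4) s3027 0 :=
  (x3027_2.fr GamS.nil AllS.nil c3027_0 :)
theorem x3028 : AuxS.{u} (cP4) s3028 0 a3028 := aux_base3 tw1264 rfl b3028
theorem x3028_1 : AuxS.{u} (cP4) s3028 0 a3028_1 := x3028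
theorem x3028_2 : AuxS.{u} (cP4) s3028 0 a3028_2 := x3028_1
theorem n3028 : Sound.{u} (cP4) s3028 0 :=
  (x3028_2.fr GamS.nil AllS.nil c3028_0 :)
theorem x3029 : AuxS.{u} (cP4) s3029 0 a3029 := aux_base3 tw1265 rfl b3029
theorem x3029_1 : AuxS.{u} (cP4) s3029 0 a3029_1 := x3029
theorem n3029 : Sound.{u} (cP4) s3029 0 :=
  (x3029_1.fr GamS.nil AllS.nil c3029_0 :)
theorem x3030 : AuxS.{u} (cP4) s3030 0 a3030 := aux_base3 tw1266 rfl b3030
theorem x3030_1 : AuxS.{u} (cP4) s3030 0 a3030_1 := x3030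
theorem n3030 : Sound.{u} (cP4) s3030 0 :=
  (x3030_1.fr GamS.nil AllS.nil c3030_0 :)
theorem x3031 : AuxS.{u} (cP4) s3031 0 a3031 := aux_base3 tw1267 rfl b3031
theorem x3031_1 : AuxS.{u} (cP4) s3031 0 a3031_1 := x3031
theorem n3031 : Sound.{u} (cP4) s3031 0 :=
  (x3031_1.fr GamS.nil AllS.nil c3031_0 :)
theorem x3032 : AuxS.{u} (cP4) s3032 0 a3032 := aux_base3 tw1268 rfl b3032
theorem x3032_1 : AuxS.{u} (cP4) s3032 0 a3032_1 := x3032
theorem n3032 : Sound.{u} (cP4) s3032 0 :=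
  (x3032_1.fr GamS.nil AllS.nil c3032_0 :)
theorem x3033 : AuxS.{u} (cP4) s3033 0 a3033 := aux_base3 tw1269 rfl b3033
theorem x3033_1 : AuxS.{u} (cP4) s3033 0 a3033_1 := x3033
theorem n3033 : Sound.{u} (cP4) s3033 0 :=
  (x3033_1.fr GamS.nil AllS.nil c3033_0 :)
theorem x3034 : AuxS.{u} (cP4) s3034 0 a3034 := aux_base3 tw1270 rfl b3034
theorem x3034_1 : AuxS.{u} (cP4) s3034 0 a3034_1 := x3034
theorem n3034 : Sound.{u} (cP4) s3034 0 :=
  (x3034_1.fr GamS.nil AllS.nil c3034_0 :)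
theorem x3035 : AuxS.{u} (cP4) s3035 0 a3035 := aux_base3 tw1271 rfl b3035
theorem x3035_1 : AuxS.{u} (cP4) s3035 0 a3035_1 := x3035
theorem n3035 : Sound.{u} (cP4) s3035 0 :=
  (x3035_1.fr GamS.nil AllS.nil c3035_0 :)
theorem x3036 : AuxS.{u} (cP4) s3036 0 a3036 := aux_base3 tw1272 rfl b3036
theorem x3036_1 : AuxS.{u} (cP4) s3036 0 a3036_1 := x3036
theorem x3036_2 : AuxS.{u} (cP4) s3036 0 a3036_2 := x3036_1
theorem n3036 : Sound.{u} (cP4) s3036 0 :=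
  (x3036_2.fr GamS.nil AllS.nil c3036_0 :)
theorem x3037 : AuxS.{u} (cP4) s3037 0 a3037 := aux_base3 tw1273 rfl b3037
theorem x3037_1 : AuxS.{u} (cP4) s3037 0 a3037_1 := x3037
theorem x3037_2 : AuxS.{u} (cP4) s3037 0 a3037_2 := x3037_1
theorem n3037 : Sound.{u} (cP4) s3037 0 :=
  (x3037_2.fr GamS.nil AllS.nil c3037_0 :)
theorem x3038 : AuxS.{u} (cP4) s3038 0 a3038 := aux_base3 tw1274 rfl b3038
theorem x3038_1 : AuxS.{u} (cP4) s3038 0 a3038_1 := x3038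
theorem n3038 : Sound.{u} (cP4) s3038 0 :=
  (x3038_1.fr GamS.nil AllS.nil c3038_0 :)
theorem x3039 : AuxS.{u} (cP4) s3039 0 a3039 := aux_base3 tw1275 rfl b3039
theorem x3039_1 : AuxS.{u} (cP4) s3039 0 a3039_1 := x3039
theorem n3039 : Sound.{u} (cP4) s3039 0 :=
  (x3039_1.fr GamS.nil AllS.nil c3039_0 :)
theorem x3040 : AuxS.{u} (cP4) s3040 0 a3040 := aux_base3 tw1276 rfl b3040
theorem x3040_1 : AuxS.{u} (cP4) s3040 0 a3040_1 := x3040
theorem x3040_2 : AuxS.{u} (cP4) s3040 0 a3040_2 := x3040_1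
theorem n3040 : Sound.{u} (cP4) s3040 0 :=
  (x3040_2.fr GamS.nil AllS.nil c3040_0 :)
theorem x3041 : AuxS.{u} (cP4) s3041 0 a3041 := aux_base3 tw1277 rfl b3041
theorem x3041_1 : AuxS.{u} (cP4) s3041 0 a3041_1 := x3041
theorem n3041 : Sound.{u} (cP4) s3041 0 :=
  (x3041_1.fr GamS.nil AllS.nil c3041_0 :)
theorem x3042 : AuxS.{u} (cP4) s3042 0 a3042 := aux_base3 tw1278 rfl b3042
theorem x3042_1 : AuxS.{u} (cP4) s3042 0 a3042_1 := x3042
theorem n3042 : Sound.{u} (cP4) s3042 0 :=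
  (x3042_1.fr GamS.nil AllS.nil c3042_0 :)
theorem x3043 : AuxS.{u} (cP4) s3043 0 a3043 := aux_base3 tw1279 rfl b3043
theorem x3043_1 : AuxS.{u} (cP4) s3043 0 a3043_1 := x3043
theorem x3043_2 : AuxS.{u} (cP4) s3043 0 a3043_2 := x3043_1
theorem n3043 : Sound.{u} (cP4) s3043 0 :=
  (x3043_2.fr GamS.nil AllS.nil c3043_0 :)
theorem x3044 : AuxS.{u} (cP4) s3044 0 a3044 := aux_base3 tw1280 rfl b3044
theorem x3044_1 : AuxS.{u} (cP4) s3044 0 a3044_1 := x3044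
theorem x3044_2 : AuxS.{u} (cP4) s3044 0 a3044_2 := x3044_1
theorem n3044 : Sound.{u} (cP4) s3044 0 :=
  (x3044_2.fr GamS.nil AllS.nil c3044_0 :)
theorem x3045 : AuxS.{u} (cP4) s3045 0 a3045 := aux_base3 tw1281 rfl b3045
theorem x3045_1 : AuxS.{u} (cP4) s3045 0 a3045_1 := x3045
theorem n3045 : Sound.{u} (cP4) s3045 0 :=
  (x3045_1.fr GamS.nil AllS.nil c3045_0 :)
theorem x3046 : AuxS.{u} (cP4) s3046 0 a3046 := aux_base3 tw1282 rfl b3046
theorem x3046_1 : AuxS.{u} (cP4) s3046 0 a3046_1 := x3046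
theorem n3046 : Sound.{u} (cP4) s3046 0 :=
  (x3046_1.fr GamS.nil AllS.nil c3046_0 :)
theorem x3047 : AuxS.{u} (cP4) s3047 0 a3047 := aux_base3 tw1283 rfl b3047
theorem x3047_1 : AuxS.{u} (cP4) s3047 0 a3047_1 := x3047
theorem n3047 : Sound.{u} (cP4) s3047 0 :=
  (x3047_1.fr GamS.nil AllS.nil c3047_0 :)
theorem x3015 : AuxS.{u} (cP4) s3015 0 a3015 := aux_base3 tw1160 rfl b3015
theorem x3015_1 : AuxS.{u} (cP4) s3015 0 a3015_1 := (AuxS.up x3015 c3015_5 :)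
theorem p3015_0_1 : Phs s3015 a3015_1 [] [s3016, s3017, s3018, s3019, s3020, s3021, s3022, s3023, s3024, s3025, s3026, s3027, s3028, s3029, s3030, s3031, s3032, s3033, s3034, s3035, s3036, s3037, s3038, s3039, s3040, s3041, s3042, s3043, s3044, s3045, s3046, s3047] ct3015_0 v3015_0 5 w3015_0_1 := (Phs.fin c3015_0)
theorem p3015_0_3 : Phs s3015 a3015_1 [] [s3016, s3017, s3018, s3019, s3020, s3021, s3022, s3023, s3024, s3025, s3026, s3027, s3028, s3029, s3030, s3031, s3032, s3033, s3034, s3035, s3036, s3037, s3038, s3039, s3040, s3041, s3042, s3043, s3044, s3045, s3046, s3047] ct3015_0 v3015_0 4 w3015_0_3 := (Phs.stp c3015_1 p3015_0_1)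
theorem p3015_0_5 : Phs s3015 a3015_1 [] [s3016, s3017, s3018, s3019, s3020, s3021, s3022, s3023, s3024, s3025, s3026, s3027, s3028, s3029, s3030, s3031, s3032, s3033, s3034, s3035, s3036, s3037, s3038, s3039, s3040, s3041, s3042, s3043, s3044, s3045, s3046, s3047] ct3015_0 v3015_0 1 w3015_0_5 := (Phs.stp c3015_2 p3015_0_3)
theorem n3015 : Sound.{u} (cP4) s3015 0 :=
  (x3015_1.ext2 (fun h => absurd h (by decide)) GamS.nil (AllS.cons n3016 (AllS.cons n3017 (AllS.cons n3018 (AllS.cons n3019 (AllS.cons n3020 (AllS.cons n3021 (AllS.cons n3022 (AllS.cons n3023 (AllS.cons n3024 (AllS.cons n3025 (AllS.cons n3026 (AllS.cons n3027 (AllS.cons n3028 (AllS.cons n3029 (AllS.cons n3030 (AllS.cons n3031 (AllS.cons n3032 (AllS.cons n3033 (AllS.cons n3034 (AllS.cons n3035 (AllS.cons n3036 (AllS.cons n3037 (AllS.cons n3038 (AllS.cons n3039 (AllS.cons n3040 (AllS.cons n3041 (AllS.cons n3042 (AllS.cons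 n3043 (AllS.cons n3044 (AllS.cons n3045 (AllS.cons n3046 (AllS.cons n3047 AllS.nil)))))))))))))))))))))))))))))))) c3015_4 (Phs.stp c3015_3 p3015_0_5) (Phs.fin (ct := ct3015_0) rfl) :)
theorem x2983 : AuxS.{u} (cP4) s2983 0 a2983 := aux_base3 tw1236 rfl b2983
theorem x2983_1 : AuxS.{u} (cP4) s2983 0 a2983_1 := x2983
theorem n2983 : Sound.{u} (cP4) s2983 0 :=
  (x2983_1.jump c2983_0 c2983_1 n3015 :)
theorem x2984 : AuxS.{u} (cP4) s2984 0 a2984 := aux_base3 tw1236 rfl b2984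
theorem n2984 : Sound.{u} (cP4) s2984 0 :=
  (x2984.k4 c2984_0 :)
theorem x2985 : AuxS.{u} (cP4) s2985 0 a2985 := aux_base3 tw1236 rfl b2985
theorem n2985 : Sound.{u} (cP4) s2985 0 :=
  (x2985.k4 c2985_0 :)
theorem x2986 : AuxS.{u} (cP4) s2986 0 a2986 := aux_base3 tw1236 rfl b2986
theorem n2986 : Sound.{u} (cP4) s2986 0 :=
  (x2986.k4 c2986_0 :)
theorem x2987 : AuxS.{u} (cP4) s2987 0 a2987 := aux_base3 tw1236 rfl b2987
theorem n2987 : Sound.{u} (cP4) s2987 0 :=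
  (x2987.k4 c2987_0 :)
theorem x2988 : AuxS.{u} (cP4) s2988 0 a2988 := aux_base3 tw1236 rfl b2988
theorem n2988 : Sound.{u} (cP4) s2988 0 :=
  (x2988.k4 c2988_0 :)
theorem x2989 : AuxS.{u} (cP4) s2989 0 a2989 := aux_base3 tw1236 rfl b2989
theorem n2989 : Sound.{u} (cP4) s2989 0 :=
  (x2989.k4 c2989_0 :)
theorem x2990 : AuxS.{u} (cP4) s2990 0 a2990 := aux_base3 tw1236 rfl b2990
theorem n2990 : Sound.{u} (cP4) s2990 0 :=
  (x2990.k4 c2990_0 :)
theorem x2991 : AuxS.{u} (cP4) s2991 0 a2991 := aux_base3 tw1236 rfl b2991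
theorem n2991 : Sound.{u} (cP4) s2991 0 :=
  (x2991.k4 c2991_0 :)
theorem x2992 : AuxS.{u} (cP4) s2992 0 a2992 := aux_base3 tw1236 rfl b2992
theorem n2992 : Sound.{u} (cP4) s2992 0 :=
  (x2992.k4 c2992_0 :)
theorem x2993 : AuxS.{u} (cP4) s2993 0 a2993 := aux_base3 tw1236 rfl b2993
theorem n2993 : Sound.{u} (cP4) s2993 0 :=
  (x2993.k4 c2993_0 :)
theorem x2994 : AuxS.{u} (cP4) s2994 0 a2994 := aux_base3 tw1236 rfl b2994
theorem n2994 : Sound.{u} (cP4) s2994 0 :=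
  (x2994.k4 c2994_0 :)
theorem x2995 : AuxS.{u} (cP4) s2995 0 a2995 := aux_base3 tw1236 rfl b2995
theorem n2995 : Sound.{u} (cP4) s2995 0 :=
  (x2995.k4 c2995_0 :)
theorem x2996 : AuxS.{u} (cP4) s2996 0 a2996 := aux_base3 tw1236 rfl b2996
theorem n2996 : Sound.{u} (cP4) s2996 0 :=
  (x2996.k4 c2996_0 :)
theorem x2997 : AuxS.{u} (cP4) s2997 0 a2997 := aux_base3 tw1236 rfl b2997
theorem n2997 : Sound.{u} (cP4) s2997 0 :=
  (x2997.k4 c2997_0 :)
theorem x2998 : AuxS.{u} (cP4) s2998 0 a2998 := aux_base3 tw1236 rfl b2998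
theorem n2998 : Sound.{u} (cP4) s2998 0 :=
  (x2998.k4 c2998_0 :)
theorem x2999 : AuxS.{u} (cP4) s2999 0 a2999 := aux_base3 tw1236 rfl b2999
theorem n2999 : Sound.{u} (cP4) s2999 0 :=
  (x2999.k4 c2999_0 :)
theorem x3000 : AuxS.{u} (cP4) s3000 0 a3000 := aux_base3 tw1236 rfl b3000
theorem n3000 : Sound.{u} (cP4) s3000 0 :=
  (x3000.k4 c3000_0 :)
theorem x3001 : AuxS.{u} (cP4) s3001 0 a3001 := aux_base3 tw1236 rfl b3001
theorem n3001 : Sound.{u} (cP4) s3001 0 :=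
  (x3001.k4 c3001_0 :)
theorem x3002 : AuxS.{u} (cP4) s3002 0 a3002 := aux_base3 tw1236 rfl b3002
theorem n3002 : Sound.{u} (cP4) s3002 0 :=
  (x3002.k4 c3002_0 :)
theorem x3003 : AuxS.{u} (cP4) s3003 0 a3003 := aux_base3 tw1236 rfl b3003
theorem n3003 : Sound.{u} (cP4) s3003 0 :=
  (x3003.k4 c3003_0 :)
theorem x3004 : AuxS.{u} (cP4) s3004 0 a3004 := aux_base3 tw1236 rfl b3004
theorem n3004 : Sound.{u} (cP4) s3004 0 :=
  (x3004.k4 c3004_0 :)
theorem x3005 : AuxS.{u} (cP4) s3005 0 a3005 := aux_base3 tw1236 rfl b3005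
theorem n3005 : Sound.{u} (cP4) s3005 0 :=
  (x3005.k4 c3005_0 :)
theorem x3006 : AuxS.{u} (cP4) s3006 0 a3006 := aux_base3 tw1236 rfl b3006
theorem n3006 : Sound.{u} (cP4) s3006 0 :=
  (x3006.k4 c3006_0 :)
theorem x3007 : AuxS.{u} (cP4) s3007 0 a3007 := aux_base3 tw1236 rfl b3007
theorem n3007 : Sound.{u} (cP4) s3007 0 :=
  (x3007.k4 c3007_0 :)
theorem x3008 : AuxS.{u} (cP4) s3008 0 a3008 := aux_base3 tw1236 rfl b3008
theorem n3008 : Sound.{u} (cP4) s3008 0 :=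
  (x3008.k4 c3008_0 :)
theorem x3009 : AuxS.{u} (cP4) s3009 0 a3009 := aux_base3 tw1236 rfl b3009
theorem n3009 : Sound.{u} (cP4) s3009 0 :=
  (x3009.k4 c3009_0 :)
theorem x3010 : AuxS.{u} (cP4) s3010 0 a3010 := aux_base3 tw1236 rfl b3010
theorem n3010 : Sound.{u} (cP4) s3010 0 :=
  (x3010.k4 c3010_0 :)
theorem x3011 : AuxS.{u} (cP4) s3011 0 a3011 := aux_base3 tw1236 rfl b3011
theorem n3011 : Sound.{u} (cP4) s3011 0 :=
  (x3011.k4 c3011_0 :)
theorem x3012 : AuxS.{u} (cP4) s3012 0 a3012 := aux_base3 tw1236 rfl b3012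
theorem n3012 : Sound.{u} (cP4) s3012 0 :=
  (x3012.k4 c3012_0 :)
theorem x3013 : AuxS.{u} (cP4) s3013 0 a3013 := aux_base3 tw1236 rfl b3013
theorem n3013 : Sound.{u} (cP4) s3013 0 :=
  (x3013.k4 c3013_0 :)
theorem x3014 : AuxS.{u} (cP4) s3014 0 a3014 := aux_base3 tw1236 rfl b3014
theorem n3014 : Sound.{u} (cP4) s3014 0 :=
  (x3014.k4 c3014_0 :)
theorem x2967 : AuxS.{u} (cP4) s2967 0 a2967 := aux_base3 tw1236 rfl b2967
theorem x2967_1 : AuxS.{u} (cP4) s2967 0 a2967_1 := x2967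
theorem n2967 : Sound.{u} (cP4) s2967 0 :=
  (x2967_1.fr (AuxS.gam x2967_1 c2967_0) (AllS.cons n2983 (AllS.cons n2984 (AllS.cons n2985 (AllS.cons n2986 (AllS.cons n2987 (AllS.cons n2988 (AllS.cons n2989 (AllS.cons n2990 (AllS.cons n2991 (AllS.cons n2992 (AllS.cons n2993 (AllS.cons n2994 (AllS.cons n2995 (AllS.cons n2996 (AllS.cons n2997 (AllS.cons n2998 (AllS.cons n2999 (AllS.cons n3000 (AllS.cons n3001 (AllS.cons n3002 (AllS.cons n3003 (AllS.cons n3004 (AllS.cons n3005 (AllS.cons n3006 (AllS.cons n3007 (AllS.cons n3008 (AllS.cons n3009 (AllS.cons n3010 (AllS.cons n3011 (AllS.cons n3012 (AllS.cons n3013 (AllS.cons n3014 AllS.nil)))))))))))))))))))))))))))))))) c2967_1 :)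
theorem x2968 : AuxS.{u} (cP4) s2968 0 a2968 := aux_base3 tw1237 rfl b2968
theorem x2968_1 : AuxS.{u} (cP4) s2968 0 a2968_1 := x2968
theorem n2968 : Sound.{u} (cP4) s2968 0 :=
  (x2968_1.fr GamS.nil AllS.nil c2968_0 :)
theorem x2969 : AuxS.{u} (cP4) s2969 0 a2969 := aux_base3 tw1238 rfl b2969
theorem x2969_1 : AuxS.{u} (cP4) s2969 0 a2969_1 := x2969
theorem n2969 : Sound.{u} (cP4) s2969 0 :=
  (x2969_1.fr GamS.nil AllS.nil c2969_0 :)
theorem x2970 : AuxS.{u} (cP4) s2970 0 a2970 := aux_base3 tw1239 rfl b2970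
theorem x2970_1 : AuxS.{u} (cP4) s2970 0 a2970_1 := x2970
theorem n2970 : Sound.{u} (cP4) s2970 0 :=
  (x2970_1.fr GamS.nil AllS.nil c2970_0 :)
theorem x2971 : AuxS.{u} (cP4) s2971 0 a2971 := aux_base3 tw1240 rfl b2971
theorem x2971_1 : AuxS.{u} (cP4) s2971 0 a2971_1 := x2971
theorem x2971_2 : AuxS.{u} (cP4) s2971 0 a2971_2 := x2971_1
theorem n2971 : Sound.{u} (cP4) s2971 0 :=
  (x2971_2.fr GamS.nil AllS.nil c2971_0 :)
theorem x2972 : AuxS.{u} (cP4) s2972 0 a2972 := aux_base3 tw1241 rfl b2972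
theorem x2972_1 : AuxS.{u} (cP4) s2972 0 a2972_1 := x2972
theorem x2972_2 : AuxS.{u} (cP4) s2972 0 a2972_2 := x2972_1
theorem n2972 : Sound.{u} (cP4) s2972 0 :=
  (x2972_2.fr GamS.nil AllS.nil c2972_0 :)
theorem x2973 : AuxS.{u} (cP4) s2973 0 a2973 := aux_base3 tw1242 rfl b2973
theorem x2973_1 : AuxS.{u} (cP4) s2973 0 a2973_1 := x2973
theorem n2973 : Sound.{u} (cP4) s2973 0 :=
  (x2973_1.fr GamS.nil AllS.nil c2973_0 :)
theorem x2974 : AuxS.{u} (cP4) s2974 0 a2974 := aux_base3 tw1243 rfl b2974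
theorem x2974_1 : AuxS.{u} (cP4) s2974 0 a2974_1 := x2974
theorem n2974 : Sound.{u} (cP4) s2974 0 :=
  (x2974_1.fr GamS.nil AllS.nil c2974_0 :)
theorem x2975 : AuxS.{u} (cP4) s2975 0 a2975 := aux_base3 tw1244 rfl b2975
theorem x2975_1 : AuxS.{u} (cP4) s2975 0 a2975_1 := x2975
theorem x2975_2 : AuxS.{u} (cP4) s2975 0 a2975_2 := x2975_1
theorem n2975 : Sound.{u} (cP4) s2975 0 :=
  (x2975_2.fr GamS.nil AllS.nil c2975_0 :)
theorem x2976 : AuxS.{u} (cP4) s2976 0 a2976 := aux_base3 tw1245 rfl b2976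
theorem x2976_1 : AuxS.{u} (cP4) s2976 0 a2976_1 := x2976
theorem n2976 : Sound.{u} (cP4) s2976 0 :=
  (x2976_1.fr GamS.nil AllS.nil c2976_0 :)
theorem x2977 : AuxS.{u} (cP4) s2977 0 a2977 := aux_base3 tw1246 rfl b2977
theorem x2977_1 : AuxS.{u} (cP4) s2977 0 a2977_1 := x2977
theorem n2977 : Sound.{u} (cP4) s2977 0 :=
  (x2977_1.fr GamS.nil AllS.nil c2977_0 :)
theorem x2978 : AuxS.{u} (cP4) s2978 0 a2978 := aux_base3 tw1247 rfl b2978
theorem x2978_1 : AuxS.{u} (cP4) s2978 0 a2978_1 := x2978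
theorem x2978_2 : AuxS.{u} (cP4) s2978 0 a2978_2 := x2978_1
theorem n2978 : Sound.{u} (cP4) s2978 0 :=
  (x2978_2.fr GamS.nil AllS.nil c2978_0 :)
theorem x2979 : AuxS.{u} (cP4) s2979 0 a2979 := aux_base3 tw1248 rfl b2979
theorem x2979_1 : AuxS.{u} (cP4) s2979 0 a2979_1 := x2979
theorem x2979_2 : AuxS.{u} (cP4) s2979 0 a2979_2 := x2979_1
theorem n2979 : Sound.{u} (cP4) s2979 0 :=
  (x2979_2.fr GamS.nil AllS.nil c2979_0 :)
theorem x2980 : AuxS.{u} (cP4) s2980 0 a2980 := aux_base3 tw1249 rfl b2980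
theorem x2980_1 : AuxS.{u} (cP4) s2980 0 a2980_1 := x2980
theorem n2980 : Sound.{u} (cP4) s2980 0 :=
  (x2980_1.fr GamS.nil AllS.nil c2980_0 :)
theorem x2981 : AuxS.{u} (cP4) s2981 0 a2981 := aux_base3 tw1250 rfl b2981
theorem x2981_1 : AuxS.{u} (cP4) s2981 0 a2981_1 := x2981
theorem n2981 : Sound.{u} (cP4) s2981 0 :=
  (x2981_1.fr GamS.nil AllS.nil c2981_0 :)
theorem x2982 : AuxS.{u} (cP4) s2982 0 a2982 := aux_base3 tw1251 rfl b2982
theorem x2982_1 : AuxS.{u} (cP4) s2982 0 a2982_1 := x2982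
theorem n2982 : Sound.{u} (cP4) s2982 0 :=
  (x2982_1.fr GamS.nil AllS.nil c2982_0 :)
theorem x2858 : AuxS.{u} (cP4) s2858 0 a2858 := aux_base3 tw1160 rfl b2858
theorem x2858_1 : AuxS.{u} (cP4) s2858 0 a2858_1 := (AuxS.up x2858 c2858_7 :)
theorem p2858_0_1 : Phs s2858 a2858_1 (List.map Prod.fst g2858_0) [s2967, s2968, s2969, s2970, s2971, s2972, s2973, s2974, s2975, s2976, s2977, s2978, s2979, s2980, s2981, s2982] ct2858_0 v2858_0 5 w2858_0_1 := (Phs.fin c2858_1)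
theorem p2858_0_3 : Phs s2858 a2858_1 (List.map Prod.fst g2858_0) [s2967, s2968, s2969, s2970, s2971, s2972, s2973, s2974, s2975, s2976, s2977, s2978, s2979, s2980, s2981, s2982] ct2858_0 v2858_0 4 w2858_0_3 := (Phs.stp c2858_2 p2858_0_1)
theorem p2858_0_5 : Phs s2858 a2858_1 (List.map Prod.fst g2858_0) [s2967, s2968, s2969, s2970, s2971, s2972, s2973, s2974, s2975, s2976, s2977, s2978, s2979, s2980, s2981, s2982] ct2858_0 v2858_0 3 w2858_0_5 := (Phs.stp c2858_3 p2858_0_3)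
theorem p2858_0_7 : Phs s2858 a2858_1 (List.map Prod.fst g2858_0) [s2967, s2968, s2969, s2970, s2971, s2972, s2973, s2974, s2975, s2976, s2977, s2978, s2979, s2980, s2981, s2982] ct2858_0 v2858_0 1 w2858_0_7 := (Phs.stp c2858_4 p2858_0_5)
theorem n2858 : Sound.{u} (cP4) s2858 0 :=
  (x2858_1.ext2 (fun h => absurd h (by decide)) (AuxS.gam x2858_1 c2858_0) (AllS.cons n2967 (AllS.cons n2968 (AllS.cons n2969 (AllS.cons n2970 (AllS.cons n2971 (AllS.cons n2972 (AllS.cons n2973 (AllS.cons n2974 (AllS.cons n2975 (AllS.cons n2976 (AllS.cons n2977 (AllS.cons n2978 (AllS.cons n2979 (AllS.cons n2980 (AllS.cons n2981 (AllS.cons n2982 AllS.nil)))))))))))))))) c2858_6 (Phs.stp c2858_5 p2858_0_7) (Phs.fin (ct := ct2858_0) rfl) :)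
theorem x3048 : AuxS.{u} (cP4) s3048 0 a3048 := aux_base3 tw1284 rfl b3048
theorem x3048_1 : AuxS.{u} (cP4) s3048 0 a3048_1 := x3048
theorem x3048_2 : AuxS.{u} (cP4) s3048 0 a3048_2 := x3048_1
theorem n3048 : Sound.{u} (cP4) s3048 0 :=
  (x3048_2.fr GamS.nil AllS.nil c3048_0 :)
theorem x3049 : AuxS.{u} (cP4) s3049 0 a3049 := aux_base3 tw1285 rfl b3049
theorem x3049_1 : AuxS.{u} (cP4) s3049 0 a3049_1 := x3049
theorem x3049_2 : AuxS.{u} (cP4) s3049 0 a3049_2 := x3049_1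
theorem n3049 : Sound.{u} (cP4) s3049 0 :=
  (x3049_2.fr GamS.nil AllS.nil c3049_0 :)
theorem x3050 : AuxS.{u} (cP4) s3050 0 a3050 := aux_base3 tw1286 rfl b3050
theorem x3050_1 : AuxS.{u} (cP4) s3050 0 a3050_1 := x3050
theorem x3050_2 : AuxS.{u} (cP4) s3050 0 a3050_2 := x3050_1
theorem n3050 : Sound.{u} (cP4) s3050 0 :=
  (x3050_2.fr GamS.nil AllS.nil c3050_0 :)
theorem x3051 : AuxS.{u} (cP4) s3051 0 a3051 := aux_base3 tw1287 rfl b3051
theorem x3051_1 : AuxS.{u} (cP4) s3051 0 a3051_1 := x3051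
theorem x3051_2 : AuxS.{u} (cP4) s3051 0 a3051_2 := x3051_1
theorem n3051 : Sound.{u} (cP4) s3051 0 :=
  (x3051_2.fr GamS.nil AllS.nil c3051_0 :)
theorem x3052 : AuxS.{u} (cP4) s3052 0 a3052 := aux_base3 tw1288 rfl b3052
theorem x3052_1 : AuxS.{u} (cP4) s3052 0 a3052_1 := x3052
theorem x3052_2 : AuxS.{u} (cP4) s3052 0 a3052_2 := x3052_1
theorem n3052 : Sound.{u} (cP4) s3052 0 :=
  (x3052_2.fr GamS.nil AllS.nil c3052_0 :)
theorem x3053 : AuxS.{u} (cP4) s3053 0 a3053 := aux_base3 tw1289 rfl b3053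
theorem x3053_1 : AuxS.{u} (cP4) s3053 0 a3053_1 := x3053
theorem x3053_2 : AuxS.{u} (cP4) s3053 0 a3053_2 := x3053_1
theorem n3053 : Sound.{u} (cP4) s3053 0 :=
  (x3053_2.fr GamS.nil AllS.nil c3053_0 :)
theorem x3054 : AuxS.{u} (cP4) s3054 0 a3054 := aux_base3 tw1290 rfl b3054
theorem x3054_1 : AuxS.{u} (cP4) s3054 0 a3054_1 := x3054
theorem x3054_2 : AuxS.{u} (cP4) s3054 0 a3054_2 := x3054_1
theorem n3054 : Sound.{u} (cP4) s3054 0 :=
  (x3054_2.fr GamS.nil AllS.nil c3054_0 :)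
theorem x3055 : AuxS.{u} (cP4) s3055 0 a3055 := aux_base3 tw1291 rfl b3055
theorem x3055_1 : AuxS.{u} (cP4) s3055 0 a3055_1 := x3055
theorem x3055_2 : AuxS.{u} (cP4) s3055 0 a3055_2 := x3055_1
theorem n3055 : Sound.{u} (cP4) s3055 0 :=
  (x3055_2.fr GamS.nil AllS.nil c3055_0 :)
theorem x3056 : AuxS.{u} (cP4) s3056 0 a3056 := aux_base3 tw1292 rfl b3056
theorem x3056_1 : AuxS.{u} (cP4) s3056 0 a3056_1 := x3056
theorem x3056_2 : AuxS.{u} (cP4) s3056 0 a3056_2 := x3056_1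
theorem n3056 : Sound.{u} (cP4) s3056 0 :=
  (x3056_2.fr GamS.nil AllS.nil c3056_0 :)
theorem x3057 : AuxS.{u} (cP4) s3057 0 a3057 := aux_base3 tw1293 rfl b3057
theorem x3057_1 : AuxS.{u} (cP4) s3057 0 a3057_1 := x3057
theorem x3057_2 : AuxS.{u} (cP4) s3057 0 a3057_2 := x3057_1
theorem n3057 : Sound.{u} (cP4) s3057 0 :=
  (x3057_2.fr GamS.nil AllS.nil c3057_0 :)
theorem x3058 : AuxS.{u} (cP4) s3058 0 a3058 := aux_base3 tw1294 rfl b3058
theorem x3058_1 : AuxS.{u} (cP4) s3058 0 a3058_1 := x3058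
theorem x3058_2 : AuxS.{u} (cP4) s3058 0 a3058_2 := x3058_1
theorem n3058 : Sound.{u} (cP4) s3058 0 :=
  (x3058_2.fr GamS.nil AllS.nil c3058_0 :)
theorem x3059 : AuxS.{u} (cP4) s3059 0 a3059 := aux_base3 tw1295 rfl b3059
theorem x3059_1 : AuxS.{u} (cP4) s3059 0 a3059_1 := x3059
theorem x3059_2 : AuxS.{u} (cP4) s3059 0 a3059_2 := x3059_1
theorem n3059 : Sound.{u} (cP4) s3059 0 :=
  (x3059_2.fr GamS.nil AllS.nil c3059_0 :)
theorem x3060 : AuxS.{u} (cP4) s3060 0 a3060 := aux_base3 tw1296 rfl b3060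
theorem x3060_1 : AuxS.{u} (cP4) s3060 0 a3060_1 := x3060
theorem x3060_2 : AuxS.{u} (cP4) s3060 0 a3060_2 := x3060_1
theorem n3060 : Sound.{u} (cP4) s3060 0 :=
  (x3060_2.fr GamS.nil AllS.nil c3060_0 :)
theorem x3061 : AuxS.{u} (cP4) s3061 0 a3061 := aux_base3 tw1297 rfl b3061
theorem x3061_1 : AuxS.{u} (cP4) s3061 0 a3061_1 := x3061
theorem x3061_2 : AuxS.{u} (cP4) s3061 0 a3061_2 := x3061_1
theorem n3061 : Sound.{u} (cP4) s3061 0 :=
  (x3061_2.fr GamS.nil AllS.nil c3061_0 :)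
theorem x3062 : AuxS.{u} (cP4) s3062 0 a3062 := aux_base3 tw1298 rfl b3062
theorem x3062_1 : AuxS.{u} (cP4) s3062 0 a3062_1 := x3062
theorem x3062_2 : AuxS.{u} (cP4) s3062 0 a3062_2 := x3062_1
theorem n3062 : Sound.{u} (cP4) s3062 0 :=
  (x3062_2.fr GamS.nil AllS.nil c3062_0 :)
theorem x3063 : AuxS.{u} (cP4) s3063 0 a3063 := aux_base3 tw1299 rfl b3063
theorem x3063_1 : AuxS.{u} (cP4) s3063 0 a3063_1 := x3063
theorem x3063_2 : AuxS.{u} (cP4) s3063 0 a3063_2 := x3063_1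
theorem n3063 : Sound.{u} (cP4) s3063 0 :=
  (x3063_2.fr GamS.nil AllS.nil c3063_0 :)
theorem x2859 : AuxS.{u} (cP4) s2859 0 a2859 := aux_base3 tw1161 rfl b2859
theorem x2859_1 : AuxS.{u} (cP4) s2859 0 a2859_1 := (AuxS.up x2859 c2859_7 :)
theorem x2859_2 : AuxS.{u} (cP4) s2859 0 a2859_2 := x2859_1
theorem p2859_0_1 : Phs s2859 a2859_2 (List.map Prod.fst g2859_0) [s3048, s3049, s3050, s3051, s3052, s3053, s3054, s3055, s3056, s3057, s3058, s3059, s3060, s3061, s3062, s3063] ct2859_0 v2859_0 5 w2859_0_1 := (Phs.fin c2859_1)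
theorem p2859_0_3 : Phs s2859 a2859_2 (List.map Prod.fst g2859_0) [s3048, s3049, s3050, s3051, s3052, s3053, s3054, s3055, s3056, s3057, s3058, s3059, s3060, s3061, s3062, s3063] ct2859_0 v2859_0 4 w2859_0_3 := (Phs.stp c2859_2 p2859_0_1)
theorem p2859_0_5 : Phs s2859 a2859_2 (List.map Prod.fst g2859_0) [s3048, s3049, s3050, s3051, s3052, s3053, s3054, s3055, s3056, s3057, s3058, s3059, s3060, s3061, s3062, s3063] ct2859_0 v2859_0 3 w2859_0_5 := (Phs.stp c2859_3 p2859_0_3)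
theorem p2859_0_7 : Phs s2859 a2859_2 (List.map Prod.fst g2859_0) [s3048, s3049, s3050, s3051, s3052, s3053, s3054, s3055, s3056, s3057, s3058, s3059, s3060, s3061, s3062, s3063] ct2859_0 v2859_0 1 w2859_0_7 := (Phs.stp c2859_4 p2859_0_5)
theorem n2859 : Sound.{u} (cP4) s2859 0 :=
  (x2859_2.ext2 (fun h => absurd h (by decide)) (AuxS.gam x2859_2 c2859_0) (AllS.cons n3048 (AllS.cons n3049 (AllS.cons n3050 (AllS.cons n3051 (AllS.cons n3052 (AllS.cons n3053 (AllS.cons n3054 (AllS.cons n3055 (AllS.cons n3056 (AllS.cons n3057 (AllS.cons n3058 (AllS.cons n3059 (AllS.cons n3060 (AllS.cons n3061 (AllS.cons n3062 (AllS.cons n3063 AllS.nil)))))))))))))))) c2859_6 (Phs.stp c2859_5 p2859_0_7) (Phs.fin (ct := ct2859_0) rfl) :)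
theorem x2860 : AuxS.{u} (cP4) s2860 0 a2860 := aux_base3 tw1162 rfl b2860
theorem x2860_1 : AuxS.{u} (cP4) s2860 0 a2860_1 := (AuxS.up x2860 c2860_1 :)
theorem n2860 : Sound.{u} (cP4) s2860 0 :=
  (x2860_1.k7 c2860_0 :)
theorem x2861 : AuxS.{u} (cP4) s2861 0 a2861 := aux_base3 tw1163 rfl b2861
theorem x2861_1 : AuxS.{u} (cP4) s2861 0 a2861_1 := (AuxS.up x2861 c2861_1 :)
theorem n2861 : Sound.{u} (cP4) s2861 0 :=
  (x2861_1.k7 c2861_0 :)
theorem x2862 : AuxS.{u} (cP4) s2862 0 a2862 := aux_base3 tw1164 rfl b2862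
theorem x2862_1 : AuxS.{u} (cP4) s2862 0 a2862_1 := (AuxS.up x2862 c2862_1 :)
theorem n2862 : Sound.{u} (cP4) s2862 0 :=
  (x2862_1.k7 c2862_0 :)
theorem x2863 : AuxS.{u} (cP4) s2863 0 a2863 := aux_base3 tw1165 rfl b2863
theorem x2863_1 : AuxS.{u} (cP4) s2863 0 a2863_1 := (AuxS.up x2863 c2863_1 :)
theorem n2863 : Sound.{u} (cP4) s2863 0 :=
  (x2863_1.k7 c2863_0 :)
theorem x2864 : AuxS.{u} (cP4) s2864 0 a2864 := aux_base3 tw1166 rfl b2864
theorem x2864_1 : AuxS.{u} (cP4) s2864 0 a2864_1 := (AuxS.up x2864 c2864_1 :)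
theorem n2864 : Sound.{u} (cP4) s2864 0 :=
  (x2864_1.k7 c2864_0 :)
theorem x3064 : AuxS.{u} (cP4) s3064 0 a3064 := aux_base3 tw1300 rfl b3064
theorem x3064_1 : AuxS.{u} (cP4) s3064 0 a3064_1 := x3064
theorem x3064_2 : AuxS.{u} (cP4) s3064 0 a3064_2 := x3064_1
theorem n3064 : Sound.{u} (cP4) s3064 0 :=
  (x3064_2.fr GamS.nil AllS.nil c3064_0 :)
theorem x3065 : AuxS.{u} (cP4) s3065 0 a3065 := aux_base3 tw1301 rfl b3065
theorem x3065_1 : AuxS.{u} (cP4) s3065 0 a3065_1 := x3065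
theorem x3065_2 : AuxS.{u} (cP4) s3065 0 a3065_2 := x3065_1
theorem n3065 : Sound.{u} (cP4) s3065 0 :=
  (x3065_2.fr GamS.nil AllS.nil c3065_0 :)
theorem x3066 : AuxS.{u} (cP4) s3066 0 a3066 := aux_base3 tw1302 rfl b3066
theorem x3066_1 : AuxS.{u} (cP4) s3066 0 a3066_1 := x3066
theorem x3066_2 : AuxS.{u} (cP4) s3066 0 a3066_2 := x3066_1
theorem n3066 : Sound.{u} (cP4) s3066 0 :=
  (x3066_2.fr GamS.nil AllS.nil c3066_0 :)
theorem x3067 : AuxS.{u} (cP4) s3067 0 a3067 := aux_base3 tw1303 rfl b3067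
theorem x3067_1 : AuxS.{u} (cP4) s3067 0 a3067_1 := x3067
theorem x3067_2 : AuxS.{u} (cP4) s3067 0 a3067_2 := x3067_1
theorem n3067 : Sound.{u} (cP4) s3067 0 :=
  (x3067_2.fr GamS.nil AllS.nil c3067_0 :)
theorem x3068 : AuxS.{u} (cP4) s3068 0 a3068 := aux_base3 tw1304 rfl b3068
theorem x3068_1 : AuxS.{u} (cP4) s3068 0 a3068_1 := x3068
theorem x3068_2 : AuxS.{u} (cP4) s3068 0 a3068_2 := x3068_1
theorem n3068 : Sound.{u} (cP4) s3068 0 :=
  (x3068_2.fr GamS.nil AllS.nil c3068_0 :)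
theorem x3069 : AuxS.{u} (cP4) s3069 0 a3069 := aux_base3 tw1305 rfl b3069
theorem x3069_1 : AuxS.{u} (cP4) s3069 0 a3069_1 := x3069
theorem x3069_2 : AuxS.{u} (cP4) s3069 0 a3069_2 := x3069_1
theorem n3069 : Sound.{u} (cP4) s3069 0 :=
  (x3069_2.fr GamS.nil AllS.nil c3069_0 :)
theorem x3070 : AuxS.{u} (cP4) s3070 0 a3070 := aux_base3 tw1306 rfl b3070
theorem x3070_1 : AuxS.{u} (cP4) s3070 0 a3070_1 := x3070
theorem x3070_2 : AuxS.{u} (cP4) s3070 0 a3070_2 := x3070_1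
theorem n3070 : Sound.{u} (cP4) s3070 0 :=
  (x3070_2.fr GamS.nil AllS.nil c3070_0 :)
theorem x3071 : AuxS.{u} (cP4) s3071 0 a3071 := aux_base3 tw1307 rfl b3071
theorem x3071_1 : AuxS.{u} (cP4) s3071 0 a3071_1 := x3071
theorem x3071_2 : AuxS.{u} (cP4) s3071 0 a3071_2 := x3071_1
theorem n3071 : Sound.{u} (cP4) s3071 0 :=
  (x3071_2.fr GamS.nil AllS.nil c3071_0 :)
theorem x3072 : AuxS.{u} (cP4) s3072 0 a3072 := aux_base3 tw1308 rfl b3072
theorem x3072_1 : AuxS.{u} (cP4) s3072 0 a3072_1 := x3072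
theorem x3072_2 : AuxS.{u} (cP4) s3072 0 a3072_2 := x3072_1
theorem n3072 : Sound.{u} (cP4) s3072 0 :=
  (x3072_2.fr GamS.nil AllS.nil c3072_0 :)
theorem x3073 : AuxS.{u} (cP4) s3073 0 a3073 := aux_base3 tw1309 rfl b3073
theorem x3073_1 : AuxS.{u} (cP4) s3073 0 a3073_1 := x3073
theorem x3073_2 : AuxS.{u} (cP4) s3073 0 a3073_2 := x3073_1
theorem n3073 : Sound.{u} (cP4) s3073 0 :=
  (x3073_2.fr GamS.nil AllS.nil c3073_0 :)
theorem x3074 : AuxS.{u} (cP4) s3074 0 a3074 := aux_base3 tw1310 rfl b3074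
theorem x3074_1 : AuxS.{u} (cP4) s3074 0 a3074_1 := x3074
theorem x3074_2 : AuxS.{u} (cP4) s3074 0 a3074_2 := x3074_1
theorem n3074 : Sound.{u} (cP4) s3074 0 :=
  (x3074_2.fr GamS.nil AllS.nil c3074_0 :)
theorem x3075 : AuxS.{u} (cP4) s3075 0 a3075 := aux_base3 tw1311 rfl b3075
theorem x3075_1 : AuxS.{u} (cP4) s3075 0 a3075_1 := x3075
theorem x3075_2 : AuxS.{u} (cP4) s3075 0 a3075_2 := x3075_1
theorem n3075 : Sound.{u} (cP4) s3075 0 :=
  (x3075_2.fr GamS.nil AllS.nil c3075_0 :)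
theorem x3076 : AuxS.{u} (cP4) s3076 0 a3076 := aux_base3 tw1312 rfl b3076
theorem x3076_1 : AuxS.{u} (cP4) s3076 0 a3076_1 := x3076
theorem x3076_2 : AuxS.{u} (cP4) s3076 0 a3076_2 := x3076_1
theorem n3076 : Sound.{u} (cP4) s3076 0 :=
  (x3076_2.fr GamS.nil AllS.nil c3076_0 :)
theorem x3077 : AuxS.{u} (cP4) s3077 0 a3077 := aux_base3 tw1313 rfl b3077
theorem x3077_1 : AuxS.{u} (cP4) s3077 0 a3077_1 := x3077
theorem x3077_2 : AuxS.{u} (cP4) s3077 0 a3077_2 := x3077_1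
theorem n3077 : Sound.{u} (cP4) s3077 0 :=
  (x3077_2.fr GamS.nil AllS.nil c3077_0 :)
theorem x3080 : AuxS.{u} (cP4) s3080 0 a3080 := aux_base3 tw1314 rfl b3080
theorem n3080 : Sound.{u} (cP4) s3080 0 :=
  (x3080.k4 c3080_0 :)
theorem x3081 : AuxS.{u} (cP4) s3081 0 a3081 := aux_base3 tw1314 rfl b3081
theorem n3081 : Sound.{u} (cP4) s3081 0 :=
  (x3081.k4 c3081_0 :)
theorem x3082 : AuxS.{u} (cP4) s3082 0 a3082 := aux_base3 tw1314 rfl b3082
theorem n3082 : Sound.{u} (cP4) s3082 0 :=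
  (x3082.k4 c3082_0 :)
theorem x3083 : AuxS.{u} (cP4) s3083 0 a3083 := aux_base3 tw1314 rfl b3083
theorem n3083 : Sound.{u} (cP4) s3083 0 :=
  (x3083.k4 c3083_0 :)
theorem x3084 : AuxS.{u} (cP4) s3084 0 a3084 := aux_base3 tw1314 rfl b3084
theorem n3084 : Sound.{u} (cP4) s3084 0 :=
  (x3084.k4 c3084_0 :)
theorem x3085 : AuxS.{u} (cP4) s3085 0 a3085 := aux_base3 tw1314 rfl b3085
theorem n3085 : Sound.{u} (cP4) s3085 0 :=
  (x3085.k4 c3085_0 :)
theorem x3086 : AuxS.{u} (cP4) s3086 0 a3086 := aux_base3 tw1314 rfl b3086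
theorem n3086 : Sound.{u} (cP4) s3086 0 :=
  (x3086.k4 c3086_0 :)
theorem x3087 : AuxS.{u} (cP4) s3087 0 a3087 := aux_base3 tw1314 rfl b3087
theorem n3087 : Sound.{u} (cP4) s3087 0 :=
  (x3087.k4 c3087_0 :)
theorem x3088 : AuxS.{u} (cP4) s3088 0 a3088 := aux_base3 tw1314 rfl b3088
theorem n3088 : Sound.{u} (cP4) s3088 0 :=
  (x3088.k4 c3088_0 :)
theorem x3089 : AuxS.{u} (cP4) s3089 0 a3089 := aux_base3 tw1314 rfl b3089
theorem n3089 : Sound.{u} (cP4) s3089 0 :=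
  (x3089.k4 c3089_0 :)
theorem x3090 : AuxS.{u} (cP4) s3090 0 a3090 := aux_base3 tw1314 rfl b3090
theorem n3090 : Sound.{u} (cP4) s3090 0 :=
  (x3090.k4 c3090_0 :)
theorem x3091 : AuxS.{u} (cP4) s3091 0 a3091 := aux_base3 tw1314 rfl b3091
theorem n3091 : Sound.{u} (cP4) s3091 0 :=
  (x3091.k4 c3091_0 :)
theorem x3092 : AuxS.{u} (cP4) s3092 0 a3092 := aux_base3 tw1314 rfl b3092
theorem n3092 : Sound.{u} (cP4) s3092 0 :=
  (x3092.k4 c3092_0 :)
theorem x3093 : AuxS.{u} (cP4) s3093 0 a3093 := aux_base3 tw1314 rfl b3093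
theorem n3093 : Sound.{u} (cP4) s3093 0 :=
  (x3093.k4 c3093_0 :)
theorem x3094 : AuxS.{u} (cP4) s3094 0 a3094 := aux_base3 tw1314 rfl b3094
theorem n3094 : Sound.{u} (cP4) s3094 0 :=
  (x3094.k4 c3094_0 :)
theorem x3095 : AuxS.{u} (cP4) s3095 0 a3095 := aux_base3 tw1314 rfl b3095
theorem n3095 : Sound.{u} (cP4) s3095 0 :=
  (x3095.k4 c3095_0 :)
theorem x3096 : AuxS.{u} (cP4) s3096 0 a3096 := aux_base3 tw1314 rfl b3096
theorem n3096 : Sound.{u} (cP4) s3096 0 :=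
  (x3096.k4 c3096_0 :)
theorem x3097 : AuxS.{u} (cP4) s3097 0 a3097 := aux_base3 tw1314 rfl b3097
theorem n3097 : Sound.{u} (cP4) s3097 0 :=
  (x3097.k4 c3097_0 :)
theorem x3098 : AuxS.{u} (cP4) s3098 0 a3098 := aux_base3 tw1314 rfl b3098
theorem n3098 : Sound.{u} (cP4) s3098 0 :=
  (x3098.k4 c3098_0 :)
theorem x3099 : AuxS.{u} (cP4) s3099 0 a3099 := aux_base3 tw1314 rfl b3099
theorem n3099 : Sound.{u} (cP4) s3099 0 :=
  (x3099.k4 c3099_0 :)
theorem x3100 : AuxS.{u} (cP4) s3100 0 a3100 := aux_base3 tw1314 rfl b3100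
theorem n3100 : Sound.{u} (cP4) s3100 0 :=
  (x3100.k4 c3100_0 :)
theorem x3101 : AuxS.{u} (cP4) s3101 0 a3101 := aux_base3 tw1314 rfl b3101
theorem n3101 : Sound.{u} (cP4) s3101 0 :=
  (x3101.k4 c3101_0 :)
theorem x3102 : AuxS.{u} (cP4) s3102 0 a3102 := aux_base3 tw1314 rfl b3102
theorem n3102 : Sound.{u} (cP4) s3102 0 :=
  (x3102.k4 c3102_0 :)
theorem x3103 : AuxS.{u} (cP4) s3103 0 a3103 := aux_base3 tw1314 rfl b3103
theorem n3103 : Sound.{u} (cP4) s3103 0 :=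
  (x3103.k4 c3103_0 :)
theorem x3104 : AuxS.{u} (cP4) s3104 0 a3104 := aux_base3 tw1314 rfl b3104
theorem n3104 : Sound.{u} (cP4) s3104 0 :=
  (x3104.k4 c3104_0 :)
theorem x3105 : AuxS.{u} (cP4) s3105 0 a3105 := aux_base3 tw1314 rfl b3105
theorem n3105 : Sound.{u} (cP4) s3105 0 :=
  (x3105.k4 c3105_0 :)
theorem x3106 : AuxS.{u} (cP4) s3106 0 a3106 := aux_base3 tw1314 rfl b3106
theorem n3106 : Sound.{u} (cP4) s3106 0 :=
  (x3106.k4 c3106_0 :)
theorem x3107 : AuxS.{u} (cP4) s3107 0 a3107 := aux_base3 tw1314 rfl b3107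
theorem n3107 : Sound.{u} (cP4) s3107 0 :=
  (x3107.k4 c3107_0 :)
theorem x3108 : AuxS.{u} (cP4) s3108 0 a3108 := aux_base3 tw1314 rfl b3108
theorem n3108 : Sound.{u} (cP4) s3108 0 :=
  (x3108.k4 c3108_0 :)
theorem x3112 : AuxS.{u} (cP4) s3112 0 a3112 := aux_base3 tw1167 rfl b3112
theorem x3112_1 : AuxS.{u} (cP4) s3112 0 a3112_1 := (AuxS.up x3112 c3112_4 :)
theorem x3112_2 : AuxS.{u} (cP4) s3112 0 a3112_2 := (AuxS.up2 x3112_1 c3112_5 :)
theorem x3112_3 : AuxS.{u} (cP4) s3112 0 a3112_3 := (AuxS.up x3112_2 c3112_6 :)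
theorem p3112_0_1 : Phs s3112 a3112_3 [] [] ct3112_0 v3112_0 4 w3112_0_1 := (Phs.fin c3112_0)
theorem p3112_0_3 : Phs s3112 a3112_3 [] [] ct3112_0 v3112_0 1 w3112_0_3 := (Phs.stp c3112_1 p3112_0_1)
theorem n3112 : Sound.{u} (cP4) s3112 0 :=
  (x3112_3.ext2 (fun h => absurd h (by decide)) GamS.nil AllS.nil c3112_3 (Phs.stp c3112_2 p3112_0_3) (Phs.fin (ct := ct3112_0) rfl) :)
theorem x3109 : AuxS.{u} (cP4) s3109 0 a3109 := aux_base3 tw1314 rfl b3109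
theorem x3109_1 : AuxS.{u} (cP4) s3109 0 a3109_1 := x3109
theorem x3109_2 : AuxS.{u} (cP4) s3109 0 a3109_2 := x3109_1
theorem n3109 : Sound.{u} (cP4) s3109 0 :=
  (x3109_2.jump c3109_0 c3109_1 n3112 :)
theorem x3110 : AuxS.{u} (cP4) s3110 0 a3110 := aux_base3 tw1314 rfl b3110
theorem n3110 : Sound.{u} (cP4) s3110 0 :=
  (x3110.k4 c3110_0 :)
theorem x3111 : AuxS.{u} (cP4) s3111 0 a3111 := aux_base3 tw1314 rfl b3111
theorem n3111 : Sound.{u} (cP4) s3111 0 :=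
  (x3111.k4 c3111_0 :)
theorem x3078 : AuxS.{u} (cP4) s3078 0 a3078 := aux_base3 tw1314 rfl b3078
theorem x3078_1 : AuxS.{u} (cP4) s3078 0 a3078_1 := x3078
theorem x3078_2 : AuxS.{u} (cP4) s3078 0 a3078_2 := x3078_1
theorem n3078 : Sound.{u} (cP4) s3078 0 :=
  (x3078_2.fr (AuxS.gam x3078_2 c3078_0) (AllS.cons n3080 (AllS.cons n3081 (AllS.cons n3082 (AllS.cons n3083 (AllS.cons n3084 (AllS.cons n3085 (AllS.cons n3086 (AllS.cons n3087 (AllS.cons n3088 (AllS.cons n3089 (AllS.cons n3090 (AllS.cons n3091 (AllS.cons n3092 (AllS.cons n3093 (AllS.cons n3094 (AllS.cons n3095 (AllS.cons n3096 (AllS.cons n3097 (AllS.cons n3098 (AllS.cons n3099 (AllS.cons n3100 (AllS.cons n3101 (AllS.cons n3102 (AllS.cons n3103 (AllS.cons n3104 (AllS.cons n3105 (AllS.cons n3106 (AllS.cons n3107 (AllS.cons n3108 (AllS.cons n3109 (AllS.cons n3110 (AllS.cons n3111 AllS.nil)))))))))))))))))))))))))))))))) c3078_1 :)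
theorem x3079 : AuxS.{u} (cP4) s3079 0 a3079 := aux_base3 tw1315 rfl b3079
theorem x3079_1 : AuxS.{u} (cP4) s3079 0 a3079_1 := x3079
theorem x3079_2 : AuxS.{u} (cP4) s3079 0 a3079_2 := x3079_1
theorem n3079 : Sound.{u} (cP4) s3079 0 :=
  (x3079_2.fr GamS.nil AllS.nil c3079_0 :)
theorem x2865 : AuxS.{u} (cP4) s2865 0 a2865 := aux_base3 tw1167 rfl b2865
theorem x2865_1 : AuxS.{u} (cP4) s2865 0 a2865_1 := (AuxS.up x2865 c2865_7 :)
theorem x2865_2 : AuxS.{u} (cP4) s2865 0 a2865_2 := (AuxS.up2 x2865_1 c2865_8 :)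
theorem p2865_0_1 : Phs s2865 a2865_2 (List.map Prod.fst g2865_0) [s3064, s3065, s3066, s3067, s3068, s3069, s3070, s3071, s3072, s3073, s3074, s3075, s3076, s3077, s3078, s3079] ct2865_0 v2865_0 5 w2865_0_1 := (Phs.fin c2865_1)
theorem p2865_0_3 : Phs s2865 a2865_2 (List.map Prod.fst g2865_0) [s3064, s3065, s3066, s3067, s3068, s3069, s3070, s3071, s3072, s3073, s3074, s3075, s3076, s3077, s3078, s3079] ct2865_0 v2865_0 4 w2865_0_3 := (Phs.stp c2865_2 p2865_0_1)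
theorem p2865_0_5 : Phs s2865 a2865_2 (List.map Prod.fst g2865_0) [s3064, s3065, s3066, s3067, s3068, s3069, s3070, s3071, s3072, s3073, s3074, s3075, s3076, s3077, s3078, s3079] ct2865_0 v2865_0 3 w2865_0_5 := (Phs.stp c2865_3 p2865_0_3)
theorem p2865_0_7 : Phs s2865 a2865_2 (List.map Prod.fst g2865_0) [s3064, s3065, s3066, s3067, s3068, s3069, s3070, s3071, s3072, s3073, s3074, s3075, s3076, s3077, s3078, s3079] ct2865_0 v2865_0 1 w2865_0_7 := (Phs.stp c2865_4 p2865_0_5)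
theorem n2865 : Sound.{u} (cP4) s2865 0 :=
  (x2865_2.ext2 (fun h => absurd h (by decide)) (AuxS.gam x2865_2 c2865_0) (AllS.cons n3064 (AllS.cons n3065 (AllS.cons n3066 (AllS.cons n3067 (AllS.cons n3068 (AllS.cons n3069 (AllS.cons n3070 (AllS.cons n3071 (AllS.cons n3072 (AllS.cons n3073 (AllS.cons n3074 (AllS.cons n3075 (AllS.cons n3076 (AllS.cons n3077 (AllS.cons n3078 (AllS.cons n3079 AllS.nil)))))))))))))))) c2865_6 (Phs.stp c2865_5 p2865_0_7) (Phs.fin (ct := ct2865_0) rfl) :)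
theorem x2866 : AuxS.{u} (cP4) s2866 0 a2866 := aux_base3 tw1168 rfl b2866
theorem x2866_1 : AuxS.{u} (cP4) s2866 0 a2866_1 := (AuxS.up x2866 c2866_1 :)
theorem n2866 : Sound.{u} (cP4) s2866 0 :=
  (x2866_1.k7 c2866_0 :)
theorem x2867 : AuxS.{u} (cP4) s2867 0 a2867 := aux_base3 tw1169 rfl b2867
theorem x2867_1 : AuxS.{u} (cP4) s2867 0 a2867_1 := (AuxS.up x2867 c2867_1 :)
theorem n2867 : Sound.{u} (cP4) s2867 0 :=
  (x2867_1.k7 c2867_0 :)
theorem x2868 : AuxS.{u} (cP4) s2868 0 a2868 := aux_base3 tw1170 rfl b2868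
theorem x2868_1 : AuxS.{u} (cP4) s2868 0 a2868_1 := (AuxS.up x2868 c2868_1 :)
theorem x2868_2 : AuxS.{u} (cP4) s2868 0 a2868_2 := (AuxS.up2 x2868_1 c2868_2 :)
theorem n2868 : Sound.{u} (cP4) s2868 0 :=
  (x2868_2.k7 c2868_0 :)
theorem x2869 : AuxS.{u} (cP4) s2869 0 a2869 := aux_base3 tw1171 rfl b2869
theorem x2869_1 : AuxS.{u} (cP4) s2869 0 a2869_1 := (AuxS.up x2869 c2869_1 :)
theorem n2869 : Sound.{u} (cP4) s2869 0 :=
  (x2869_1.k7 c2869_0 :)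
theorem x26 : AuxS.{u} (cP4) s26 0 a26 := aux_base3 tw26 rfl b26
theorem x26_1 : AuxS.{u} (cP4) s26 0 a26_1 := (AuxS.up x26 c26_4 :)
theorem p26_0_1 : Phs s26 a26_1 [] [s2854, s2855, s2856, s2857, s2858, s2859, s2860, s2861, s2862, s2863, s2864, s2865, s2866, s2867, s2868, s2869] ct26_0 v26_0 4 w26_0_1 := (Phs.fin c26_0)
theorem p26_0_3 : Phs s26 a26_1 [] [s2854, s2855, s2856, s2857, s2858, s2859, s2860, s2861, s2862, s2863, s2864, s2865, s2866, s2867, s2868, s2869] ct26_0 v26_0 1 w26_0_3 := (Phs.stp c26_1 p26_0_1)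
theorem n26 : Sound.{u} (cP4) s26 0 :=
  (x26_1.ext2 (fun h => absurd h (by decide)) GamS.nil (AllS.cons n2854 (AllS.cons n2855 (AllS.cons n2856 (AllS.cons n2857 (AllS.cons n2858 (AllS.cons n2859 (AllS.cons n2860 (AllS.cons n2861 (AllS.cons n2862 (AllS.cons n2863 (AllS.cons n2864 (AllS.cons n2865 (AllS.cons n2866 (AllS.cons n2867 (AllS.cons n2868 (AllS.cons n2869 AllS.nil)))))))))))))))) c26_3 (Phs.stp c26_2 p26_0_3) (Phs.fin (ct := ct26_0) rfl) :)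
theorem x3113 : AuxS.{u} (cP4) s3113 0 a3113 := aux_base3 tw1316 rfl b3113
theorem x3113_1 : AuxS.{u} (cP4) s3113 0 a3113_1 := (AuxS.up x3113 c3113_1 :)
theorem n3113 : Sound.{u} (cP4) s3113 0 :=
  (x3113_1.k7 c3113_0 :)
theorem x3114 : AuxS.{u} (cP4) s3114 0 a3114 := aux_base3 tw1317 rfl b3114
theorem x3114_1 : AuxS.{u} (cP4) s3114 0 a3114_1 := (AuxS.up x3114 c3114_1 :)
theorem n3114 : Sound.{u} (cP4) s3114 0 :=
  (x3114_1.k7 c3114_0 :)
theorem x3130 : AuxS.{u} (cP4) s3130 0 a3130 := aux_base3 tw1332 rfl b3130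
theorem n3130 : Sound.{u} (cP4) s3130 0 :=
  (x3130.k4 c3130_0 :)
theorem x3133 : AuxS.{u} (cP4) s3133 0 a3133 := aux_base3 tw1333 rfl b3133
theorem x3133_1 : AuxS.{u} (cP4) s3133 0 a3133_1 := x3133
theorem x3133_2 : AuxS.{u} (cP4) s3133 0 a3133_2 := x3133_1
theorem n3133 : Sound.{u} (cP4) s3133 0 :=
  (x3133_2.fr GamS.nil AllS.nil c3133_0 :)
theorem x3134 : AuxS.{u} (cP4) s3134 0 a3134 := aux_base3 tw1334 rfl b3134
theorem x3134_1 : AuxS.{u} (cP4) s3134 0 a3134_1 := x3134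
theorem n3134 : Sound.{u} (cP4) s3134 0 :=
  (x3134_1.fr GamS.nil AllS.nil c3134_0 :)
theorem x3135 : AuxS.{u} (cP4) s3135 0 a3135 := aux_base3 tw1335 rfl b3135
theorem x3135_1 : AuxS.{u} (cP4) s3135 0 a3135_1 := x3135
theorem n3135 : Sound.{u} (cP4) s3135 0 :=
  (x3135_1.fr GamS.nil AllS.nil c3135_0 :)
theorem x3136 : AuxS.{u} (cP4) s3136 0 a3136 := aux_base3 tw1336 rfl b3136
theorem x3136_1 : AuxS.{u} (cP4) s3136 0 a3136_1 := x3136
theorem n3136 : Sound.{u} (cP4) s3136 0 :=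
  (x3136_1.fr GamS.nil AllS.nil c3136_0 :)
theorem x3137 : AuxS.{u} (cP4) s3137 0 a3137 := aux_base3 tw1337 rfl b3137
theorem x3137_1 : AuxS.{u} (cP4) s3137 0 a3137_1 := x3137
theorem n3137 : Sound.{u} (cP4) s3137 0 :=
  (x3137_1.fr GamS.nil AllS.nil c3137_0 :)
theorem x3138 : AuxS.{u} (cP4) s3138 0 a3138 := aux_base3 tw1338 rfl b3138
theorem x3138_1 : AuxS.{u} (cP4) s3138 0 a3138_1 := x3138
theorem n3138 : Sound.{u} (cP4) s3138 0 :=
  (x3138_1.fr GamS.nil AllS.nil c3138_0 :)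
theorem x3139 : AuxS.{u} (cP4) s3139 0 a3139 := aux_base3 tw1339 rfl b3139
theorem x3139_1 : AuxS.{u} (cP4) s3139 0 a3139_1 := x3139
theorem n3139 : Sound.{u} (cP4) s3139 0 :=
  (x3139_1.fr GamS.nil AllS.nil c3139_0 :)
theorem x3149 : AuxS.{u} (cP4) s3149 0 a3149 := aux_base3 tw1340 rfl b3149
theorem n3149 : Sound.{u} (cP4) s3149 0 :=
  (x3149.k4 c3149_0 :)
theorem x3150 : AuxS.{u} (cP4) s3150 0 a3150 := aux_base3 tw1340 rfl b3150
theorem n3150 : Sound.{u} (cP4) s3150 0 :=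
  (x3150.k4 c3150_0 :)
theorem x3151 : AuxS.{u} (cP4) s3151 0 a3151 := aux_base3 tw1340 rfl b3151
theorem n3151 : Sound.{u} (cP4) s3151 0 :=
  (x3151.k4 c3151_0 :)
theorem x3152 : AuxS.{u} (cP4) s3152 0 a3152 := aux_base3 tw1340 rfl b3152
theorem n3152 : Sound.{u} (cP4) s3152 0 :=
  (x3152.k4 c3152_0 :)
theorem x3153 : AuxS.{u} (cP4) s3153 0 a3153 := aux_base3 tw1340 rfl b3153
theorem n3153 : Sound.{u} (cP4) s3153 0 :=
  (x3153.k4 c3153_0 :)
theorem x3154 : AuxS.{u} (cP4) s3154 0 a3154 := aux_base3 tw1340 rfl b3154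
theorem n3154 : Sound.{u} (cP4) s3154 0 :=
  (x3154.k4 c3154_0 :)
theorem x3155 : AuxS.{u} (cP4) s3155 0 a3155 := aux_base3 tw1340 rfl b3155
theorem n3155 : Sound.{u} (cP4) s3155 0 :=
  (x3155.k4 c3155_0 :)
theorem x3156 : AuxS.{u} (cP4) s3156 0 a3156 := aux_base3 tw1340 rfl b3156
theorem n3156 : Sound.{u} (cP4) s3156 0 :=
  (x3156.k4 c3156_0 :)
theorem x3157 : AuxS.{u} (cP4) s3157 0 a3157 := aux_base3 tw1340 rfl b3157
theorem n3157 : Sound.{u} (cP4) s3157 0 :=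
  (x3157.k4 c3157_0 :)
theorem x3158 : AuxS.{u} (cP4) s3158 0 a3158 := aux_base3 tw1340 rfl b3158
theorem n3158 : Sound.{u} (cP4) s3158 0 :=
  (x3158.k4 c3158_0 :)
theorem x3159 : AuxS.{u} (cP4) s3159 0 a3159 := aux_base3 tw1340 rfl b3159
theorem n3159 : Sound.{u} (cP4) s3159 0 :=
  (x3159.k4 c3159_0 :)
theorem x3160 : AuxS.{u} (cP4) s3160 0 a3160 := aux_base3 tw1340 rfl b3160
theorem n3160 : Sound.{u} (cP4) s3160 0 :=
  (x3160.k4 c3160_0 :)
theorem x3161 : AuxS.{u} (cP4) s3161 0 a3161 := aux_base3 tw1340 rfl b3161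
theorem n3161 : Sound.{u} (cP4) s3161 0 :=
  (x3161.k4 c3161_0 :)
theorem x3162 : AuxS.{u} (cP4) s3162 0 a3162 := aux_base3 tw1340 rfl b3162
theorem n3162 : Sound.{u} (cP4) s3162 0 :=
  (x3162.k4 c3162_0 :)
theorem x3163 : AuxS.{u} (cP4) s3163 0 a3163 := aux_base3 tw1340 rfl b3163
theorem n3163 : Sound.{u} (cP4) s3163 0 :=
  (x3163.k4 c3163_0 :)
theorem x3164 : AuxS.{u} (cP4) s3164 0 a3164 := aux_base3 tw1340 rfl b3164
theorem n3164 : Sound.{u} (cP4) s3164 0 :=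
  (x3164.k4 c3164_0 :)
theorem x3165 : AuxS.{u} (cP4) s3165 0 a3165 := aux_base3 tw1340 rfl b3165
theorem n3165 : Sound.{u} (cP4) s3165 0 :=
  (x3165.k4 c3165_0 :)
theorem x3166 : AuxS.{u} (cP4) s3166 0 a3166 := aux_base3 tw1340 rfl b3166
theorem n3166 : Sound.{u} (cP4) s3166 0 :=
  (x3166.k4 c3166_0 :)
theorem x3167 : AuxS.{u} (cP4) s3167 0 a3167 := aux_base3 tw1340 rfl b3167
theorem n3167 : Sound.{u} (cP4) s3167 0 :=
  (x3167.k4 c3167_0 :)
theorem x3168 : AuxS.{u} (cP4) s3168 0 a3168 := aux_base3 tw1340 rfl b3168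
theorem n3168 : Sound.{u} (cP4) s3168 0 :=
  (x3168.k4 c3168_0 :)
theorem x3169 : AuxS.{u} (cP4) s3169 0 a3169 := aux_base3 tw1340 rfl b3169
theorem n3169 : Sound.{u} (cP4) s3169 0 :=
  (x3169.k4 c3169_0 :)
theorem x3213 : AuxS.{u} (cP4) s3213 0 a3213 := aux_base3 tw1349 rfl b3213
theorem n3213 : Sound.{u} (cP4) s3213 0 :=
  (x3213.k4 c3213_0 :)
theorem x3214 : AuxS.{u} (cP4) s3214 0 a3214 := aux_base3 tw1350 rfl b3214
theorem n3214 : Sound.{u} (cP4) s3214 0 :=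
  (x3214.k4 c3214_0 :)
theorem x3215 : AuxS.{u} (cP4) s3215 0 a3215 := aux_base3 tw1351 rfl b3215
theorem n3215 : Sound.{u} (cP4) s3215 0 :=
  (x3215.k4 c3215_0 :)
theorem x3216 : AuxS.{u} (cP4) s3216 0 a3216 := aux_base3 tw1352 rfl b3216
theorem n3216 : Sound.{u} (cP4) s3216 0 :=
  (x3216.k4 c3216_0 :)
theorem x3217 : AuxS.{u} (cP4) s3217 0 a3217 := aux_base3 tw1353 rfl b3217
theorem x3217_1 : AuxS.{u} (cP4) s3217 0 a3217_1 := (AuxS.up x3217 c3217_1 :)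
theorem n3217 : Sound.{u} (cP4) s3217 0 :=
  (x3217_1.k7 c3217_0 :)
theorem x3218 : AuxS.{u} (cP4) s3218 0 a3218 := aux_base3 tw1354 rfl b3218
theorem x3218_1 : AuxS.{u} (cP4) s3218 0 a3218_1 := (AuxS.up x3218 c3218_1 :)
theorem n3218 : Sound.{u} (cP4) s3218 0 :=
  (x3218_1.k7 c3218_0 :)
theorem x3219 : AuxS.{u} (cP4) s3219 0 a3219 := aux_base3 tw1355 rfl b3219
theorem x3219_1 : AuxS.{u} (cP4) s3219 0 a3219_1 := x3219
theorem n3219 : Sound.{u} (cP4) s3219 0 :=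
  (x3219_1.fr2 GamS.nil AllS.nil c3219_0 :)
theorem x3220 : AuxS.{u} (cP4) s3220 0 a3220 := aux_base3 tw1356 rfl b3220
theorem x3220_1 : AuxS.{u} (cP4) s3220 0 a3220_1 := x3220
theorem n3220 : Sound.{u} (cP4) s3220 0 :=
  (x3220_1.fr2 GamS.nil AllS.nil c3220_0 :)
theorem x3229 : AuxS.{u} (cP4) s3229 0 a3229 := aux_base3 tw1365 rfl b3229
theorem x3229_1 : AuxS.{u} (cP4) s3229 0 a3229_1 := x3229
theorem n3229 : Sound.{u} (cP4) s3229 0 :=
  (x3229_1.jump c3229_0 c3229_1 n1014 :)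
theorem x3221 : AuxS.{u} (cP4) s3221 0 a3221 := aux_base3 tw1357 rfl b3221
theorem x3221_1 : AuxS.{u} (cP4) s3221 0 a3221_1 := x3221
theorem x3221_2 : AuxS.{u} (cP4) s3221 0 a3221_2 := x3221_1
theorem n3221 : Sound.{u} (cP4) s3221 0 :=
  (x3221_2.fr2 (AuxS.gam x3221_2 c3221_0) (AllS.cons n3229 AllS.nil) c3221_1 :)
theorem x3222 : AuxS.{u} (cP4) s3222 0 a3222 := aux_base3 tw1358 rfl b3222
theorem x3222_1 : AuxS.{u} (cP4) s3222 0 a3222_1 := x3222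
theorem n3222 : Sound.{u} (cP4) s3222 0 :=
  (x3222_1.fr2 GamS.nil AllS.nil c3222_0 :)
theorem x3223 : AuxS.{u} (cP4) s3223 0 a3223 := aux_base3 tw1359 rfl b3223
theorem x3223_1 : AuxS.{u} (cP4) s3223 0 a3223_1 := (AuxS.up x3223 c3223_1 :)
theorem n3223 : Sound.{u} (cP4) s3223 0 :=
  (x3223_1.k7 c3223_0 :)
theorem x3224 : AuxS.{u} (cP4) s3224 0 a3224 := aux_base3 tw1360 rfl b3224
theorem x3224_1 : AuxS.{u} (cP4) s3224 0 a3224_1 := (AuxS.up x3224 c3224_1 :)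
theorem n3224 : Sound.{u} (cP4) s3224 0 :=
  (x3224_1.k7 c3224_0 :)
theorem x3225 : AuxS.{u} (cP4) s3225 0 a3225 := aux_base3 tw1361 rfl b3225
theorem n3225 : Sound.{u} (cP4) s3225 0 :=
  (x3225.k4 c3225_0 :)
theorem x3226 : AuxS.{u} (cP4) s3226 0 a3226 := aux_base3 tw1362 rfl b3226
theorem n3226 : Sound.{u} (cP4) s3226 0 :=
  (x3226.k4 c3226_0 :)
theorem x3227 : AuxS.{u} (cP4) s3227 0 a3227 := aux_base3 tw1363 rfl b3227
theorem n3227 : Sound.{u} (cP4) s3227 0 :=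
  (x3227.k4 c3227_0 :)
theorem x3228 : AuxS.{u} (cP4) s3228 0 a3228 := aux_base3 tw1364 rfl b3228
theorem n3228 : Sound.{u} (cP4) s3228 0 :=
  (x3228.k4 c3228_0 :)
theorem x3170 : AuxS.{u} (cP4) s3170 0 a3170 := aux_base3 tw1340 rfl b3170
theorem x3170_1 : AuxS.{u} (cP4) s3170 0 a3170_1 := x3170
theorem n3170 : Sound.{u} (cP4) s3170 0 :=
  (x3170_1.fr2 GamS.nil (AllS.cons n3213 (AllS.cons n3214 (AllS.cons n3215 (AllS.cons n3216 (AllS.cons n3217 (AllS.cons n3218 (AllS.cons n3219 (AllS.cons n3220 (AllS.cons n3221 (AllS.cons n3222 (AllS.cons n3223 (AllS.cons n3224 (AllS.cons n3225 (AllS.cons n3226 (AllS.cons n3227 (AllS.cons n3228 AllS.nil)))))))))))))))) c3170_0 :)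
theorem x3171 : AuxS.{u} (cP4) s3171 0 a3171 := aux_base3 tw1340 rfl b3171
theorem n3171 : Sound.{u} (cP4) s3171 0 :=
  (x3171.k4 c3171_0 :)
theorem x3172 : AuxS.{u} (cP4) s3172 0 a3172 := aux_base3 tw1340 rfl b3172
theorem n3172 : Sound.{u} (cP4) s3172 0 :=
  (x3172.k4 c3172_0 :)
theorem x3173 : AuxS.{u} (cP4) s3173 0 a3173 := aux_base3 tw1340 rfl b3173
theorem n3173 : Sound.{u} (cP4) s3173 0 :=
  (x3173.k4 c3173_0 :)
theorem x3174 : AuxS.{u} (cP4) s3174 0 a3174 := aux_base3 tw1340 rfl b3174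
theorem n3174 : Sound.{u} (cP4) s3174 0 :=
  (x3174.k4 c3174_0 :)
theorem x3175 : AuxS.{u} (cP4) s3175 0 a3175 := aux_base3 tw1340 rfl b3175
theorem n3175 : Sound.{u} (cP4) s3175 0 :=
  (x3175.k4 c3175_0 :)
theorem x3176 : AuxS.{u} (cP4) s3176 0 a3176 := aux_base3 tw1340 rfl b3176
theorem n3176 : Sound.{u} (cP4) s3176 0 :=
  (x3176.k4 c3176_0 :)
theorem x3177 : AuxS.{u} (cP4) s3177 0 a3177 := aux_base3 tw1340 rfl b3177
theorem n3177 : Sound.{u} (cP4) s3177 0 :=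
  (x3177.k4 c3177_0 :)
theorem x3178 : AuxS.{u} (cP4) s3178 0 a3178 := aux_base3 tw1340 rfl b3178
theorem n3178 : Sound.{u} (cP4) s3178 0 :=
  (x3178.k4 c3178_0 :)
theorem x3179 : AuxS.{u} (cP4) s3179 0 a3179 := aux_base3 tw1340 rfl b3179
theorem n3179 : Sound.{u} (cP4) s3179 0 :=
  (x3179.k4 c3179_0 :)
theorem x3180 : AuxS.{u} (cP4) s3180 0 a3180 := aux_base3 tw1340 rfl b3180
theorem n3180 : Sound.{u} (cP4) s3180 0 :=
  (x3180.k4 c3180_0 :)
theorem x3181 : AuxS.{u} (cP4) s3181 0 a3181 := aux_base3 tw1340 rfl b3181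
theorem n3181 : Sound.{u} (cP4) s3181 0 :=
  (x3181.k4 c3181_0 :)
theorem x3182 : AuxS.{u} (cP4) s3182 0 a3182 := aux_base3 tw1340 rfl b3182
theorem n3182 : Sound.{u} (cP4) s3182 0 :=
  (x3182.k4 c3182_0 :)
theorem x3183 : AuxS.{u} (cP4) s3183 0 a3183 := aux_base3 tw1340 rfl b3183
theorem n3183 : Sound.{u} (cP4) s3183 0 :=
  (x3183.k4 c3183_0 :)
theorem x3184 : AuxS.{u} (cP4) s3184 0 a3184 := aux_base3 tw1340 rfl b3184
theorem n3184 : Sound.{u} (cP4) s3184 0 :=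
  (x3184.k4 c3184_0 :)
theorem x3185 : AuxS.{u} (cP4) s3185 0 a3185 := aux_base3 tw1340 rfl b3185
theorem n3185 : Sound.{u} (cP4) s3185 0 :=
  (x3185.k4 c3185_0 :)
theorem x3230 : AuxS.{u} (cP4) s3230 0 a3230 := aux_base3 tw1366 rfl b3230
theorem x3230_1 : AuxS.{u} (cP4) s3230 0 a3230_1 := (AuxS.up x3230 c3230_1 :)
theorem n3230 : Sound.{u} (cP4) s3230 0 :=
  (x3230_1.k7 c3230_0 :)
theorem x3231 : AuxS.{u} (cP4) s3231 0 a3231 := aux_base3 tw1367 rfl b3231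
theorem x3231_1 : AuxS.{u} (cP4) s3231 0 a3231_1 := (AuxS.up x3231 c3231_1 :)
theorem n3231 : Sound.{u} (cP4) s3231 0 :=
  (x3231_1.k7 c3231_0 :)
theorem x3246 : AuxS.{u} (cP4) s3246 0 a3246 := aux_base3 tw1382 rfl b3246
theorem x3246_1 : AuxS.{u} (cP4) s3246 0 a3246_1 := x3246
theorem n3246 : Sound.{u} (cP4) s3246 0 :=
  (x3246_1.jump c3246_0 c3246_1 n953 :)
theorem x3232 : AuxS.{u} (cP4) s3232 0 a3232 := aux_base3 tw1368 rfl b3232
theorem x3232_1 : AuxS.{u} (cP4) s3232 0 a3232_1 := x3232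
theorem n3232 : Sound.{u} (cP4) s3232 0 :=
  (x3232_1.fr2 (AuxS.gam x3232_1 c3232_0) (AllS.cons n3246 AllS.nil) c3232_1 :)
theorem x3233 : AuxS.{u} (cP4) s3233 0 a3233 := aux_base3 tw1369 rfl b3233
theorem x3233_1 : AuxS.{u} (cP4) s3233 0 a3233_1 := x3233
theorem n3233 : Sound.{u} (cP4) s3233 0 :=
  (x3233_1.fr2 GamS.nil AllS.nil c3233_0 :)
theorem x3234 : AuxS.{u} (cP4) s3234 0 a3234 := aux_base3 tw1370 rfl b3234
theorem n3234 : Sound.{u} (cP4) s3234 0 :=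
  (x3234.k4 c3234_0 :)
theorem x3235 : AuxS.{u} (cP4) s3235 0 a3235 := aux_base3 tw1371 rfl b3235
theorem n3235 : Sound.{u} (cP4) s3235 0 :=
  (x3235.k4 c3235_0 :)
theorem x3236 : AuxS.{u} (cP4) s3236 0 a3236 := aux_base3 tw1372 rfl b3236
theorem n3236 : Sound.{u} (cP4) s3236 0 :=
  (x3236.k4 c3236_0 :)
theorem x3237 : AuxS.{u} (cP4) s3237 0 a3237 := aux_base3 tw1373 rfl b3237
theorem n3237 : Sound.{u} (cP4) s3237 0 :=
  (x3237.k4 c3237_0 :)
theorem x3238 : AuxS.{u} (cP4) s3238 0 a3238 := aux_base3 tw1374 rfl b3238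
theorem n3238 : Sound.{u} (cP4) s3238 0 :=
  (x3238.k4 c3238_0 :)
theorem x3239 : AuxS.{u} (cP4) s3239 0 a3239 := aux_base3 tw1375 rfl b3239
theorem n3239 : Sound.{u} (cP4) s3239 0 :=
  (x3239.k4 c3239_0 :)
theorem x3240 : AuxS.{u} (cP4) s3240 0 a3240 := aux_base3 tw1376 rfl b3240
theorem n3240 : Sound.{u} (cP4) s3240 0 :=
  (x3240.k4 c3240_0 :)
theorem x3241 : AuxS.{u} (cP4) s3241 0 a3241 := aux_base3 tw1377 rfl b3241
theorem n3241 : Sound.{u} (cP4) s3241 0 :=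
  (x3241.k4 c3241_0 :)
theorem x3242 : AuxS.{u} (cP4) s3242 0 a3242 := aux_base3 tw1378 rfl b3242
theorem x3242_1 : AuxS.{u} (cP4) s3242 0 a3242_1 := x3242
theorem x3242_2 : AuxS.{u} (cP4) s3242 0 a3242_2 := x3242_1
theorem n3242 : Sound.{u} (cP4) s3242 0 :=
  (x3242_2.fr2 GamS.nil AllS.nil c3242_0 :)
theorem x3243 : AuxS.{u} (cP4) s3243 0 a3243 := aux_base3 tw1379 rfl b3243
theorem x3243_1 : AuxS.{u} (cP4) s3243 0 a3243_1 := x3243
theorem n3243 : Sound.{u} (cP4) s3243 0 :=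
  (x3243_1.fr2 GamS.nil AllS.nil c3243_0 :)
theorem x3244 : AuxS.{u} (cP4) s3244 0 a3244 := aux_base3 tw1380 rfl b3244
theorem x3244_1 : AuxS.{u} (cP4) s3244 0 a3244_1 := (AuxS.up x3244 c3244_1 :)
theorem n3244 : Sound.{u} (cP4) s3244 0 :=
  (x3244_1.k7 c3244_0 :)
theorem x3245 : AuxS.{u} (cP4) s3245 0 a3245 := aux_base3 tw1381 rfl b3245
theorem x3245_1 : AuxS.{u} (cP4) s3245 0 a3245_1 := (AuxS.up x3245 c3245_1 :)
theorem n3245 : Sound.{u} (cP4) s3245 0 :=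
  (x3245_1.k7 c3245_0 :)
theorem x3186 : AuxS.{u} (cP4) s3186 0 a3186 := aux_base3 tw1340 rfl b3186
theorem x3186_1 : AuxS.{u} (cP4) s3186 0 a3186_1 := x3186
theorem n3186 : Sound.{u} (cP4) s3186 0 :=
  (x3186_1.fr2 GamS.nil (AllS.cons n3230 (AllS.cons n3231 (AllS.cons n3232 (AllS.cons n3233 (AllS.cons n3234 (AllS.cons n3235 (AllS.cons n3236 (AllS.cons n3237 (AllS.cons n3238 (AllS.cons n3239 (AllS.cons n3240 (AllS.cons n3241 (AllS.cons n3242 (AllS.cons n3243 (AllS.cons n3244 (AllS.cons n3245 AllS.nil)))))))))))))))) c3186_0 :)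
theorem x3187 : AuxS.{u} (cP4) s3187 0 a3187 := aux_base3 tw1340 rfl b3187
theorem n3187 : Sound.{u} (cP4) s3187 0 :=
  (x3187.k4 c3187_0 :)
theorem x3188 : AuxS.{u} (cP4) s3188 0 a3188 := aux_base3 tw1340 rfl b3188
theorem n3188 : Sound.{u} (cP4) s3188 0 :=
  (x3188.k4 c3188_0 :)
theorem x3189 : AuxS.{u} (cP4) s3189 0 a3189 := aux_base3 tw1340 rfl b3189
theorem n3189 : Sound.{u} (cP4) s3189 0 :=
  (x3189.k4 c3189_0 :)
theorem x3190 : AuxS.{u} (cP4) s3190 0 a3190 := aux_base3 tw1340 rfl b3190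
theorem n3190 : Sound.{u} (cP4) s3190 0 :=
  (x3190.k4 c3190_0 :)
theorem x3191 : AuxS.{u} (cP4) s3191 0 a3191 := aux_base3 tw1340 rfl b3191
theorem n3191 : Sound.{u} (cP4) s3191 0 :=
  (x3191.k4 c3191_0 :)
theorem x3192 : AuxS.{u} (cP4) s3192 0 a3192 := aux_base3 tw1340 rfl b3192
theorem n3192 : Sound.{u} (cP4) s3192 0 :=
  (x3192.k4 c3192_0 :)
theorem x3193 : AuxS.{u} (cP4) s3193 0 a3193 := aux_base3 tw1340 rfl b3193
theorem n3193 : Sound.{u} (cP4) s3193 0 :=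
  (x3193.k4 c3193_0 :)
theorem x3194 : AuxS.{u} (cP4) s3194 0 a3194 := aux_base3 tw1340 rfl b3194
theorem n3194 : Sound.{u} (cP4) s3194 0 :=
  (x3194.k4 c3194_0 :)
theorem x3195 : AuxS.{u} (cP4) s3195 0 a3195 := aux_base3 tw1340 rfl b3195
theorem n3195 : Sound.{u} (cP4) s3195 0 :=
  (x3195.k4 c3195_0 :)
theorem x3196 : AuxS.{u} (cP4) s3196 0 a3196 := aux_base3 tw1340 rfl b3196
theorem n3196 : Sound.{u} (cP4) s3196 0 :=
  (x3196.k4 c3196_0 :)
theorem x3197 : AuxS.{u} (cP4) s3197 0 a3197 := aux_base3 tw1340 rfl b3197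
theorem n3197 : Sound.{u} (cP4) s3197 0 :=
  (x3197.k4 c3197_0 :)
theorem x3198 : AuxS.{u} (cP4) s3198 0 a3198 := aux_base3 tw1340 rfl b3198
theorem n3198 : Sound.{u} (cP4) s3198 0 :=
  (x3198.k4 c3198_0 :)
theorem x3199 : AuxS.{u} (cP4) s3199 0 a3199 := aux_base3 tw1340 rfl b3199
theorem n3199 : Sound.{u} (cP4) s3199 0 :=
  (x3199.k4 c3199_0 :)
theorem x3200 : AuxS.{u} (cP4) s3200 0 a3200 := aux_base3 tw1340 rfl b3200
theorem n3200 : Sound.{u} (cP4) s3200 0 :=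
  (x3200.k4 c3200_0 :)
theorem x3201 : AuxS.{u} (cP4) s3201 0 a3201 := aux_base3 tw1340 rfl b3201
theorem n3201 : Sound.{u} (cP4) s3201 0 :=
  (x3201.k4 c3201_0 :)
theorem x3202 : AuxS.{u} (cP4) s3202 0 a3202 := aux_base3 tw1340 rfl b3202
theorem n3202 : Sound.{u} (cP4) s3202 0 :=
  (x3202.k4 c3202_0 :)
theorem x3203 : AuxS.{u} (cP4) s3203 0 a3203 := aux_base3 tw1340 rfl b3203
theorem n3203 : Sound.{u} (cP4) s3203 0 :=
  (x3203.k4 c3203_0 :)
theorem x3204 : AuxS.{u} (cP4) s3204 0 a3204 := aux_base3 tw1340 rfl b3204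
theorem n3204 : Sound.{u} (cP4) s3204 0 :=
  (x3204.k4 c3204_0 :)
theorem x3205 : AuxS.{u} (cP4) s3205 0 a3205 := aux_base3 tw1340 rfl b3205
theorem n3205 : Sound.{u} (cP4) s3205 0 :=
  (x3205.k4 c3205_0 :)
theorem x3206 : AuxS.{u} (cP4) s3206 0 a3206 := aux_base3 tw1340 rfl b3206
theorem n3206 : Sound.{u} (cP4) s3206 0 :=
  (x3206.k4 c3206_0 :)
theorem x3207 : AuxS.{u} (cP4) s3207 0 a3207 := aux_base3 tw1340 rfl b3207
theorem n3207 : Sound.{u} (cP4) s3207 0 :=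
  (x3207.k4 c3207_0 :)
theorem x3208 : AuxS.{u} (cP4) s3208 0 a3208 := aux_base3 tw1340 rfl b3208
theorem n3208 : Sound.{u} (cP4) s3208 0 :=
  (x3208.k4 c3208_0 :)
theorem x3209 : AuxS.{u} (cP4) s3209 0 a3209 := aux_base3 tw1340 rfl b3209
theorem n3209 : Sound.{u} (cP4) s3209 0 :=
  (x3209.k4 c3209_0 :)
theorem x3210 : AuxS.{u} (cP4) s3210 0 a3210 := aux_base3 tw1340 rfl b3210
theorem n3210 : Sound.{u} (cP4) s3210 0 :=
  (x3210.k4 c3210_0 :)
theorem x3211 : AuxS.{u} (cP4) s3211 0 a3211 := aux_base3 tw1340 rfl b3211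
theorem n3211 : Sound.{u} (cP4) s3211 0 :=
  (x3211.k4 c3211_0 :)
theorem x3212 : AuxS.{u} (cP4) s3212 0 a3212 := aux_base3 tw1340 rfl b3212
theorem n3212 : Sound.{u} (cP4) s3212 0 :=
  (x3212.k4 c3212_0 :)
theorem x3140 : AuxS.{u} (cP4) s3140 0 a3140 := aux_base3 tw1340 rfl b3140
theorem x3140_1 : AuxS.{u} (cP4) s3140 0 a3140_1 := x3140
theorem n3140 : Sound.{u} (cP4) s3140 0 :=
  (x3140_1.fr (AuxS.gam x3140_1 c3140_0) (AllS.cons n3149 (AllS.cons n3150 (AllS.cons n3151 (AllS.cons n3152 (AllS.cons n3153 (AllS.cons n3154 (AllS.cons n3155 (AllS.cons n3156 (AllS.cons n3157 (AllS.cons n3158 (AllS.cons n3159 (AllS.cons n3160 (AllS.cons n3161 (AllS.cons n3162 (AllS.cons n3163 (AllS.cons n3164 (AllS.cons n3165 (AllS.cons n3166 (AllS.cons n3167 (AllS.cons n3168 (AllS.cons n3169 (AllS.cons n3170 (AllS.cons n3171 (AllS.cons n3172 (AllS.cons n3173 (AllS.cons n3174 (AllS.cons n3175 (AllS.cons n3176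 (AllS.cons n3177 (AllS.cons n3178 (AllS.cons n3179 (AllS.cons n3180 (AllS.cons n3181 (AllS.cons n3182 (AllS.cons n3183 (AllS.cons n3184 (AllS.cons n3185 (AllS.cons n3186 (AllS.cons n3187 (AllS.cons n3188 (AllS.cons n3189 (AllS.cons n3190 (AllS.cons n3191 (AllS.cons n3192 (AllS.cons n3193 (AllS.cons n3194 (AllS.cons n3195 (AllS.cons n3196 (AllS.cons n3197 (AllS.cons n3198 (AllS.cons n3199 (AllS.cons n3200 (AllS.cons n3201 (AllS.cons n3202 (AllS.cons n3203 (AllS.cons n3204 (AllS.cons n3205 (AllS.cons n3206 (AllS.cons n3207 (AllS.cons n3208 (AllS.cons n3209 (AllS.cons n3210 (AllS.cons n3211 (AllS.cons n3212 AllS.nil)))))))))))))))))))))))))))))))))))))))))))))))))))))))))))))))) c3140_1 :)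
theorem x3141 : AuxS.{u} (cP4) s3141 0 a3141 := aux_base3 tw1341 rfl b3141
theorem x3141_1 : AuxS.{u} (cP4) s3141 0 a3141_1 := x3141
theorem n3141 : Sound.{u} (cP4) s3141 0 :=
  (x3141_1.fr GamS.nil AllS.nil c3141_0 :)
theorem x3142 : AuxS.{u} (cP4) s3142 0 a3142 := aux_base3 tw1342 rfl b3142
theorem x3142_1 : AuxS.{u} (cP4) s3142 0 a3142_1 := x3142
theorem n3142 : Sound.{u} (cP4) s3142 0 :=
  (x3142_1.fr GamS.nil AllS.nil c3142_0 :)
theorem x3143 : AuxS.{u} (cP4) s3143 0 a3143 := aux_base3 tw1343 rfl b3143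
theorem x3143_1 : AuxS.{u} (cP4) s3143 0 a3143_1 := x3143
theorem n3143 : Sound.{u} (cP4) s3143 0 :=
  (x3143_1.fr GamS.nil AllS.nil c3143_0 :)
theorem x3144 : AuxS.{u} (cP4) s3144 0 a3144 := aux_base3 tw1344 rfl b3144
theorem x3144_1 : AuxS.{u} (cP4) s3144 0 a3144_1 := x3144
theorem n3144 : Sound.{u} (cP4) s3144 0 :=
  (x3144_1.fr GamS.nil AllS.nil c3144_0 :)
theorem x3145 : AuxS.{u} (cP4) s3145 0 a3145 := aux_base3 tw1345 rfl b3145
theorem x3145_1 : AuxS.{u} (cP4) s3145 0 a3145_1 := x3145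
theorem x3145_2 : AuxS.{u} (cP4) s3145 0 a3145_2 := x3145_1
theorem n3145 : Sound.{u} (cP4) s3145 0 :=
  (x3145_2.fr GamS.nil AllS.nil c3145_0 :)
theorem x3146 : AuxS.{u} (cP4) s3146 0 a3146 := aux_base3 tw1346 rfl b3146
theorem x3146_1 : AuxS.{u} (cP4) s3146 0 a3146_1 := x3146
theorem n3146 : Sound.{u} (cP4) s3146 0 :=
  (x3146_1.fr GamS.nil AllS.nil c3146_0 :)
theorem x3147 : AuxS.{u} (cP4) s3147 0 a3147 := aux_base3 tw1347 rfl b3147
theorem x3147_1 : AuxS.{u} (cP4) s3147 0 a3147_1 := x3147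
theorem x3147_2 : AuxS.{u} (cP4) s3147 0 a3147_2 := x3147_1
theorem n3147 : Sound.{u} (cP4) s3147 0 :=
  (x3147_2.fr GamS.nil AllS.nil c3147_0 :)
theorem x3148 : AuxS.{u} (cP4) s3148 0 a3148 := aux_base3 tw1348 rfl b3148
theorem x3148_1 : AuxS.{u} (cP4) s3148 0 a3148_1 := x3148
theorem n3148 : Sound.{u} (cP4) s3148 0 :=
  (x3148_1.fr GamS.nil AllS.nil c3148_0 :)
theorem x3132 : AuxS.{u} (cP4) s3132 0 a3132 := aux_base3 tw1318 rfl b3132
theorem x3132_1 : AuxS.{u} (cP4) s3132 0 a3132_1 := (AuxS.up x3132 c3132_6 :)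
theorem x3132_2 : AuxS.{u} (cP4) s3132 0 a3132_2 := x3132_1
theorem p3132_0_1 : Phs s3132 a3132_2 (List.map Prod.fst g3132_0) [s3133, s3134, s3135, s3136, s3137, s3138, s3139, s3140, s3141, s3142, s3143, s3144, s3145, s3146, s3147, s3148] ct3132_0 v3132_0 5 w3132_0_1 := (Phs.fin c3132_1)
theorem p3132_0_3 : Phs s3132 a3132_2 (List.map Prod.fst g3132_0) [s3133, s3134, s3135, s3136, s3137, s3138, s3139, s3140, s3141, s3142, s3143, s3144, s3145, s3146, s3147, s3148] ct3132_0 v3132_0 4 w3132_0_3 := (Phs.stp c3132_2 p3132_0_1)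
theorem p3132_0_5 : Phs s3132 a3132_2 (List.map Prod.fst g3132_0) [s3133, s3134, s3135, s3136, s3137, s3138, s3139, s3140, s3141, s3142, s3143, s3144, s3145, s3146, s3147, s3148] ct3132_0 v3132_0 1 w3132_0_5 := (Phs.stp c3132_3 p3132_0_3)
theorem n3132 : Sound.{u} (cP4) s3132 0 :=
  (x3132_2.ext2 (fun h => absurd h (by decide)) (AuxS.gam x3132_2 c3132_0) (AllS.cons n3133 (AllS.cons n3134 (AllS.cons n3135 (AllS.cons n3136 (AllS.cons n3137 (AllS.cons n3138 (AllS.cons n3139 (AllS.cons n3140 (AllS.cons n3141 (AllS.cons n3142 (AllS.cons n3143 (AllS.cons n3144 (AllS.cons n3145 (AllS.cons n3146 (AllS.cons n3147 (AllS.cons n3148 AllS.nil)))))))))))))))) c3132_5 (Phs.stp c3132_4 p3132_0_5) (Phs.fin (ct := ct3132_0) rfl) :)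
theorem x3131 : AuxS.{u} (cP4) s3131 0 a3131 := aux_base3 tw1332 rfl b3131
theorem x3131_1 : AuxS.{u} (cP4) s3131 0 a3131_1 := x3131
theorem x3131_2 : AuxS.{u} (cP4) s3131 0 a3131_2 := x3131_1
theorem n3131 : Sound.{u} (cP4) s3131 0 :=
  (x3131_2.jump c3131_0 c3131_1 n3132 :)
theorem x3129 : AuxS.{u} (cP4) s3129 0 a3129 := aux_base3 tw1332 rfl b3129
theorem x3129_1 : AuxS.{u} (cP4) s3129 0 a3129_1 := x3129
theorem x3129_2 : AuxS.{u} (cP4) s3129 0 a3129_2 := x3129_1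
theorem n3129 : Sound.{u} (cP4) s3129 0 :=
  (x3129_2.fr GamS.nil (AllS.cons n3130 (AllS.cons n3131 AllS.nil)) c3129_0 :)
theorem x3115 : AuxS.{u} (cP4) s3115 0 a3115 := aux_base3 tw1318 rfl b3115
theorem x3115_1 : AuxS.{u} (cP4) s3115 0 a3115_1 := (AuxS.up x3115 c3115_7 :)
theorem x3115_2 : AuxS.{u} (cP4) s3115 0 a3115_2 := x3115_1
theorem p3115_0_1 : Phs s3115 a3115_2 (List.map Prod.fst g3115_0) [s3129] ct3115_0 v3115_0 5 w3115_0_1 := (Phs.fin c3115_1)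
theorem p3115_0_3 : Phs s3115 a3115_2 (List.map Prod.fst g3115_0) [s3129] ct3115_0 v3115_0 4 w3115_0_3 := (Phs.stp c3115_2 p3115_0_1)
theorem p3115_0_5 : Phs s3115 a3115_2 (List.map Prod.fst g3115_0) [s3129] ct3115_0 v3115_0 3 w3115_0_5 := (Phs.stp c3115_3 p3115_0_3)
theorem p3115_0_7 : Phs s3115 a3115_2 (List.map Prod.fst g3115_0) [s3129] ct3115_0 v3115_0 1 w3115_0_7 := (Phs.stp c3115_4 p3115_0_5)
theorem n3115 : Sound.{u} (cP4) s3115 0 :=
  (x3115_2.ext2 (fun h => absurd h (by decide)) (AuxS.gam x3115_2 c3115_0) (AllS.cons n3129 AllS.nil) c3115_6 (Phs.stp c3115_5 p3115_0_7) (Phs.fin (ct := ct3115_0) rfl) :)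
theorem x3116 : AuxS.{u} (cP4) s3116 0 a3116 := aux_base3 tw1319 rfl b3116
theorem x3116_1 : AuxS.{u} (cP4) s3116 0 a3116_1 := (AuxS.up x3116 c3116_1 :)
theorem x3116_2 : AuxS.{u} (cP4) s3116 0 a3116_2 := (AuxS.up2 x3116_1 c3116_2 :)
theorem n3116 : Sound.{u} (cP4) s3116 0 :=
  (x3116_2.k7 c3116_0 :)
theorem x3117 : AuxS.{u} (cP4) s3117 0 a3117 := aux_base3 tw1320 rfl b3117
theorem x3117_1 : AuxS.{u} (cP4) s3117 0 a3117_1 := (AuxS.up x3117 c3117_1 :)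
theorem n3117 : Sound.{u} (cP4) s3117 0 :=
  (x3117_1.k7 c3117_0 :)
theorem x3118 : AuxS.{u} (cP4) s3118 0 a3118 := aux_base3 tw1321 rfl b3118
theorem x3118_1 : AuxS.{u} (cP4) s3118 0 a3118_1 := (AuxS.up x3118 c3118_1 :)
theorem n3118 : Sound.{u} (cP4) s3118 0 :=
  (x3118_1.k7 c3118_0 :)
theorem x3119 : AuxS.{u} (cP4) s3119 0 a3119 := aux_base3 tw1322 rfl b3119
theorem x3119_1 : AuxS.{u} (cP4) s3119 0 a3119_1 := (AuxS.up x3119 c3119_5 :)
theorem x3119_2 : AuxS.{u} (cP4) s3119 0 a3119_2 := (AuxS.up2 x3119_1 c3119_6 :)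
theorem p3119_0_1 : Phs s3119 a3119_2 [] [] ct3119_0 v3119_0 4 w3119_0_1 := (Phs.fin c3119_0)
theorem p3119_0_3 : Phs s3119 a3119_2 [] [] ct3119_0 v3119_0 3 w3119_0_3 := (Phs.stp c3119_1 p3119_0_1)
theorem p3119_0_5 : Phs s3119 a3119_2 [] [] ct3119_0 v3119_0 1 w3119_0_5 := (Phs.stp c3119_2 p3119_0_3)
theorem n3119 : Sound.{u} (cP4) s3119 0 :=
  (x3119_2.ext2 (fun h => absurd h (by decide)) GamS.nil AllS.nil c3119_4 (Phs.stp c3119_3 p3119_0_5) (Phs.fin (ct := ct3119_0) rfl) :)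
theorem x3120 : AuxS.{u} (cP4) s3120 0 a3120 := aux_base3 tw1323 rfl b3120
theorem x3120_1 : AuxS.{u} (cP4) s3120 0 a3120_1 := (AuxS.up x3120 c3120_6 :)
theorem x3120_2 : AuxS.{u} (cP4) s3120 0 a3120_2 := x3120_1
theorem p3120_0_1 : Phs s3120 a3120_2 [] [] ct3120_0 v3120_0 5 w3120_0_1 := (Phs.fin c3120_0)
theorem p3120_0_3 : Phs s3120 a3120_2 [] [] ct3120_0 v3120_0 4 w3120_0_3 := (Phs.stp c3120_1 p3120_0_1)
theorem p3120_0_5 : Phs s3120 a3120_2 [] [] ct3120_0 v3120_0 3 w3120_0_5 := (Phs.stp c3120_2 p3120_0_3)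
theorem p3120_0_7 : Phs s3120 a3120_2 [] [] ct3120_0 v3120_0 1 w3120_0_7 := (Phs.stp c3120_3 p3120_0_5)
theorem n3120 : Sound.{u} (cP4) s3120 0 :=
  (x3120_2.ext2 (fun h => absurd h (by decide)) GamS.nil AllS.nil c3120_5 (Phs.stp c3120_4 p3120_0_7) (Phs.fin (ct := ct3120_0) rfl) :)
theorem x3121 : AuxS.{u} (cP4) s3121 0 a3121 := aux_base3 tw1324 rfl b3121
theorem x3121_1 : AuxS.{u} (cP4) s3121 0 a3121_1 := (AuxS.up x3121 c3121_1 :)
theorem x3121_2 : AuxS.{u} (cP4) s3121 0 a3121_2 := (AuxS.up2 x3121_1 c3121_2 :)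
theorem n3121 : Sound.{u} (cP4) s3121 0 :=
  (x3121_2.k7 c3121_0 :)
theorem x3122 : AuxS.{u} (cP4) s3122 0 a3122 := aux_base3 tw1325 rfl b3122
theorem x3122_1 : AuxS.{u} (cP4) s3122 0 a3122_1 := (AuxS.up x3122 c3122_1 :)
theorem n3122 : Sound.{u} (cP4) s3122 0 :=
  (x3122_1.k7 c3122_0 :)
theorem x3248 : AuxS.{u} (cP4) s3248 0 a3248 := aux_base3 tw1383 rfl b3248
theorem n3248 : Sound.{u} (cP4) s3248 0 :=
  (x3248.k4 c3248_0 :)
theorem x3257 : AuxS.{u} (cP4) s3257 0 a3257 := aux_base3 tw1384 rfl b3257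
theorem x3257_1 : AuxS.{u} (cP4) s3257 0 a3257_1 := x3257
theorem x3257_2 : AuxS.{u} (cP4) s3257 0 a3257_2 := x3257_1
theorem n3257 : Sound.{u} (cP4) s3257 0 :=
  (x3257_2.jump c3257_0 c3257_1 n1477 :)
theorem x3255 : AuxS.{u} (cP4) s3255 0 a3255 := aux_base3 tw1384 rfl b3255
theorem x3255_1 : AuxS.{u} (cP4) s3255 0 a3255_1 := x3255
theorem x3255_2 : AuxS.{u} (cP4) s3255 0 a3255_2 := x3255_1
theorem n3255 : Sound.{u} (cP4) s3255 0 :=
  (x3255_2.jump c3255_0 c3255_1 n3257 :)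
theorem x3256 : AuxS.{u} (cP4) s3256 0 a3256 := aux_base3 tw1384 rfl b3256
theorem n3256 : Sound.{u} (cP4) s3256 0 :=
  (x3256.k4 c3256_0 :)
theorem x3251 : AuxS.{u} (cP4) s3251 0 a3251 := aux_base3 tw1384 rfl b3251
theorem x3251_1 : AuxS.{u} (cP4) s3251 0 a3251_1 := x3251
theorem x3251_2 : AuxS.{u} (cP4) s3251 0 a3251_2 := x3251_1
theorem n3251 : Sound.{u} (cP4) s3251 0 :=
  (x3251_2.fr GamS.nil (AllS.cons n3255 (AllS.cons n3256 AllS.nil)) c3251_0 :)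
theorem x3252 : AuxS.{u} (cP4) s3252 0 a3252 := aux_base3 tw1385 rfl b3252
theorem n3252 : Sound.{u} (cP4) s3252 0 :=
  (x3252.k4 c3252_0 :)
theorem x3253 : AuxS.{u} (cP4) s3253 0 a3253 := aux_base3 tw1386 rfl b3253
theorem n3253 : Sound.{u} (cP4) s3253 0 :=
  (x3253.k4 c3253_0 :)
theorem x3260 : AuxS.{u} (cP4) s3260 0 a3260 := aux_base3 tw1387 rfl b3260
theorem x3260_1 : AuxS.{u} (cP4) s3260 0 a3260_1 := x3260
theorem x3260_2 : AuxS.{u} (cP4) s3260 0 a3260_2 := x3260_1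
theorem n3260 : Sound.{u} (cP4) s3260 0 :=
  (x3260_2.jump c3260_0 c3260_1 n1488 :)
theorem x3258 : AuxS.{u} (cP4) s3258 0 a3258 := aux_base3 tw1387 rfl b3258
theorem x3258_1 : AuxS.{u} (cP4) s3258 0 a3258_1 := x3258
theorem x3258_2 : AuxS.{u} (cP4) s3258 0 a3258_2 := x3258_1
theorem n3258 : Sound.{u} (cP4) s3258 0 :=
  (x3258_2.jump c3258_0 c3258_1 n3260 :)
theorem x3259 : AuxS.{u} (cP4) s3259 0 a3259 := aux_base3 tw1387 rfl b3259
theorem n3259 : Sound.{u} (cP4) s3259 0 :=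
  (x3259.k4 c3259_0 :)
theorem x3254 : AuxS.{u} (cP4) s3254 0 a3254 := aux_base3 tw1387 rfl b3254
theorem x3254_1 : AuxS.{u} (cP4) s3254 0 a3254_1 := x3254
theorem x3254_2 : AuxS.{u} (cP4) s3254 0 a3254_2 := x3254_1
theorem n3254 : Sound.{u} (cP4) s3254 0 :=
  (x3254_2.fr GamS.nil (AllS.cons n3258 (AllS.cons n3259 AllS.nil)) c3254_0 :)
theorem x3250 : AuxS.{u} (cP4) s3250 0 a3250 := aux_base3 tw1326 rfl b3250
theorem x3250_1 : AuxS.{u} (cP4) s3250 0 a3250_1 := (AuxS.up x3250 c3250_5 :)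
theorem x3250_2 : AuxS.{u} (cP4) s3250 0 a3250_2 := x3250_1
theorem p3250_0_1 : Phs s3250 a3250_2 [] [s3251, s3252, s3253, s3254] ct3250_0 v3250_0 5 w3250_0_1 := (Phs.fin c3250_0)
theorem p3250_0_3 : Phs s3250 a3250_2 [] [s3251, s3252, s3253, s3254] ct3250_0 v3250_0 4 w3250_0_3 := (Phs.stp c3250_1 p3250_0_1)
theorem p3250_0_5 : Phs s3250 a3250_2 [] [s3251, s3252, s3253, s3254] ct3250_0 v3250_0 1 w3250_0_5 := (Phs.stp c3250_2 p3250_0_3)
theorem n3250 : Sound.{u} (cP4) s3250 0 :=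
  (x3250_2.ext2 (fun h => absurd h (by decide)) GamS.nil (AllS.cons n3251 (AllS.cons n3252 (AllS.cons n3253 (AllS.cons n3254 AllS.nil)))) c3250_4 (Phs.stp c3250_3 p3250_0_5) (Phs.fin (ct := ct3250_0) rfl) :)
theorem x3249 : AuxS.{u} (cP4) s3249 0 a3249 := aux_base3 tw1383 rfl b3249
theorem x3249_1 : AuxS.{u} (cP4) s3249 0 a3249_1 := x3249
theorem x3249_2 : AuxS.{u} (cP4) s3249 0 a3249_2 := x3249_1
theorem n3249 : Sound.{u} (cP4) s3249 0 :=
  (x3249_2.jump c3249_0 c3249_1 n3250 :)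
theorem x3247 : AuxS.{u} (cP4) s3247 0 a3247 := aux_base3 tw1383 rfl b3247
theorem x3247_1 : AuxS.{u} (cP4) s3247 0 a3247_1 := x3247
theorem x3247_2 : AuxS.{u} (cP4) s3247 0 a3247_2 := x3247_1
theorem n3247 : Sound.{u} (cP4) s3247 0 :=
  (x3247_2.fr GamS.nil (AllS.cons n3248 (AllS.cons n3249 AllS.nil)) c3247_0 :)
theorem x3123 : AuxS.{u} (cP4) s3123 0 a3123 := aux_base3 tw1326 rfl b3123
theorem x3123_1 : AuxS.{u} (cP4) s3123 0 a3123_1 := (AuxS.up x3123 c3123_7 :)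
theorem x3123_2 : AuxS.{u} (cP4) s3123 0 a3123_2 := x3123_1
theorem p3123_0_1 : Phs s3123 a3123_2 (List.map Prod.fst g3123_0) [s3247] ct3123_0 v3123_0 5 w3123_0_1 := (Phs.fin c3123_1)
theorem p3123_0_3 : Phs s3123 a3123_2 (List.map Prod.fst g3123_0) [s3247] ct3123_0 v3123_0 4 w3123_0_3 := (Phs.stp c3123_2 p3123_0_1)
theorem p3123_0_5 : Phs s3123 a3123_2 (List.map Prod.fst g3123_0) [s3247] ct3123_0 v3123_0 3 w3123_0_5 := (Phs.stp c3123_3 p3123_0_3)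
theorem p3123_0_7 : Phs s3123 a3123_2 (List.map Prod.fst g3123_0) [s3247] ct3123_0 v3123_0 1 w3123_0_7 := (Phs.stp c3123_4 p3123_0_5)
theorem n3123 : Sound.{u} (cP4) s3123 0 :=
  (x3123_2.ext2 (fun h => absurd h (by decide)) (AuxS.gam x3123_2 c3123_0) (AllS.cons n3247 AllS.nil) c3123_6 (Phs.stp c3123_5 p3123_0_7) (Phs.fin (ct := ct3123_0) rfl) :)
theorem x3124 : AuxS.{u} (cP4) s3124 0 a3124 := aux_base3 tw1327 rfl b3124
theorem x3124_1 : AuxS.{u} (cP4) s3124 0 a3124_1 := (AuxS.up x3124 c3124_1 :)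
theorem n3124 : Sound.{u} (cP4) s3124 0 :=
  (x3124_1.k7 c3124_0 :)
theorem x3125 : AuxS.{u} (cP4) s3125 0 a3125 := aux_base3 tw1328 rfl b3125
theorem x3125_1 : AuxS.{u} (cP4) s3125 0 a3125_1 := (AuxS.up x3125 c3125_1 :)
theorem n3125 : Sound.{u} (cP4) s3125 0 :=
  (x3125_1.k7 c3125_0 :)
theorem x3126 : AuxS.{u} (cP4) s3126 0 a3126 := aux_base3 tw1329 rfl b3126
theorem x3126_1 : AuxS.{u} (cP4) s3126 0 a3126_1 := (AuxS.up x3126 c3126_1 :)
theorem x3126_2 : AuxS.{u} (cP4) s3126 0 a3126_2 := (AuxS.up2 x3126_1 c3126_2 :)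
theorem n3126 : Sound.{u} (cP4) s3126 0 :=
  (x3126_2.k7 c3126_0 :)
theorem x3127 : AuxS.{u} (cP4) s3127 0 a3127 := aux_base3 tw1330 rfl b3127
theorem x3127_1 : AuxS.{u} (cP4) s3127 0 a3127_1 := (AuxS.up x3127 c3127_1 :)
theorem n3127 : Sound.{u} (cP4) s3127 0 :=
  (x3127_1.k7 c3127_0 :)
theorem x3128 : AuxS.{u} (cP4) s3128 0 a3128 := aux_base3 tw1331 rfl b3128
theorem x3128_1 : AuxS.{u} (cP4) s3128 0 a3128_1 := (AuxS.up x3128 c3128_6 :)
theorem x3128_2 : AuxS.{u} (cP4) s3128 0 a3128_2 := x3128_1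
theorem x3128_3 : AuxS.{u} (cP4) s3128 0 a3128_3 := x3128_2
theorem p3128_0_1 : Phs s3128 a3128_3 [] [] ct3128_0 v3128_0 5 w3128_0_1 := (Phs.fin c3128_0)
theorem p3128_0_3 : Phs s3128 a3128_3 [] [] ct3128_0 v3128_0 4 w3128_0_3 := (Phs.stp c3128_1 p3128_0_1)
theorem p3128_0_5 : Phs s3128 a3128_3 [] [] ct3128_0 v3128_0 3 w3128_0_5 := (Phs.stp c3128_2 p3128_0_3)
theorem p3128_0_7 : Phs s3128 a3128_3 [] [] ct3128_0 v3128_0 1 w3128_0_7 := (Phs.stp c3128_3 p3128_0_5)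
theorem n3128 : Sound.{u} (cP4) s3128 0 :=
  (x3128_3.ext2 (fun h => absurd h (by decide)) GamS.nil AllS.nil c3128_5 (Phs.stp c3128_4 p3128_0_7) (Phs.fin (ct := ct3128_0) rfl) :)
theorem x27 : AuxS.{u} (cP4) s27 0 a27 := aux_base3 tw27 rfl b27
theorem x27_1 : AuxS.{u} (cP4) s27 0 a27_1 := (AuxS.up x27 c27_4 :)
theorem p27_0_1 : Phs s27 a27_1 [] [s3113, s3114, s3115, s3116, s3117, s3118, s3119, s3120, s3121, s3122, s3123, s3124, s3125, s3126, s3127, s3128] ct27_0 v27_0 4 w27_0_1 := (Phs.fin c27_0)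
theorem p27_0_3 : Phs s27 a27_1 [] [s3113, s3114, s3115, s3116, s3117, s3118, s3119, s3120, s3121, s3122, s3123, s3124, s3125, s3126, s3127, s3128] ct27_0 v27_0 2 w27_0_3 := (Phs.stp c27_1 p27_0_1)
theorem n27 : Sound.{u} (cP4) s27 0 :=
  (x27_1.ext2 (fun h => absurd h (by decide)) GamS.nil (AllS.cons n3113 (AllS.cons n3114 (AllS.cons n3115 (AllS.cons n3116 (AllS.cons n3117 (AllS.cons n3118 (AllS.cons n3119 (AllS.cons n3120 (AllS.cons n3121 (AllS.cons n3122 (AllS.cons n3123 (AllS.cons n3124 (AllS.cons n3125 (AllS.cons n3126 (AllS.cons n3127 (AllS.cons n3128 AllS.nil)))))))))))))))) c27_3 (Phs.stp c27_2 p27_0_3) (Phs.fin (ct := ct27_0) rfl) :)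
theorem x28 : AuxS.{u} (cP4) s28 0 a28 := aux_base3 tw28 rfl b28
theorem x28_1 : AuxS.{u} (cP4) s28 0 a28_1 := (AuxS.up x28 c28_1 :)
theorem n28 : Sound.{u} (cP4) s28 0 :=
  (x28_1.k7 c28_0 :)
theorem x29 : AuxS.{u} (cP4) s29 0 a29 := aux_base3 tw29 rfl b29
theorem n29 : Sound.{u} (cP4) s29 0 :=
  (x29.k3 c29_0 :)
theorem x30 : AuxS.{u} (cP4) s30 0 a30 := aux_base3 tw30 rfl b30
theorem n30 : Sound.{u} (cP4) s30 0 :=
  (x30.k3 c30_0 :)
theorem x31 : AuxS.{u} (cP4) s31 0 a31 := aux_base3 tw31 rfl b31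
theorem n31 : Sound.{u} (cP4) s31 0 :=
  (x31.k3 c31_0 :)
theorem x32 : AuxS.{u} (cP4) s32 0 a32 := aux_base3 tw32 rfl b32
theorem n32 : Sound.{u} (cP4) s32 0 :=
  (x32.k3 c32_0 :)
theorem x0 : AuxS.{u} (cP4) s0 0 a0 := aux_base3 tw0 rfl b0
theorem x0_1 : AuxS.{u} (cP4) s0 0 a0_1 := (AuxS.up x0 c0_3 :)
theorem p0_0_1 : Phs s0 a0_1 [] [s1, s2, s3, s4, s5, s6, s7, s8, s9, s10, s11, s12, s13, s14, s15, s16, s17, s18, s19, s20, s21, s22, s23, s24, s25, s26, s27, s28, s29, s30, s31, s32] ct0_0 v0_0 2 w0_0_1 := (Phs.fin c0_0)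
theorem n0 : Sound.{u} (cP4) s0 0 :=
  (x0_1.ext2 (fun h => absurd h (by decide)) GamS.nil (AllS.cons n1 (AllS.cons n2 (AllS.cons n3 (AllS.cons n4 (AllS.cons n5 (AllS.cons n6 (AllS.cons n7 (AllS.cons n8 (AllS.cons n9 (AllS.cons n10 (AllS.cons n11 (AllS.cons n12 (AllS.cons n13 (AllS.cons n14 (AllS.cons n15 (AllS.cons n16 (AllS.cons n17 (AllS.cons n18 (AllS.cons n19 (AllS.cons n20 (AllS.cons n21 (AllS.cons n22 (AllS.cons n23 (AllS.cons n24 (AllS.cons n25 (AllS.cons n26 (AllS.cons n27 (AllS.cons n28 (AllS.cons n29 (AllS.cons n30 (AllS.cons n31 (AllS.cons n32 AllS.nil)))))))))))))))))))))))))))))))) c0_2 (Phs.stp c0_1 p0_0_1) (Phs.fin (ct := ct0_0) rfl) :)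

theorem main : Sound.{u} (cP4) (root 0) 0 := n0

end

end CfsgLib.Dih8.TP4
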