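import Cfsg.Agent.Lib.Dih8.G.TS8C0
import Cfsg.Agent.Lib.Dih8.Rules

/-! Generated certificates (plans/DIH8.md). -/

set_option autoImplicit false
set_option maxRecDepth 100000
set_option Elab.async false
set_option maxHeartbeats 0
set_option linter.all false

namespace CfsgLib.Dih8.TS8

noncomputable section

universe u

theorem tw5 : Tow.{u} l5 t5 := tow_of tc5_0 (Rng.zero.step tc5_1) (Rng.zero.step tc5_2)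
theorem tw1 : Tow.{u} l1 t1 := tow_of tc1_0 (Rng.zero.step tc1_1) (Rng.zero.step tc1_2)
theorem tw2 : Tow.{u} l2 t2 := tow_of tc2_0 (Rng.zero.step tc2_1) (Rng.zero.step tc2_2)
theorem tw3 : Tow.{u} l3 t3 := tow_of tc3_0 (Rng.zero.step tc3_1) (Rng.zero.step tc3_2)
theorem tw4 : Tow.{u} l4 t4 := tow_of tc4_0 (Rng.zero.step tc4_1) (Rng.zero.step tc4_2)
theorem tw0 : Tow.{u} [] t0 := tow_of tc0_0 (Rng.zero.step tc0_1) (Rng.zero.step tc0_2)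
theorem x7 : AuxS.{u} (cS8) s7 0 a7 := aux_base3 tw5 rfl b7
theorem x7_1 : AuxS.{u} (cS8) s7 0 a7_1 := (AuxS.up x7 c7_4 :)
theorem x7_2 : AuxS.{u} (cS8) s7 0 a7_2 := (AuxS.up x7_1 c7_5 :)
theorem n7 : Sound.{u} (cS8) s7 0 :=
  (x7_2.spl c7_0 (AllM.cons ((x7_2.lam 0).tp c7_1 :) (AllM.cons ((x7_2.lam 1).e8 c7_2 :) AllM.nil)) ((x7_2.weaken 1).ext2 (fun _ => rfl) GamS.nil AllS.nil c7_3 (Phs.fin (ct := ct7_3) rfl) (Phs.fin (ct := ct7_3) rfl)) :)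
theorem x8 : AuxS.{u} (cS8) s8 0 a8 := aux_base3 tw5 rfl b8
theorem n8 : Sound.{u} (cS8) s8 0 :=
  (x8.k4 c8_0 :)
theorem x9 : AuxS.{u} (cS8) s9 0 a9 := aux_base3 tw5 rfl b9
theorem n9 : Sound.{u} (cS8) s9 0 :=
  (x9.k4 c9_0 :)
theorem x10 : AuxS.{u} (cS8) s10 0 a10 := aux_base3 tw5 rfl b10
theorem x10_1 : AuxS.{u} (cS8) s10 0 a10_1 := (AuxS.up x10 c10_4 :)
theorem x10_2 : AuxS.{u} (cS8) s10 0 a10_2 := (AuxS.up x10_1 c10_5 :)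
theorem n10 : Sound.{u} (cS8) s10 0 :=
  (x10_2.spl c10_0 (AllM.cons ((x10_2.lam 0).tp c10_1 :) (AllM.cons ((x10_2.lam 1).e8 c10_2 :) AllM.nil)) ((x10_2.weaken 1).ext2 (fun _ => rfl) GamS.nil AllS.nil c10_3 (Phs.fin (ct := ct10_3) rfl) (Phs.fin (ct := ct10_3) rfl)) :)
theorem x6 : AuxS.{u} (cS8) s6 0 a6 := aux_base3 tw5 rfl b6
theorem x6_1 : AuxS.{u} (cS8) s6 0 a6_1 := x6
theorem x6_2 : AuxS.{u} (cS8) s6 0 a6_2 := x6_1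
theorem n6 : Sound.{u} (cS8) s6 0 :=
  (x6_2.fr GamS.nil (AllS.cons n7 (AllS.cons n8 (AllS.cons n9 (AllS.cons n10 AllS.nil)))) c6_0 :)
theorem x5 : AuxS.{u} (cS8) s5 0 a5 := aux_base3 tw5 rfl b5
theorem x5_1 : AuxS.{u} (cS8) s5 0 a5_1 := x5
theorem n5 : Sound.{u} (cS8) s5 0 :=
  (x5_1.fr GamS.nil (AllS.cons n6 AllS.nil) c5_0 :)
theorem x1 : AuxS.{u} (cS8) s1 0 a1 := aux_base3 tw1 rfl b1
theorem x1_1 : AuxS.{u} (cS8) s1 0 a1_1 := (AuxS.up x1 c1_5 :)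
theorem p1_0_1 : Phs s1 a1_1 (List.map Prod.fst g1_0) [s5] ct1_0 v1_0 4 w1_0_1 := (Phs.fin c1_1)
theorem p1_0_3 : Phs s1 a1_1 (List.map Prod.fst g1_0) [s5] ct1_0 v1_0 1 w1_0_3 := (Phs.stp c1_2 p1_0_1)
theorem n1 : Sound.{u} (cS8) s1 0 :=
  (x1_1.ext2 (fun h => absurd h (by decide)) (AuxS.gam x1_1 c1_0) (AllS.cons n5 AllS.nil) c1_4 (Phs.stp c1_3 p1_0_3) (Phs.fin (ct := ct1_0) rfl) :)
theorem x2 : AuxS.{u} (cS8) s2 0 a2 := aux_base3 tw2 rfl b2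
theorem x2_1 : AuxS.{u} (cS8) s2 0 a2_1 := (AuxS.up x2 c2_1 :)
theorem n2 : Sound.{u} (cS8) s2 0 :=
  (x2_1.k7 c2_0 :)
theorem x3 : AuxS.{u} (cS8) s3 0 a3 := aux_base3 tw3 rfl b3
theorem n3 : Sound.{u} (cS8) s3 0 :=
  (x3.k3 c3_0 :)
theorem x4 : AuxS.{u} (cS8) s4 0 a4 := aux_base3 tw4 rfl b4
theorem n4 : Sound.{u} (cS8) s4 0 :=
  (x4.k3 c4_0 :)
theorem x0 : AuxS.{u} (cS8) s0 0 a0 := aux_base3 tw0 rfl b0
theorem x0_1 : AuxS.{u} (cS8) s0 0 a0_1 := (AuxS.up x0 c0_3 :)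
theorem p0_0_1 : Phs s0 a0_1 [] [s1, s2, s3, s4] ct0_0 v0_0 2 w0_0_1 := (Phs.fin c0_0)
theorem n0 : Sound.{u} (cS8) s0 0 :=
  (x0_1.ext2 (fun h => absurd h (by decide)) GamS.nil (AllS.cons n1 (AllS.cons n2 (AllS.cons n3 (AllS.cons n4 AllS.nil)))) c0_2 (Phs.stp c0_1 p0_0_1) (Phs.fin (ct := ct0_0) rfl) :)

theorem main : Sound.{u} (cS8) (root 0) 0 := n0

end

end CfsgLib.Dih8.TS8
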