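import Cfsg.Agent.Lib.Dih8.Eng3

/-! Generated certificates (plans/DIH8.md). -/

set_option autoImplicit false
set_option maxRecDepth 100000
set_option Elab.async false
set_option maxHeartbeats 0
set_option linter.all false

namespace CfsgLib.Dih8.TS8

noncomputable section

noncomputable def upk (N n : ℕ) : List ℕ := Nat.rec (motive := fun _ => List ℕ) [] (fun i r => lk N i :: r) n
noncomputable def s0 : St := root 0
noncomputable def l1 : Lv := (32, 0x01f01a01d01801b01e01901c01301601101401701201501000f00a00d00800b00e00900c003006001004007002005000, 0) :: []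
noncomputable def s1 : St := ⟨l1, [([1, 2, 4, 8], [1, 8, 14, 10]), ([1, 2, 4, 16], [1, 16, 4, 18])], 0⟩
noncomputable def l2 : Lv := (32, 0x01f01a01d01801b01e01901c01301601101401701201501000f00a00d00800b00e00900c003006001004007002005000, 2) :: []
noncomputable def s2 : St := ⟨l2, [([1, 2, 4, 8], [1, 8, 14, 10]), ([1, 2, 4, 16], [1, 16, 4, 18])], 0⟩
noncomputable def l3 : Lv := (32, 0x01b01e01901c01f01a01d01801701201501001301601101400f00a00d00800b00e00900c003006001004007002005000, 0) :: []
noncomputable def s3 : St := ⟨l3, [([1, 2, 4, 8], [1, 8, 14, 10]), ([1, 2, 4, 16], [1, 16, 4, 18])], 0⟩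
noncomputable def l4 : Lv := (32, 0x01b01e01901c01f01a01d01801701201501001301601101400f00a00d00800b00e00900c003006001004007002005000, 2) :: []
noncomputable def s4 : St := ⟨l4, [([1, 2, 4, 8], [1, 8, 14, 10]), ([1, 2, 4, 16], [1, 16, 4, 18])], 0⟩
noncomputable def l5 : Lv := (64, 0x03103c03503803303e03703a03b03603f03203903403d03001101c01501801301e01701a01b01601f01201901401d01002102c02502802302e02702a02b02602f02202902402d02000100c00500800300e00700a00b00600f00200900400d000, 48) :: l1
noncomputable def s5 : St := ⟨l5, [([1, 2, 4, 8], [1, 8, 14, 10]), ([1, 2, 4, 16], [1, 16, 4, 18])], 0⟩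
noncomputable def s6 : St := ⟨l5, [([1, 2, 4, 8, 48, 80], [1, 8, 14, 10, 80, 96]), ([1, 2, 4, 16], [1, 16, 4, 18])], 0⟩
noncomputable def s7 : St := ⟨l5, [([1, 2, 4, 16, 32], [1, 16, 4, 18, 32]), ([1, 2, 4, 8, 48, 80], [1, 8, 14, 10, 80, 96])], 0⟩
noncomputable def s8 : St := ⟨l5, [([1, 2, 4, 16, 32], [1, 16, 4, 18, 34]), ([1, 2, 4, 8, 48, 80], [1, 8, 14, 10, 80, 96])], 0⟩
noncomputable def s9 : St := ⟨l5, [([1, 2, 4, 16, 32], [1, 16, 4, 18, 48]), ([1, 2, 4, 8, 48, 80], [1, 8, 14, 10, 80, 96])], 0⟩
noncomputable def s10 : St := ⟨l5, [([1, 2, 4, 16, 32], [1, 16, 4, 18, 50]), ([1, 2, 4, 8, 48, 80], [1, 8, 14, 10, 80, 96])], 0⟩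
noncomputable def t5 : Aux := ⟨128, 7, 0x04104c04504804304e04704a04b04604f04204904404d04006506806106c06706a06306e06b06606f06206906406d06005105e05505a05305c05705805905605d05205b05405f05007507a07107e07707807307c07907607d07207b07407f07003d03803f03a03903c03b03e03303603103403703203503002f02a02d02802b02e02902c02302602102402702202502001d01c01f01e01901801b01a01701601501401301201101000f00e00d00c00b00a009008007006005004003002001000, 20, 0x01000f01000f01000f01000f01000f01000f01000f01000f01201301201101201101201301201101201301201301201101201101201301201301201101201101201301201301201101000f01000f01000f01000f01000f01000f01000f01000f00d00e00d00e00d00e00d00e00d00c00d00c00d00c00d00c00700900700900700900700900a00800b00600a00800b00600b00900b00900a00900a009007008007008007006007006001005001005003005003005003004001002003002001000, 0x01101102101902502901302101201202001a02201801001002101107001107202102502101201202007002201001001000100106000106200300300300200203000203200000000000900900100100300307807100200207100a00800800000007100807000107801007f000008008001001009009000000050078070058058070078050070078070078078070078070008028000020008008000000028008020000008008000000050030070020050010070000020000020070000000000000,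 0x05205105004104003803103001d019018014011010008006003002001000, 0x002002001003002002002001002002002001001001001001001001001000, [],
  0x020000, 0x001000, [upk 0x00100200300400500600700800900a00b00c00d00e00f01001101201301401501601701801901a01b01c01d01e01f 32],
  0, [], 0, 0, 0, 0⟩

end

end CfsgLib.Dih8.TS8
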